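import Cfsg.Agent.Lib.OddTranspX.TorusSubBasic
import Cfsg.Agent.Lib.Suzuki.TorusType
import Cfsg.Agent.Lib.Suzuki.Local

/-!
# The Suzuki group as a group of odd transpositions

Its involutions form one class, commuting is equality of fixed points, so the classes are the
points of the ovoid and the classes have order `q`.  For a prime `r` dividing `q ^ 2 + 1` the
elements of order `r` are fixed point free, with cyclic centralizer of odd order normalized by an
element of order four inducing a square root of `-1`.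
-/

set_option autoImplicit false
set_option linter.style.haveILetI false
set_option linter.unusedSectionVars false

namespace Cfsg.Agent.OddTranspX

open Subgroup MulAction
open Cfsg.Agent.Suzuki

universe u

section Model

variable {F : Type*} [Field F] [Fintype F] [CharP F 2] {m : ℕ}
variable (hm : 1 ≤ m) (hF : Fintype.card F = 2 ^ (2 * m + 1))

include hm hF

/-- The involutions are conjugate to one central translation. -/
theorem exists_conj_involution {t : Cfsg.Sz F m} (ht : t * t = 1) (ht1 : t ≠ 1) :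
    ∃ g, g * t * g⁻¹ = tr hF 0 1 := by
  have ho : orderOf t = 2 := orderOf_eq_prime (by rw [pow_two, ht]) ht1
  obtain ⟨g, a, b, hab, hg⟩ : IsTrType hF t := by
    refine (trType_or_isTor hm hF ht1).resolve_right fun hT => ?_
    have h1 : orderOf t ∣ Nat.card (Subgroup.centralizer ({t} : Set (Cfsg.Sz F m))) :=
      Subgroup.orderOf_dvd_natCard _ (mem_centralizer_singleton_iff.2 rfl)
    rw [ho] at h1
    exact Nat.not_even_iff_odd.2 hT.2.2.1 (even_iff_two_dvd.2 h1)
  have h2 : tr hF a b * tr hF a b = (1 : Cfsg.Sz F m) := by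
    rw [← hg, show g * t * g⁻¹ * (g * t * g⁻¹) = g * (t * t) * g⁻¹ by group, ht, mul_one,
      mul_inv_cancel]
  rw [tr_mul, ← tr_zero hF] at h2
  obtain ⟨-, h3⟩ := tr_injective hF h2
  have ha : a = 0 := by
    rw [CharTwo.add_self_eq_zero, zero_add, mul_eq_zero] at h3
    rcases h3 with h3 | h3
    · exact eq_zero_of_pow_eq_zero h3
    · exact h3
  subst ha
  have hb : b ≠ 0 := hab.resolve_left fun e => e rfl
  -- the torus is transitive on the central translations
  let φ : Fˣ → Fˣ := fun s => s ^ 2 ^ (m + 1) * s ^ 2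
  have hφ : Function.Injective φ := by
    intro s s' he
    have h4 : φ (s * s'⁻¹) = 1 := by
      show (s * s'⁻¹) ^ 2 ^ (m + 1) * (s * s'⁻¹) ^ 2 = 1
      rw [mul_pow, mul_pow, mul_mul_mul_comm]
      rw [show s ^ 2 ^ (m + 1) * s ^ 2 = s' ^ 2 ^ (m + 1) * s' ^ 2 from he, inv_pow, inv_pow,
        ← mul_inv, mul_inv_cancel]
    have h5 := congrArg Units.val h4
    simp only [φ, Units.val_mul, Units.val_pow_eq_pow_val, Units.val_one] at h5
    have h6 : ((s * s'⁻¹ : Fˣ) : F) = 1 := by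
      refine eq_one_of_theta_mul_sq (m := m) hF ?_
      rw [theta_def]
      simpa using h5
    exact mul_inv_eq_one.1 (Units.ext h6)
  obtain ⟨s, hs⟩ := (Finite.injective_iff_surjective.1 hφ) (Units.mk0 b hb)⁻¹
  refine ⟨tor hF s * g, ?_⟩
  rw [show tor hF s * g * t * (tor hF s * g)⁻¹ = tor hF s * (g * t * g⁻¹) * (tor hF s)⁻¹ by group,
    hg, conj_tr, mul_zero]
  congr 1
  have h5 := congrArg Units.val hs
  simp only [φ, Units.val_mul, Units.val_pow_eq_pow_val, Units.val_inv_eq_inv_val, Units.val_mk0] at h5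
  rw [h5, inv_mul_cancel₀ hb]

/-- The involutions commuting with a central translation are central translations. -/
theorem eq_tr_of_commute {b : F} (hb : b ≠ 0) {t : Cfsg.Sz F m} (ht : t * t = 1)
    (hc : Commute t (tr hF 0 b)) : ∃ d, t = tr hF 0 d := by
  obtain ⟨c, d, rfl⟩ := tr_centralizer hm hF (Or.inr hb) hc.eq
  rw [tr_mul, ← tr_zero hF] at ht
  obtain ⟨-, h3⟩ := tr_injective hF ht
  rw [CharTwo.add_self_eq_zero, zero_add, mul_eq_zero] at h3
  refine ⟨d, ?_⟩
  rcases h3 with h3 | h3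
  · rw [eq_zero_of_pow_eq_zero h3]
  · rw [h3]

/-- An element fixes the point at infinity exactly when it maps the central translation to one
commuting with it. -/
theorem fix_infty_iff {g : Cfsg.Sz F m} :
    Commute (g * tr hF 0 1 * g⁻¹) (tr hF 0 1) ↔ g • infty (F := F) m = infty m := by
  constructor
  · intro hc
    have hh : g * tr hF 0 1 * g⁻¹ * (g * tr hF 0 1 * g⁻¹) = 1 := by
      rw [show g * tr hF 0 1 * g⁻¹ * (g * tr hF 0 1 * g⁻¹) =
        g * (tr hF 0 1 * tr hF 0 1) * g⁻¹ by group, tr_mul]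
      simp [CharTwo.add_self_eq_zero, tr_zero]
    obtain ⟨d, hd⟩ := eq_tr_of_commute hm hF one_ne_zero hh hc
    have hd0 : d ≠ 0 := by
      rintro rfl
      rw [tr_zero, conj_eq_one_iff] at hd
      have := tr_injective hF (hd.trans (tr_zero hF).symm)
      exact one_ne_zero this.2
    refine eq_infty_of_tr_fixed hF (Or.inr hd0 : (0 : F) ≠ 0 ∨ d ≠ 0) ?_
    rw [← hd, mul_smul, mul_smul, inv_smul_smul, tr_smul_infty]
  · intro hg
    obtain ⟨a, b, s, rfl⟩ := exists_tr_to hm hF hg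
    rw [conj_mul_tr]
    simp only [mul_zero, zero_pow (show 2 ^ (m + 1) ≠ 0 by positivity), zero_mul, add_zero]
    show tr hF 0 _ * tr hF 0 1 = tr hF 0 1 * tr hF 0 _
    rw [tr_mul, tr_mul]
    congr 1
    ring

/-- The involutions and `1` commuting with a central translation. -/
theorem card_commuting_involutions :
    Nat.card {t : Cfsg.Sz F m // t * t = 1 ∧ Commute t (tr hF 0 1)} = Fintype.card F := by
  rw [← Nat.card_eq_fintype_card]
  refine (Nat.card_eq_of_bijective (fun d : F => (⟨tr hF 0 d, ?_, ?_⟩ :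
    {t : Cfsg.Sz F m // t * t = 1 ∧ Commute t (tr hF 0 1)})) ⟨?_, ?_⟩).symm
  · rw [tr_mul]
    simp [CharTwo.add_self_eq_zero, tr_zero]
  · show tr hF 0 d * tr hF 0 1 = tr hF 0 1 * tr hF 0 d
    rw [tr_mul, tr_mul]
    congr 1
    ring
  · intro d d' he
    exact (tr_injective hF (congrArg Subtype.val he)).2
  · rintro ⟨t, ht, hc⟩
    obtain ⟨d, rfl⟩ := eq_tr_of_commute hm hF one_ne_zero ht hc
    exact ⟨d, rfl⟩

/-- The normalizer of the centralizer of a fixed point free element of prime order. -/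
theorem exists_square_root_neg_one {r : ℕ} (hr : r.Prime) (hr2 : r ≠ 2) {y : Cfsg.Sz F m}
    (hy : orderOf y = r) (hf : FPF y) :
    ∃ (s : Cfsg.Sz F m) (μ : ℕ), s ^ 4 = 1 ∧ s * s ≠ 1 ∧ s * y * s⁻¹ = y ^ μ ∧ r ∣ μ * μ + 1 ∧
      ∀ x : Cfsg.Sz F m, x * y * x⁻¹ ∈ zpowers y → ∃ n : ℕ, x * y * x⁻¹ = y ^ μ ^ n := by
  classical
  haveI : Fact r.Prime := ⟨hr⟩
  haveI : Fact (Nat.Prime 2) := ⟨Nat.prime_two⟩
  set T := Subgroup.centralizer ({y} : Set (Cfsg.Sz F m)) with hTdef
  have hT := isTor_of_fpf hm hF hf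
  have hy1 : y ≠ 1 := hf.ne_one
  have hyT : y ∈ T := mem_centralizer_singleton_iff.2 rfl
  set N := Subgroup.normalizer (T : Set (Cfsg.Sz F m)) with hN
  have hNc : Nat.card N = 4 * Nat.card T := by
    rcases hT.cases hm hF with ⟨-, ⟨g, hg⟩, -⟩ | ⟨-, -, h⟩
    · exfalso
      have h1 : g * y * g⁻¹ ∈ torusSubgroup (m := m) hF := hg ▸ ⟨y, hyT, rfl⟩
      obtain ⟨u, hu⟩ := (mem_torusSubgroup hF).1 h1
      exact (fpf_conj_iff g y).2 hf (infty m) (by rw [hu, tor_smul_infty])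
    · exact h
  haveI := hT.2.1
  -- the action on the subgroup of order `r`
  have hexp : ∀ x ∈ N, ∃ a : ℕ, x * y * x⁻¹ = y ^ a := by
    intro x hx
    have h1 : x * y * x⁻¹ ∈ T := (Subgroup.mem_set_normalizer_iff.1 hx y).1 hyT
    have h2 : (⟨x * y * x⁻¹, h1⟩ : T) ∈ zpowers (⟨y, hyT⟩ : T) := by
      refine mem_zpowers_of_pow_eq_one (Subtype.ext ?_)
      rw [Subgroup.orderOf_mk, hy]
      push_cast
      rw [conj_pow, ← hy, pow_orderOf_eq_one, mul_one, mul_inv_cancel]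
    obtain ⟨a, ha⟩ := Submonoid.mem_powers_iff _ _ |>.1 (mem_powers_iff_mem_zpowers.2 h2)
    exact ⟨a, (congrArg Subtype.val ha).symm⟩
  have hiter : ∀ {x : Cfsg.Sz F m} {a : ℕ}, x * y * x⁻¹ = y ^ a →
      ∀ i : ℕ, x ^ i * y * (x ^ i)⁻¹ = y ^ a ^ i := by
    intro x a ha i
    induction i with
    | zero => simp
    | succ i ih =>
      rw [show x ^ (i + 1) * y * (x ^ (i + 1))⁻¹ = x * (x ^ i * y * (x ^ i)⁻¹) * x⁻¹ by
        rw [pow_succ']; group, ih, ← conj_pow, ha, ← pow_mul, ← pow_succ']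
  have hmod : ∀ a b : ℕ, y ^ a = y ^ b ↔ (a : ZMod r) = b := fun a b => by
    rw [pow_eq_pow_iff_modEq, hy, ZMod.natCast_eq_natCast_iff]
  haveI : (T.subgroupOf N).Normal := Subgroup.normal_in_normalizer
  have hidx : (T.subgroupOf N).index = 4 := by
    have h1 := Subgroup.card_mul_index (T.subgroupOf N)
    rw [Nat.card_congr (Subgroup.subgroupOfEquivOfLe Subgroup.le_normalizer).toEquiv, hNc,
      mul_comm 4] at h1
    exact Nat.eq_of_mul_eq_mul_left Nat.card_pos h1
  have hfour : ∀ {x : Cfsg.Sz F m}, x ∈ N → ∀ {a : ℕ}, x * y * x⁻¹ = y ^ a →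
      (a : ZMod r) ^ 4 = 1 := by
    intro x hx a ha
    have h1 : (⟨x, hx⟩ : N) ^ (T.subgroupOf N).index ∈ T.subgroupOf N :=
      Subgroup.pow_index_mem (T.subgroupOf N) _
    rw [hidx] at h1
    have h2 : x ^ 4 ∈ T := h1
    have h3 := hiter ha 4
    rw [mem_centralizer_singleton_iff.1 h2, mul_inv_cancel_right] at h3
    have h4 := (hmod 1 (a ^ 4)).1 (by rw [pow_one]; exact h3)
    push_cast at h4
    exact h4.symm
  -- a Sylow subgroup of the normalizer has exponent four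
  obtain ⟨P⟩ : Nonempty (Sylow 2 N) := inferInstance
  have hP4 : Nat.card P = 4 := by
    rw [P.card_eq_multiplicity, hNc, Nat.factorization_mul (by norm_num) Nat.card_pos.ne',
      Finsupp.add_apply, Nat.factorization_eq_zero_of_not_dvd
        (fun hd => Nat.not_even_iff_odd.2 hT.2.2.1 (even_iff_two_dvd.2 hd)), add_zero,
      show (4 : ℕ) = 2 ^ 2 by norm_num, Nat.Prime.factorization_pow Nat.prime_two,
      Finsupp.single_eq_same]
  have hPinj : ∀ p p' : P, ∀ a : ℕ, ((p : N) : Cfsg.Sz F m) * y * ((p : N) : Cfsg.Sz F m)⁻¹ = y ^ a →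
      ((p' : N) : Cfsg.Sz F m) * y * ((p' : N) : Cfsg.Sz F m)⁻¹ = y ^ a → p = p' := by
    intro p p' a hp hp'
    have h1 : (((p'⁻¹ * p : P) : N) : Cfsg.Sz F m) ∈ T := by
      refine mem_centralizer_singleton_iff.2 ?_
      refine mul_inv_eq_iff_eq_mul.1 ?_
      push_cast
      rw [show ((p' : N) : Cfsg.Sz F m)⁻¹ * (p : N) * y * (((p' : N) : Cfsg.Sz F m)⁻¹ * (p : N))⁻¹ =
        ((p' : N) : Cfsg.Sz F m)⁻¹ * ((p : N) * y * ((p : N) : Cfsg.Sz F m)⁻¹) * (p' : N) by group,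
        hp, ← hp']
      group
    refine (inv_mul_eq_one.1 (orderOf_eq_one_iff.1 (Nat.eq_one_of_dvd_coprimes
      (k := orderOf (p'⁻¹ * p)) (Nat.Coprime.pow_left 2 (Nat.coprime_two_left.2 hT.2.2.1))
      ?_ ?_))).symm
    · exact (orderOf_dvd_natCard (p'⁻¹ * p)).trans (dvd_of_eq (hP4.trans (by norm_num)))
    · rw [← Subgroup.orderOf_coe, ← Subgroup.orderOf_coe]
      exact Subgroup.orderOf_dvd_natCard T h1
  obtain ⟨p, a, hpa, hne1, hne2⟩ : ∃ (p : P) (a : ℕ),
      ((p : N) : Cfsg.Sz F m) * y * ((p : N) : Cfsg.Sz F m)⁻¹ = y ^ a ∧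
        (a : ZMod r) ≠ 1 ∧ (a : ZMod r) ≠ -1 := by
    by_contra hno
    push Not at hno
    choose a ha using fun p : P => hexp _ (p : N).2
    have hinj : Function.Injective (fun p : P => decide ((a p : ZMod r) = 1)) := by
      intro p p' he
      refine hPinj p p' (a p) (ha p) ?_
      rw [ha p', hmod]
      by_cases h1 : (a p : ZMod r) = 1
      · rw [h1]
        by_contra h2
        simp [h1, h2] at he
      · have h2 : (a p' : ZMod r) ≠ 1 := fun h2 => by simp [h1, h2] at he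
        rw [hno p _ (ha p) h1, hno p' _ (ha p') h2]
    have h9 := hP4.symm.le.trans (Nat.card_le_card_of_injective _ hinj)
    rw [Nat.card_eq_fintype_card, Fintype.card_bool] at h9
    omega
  set s := ((p : N) : Cfsg.Sz F m) with hs
  have ha4 := hfour (p : N).2 hpa
  have ha2 : (a : ZMod r) ^ 2 = -1 := by
    have h1 : ((a : ZMod r) - 1) * ((a : ZMod r) + 1) * ((a : ZMod r) ^ 2 + 1) = 0 := by
      linear_combination ha4
    rcases mul_eq_zero.1 h1 with h2 | h2
    · rcases mul_eq_zero.1 h2 with h3 | h3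
      · exact absurd (sub_eq_zero.1 h3) hne1
      · exact absurd (eq_neg_of_add_eq_zero_left h3) hne2
    · exact eq_neg_of_add_eq_zero_left h2
  have hs4 : s ^ 4 = 1 := by
    have h1 : p ^ 4 = 1 := (congrArg (fun i : ℕ => p ^ i) hP4).symm.trans pow_card_eq_one'
    rw [hs, ← SubgroupClass.coe_pow, ← SubgroupClass.coe_pow, h1]
    rfl
  refine ⟨s, a, hs4, fun h2 => ?_, hpa, ?_, fun x hx => ?_⟩
  · have h3 := hiter hpa 2
    rw [pow_two s, h2, one_mul, inv_one, mul_one] at h3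
    have h4 := (hmod 1 (a ^ 2)).1 (by rw [pow_one]; exact h3)
    push_cast at h4
    rw [ha2] at h4
    have : ((2 : ℕ) : ZMod r) = 0 := by push_cast; linear_combination h4
    rw [ZMod.natCast_eq_zero_iff] at this
    exact hr2 ((Nat.prime_dvd_prime_iff_eq hr Nat.prime_two).1 this)
  · rw [← ZMod.natCast_eq_zero_iff]
    push_cast
    rw [← pow_two, ha2, neg_add_cancel]
  · obtain ⟨k, hk⟩ := mem_zpowers_iff.1 hx
    have hxN : x ∈ N := hT.mem_normalizer hm hF hyT hy1 (hk ▸ zpow_mem hyT k)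
    obtain ⟨c, hc⟩ := hexp x hxN
    have hc4 := hfour hxN hc
    have h1 : ((c : ZMod r) - 1) * ((c : ZMod r) + 1) *
        (((c : ZMod r) - a) * ((c : ZMod r) + a)) = 0 := by
      linear_combination hc4 - ((c : ZMod r) ^ 2 - 1) * ha2
    rcases mul_eq_zero.1 h1 with h2 | h2 <;> rcases mul_eq_zero.1 h2 with h3 | h3
    · exact ⟨0, by rw [hc, hmod]; push_cast; rw [pow_zero]; exact sub_eq_zero.1 h3⟩
    · exact ⟨2, by rw [hc, hmod]; push_cast; rw [ha2]; exact eq_neg_of_add_eq_zero_left h3⟩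
    · exact ⟨1, by rw [hc, hmod]; push_cast; rw [pow_one]; exact sub_eq_zero.1 h3⟩
    · exact ⟨3, by
        rw [hc, hmod]; push_cast
        linear_combination h3 - (a : ZMod r) * ha2⟩

end Model

/-- **The Suzuki group in the recursive setting.** -/
theorem suzuki_facts {X : Type u} [Group X] [Finite X] {D : Set X} {h : ClassGroups D} {q e : ℕ}
    (hT : h.TorusBase q e) (hs : Cfsg.Lie.IsoSuzuki X) :
    Nat.card h.Pt = q ^ 2 + 1 ∧ ∀ r : ℕ, r.Prime → r ∣ q ^ 2 + 1 →
      r ≠ 2 ∧ (∀ P : Subgroup X, IsPGroup r P → IsCyclic P) ∧ (∃ y : X, orderOf y = r) ∧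
      ∀ y : X, orderOf y = r →
        (∀ A : h.Pt, y • A ≠ A) ∧ IsCyclic (centralizer ({y} : Set X)) ∧
        Odd (Nat.card (centralizer ({y} : Set X))) ∧
        (∀ u : X, Commute u y → u ≠ 1 → centralizer ({u} : Set X) = centralizer ({y} : Set X)) ∧
        ∃ (s : X) (μ : ℕ), s ^ 4 = 1 ∧ s * s ∈ D ∧ s * y * s⁻¹ = y ^ μ ∧ r ∣ μ * μ + 1 ∧
          ∀ (x : X) (k : ℕ), x ^ 2 ^ k = 1 → x * y * x⁻¹ ∈ zpowers y →
            ∃ n : ℕ, x * y * x⁻¹ = y ^ μ ^ n := by
  classical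
  obtain ⟨F, _, _, m, hm, hF, ⟨e₀⟩⟩ := hs
  haveI : CharP F 2 := Cfsg.Agent.Suzuki.charTwo hF
  obtain ⟨f⟩ : Nonempty (Cfsg.Sz F m ≃* Cfsg.Lie.Sz F (2 ^ (m + 1))) :=
    Cfsg.Agent.Suzuki.lieEquiv hm hF
  set φ : X ≃* Cfsg.Sz F m := e₀.trans f.symm
  set τ : X := φ.symm (tr hF 0 1) with hτ
  have hφτ : φ τ = tr hF 0 1 := φ.apply_symm_apply _
  -- every involution is a member
  obtain ⟨E₀, -, -⟩ := hT.nontrivial
  obtain ⟨d, hd, -⟩ := h.exists_pt E₀
  have hmem : ∀ {t : X}, t * t = 1 → t ≠ 1 → t ∈ D := by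
    intro t ht ht1
    obtain ⟨g, hg⟩ := exists_conj_involution hm hF (t := φ t) (by rw [← map_mul, ht, map_one])
      (fun e => ht1 (φ.map_eq_one_iff.1 e))
    obtain ⟨g', hg'⟩ := exists_conj_involution hm hF (t := φ d) (by rw [← map_mul, h.sq hd, map_one])
      (fun e => h.toOT.ne_one hd (φ.map_eq_one_iff.1 e))
    have h1 := h.conj d hd ((φ.symm g)⁻¹ * φ.symm g')
    suffices (φ.symm g)⁻¹ * φ.symm g' * d * ((φ.symm g)⁻¹ * φ.symm g')⁻¹ = t by rwa [this] at h1
    apply φ.injective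
    simp only [map_mul, map_inv, MulEquiv.apply_symm_apply]
    rw [show g⁻¹ * g' * φ d * (g⁻¹ * g')⁻¹ = g⁻¹ * (g' * φ d * g'⁻¹) * g by group, hg', ← hg]
    group
  have hτD : τ ∈ D := by
    refine hmem (φ.injective ?_) fun e => ?_
    · rw [map_mul, hφτ, map_one, tr_mul]
      simp [CharTwo.add_self_eq_zero, tr_zero]
    · have h1 : (tr hF 0 1 : Cfsg.Sz F m) = tr hF 0 0 := by rw [tr_zero, ← hφτ, e, map_one]
      exact one_ne_zero (tr_injective hF h1).2
  set E := h.pt τ hτD with hE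
  -- the classes have order `q`
  have hq : q = Fintype.card F := by
    rw [← hT.card_grp E, ← card_commuting_involutions hm hF]
    refine Nat.card_eq_of_bijective (fun v => ⟨φ v, ?_, ?_⟩) ⟨fun v w he => ?_, ?_⟩
    · rw [← map_mul, h.grp_sq v.2, map_one]
    · rw [← hφτ]
      exact (h.grp_comm v.2 (h.self_mem_grp hτD)).map φ.toMonoidHom
    · exact Subtype.ext (φ.injective (congrArg Subtype.val he))
    · rintro ⟨t, ht, hc⟩
      refine ⟨⟨φ.symm t, ?_⟩, Subtype.ext (φ.apply_symm_apply t)⟩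
      by_cases h1 : φ.symm t = 1
      · rw [h1]; exact one_mem _
      · refine Or.inr ⟨hmem (by rw [← map_mul, ht, map_one]) h1, h.pt_eq_iff.2 ?_⟩
        exact hc.map φ.symm.toMonoidHom
  -- the classes are the points of the ovoid
  have hfix : ∀ g : X, g • E = E ↔ φ g • infty (F := F) m = infty m := by
    intro g
    rw [hE, h.smul_pt g hτD, h.pt_eq_iff, ← fix_infty_iff hm hF, ← hφτ]
    constructor
    · intro hc
      have := hc.map φ.toMonoidHom
      simpa using this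
    · intro hc
      have := hc.map φ.symm.toMonoidHom
      simpa using this
  have htrans : ∀ A : h.Pt, ∃ g : X, g • E = A := by
    intro A
    obtain ⟨a, ha, rfl⟩ := h.exists_pt A
    obtain ⟨g, hg⟩ := exists_conj_involution hm hF (t := φ a) (by rw [← map_mul, h.sq ha, map_one])
      (fun e => h.toOT.ne_one ha (φ.map_eq_one_iff.1 e))
    refine ⟨(φ.symm g)⁻¹, ?_⟩
    rw [inv_smul_eq_iff, h.smul_pt _ ha, hE, h.pt_eq_iff]
    have h1 : φ.symm g * a * (φ.symm g)⁻¹ = τ := φ.injective (by simp [hg, hφτ])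
    rw [h1]
  haveI : IsPretransitive X h.Pt := ⟨fun A B => by
    obtain ⟨g, rfl⟩ := htrans A
    obtain ⟨g', rfl⟩ := htrans B
    exact ⟨g' * g⁻¹, by rw [mul_smul, inv_smul_smul]⟩⟩
  have hcard : Nat.card h.Pt = q ^ 2 + 1 := by
    haveI := pretransitive (m := m) hF
    rw [hq, ← ovoid_equiv (m := m) hF, ← index_stabilizer_of_transitive X E,
      ← index_stabilizer_of_transitive (Cfsg.Sz F m) (infty (F := F) m),
      ← Subgroup.index_comap_of_surjective (f := φ.toMonoidHom)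
        (stabilizer (Cfsg.Sz F m) (infty (F := F) m)) φ.surjective]
    congr 1
    ext g
    simp only [mem_stabilizer_iff, mem_comap, MulEquiv.coe_toMonoidHom, hfix]
  refine ⟨hcard, fun r hr hrd => ?_⟩
  haveI : Fact r.Prime := ⟨hr⟩
  have hr2 : r ≠ 2 := by
    rintro rfl
    have h1 : Odd (q ^ 2 + 1) := by
      rw [hq, hF]
      exact ((even_two.pow_of_ne_zero (by omega)).pow_of_ne_zero two_ne_zero).add_one
    exact Nat.not_even_iff_odd.2 h1 (even_iff_two_dvd.2 hrd)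
  rw [hq] at hrd
  refine ⟨hr2, fun P hP => ?_, ?_, fun y hy => ?_⟩
  · obtain ⟨S, hS⟩ := (hP.map φ.toMonoidHom).exists_le_sylow
    haveI := sylow_odd_cyclic hm hF hr2 S
    exact isCyclic_of_injective ((inclusion hS).comp (φ.subgroupMap P).toMonoidHom)
      ((inclusion_injective hS).comp (φ.subgroupMap P).injective)
  · obtain ⟨x, hx, -⟩ := exists_fpf_of_prime hm hF hr hrd
    exact ⟨φ.symm x, by rw [MulEquiv.orderOf_eq, hx]⟩
  have hyo : orderOf (φ y) = r := by rw [MulEquiv.orderOf_eq, hy]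
  have hf : FPF (φ y) := (fpf_iff_dvd hm hF hr hyo).2 hrd
  have hTor := isTor_of_fpf hm hF hf
  have hcen : centralizer ({y} : Set X) =
      (centralizer ({φ y} : Set (Cfsg.Sz F m))).comap φ.toMonoidHom := by
    ext x
    rw [mem_comap, mem_centralizer_singleton_iff, mem_centralizer_singleton_iff,
      MulEquiv.coe_toMonoidHom, ← map_mul, ← map_mul, φ.injective.eq_iff]
  refine ⟨fun A hA => ?_, ?_, ?_, fun u hu hu1 => ?_, ?_⟩
  · obtain ⟨g, rfl⟩ := htrans A
    refine (fpf_conj_iff (φ g)⁻¹ (φ y)).2 hf (infty m) ?_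
    have h1 : (g⁻¹ * y * g) • E = E := by rw [mul_smul, mul_smul, hA, inv_smul_smul]
    rw [hfix] at h1
    simpa using h1
  · haveI := hTor.2.1
    rw [hcen]
    exact isCyclic_of_injective (φ.toMonoidHom.subgroupComap (centralizer ({φ y} : Set (Cfsg.Sz F m))))
      fun a b he => Subtype.ext (φ.injective (congrArg Subtype.val he))
  · rw [hcen]
    refine Odd.of_dvd_nat hTor.2.2.1 ?_
    exact card_dvd_of_injective
      (φ.toMonoidHom.subgroupComap (centralizer ({φ y} : Set (Cfsg.Sz F m))))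
      fun a b he => Subtype.ext (φ.injective (congrArg Subtype.val he))
  · have h1 : centralizer ({φ u} : Set (Cfsg.Sz F m)) = centralizer ({φ y} : Set (Cfsg.Sz F m)) :=
      hTor.2.2.2 (φ u) (mem_centralizer_singleton_iff.2 (hu.map φ.toMonoidHom).eq)
        fun e => hu1 (φ.map_eq_one_iff.1 e)
    rw [hcen, ← h1]
    ext x
    rw [mem_comap, mem_centralizer_singleton_iff, mem_centralizer_singleton_iff,
      MulEquiv.coe_toMonoidHom, ← map_mul, ← map_mul, φ.injective.eq_iff]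
  obtain ⟨s, μ, hs4, hs2, hsy, hμ, hauto⟩ := exists_square_root_neg_one hm hF hr hr2 hyo hf
  refine ⟨φ.symm s, μ, by rw [← map_pow, hs4, map_one], hmem ?_ ?_, ?_, hμ, fun x k _ hx => ?_⟩
  · have h4 : s * s * (s * s) = 1 := by rw [← hs4]; simp [pow_succ, mul_assoc]
    rw [← map_mul, ← map_mul, h4, map_one]
  · intro h1
    rw [← map_mul, φ.symm.map_eq_one_iff] at h1
    exact hs2 h1
  · exact φ.injective (by simp [hsy])
  · obtain ⟨n, hn⟩ := hauto (φ x) (by
      obtain ⟨i, hi⟩ := mem_zpowers_iff.1 hx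
      refine mem_zpowers_iff.2 ⟨i, ?_⟩
      simpa using congrArg φ hi)
    exact ⟨n, φ.injective (by simpa using hn)⟩

/-- The facts about one element of order `r` used by the field case. -/
theorem suzuki_data {X : Type u} [Group X] [Finite X] {D : Set X} {h : ClassGroups D} {q e : ℕ}
    (hT : h.TorusBase q e) (hs : Cfsg.Lie.IsoSuzuki X) :
    Nat.card h.Pt = q ^ 2 + 1 ∧ ∀ r : ℕ, r.Prime → r ∣ q ^ 2 + 1 →
      (∀ T : Subgroup X, IsPGroup r T → IsCyclic T) ∧
      ∃ (y s : X) (μ : ℕ), orderOf y = r ∧ (∀ A : h.Pt, y • A ≠ A) ∧ s ^ 4 = 1 ∧ s * s ∈ D ∧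
        s * y * s⁻¹ = y ^ μ ∧ r ∣ μ * μ + 1 ∧
        (∀ u : X, Commute u y → Commute u (s * s) → u = 1) ∧
        (∀ (x : X) (k : ℕ), x ^ 2 ^ k = 1 → x * y * x⁻¹ ∈ zpowers y →
          ∃ n : ℕ, x * y * x⁻¹ = y ^ μ ^ n) := by
  obtain ⟨hcard, hall⟩ := suzuki_facts hT hs
  refine ⟨hcard, fun r hr hrd => ?_⟩
  obtain ⟨-, hcyc, ⟨y, hy⟩, hy'⟩ := hall r hr hrd
  obtain ⟨hfree, -, hodd, hcent, s, μ, hs4, hsD, hsy, hμ, hauto⟩ := hy' y hy
  refine ⟨hcyc, y, s, μ, hy, hfree, hs4, hsD, hsy, hμ, fun u huy hus => ?_, hauto⟩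
  by_contra hu1
  have h1 : s * s ∈ centralizer ({y} : Set X) :=
    hcent u huy hu1 ▸ mem_centralizer_singleton_iff.2 hus.symm.eq
  have h2 : orderOf (s * s) ∣ Nat.card (centralizer ({y} : Set X)) :=
    Subgroup.orderOf_dvd_natCard _ h1
  rw [h.ord _ hsD] at h2
  exact Nat.not_even_iff_odd.2 hodd (even_iff_two_dvd.2 h2)

end Cfsg.Agent.OddTranspX
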