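import Cfsg.Agent.Lib.OddTranspX.TorusSubMain
import Cfsg.Agent.Lib.OddTranspX.Kill.Main
import Cfsg.Agent.Lib.OddTranspX.SuzukiFacts

/-!
# A field element fixing four members of a class is impossible

For `z` of prime order `r` in `W` with `q₁ ≥ 4` fixed members in a class the group `U` of the members
commuting with `z` is `Sz(q₁)` modulo its centre, so `z` fixes `q₁ ^ 2 + 1` classes.  If `r` does not divide
this number the transfer to the stabilizer of a pair of classes survives at `z`; otherwise `z` is outside `U`,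
a torus element of `U` of order `r` fixes no class and gives the configuration excluded in `Kill`.
-/

set_option autoImplicit false
set_option linter.style.haveILetI false
set_option linter.unusedSectionVars false

namespace Cfsg.Agent.OddTranspX

open Subgroup MulAction

universe u

/-- What is used about the Suzuki groups. -/
def SuzukiData {X : Type u} [Group X] {D : Set X} (h : ClassGroups D) (q : ℕ) : Prop :=
  Nat.card h.Pt = q ^ 2 + 1 ∧ ∀ r : ℕ, r.Prime → r ∣ q ^ 2 + 1 →
    (∀ T : Subgroup X, IsPGroup r T → IsCyclic T) ∧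
    ∃ (y s : X) (μ : ℕ), orderOf y = r ∧ (∀ A : h.Pt, y • A ≠ A) ∧ s ^ 4 = 1 ∧ s * s ∈ D ∧
      s * y * s⁻¹ = y ^ μ ∧ r ∣ μ * μ + 1 ∧ (∀ u, Commute u y → Commute u (s * s) → u = 1) ∧
      ∀ x (k : ℕ), x ^ 2 ^ k = 1 → x * y * x⁻¹ ∈ zpowers y → ∃ n : ℕ, x * y * x⁻¹ = y ^ μ ^ n

variable {G : Type u} [Group G] [Finite G] {D : Set G} {h : ClassGroups D} {q e : ℕ}

/-- An involution fixes a class when some member fixes only its own. -/
theorem ClassGroups.exists_fixed_of_involution (h : ClassGroups D) {E X : h.Pt} (hEX : E ≠ X) {v : G}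
    (hv : v * v = 1) : ∃ A : h.Pt, v • A = A := by
  haveI : Fact (Nat.Prime 2) := ⟨Nat.prime_two⟩
  have key : ∀ v : G, v * v = 1 →
      Nat.card h.Pt ≡ Nat.card {A : h.Pt // v • A = A} [MOD 2] := fun v hv => by
    have hp : IsPGroup 2 (zpowers v) := by
      rintro ⟨x, i, rfl⟩
      refine ⟨1, Subtype.ext ?_⟩
      show (v ^ i) ^ 2 ^ 1 = 1
      rw [pow_one, ← zpow_natCast, ← zpow_mul, mul_comm, zpow_mul, zpow_natCast, pow_two, hv, one_zpow]
    refine (hp.card_modEq_card_fixedPoints (α := h.Pt)).trans (congrArg (· % 2) ?_)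
    exact Nat.card_congr (Equiv.subtypeEquivRight fun A =>
      ⟨fun hA => hA ⟨v, mem_zpowers v⟩, fun hA g =>
        mem_stabilizer_iff.1 ((zpowers_le.2 (mem_stabilizer_iff.2 hA) : zpowers v ≤ stabilizer G A) g.2)⟩)
  obtain ⟨d, hd, rfl⟩ := h.exists_pt E
  have h1 : Nat.card {A : h.Pt // d • A = A} = 1 := by
    refine Nat.card_eq_one_iff_unique.2 ⟨⟨fun A B => Subtype.ext ?_⟩, ⟨⟨_, h.grp_fix (h.self_mem_grp hd)⟩⟩⟩
    have key : ∀ C : {A : h.Pt // d • A = A}, (C : h.Pt) = h.pt d hd := fun C => by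
      by_contra hne
      exact h.toOT.ne_one hd (h.grp_semiregular (h.self_mem_grp hd) C.2 hne)
    rw [key A, key B]
  have h2 := ((key d (h.sq hd)).symm.trans (key v hv))
  by_contra hno
  push Not at hno
  haveI : IsEmpty {A : h.Pt // v • A = A} := ⟨fun A => hno A A.2⟩
  rw [h1, Nat.card_of_isEmpty] at h2
  exact absurd h2 (by decide)

theorem ClassGroups.TorusBase.gen_sq (hT : h.TorusBase q e) : closure {v : G | v * v = 1} = ⊤ :=
  eq_top_iff.2 (hT.gen ▸ closure_mono fun _ hv => h.sq hv)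

namespace ClassGroups.SubData

variable {E X : h.Pt} {m z : G} {q1 : ℕ} (S : h.SubData q e E X m z q1)

include S

theorem e_odd : Odd e := OddTranspX.torus_odd S.base

theorem W_comm {a b : G} (ha : a ∈ h.pairStab E X ⊓ centralizer {m})
    (hb : b ∈ h.pairStab E X ⊓ centralizer {m}) : Commute a b := by
  haveI := (S.base.field_cyclic E X S.ne m S.swap).1
  exact congrArg Subtype.val (IsMulCommutative.is_comm.comm
    (⟨a, ha⟩ : ↥(h.pairStab E X ⊓ centralizer {m})) ⟨b, hb⟩)

theorem W_odd {a : G} (ha : a ∈ h.pairStab E X ⊓ centralizer {m}) : Odd (orderOf a) :=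
  S.e_odd.of_dvd_nat ((S.base.field_cyclic E X S.ne m S.swap).2 ▸
    (h.pairStab E X ⊓ centralizer {m}).orderOf_dvd_natCard ha)

/-- `U` is transitive on the ordered pairs of distinct fixed classes. -/
theorem pair_trans {A B : h.Pt} (hA : z • A = A) (hB : z • B = B) (hAB : A ≠ B) :
    ∃ u ∈ centMembers D z, u • E = A ∧ u • X = B := by
  obtain ⟨u0, hu0, hu0E⟩ : ∃ u ∈ centMembers D z, u • E = A := by
    by_cases hEA : E = A
    · exact ⟨1, one_mem _, by rw [one_smul, hEA]⟩
    · obtain ⟨m', hm', hc⟩ := S.exists_swapper_E hA hEA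
      exact ⟨m', mem_U hm'.1 hc, hm'.2⟩
  obtain ⟨u1, hu1, hu1A, hu1X⟩ := S.two hA (smul_fixed hu0 S.fix_X) hB
    (fun e => S.ne (smul_left_cancel u0 (hu0E.trans e.symm))) hAB.symm
  exact ⟨u1 * u0, mul_mem hu1 hu0, by rw [mul_smul, hu0E, hu1A], by rw [mul_smul, hu1X]⟩

/-- The centralizer of `z` is `U W`. -/
theorem cent_split {g : G} (hg : Commute g z) :
    ∃ u ∈ centMembers D z, ∃ v ∈ h.pairStab E X ⊓ centralizer {m}, g = u * v := by
  obtain ⟨C, hC⟩ := S.base.exists_tor S.ne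
  have hfix : ∀ {A : h.Pt}, z • A = A → z • (g • A) = g • A := fun hA => by
    rw [← mul_smul, ← hg.eq, mul_smul, hA]
  obtain ⟨u, hu, huE, huX⟩ := S.pair_trans (hfix S.fix_E) (hfix S.fix_X)
    (fun e => S.ne (smul_left_cancel g e))
  have hk : u⁻¹ * g ∈ h.pairStab E X := mem_pairStab.2
    ⟨by rw [mul_smul, ← huE, inv_smul_smul], by rw [mul_smul, ← huX, inv_smul_smul]⟩
  obtain ⟨c, hc, v, hv, hcv⟩ := hC.exists_mul S.base S.ne S.swap hk
  have hcz : Commute c z := by
    have h1 : Commute (u⁻¹ * g) z := ((commute_U hu).symm.inv_left).mul_left hg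
    rw [← hcv] at h1
    have h2 := h1.mul_left (S.W_comm hv S.mem).inv_left
    rwa [mul_inv_cancel_right] at h2
  exact ⟨u * c, mul_mem hu (S.torus_le hC ⟨hc, mem_centralizer_singleton_iff.2 hcz.eq⟩), v, hv,
    by rw [mul_assoc, hcv, mul_inv_cancel_left]⟩

omit S in
/-- `U` is normal in the centralizer of `z`. -/
theorem conj_U (h : ClassGroups D) {x : G} (hx : Commute x z) {u : G} (hu : u ∈ centMembers D z) :
    x * u * x⁻¹ ∈ centMembers D z := by
  have hle : centMembers D z ≤ (centMembers D z).comap (MulAut.conj x).toMonoidHom :=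
    (closure_le _).2 fun y hy => mem_U (h.conj y hy.1 x) (conj_commute hx.symm hy.2)
  exact hle hu

theorem comm_U {x x' : G} (hx : Commute x z) (hx' : Commute x' z) :
    x * x' * x⁻¹ * x'⁻¹ ∈ centMembers D z := by
  obtain ⟨u, hu, v, hv, rfl⟩ := S.cent_split hx
  obtain ⟨u', hu', v', hv', rfl⟩ := S.cent_split hx'
  have hvz := S.W_comm hv S.mem
  have hvz' := S.W_comm hv' S.mem
  have hvv : v' * v⁻¹ = v⁻¹ * v' := ((S.W_comm hv' hv).inv_right).eq
  have e1 : u * v * (u' * v') * (u * v)⁻¹ * (u' * v')⁻¹ =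
      u * (v * u' * v⁻¹) * (v' * u⁻¹ * v'⁻¹) * u'⁻¹ := by
    calc u * v * (u' * v') * (u * v)⁻¹ * (u' * v')⁻¹
        = u * v * u' * (v' * v⁻¹) * u⁻¹ * v'⁻¹ * u'⁻¹ := by group
      _ = u * v * u' * (v⁻¹ * v') * u⁻¹ * v'⁻¹ * u'⁻¹ := by rw [hvv]
      _ = _ := by group
  rw [e1]
  exact mul_mem (mul_mem (mul_mem hu (conj_U h hvz hu')) (conj_U h hvz' (Subgroup.inv_mem _ hu)))
    (Subgroup.inv_mem _ hu')

theorem two_U {x : G} {k : ℕ} (hx : Commute x z) (hxk : x ^ 2 ^ k = 1) : x ∈ centMembers D z := by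
  obtain ⟨u, hu, v, hv, rfl⟩ := S.cent_split hx
  have hvz := S.W_comm hv S.mem
  have key : ∀ n : ℕ, (u * v) ^ n * (v ^ n)⁻¹ ∈ centMembers D z := fun n => by
    induction n with
    | zero => simp
    | succ n ih =>
      rw [show (u * v) ^ (n + 1) * (v ^ (n + 1))⁻¹ = u * (v * ((u * v) ^ n * (v ^ n)⁻¹) * v⁻¹) by
        rw [pow_succ', pow_succ, mul_inv_rev]; group]
      exact mul_mem hu (conj_U h hvz ih)
  have hv2 : v ^ 2 ^ k ∈ centMembers D z := by
    have h1 := key (2 ^ k)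
    rw [hxk, one_mul] at h1
    simpa using Subgroup.inv_mem _ h1
  have hdown : ∀ j : ℕ, v ^ 2 ^ j ∈ centMembers D z → v ∈ centMembers D z := fun j => by
    induction j with
    | zero => simp
    | succ j ih =>
      intro h1
      rw [pow_succ, pow_mul, pow_two] at h1
      exact ih (Cfsg.Agent.Walter.Core.mem_of_sq ((S.W_odd hv).of_dvd_nat (orderOf_pow_dvd _)) h1)
  exact mul_mem hu (hdown k hv2)

theorem normalizer_eq (hz : (orderOf z).Prime) {g : G} (hg : g * z * g⁻¹ ∈ zpowers z) : Commute g z := by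
  obtain ⟨C, hC⟩ := S.base.exists_tor S.ne
  set z' := g * z * g⁻¹ with hz'
  have hz1 : z' ≠ 1 := fun e => hz.ne_one (orderOf_eq_one_iff.2 (conj_eq_one_iff.1 e))
  have hzz : zpowers z' = zpowers z := eq_of_le_of_card_ge (zpowers_le.2 hg) (by
    rw [Nat.card_zpowers, Nat.card_zpowers, hz', ← MulAut.conj_apply, MulEquiv.orderOf_eq])
  have hfix : ∀ {A : h.Pt}, z • A = A → z • (g • A) = g • A := fun {A} hA => by
    have h1 : z' • (g • A) = g • A := by
      rw [hz', ← mul_smul, inv_mul_cancel_right, mul_smul, hA]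
    exact mem_stabilizer_iff.1 ((hzz ▸ zpowers_le.2 (mem_stabilizer_iff.2 h1) :
      zpowers z ≤ stabilizer G (g • A)) (mem_zpowers z))
  obtain ⟨u, hu, huE, huX⟩ := S.pair_trans (hfix S.fix_E) (hfix S.fix_X) (fun e => S.ne (smul_left_cancel g e))
  have hk : u⁻¹ * g ∈ h.pairStab E X := mem_pairStab.2
    ⟨by rw [mul_smul, ← huE, inv_smul_smul], by rw [mul_smul, ← huX, inv_smul_smul]⟩
  obtain ⟨c, hc, v, hv, hcv⟩ := hC.exists_mul S.base S.ne S.swap hk
  have huz : Commute u z' := by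
    obtain ⟨i, hi⟩ := hg
    exact hi ▸ (commute_U hu).symm.zpow_right i
  have hz'W : z' ∈ h.pairStab E X ⊓ centralizer {m} := zpowers_le.2 S.mem hg
  have h1 : c * z * c⁻¹ = z' := by
    calc c * z * c⁻¹ = c * (v * z * v⁻¹) * c⁻¹ := by rw [(S.W_comm hv S.mem).eq, mul_inv_cancel_right]
      _ = u⁻¹ * g * z * (u⁻¹ * g)⁻¹ := by rw [← hcv]; group
      _ = u⁻¹ * z' * u⁻¹⁻¹ := by rw [hz']; group
      _ = z' := by rw [huz.inv_left.eq, mul_inv_cancel_right]
  have h2 : z' * z⁻¹ = 1 := hC.eq_one_of_commute S.base S.swap (by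
      rw [← h1, show c * z * c⁻¹ * z⁻¹ = c * (z * c⁻¹ * z⁻¹) by group]
      exact mul_mem hc (hC.normal z S.mem.1 c⁻¹ (Subgroup.inv_mem _ hc)))
    (mem_centralizer_singleton_iff.1 (mul_mem hz'W.2 (Subgroup.inv_mem _ S.mem.2)))
  exact mul_inv_eq_iff_eq_mul.1 (mul_inv_eq_one.1 h2)

/-- The group `U` is generated by the members in it. -/
theorem closure_members : closure {y : centMembers D z | (y : G) ∈ D} = ⊤ := by
  have he : {y : centMembers D z | (y : G) ∈ D} =
      (fun y : centMembers D z => (y : G)) ⁻¹' {y | y ∈ D ∧ Commute z y} :=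
    Set.ext fun y => ⟨fun hy => ⟨hy, commute_coe y⟩, fun hy => hy.1⟩
  rw [he]
  exact closure_closure_coe_preimage

/-- `r` divides the number of fixed classes. -/
theorem dvd_fixed {f : ℕ} (hf : Nat.card {L : h.Pt // z • L = L} = f) {r : ℕ} (hr : r.Prime)
    (ho : orderOf z = r) (hrf : ¬ r ∣ f - 1) : r ∣ f := by
  classical
  by_contra hrn
  obtain ⟨C, hC⟩ := S.base.exists_tor S.ne
  have hne := S.ne
  have hmE : m • E = X := S.swap.2
  have hmX : m • X = E := h.swapper_back S.swap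
  have hmm : m * m = 1 := h.sq S.swap.1
  have hr2 : r ≠ 2 := fun e => (Nat.not_even_iff_odd.2 (ho ▸ S.W_odd S.mem : Odd r)) (e ▸ even_two)
  let H : Subgroup G :=
    { carrier := {g | (g • E = E ∧ g • X = X) ∨ (g • E = X ∧ g • X = E)}
      one_mem' := Or.inl ⟨one_smul G E, one_smul G X⟩
      mul_mem' := by
        rintro a b (⟨a1, a2⟩ | ⟨a1, a2⟩) (⟨b1, b2⟩ | ⟨b1, b2⟩)
        · exact Or.inl ⟨by rw [mul_smul, b1, a1], by rw [mul_smul, b2, a2]⟩
        · exact Or.inr ⟨by rw [mul_smul, b1, a2], by rw [mul_smul, b2, a1]⟩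
        · exact Or.inr ⟨by rw [mul_smul, b1, a1], by rw [mul_smul, b2, a2]⟩
        · exact Or.inl ⟨by rw [mul_smul, b1, a2], by rw [mul_smul, b2, a1]⟩
      inv_mem' := by
        rintro a (⟨a1, a2⟩ | ⟨a1, a2⟩)
        · exact Or.inl ⟨inv_smul_eq_iff.2 a1.symm, inv_smul_eq_iff.2 a2.symm⟩
        · exact Or.inr ⟨inv_smul_eq_iff.2 a2.symm, inv_smul_eq_iff.2 a1.symm⟩ }
  have hKH : h.pairStab E X ≤ H := fun g hg => Or.inl (mem_pairStab.1 hg)
  have hmH : m ∈ H := Or.inr ⟨hmE, hmX⟩
  have hinv : ∀ c ∈ C, m * c * m = c⁻¹ := hC.invert m S.swap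
  have hmc : ∀ c ∈ C, m * c = c⁻¹ * m := fun c hc => by
    rw [← hinv c hc, mul_assoc _ m m, hmm, mul_one]
  let M : Subgroup G :=
    { carrier := {g | g ∈ C ∨ g * m ∈ C}
      one_mem' := Or.inl (one_mem C)
      mul_mem' := by
        rintro a b (ha | ha) (hb | hb)
        · exact Or.inl (mul_mem ha hb)
        · exact Or.inr (by rw [mul_assoc]; exact mul_mem ha hb)
        · refine Or.inr ?_
          rw [show a * b * m = a * (m * m) * b * m by rw [hmm, mul_one],
            show a * (m * m) * b * m = a * m * (m * b * m) by group, hinv b hb]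
          exact mul_mem ha (Subgroup.inv_mem _ hb)
        · refine Or.inl ?_
          rw [show a * b = a * m * (m * (b * m) * m) by
            calc a * b = a * (m * m) * b * (m * m) := by rw [hmm, mul_one, mul_one]
              _ = _ := by group, hinv _ hb]
          exact mul_mem ha (Subgroup.inv_mem _ hb)
      inv_mem' := by
        rintro a (ha | ha)
        · exact Or.inl (Subgroup.inv_mem _ ha)
        · refine Or.inr ?_
          have h1 : a⁻¹ * m = a * m := by
            calc a⁻¹ * m = m * (a * m)⁻¹ * m := by group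
              _ = (a * m)⁻¹⁻¹ := hinv _ (Subgroup.inv_mem _ ha)
              _ = a * m := inv_inv _
          rw [h1]; exact ha }
  have hCM : C ≤ M := fun c hc => Or.inl hc
  have hmM : m ∈ M := Or.inr (by rw [hmm]; exact one_mem C)
  have hconjK : ∀ k ∈ h.pairStab E X, ∀ a ∈ M, k * a * k⁻¹ ∈ M := by
    rintro k hk a (ha | ha)
    · exact hCM (hC.normal k hk a ha)
    · obtain ⟨c, hc, v, hv, rfl⟩ := hC.exists_mul S.base S.ne S.swap hk
      have h1 : c * v * m * (c * v)⁻¹ = c * c * m := by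
        calc c * v * m * (c * v)⁻¹ = c * (v * m) * v⁻¹ * c⁻¹ := by group
          _ = c * (m * v) * v⁻¹ * c⁻¹ := by rw [mem_centralizer_singleton_iff.1 hv.2]
          _ = c * (m * c⁻¹) := by group
          _ = c * c * m := by rw [hmc c⁻¹ (Subgroup.inv_mem _ hc), inv_inv, mul_assoc]
      have h2 : c * v * a * (c * v)⁻¹ = c * v * (a * m) * (c * v)⁻¹ * (c * v * m * (c * v)⁻¹) := by
        calc c * v * a * (c * v)⁻¹ = c * v * (a * (m * m)) * (c * v)⁻¹ := by rw [hmm, mul_one]
          _ = _ := by group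
      rw [h2, h1]
      exact mul_mem (hCM (hC.normal _ hk _ ha)) (mul_mem (hCM (mul_mem hc hc)) hmM)
  have hdec : ∀ g ∈ H, g ∈ h.pairStab E X ∨ g * m ∈ h.pairStab E X := by
    rintro g (hg | ⟨g1, g2⟩)
    · exact Or.inl (mem_pairStab.2 hg)
    · exact Or.inr (mem_pairStab.2 ⟨by rw [mul_smul, hmE, g2], by rw [mul_smul, hmX, g1]⟩)
  haveI hMn : (M.subgroupOf H).Normal := ⟨fun a ha g => by
    show (g : G) * a * (g : G)⁻¹ ∈ M
    rcases hdec g g.2 with hg | hg
    · exact hconjK _ hg _ ha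
    · rw [show (g : G) * a * (g : G)⁻¹ = ((g : G) * m) * (m⁻¹ * a * m) * ((g : G) * m)⁻¹ by group]
      exact hconjK _ hg _ (mul_mem (mul_mem (Subgroup.inv_mem _ hmM) ha) hmM)⟩
  set W := h.pairStab E X ⊓ centralizer {m} with hW
  have hWH : W ≤ H := inf_le_left.trans hKH
  let ψ : W →* ↥H ⧸ M.subgroupOf H := (QuotientGroup.mk' _).comp (Subgroup.inclusion hWH)
  have hψ : Function.Surjective ψ := fun a => by
    induction a using QuotientGroup.induction_on with
    | H g =>
      rcases hdec g g.2 with hg | hg <;> obtain ⟨c, hc, v, hv, he⟩ := hC.exists_mul S.base S.ne S.swap hg <;>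
        refine ⟨⟨v, hv⟩, QuotientGroup.eq.2 ?_⟩
      · show v⁻¹ * (g : G) ∈ M
        rw [← he, show v⁻¹ * (c * v) = v⁻¹ * c * v⁻¹⁻¹ by group]
        exact hCM (hC.normal _ (Subgroup.inv_mem _ hv.1) c hc)
      · show v⁻¹ * (g : G) ∈ M
        rw [show v⁻¹ * (g : G) = v⁻¹ * c * v⁻¹⁻¹ * m by
          calc v⁻¹ * (g : G) = v⁻¹ * ((g : G) * m) * m := by rw [mul_assoc, mul_assoc (g : G), hmm, mul_one]
            _ = _ := by rw [← he]; group]
        exact mul_mem (hCM (hC.normal _ (Subgroup.inv_mem _ hv.1) c hc)) hmM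
  letI : CommGroup (↥H ⧸ M.subgroupOf H) :=
    { (inferInstance : Group (↥H ⧸ M.subgroupOf H)) with
      mul_comm := fun a b => by
        obtain ⟨a, rfl⟩ := hψ a
        obtain ⟨b, rfl⟩ := hψ b
        rw [← map_mul, ← map_mul, show a * b = b * a from Subtype.ext (S.W_comm a.2 b.2).eq] }
  have hodd : Odd (Nat.card (↥H ⧸ M.subgroupOf H)) := by
    refine S.e_odd.of_dvd_nat ?_
    rw [← (S.base.field_cyclic E X S.ne m S.swap).2]
    exact card_dvd_of_surjective ψ hψ
  have hzH : z ∈ H := hKH S.mem.1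
  have hone := Kill.transfer_kill (H := H) (S := centMembers D z) (QuotientGroup.mk' (M.subgroupOf H)) hodd
    S.base.gen_sq hr hzH (ho ▸ pow_orderOf_eq_one z) (fun s hs => (commute_U hs).symm) ?_ ?_
  · have hzM : z ∈ M := (QuotientGroup.eq_one_iff (N := M.subgroupOf H) _).1 hone
    rcases hzM with h1 | h1
    · exact hr.ne_one (ho ▸ orderOf_eq_one_iff.2 (hC.eq_one_of_commute S.base S.swap h1 S.comm_m.eq))
    · have h2 := (mem_pairStab.1 (hC.le h1)).1
      rw [mul_smul, hmE, S.fix_X] at h2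
      exact hne h2.symm
  · intro g hg
    rcases hg with ⟨g1, g2⟩ | ⟨g1, g2⟩
    · rw [mul_smul, mul_smul, inv_smul_eq_iff] at g1 g2
      obtain ⟨u, hu, huE, huX⟩ := S.pair_trans g1 g2 (fun e => hne (smul_left_cancel g e))
      exact ⟨u, hu, hKH (mem_pairStab.2
        ⟨by rw [mul_smul, ← huE, inv_smul_smul], by rw [mul_smul, ← huX, inv_smul_smul]⟩)⟩
    · exfalso
      obtain ⟨l, hl⟩ := hr.odd_of_ne_two hr2
      set a := g⁻¹ * z * g with ha
      have h1 : (a * a) ∈ stabilizer G E := mem_stabilizer_iff.2 (by rw [mul_smul, g1, g2])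
      have h2 : a ^ r = 1 := by
        have h3 : z ^ r = 1 := ho ▸ pow_orderOf_eq_one z
        have h4 : a = g⁻¹ * z * g⁻¹⁻¹ := by rw [inv_inv]
        rw [h4, conj_pow, h3, mul_one, inv_inv, inv_mul_cancel]
      rw [hl, pow_succ', pow_mul, pow_two] at h2
      have h5 := congrArg (· • E) h2
      simp only [mul_smul, one_smul] at h5
      rw [mem_stabilizer_iff.1 (pow_mem h1 l), g1] at h5
      exact hne h5.symm
  · -- the index
    intro hd
    set F := {L : h.Pt // z • L = L} with hF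
    set U := centMembers D z
    haveI := Fintype.ofFinite h.Pt
    set T : Finset h.Pt := Finset.univ.filter fun L => z • L = L with hT
    have hTf : T.card = f := by rw [hT, ← hf, Nat.card_eq_fintype_card, Fintype.card_subtype]
    have horb : orbit ↥U (E, X) = ↑T.offDiag := by
      ext ⟨A, B⟩
      simp only [Finset.coe_offDiag, Set.mem_offDiag, hT, Finset.coe_filter, Finset.mem_univ, true_and,
        Set.mem_ofPred_eq]
      constructor
      · rintro ⟨⟨u, hu⟩, he⟩
        have h1 : u • E = A := congrArg Prod.fst he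
        have h2 : u • X = B := congrArg Prod.snd he
        exact ⟨h1 ▸ smul_fixed hu S.fix_E, h2 ▸ smul_fixed hu S.fix_X,
          fun e => hne (smul_left_cancel u (h1.trans (e.trans h2.symm)))⟩
      · rintro ⟨hA, hB, hAB⟩
        obtain ⟨u, hu, huE, huX⟩ := S.pair_trans hA hB hAB
        exact ⟨⟨u, hu⟩, Prod.ext huE huX⟩
    have hst : stabilizer ↥U (E, X) = (h.pairStab E X).subgroupOf U := Subgroup.ext fun u => by
      rw [MulAction.mem_stabilizer_iff, mem_subgroupOf, mem_pairStab]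
      exact Prod.ext_iff
    have hidx : (h.pairStab E X).relIndex U = f * f - f := by
      show ((h.pairStab E X).subgroupOf U).index = _
      rw [← hst, index_stabilizer, horb, Set.ncard_coe_finset, Finset.offDiag_card, hTf]
    have h1 := hidx ▸ hd.trans (relIndex_dvd_of_le_left U hKH)
    rw [show f * f - f = f * (f - 1) from (Nat.mul_sub_one f f).symm] at h1
    exact (hr.dvd_mul.1 h1).elim hrn hrf

/-- `z` is outside `U` when the Sylow `r`-subgroups of `U / Z(U)` are cyclic. -/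
theorem z_notMem {r : ℕ} (hr : r.Prime) (ho : orderOf z = r)
    (hcyc : ∀ T : Subgroup (SubU D z), IsPGroup r T → IsCyclic T) : z ∉ centMembers D z := by
  classical
  intro hz
  haveI := Fact.mk hr
  have hr2 : r ≠ 2 := fun e => (Nat.not_even_iff_odd.2 (ho ▸ S.W_odd S.mem : Odd r)) (e ▸ even_two)
  obtain ⟨P⟩ : Nonempty (Sylow r ↥(centMembers D z)) := inferInstance
  let f : ↥(P : Subgroup ↥(centMembers D z)) →* SubU D z :=
    (subProj D z).comp (P : Subgroup ↥(centMembers D z)).subtype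
  haveI : IsCyclic f.range := hcyc _ (by
    rw [MonoidHom.range_eq_map]
    exact (P.2.of_equiv Subgroup.topEquiv.symm).map f)
  haveI : IsMulCommutative ↥(P : Subgroup ↥(centMembers D z)) :=
    ⟨⟨fun a b => (MonoidHom.isMulCommutative_of_isCyclic_of_ker_le_center f.rangeRestrict (fun x hx => by
      rw [MonoidHom.ker_rangeRestrict, MonoidHom.mem_ker] at hx
      exact mem_center_iff.2 fun g => Subtype.ext
        (mem_center_iff.1 ((subProj_eq_one_iff _).1 hx) g))).is_comm.comm a b⟩⟩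
  letI : CommGroup ↥(P : Subgroup ↥(centMembers D z)) :=
    { (inferInstance : Group ↥(P : Subgroup ↥(centMembers D z))) with
      mul_comm := IsMulCommutative.is_comm.comm }
  let τ : ↥(centMembers D z) →* ↥(P : Subgroup ↥(centMembers D z)) :=
    MonoidHom.transfer (MonoidHom.id ↥(P : Subgroup ↥(centMembers D z)))
  obtain ⟨k, hk⟩ := IsPGroup.iff_card.1 P.2
  have hodd : Odd (Nat.card ↥(P : Subgroup ↥(centMembers D z))) := hk ▸ (hr.odd_of_ne_two hr2).pow
  have hτ : ∀ g, τ g = 1 := by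
    have h1 : closure {y : centMembers D z | (y : G) ∈ D} ≤ τ.ker :=
      (closure_le _).2 fun v hv => MonoidHom.mem_ker.2 (by
        rw [← orderOf_eq_one_iff]
        refine Nat.eq_one_of_dvd_coprimes (Nat.coprime_two_left.2 hodd) (orderOf_dvd_of_pow_eq_one ?_)
          (orderOf_dvd_natCard (τ v))
        rw [pow_two, ← map_mul, show v * v = 1 from Subtype.ext (h.sq hv), map_one])
    exact fun g => MonoidHom.mem_ker.1 (h1 (S.closure_members ▸ mem_top g))
  have key : ∀ (k : ℕ) (g₀ : centMembers D z),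
      g₀⁻¹ * (⟨z, hz⟩ : centMembers D z) ^ k * g₀ ∈ (P : Subgroup ↥(centMembers D z)) →
      g₀⁻¹ * (⟨z, hz⟩ : centMembers D z) ^ k * g₀ = (⟨z, hz⟩ : centMembers D z) ^ k := fun k g₀ _ => by
    have h1 : Commute (⟨z, hz⟩ : centMembers D z) g₀ := Subtype.ext (commute_U g₀.2).eq
    rw [mul_assoc, (h1.pow_left k).eq, inv_mul_cancel_left]
  have h2 := hτ ⟨z, hz⟩
  rw [show τ ⟨z, hz⟩ = _ from MonoidHom.transfer_eq_pow _ _ key, MonoidHom.id_apply] at h2
  have h3 : z ^ (P : Subgroup ↥(centMembers D z)).index = 1 :=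
    congrArg (fun t : ↥(P : Subgroup ↥(centMembers D z)) => ((t : centMembers D z) : G)) h2
  have h4 := orderOf_dvd_of_pow_eq_one h3
  rw [ho] at h4
  exact P.not_dvd_index h4

/-- The quotient map is injective when `z` is outside `U`. -/
theorem proj_injective (hz : (orderOf z).Prime) (hzU : z ∉ centMembers D z) :
    Function.Injective (subProj D z) := by
  rw [← MonoidHom.ker_eq_bot_iff]
  refine (eq_bot_iff_forall _).2 fun u hu => Subtype.ext ?_
  obtain ⟨i, hi⟩ := mem_zpowers_iff.1 (S.center_mem ((center_coe_iff u).1 ((subProj_eq_one_iff u).1 hu)))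
  by_contra hne
  have h1 : zpowers (u : G) = zpowers z := eq_of_le_of_card_ge (zpowers_le.2 ⟨i, hi⟩) (by
    rw [Nat.card_zpowers, Nat.card_zpowers]
    have h2 : orderOf (u : G) ∣ orderOf z := by
      rw [← Nat.card_zpowers z]; exact (zpowers z).orderOf_dvd_natCard ⟨i, hi⟩
    rcases (Nat.dvd_prime hz).1 h2 with e | e
    · exact absurd (orderOf_eq_one_iff.1 e) hne
    · rw [e])
  exact hzU ((zpowers_le.2 u.2 : zpowers (u : G) ≤ centMembers D z) (h1.symm ▸ mem_zpowers z))

/-- A torus element of order `r` fixing no fixed class of `z` gives the excluded configuration. -/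
theorem killData {r μ : ℕ} (hr : r.Prime) (ho : orderOf z = r)
    (hcyc : ∀ T : Subgroup (SubU D z), IsPGroup r T → IsCyclic T) {y' s' : SubU D z}
    (hy : orderOf y' = r) (hfree : ∀ A : S.classGroups.Pt, y' • A ≠ A) (hs4 : s' ^ 4 = 1)
    (hsD : s' * s' ∈ subD D z) (hsy : s' * y' * s'⁻¹ = y' ^ μ) (hμ : r ∣ μ * μ + 1)
    (hcu : ∀ u, Commute u y' → Commute u (s' * s') → u = 1)
    (hauto : ∀ x (k : ℕ), x ^ 2 ^ k = 1 → x * y' * x⁻¹ ∈ zpowers y' → ∃ n : ℕ, x * y' * x⁻¹ = y' ^ μ ^ n) :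
    ∃ y s : G, Kill.KillData r μ (centMembers D z) z y s := by
  classical
  have hr2 : r ≠ 2 := fun e => (Nat.not_even_iff_odd.2 (ho ▸ S.W_odd S.mem : Odd r)) (e ▸ even_two)
  have hzU := S.z_notMem hr ho hcyc
  have hinj := S.proj_injective (ho ▸ hr) hzU
  obtain ⟨yU, rfl⟩ := subProj_surjective (D := D) y'
  obtain ⟨sU, rfl⟩ := subProj_surjective (D := D) s'
  obtain ⟨dU, hdU, hdU'⟩ := hsD
  set y := (yU : G) with hyd
  set s := (sU : G) with hsd'
  have hdeq : dU = sU * sU := hinj (by rw [map_mul]; exact hdU')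
  have hdD : s * s ∈ D := by
    have : (dU : G) ∈ D := hdU
    rwa [hdeq] at this
  have hdz : Commute z (s * s) := commute_U (mul_mem sU.2 sU.2)
  have hyz : Commute z y := commute_U yU.2
  have hoy : orderOf y = r := by rw [hyd, Subgroup.orderOf_coe, ← hy, orderOf_injective _ hinj]
  have hsy' : s * y * s⁻¹ = y ^ μ :=
    congrArg Subtype.val (hinj (by rw [map_mul, map_mul, map_inv, map_pow]; exact hsy) : sU * yU * sU⁻¹ = yU ^ μ)
  have hs4' : s ^ 4 = 1 := congrArg Subtype.val (hinj (by rw [map_pow, map_one]; exact hs4) : sU ^ 4 = 1)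
  have hdy : s * s * y * (s * s)⁻¹ = y⁻¹ := by
    rw [show s * s * y * (s * s)⁻¹ = s * (s * y * s⁻¹) * s⁻¹ by group, hsy', ← conj_pow, hsy',
      eq_comm, inv_eq_iff_mul_eq_one, ← pow_mul, ← pow_succ']
    exact orderOf_dvd_iff_pow_eq_one.1 (hoy ▸ hμ)
  have hnofix : ∀ A : h.Pt, z • A = A → y • A ≠ A := fun A hA hyA => by
    obtain ⟨a, ha, rfl⟩ := S.exists_rep hA
    exact hfree _ ((S.smul_pt_iff yU ha ha).2 hyA)
  have hno : ∀ A : h.Pt, y • A ≠ A := fun A hyA => by
    have hzA : z • A ≠ A := fun e => hnofix A e hyA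
    set d := s * s with hd
    have hdA : d • A ≠ A := fun e => hzA (by
      by_cases hp : h.pt d hdD = A
      · exact hp ▸ fix_pt hdD hdz
      · exact absurd (h.grp_semiregular (h.self_mem_grp hdD) e (Ne.symm hp)) (h.toOT.ne_one hdD))
    have hdd : d * d = 1 := h.sq hdD
    obtain ⟨C, hC⟩ := S.base.exists_tor (E := A) (X := d • A) hdA.symm
    have hm : d ∈ h.swappers A (d • A) := ⟨hdD, rfl⟩
    have hydA : y • (d • A) = d • A := by
      have e1 : y * d = d * y⁻¹ := by
        rw [← hdy, inv_eq_of_mul_eq_one_right hdd]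
        calc y * d = (d * d) * y * d := by rw [hdd, one_mul]
          _ = _ := by group
      rw [← mul_smul, e1, mul_smul, inv_smul_eq_iff.2 hyA.symm]
    obtain ⟨c, hc, v, hv, hcv⟩ := hC.exists_mul S.base hdA.symm hm (mem_pairStab.2 ⟨hyA, hydA⟩ : y ∈ h.pairStab A (d • A))
    have hvd : v * d = d * v := mem_centralizer_singleton_iff.1 hv.2
    have hdc : d * c * d⁻¹ = c⁻¹ := by rw [inv_eq_of_mul_eq_one_right hdd]; exact hC.invert d hm c hc
    have h1 : c⁻¹ * v = v⁻¹ * c⁻¹ := by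
      rw [← mul_inv_rev, hcv, ← hdy, ← hcv, ← hdc]
      calc d * c * d⁻¹ * v = d * c * (d⁻¹ * (v * d)) * d⁻¹ := by group
        _ = d * c * (d⁻¹ * (d * v)) * d⁻¹ := by rw [hvd]
        _ = d * (c * v) * d⁻¹ := by group
    have h2 : c⁻¹ * (v * c * v⁻¹) = v⁻¹ * v⁻¹ := by
      calc c⁻¹ * (v * c * v⁻¹) = (c⁻¹ * v) * c * v⁻¹ := by group
        _ = v⁻¹ * c⁻¹ * c * v⁻¹ := by rw [h1]
        _ = v⁻¹ * v⁻¹ := by group
    have h3 : v⁻¹ * v⁻¹ = 1 := hC.eq_one_of_commute S.base hm
      (h2 ▸ mul_mem (Subgroup.inv_mem _ hc) (hC.normal v hv.1 c hc))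
      (mem_centralizer_singleton_iff.1 (mul_mem (Subgroup.inv_mem _ hv.2) (Subgroup.inv_mem _ hv.2)))
    have hv1 : v⁻¹ = 1 := RootInvolutions.Basic.eq_one_of_odd (S.e_odd.of_dvd_nat (by
      rw [← (S.base.field_cyclic A (d • A) hdA.symm d hm).2]
      exact (h.pairStab A (d • A) ⊓ centralizer {d}).orderOf_dvd_natCard (Subgroup.inv_mem _ hv)))
      (n := 1) (by rw [pow_one, pow_two, h3])
    have hyC : y ∈ C := by rw [← hcv, inv_eq_one.1 hv1, mul_one]; exact hc
    have hfix := hC.fix y hyC fun e => hr.ne_one (by rw [← hoy, e, orderOf_one])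
    have hz2 : z • z • A ≠ A := fun e => hzA (by
      obtain ⟨l, hl⟩ := hr.odd_of_ne_two hr2
      have h4 : z = (z * z) ^ (l + 1) := by
        rw [← pow_two, ← pow_mul, show 2 * (l + 1) = orderOf z + 1 by omega, pow_succ, pow_orderOf_eq_one,
          one_mul]
      rw [h4]
      exact mem_stabilizer_iff.1 (pow_mem (mem_stabilizer_iff.2 (by rw [mul_smul]; exact e)) _))
    have hzy : ∀ B : h.Pt, y • B = B → y • (z • B) = z • B := fun B hB => by
      rw [← mul_smul, ← hyz.eq, mul_smul, hB]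
    have e1 := (hfix _ (hzy A hyA)).resolve_left hzA
    have e2 := (hfix _ (hzy _ (hzy A hyA))).resolve_left hz2
    exact hzA (smul_left_cancel z (e2.trans e1.symm))
  have hQodd : Odd (Nat.card ↥(centralizer ({y} : Set G))) := by
    rw [← Nat.not_even_iff_odd, even_iff_two_dvd]
    intro h2
    haveI := Fact.mk Nat.prime_two
    obtain ⟨⟨v, hv⟩, hvo⟩ := exists_prime_orderOf_dvd_card' 2 h2
    rw [Subgroup.orderOf_mk] at hvo
    have hvy : Commute v y := mem_centralizer_singleton_iff.1 hv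
    have hvv : v * v = 1 := by rw [← pow_two, ← hvo]; exact pow_orderOf_eq_one v
    obtain ⟨A, hA⟩ := h.exists_fixed_of_involution S.ne hvv
    have hA' : v • (y • A) = y • A := by rw [← mul_smul, hvy.eq, mul_smul, hA]
    have h3 : Odd (Nat.card (h.pairStab A (y • A))) :=
      (S.base.toTorus).oddPair A (y • A) (hno A).symm
    have h4 := h3.of_dvd_nat ((h.pairStab A (y • A)).orderOf_dvd_natCard (mem_pairStab.2 ⟨hA, hA'⟩ : v ∈ _))
    rw [hvo] at h4
    exact absurd h4 (by decide)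
  have hFcyc : IsCyclic ↥(centralizer ({y} : Set G) ⊓ centralizer ({s * s} : Set G)) := by
    set d := s * s with hd
    set A := h.pt d hdD
    have hne : A ≠ y • A := (hno A).symm
    obtain ⟨C, hC⟩ := S.base.exists_tor hne
    obtain ⟨m', hm'⟩ := S.base.exists_swap hne
    obtain ⟨c, -, hconj⟩ := hC.conj_field S.base hne hm' (h.self_mem_grp hdD) (h.toOT.ne_one hdD)
    set F := centralizer ({y} : Set G) ⊓ centralizer ({d} : Set G)
    have key : ∀ f : F, c⁻¹ * (f : G) * c ∈ h.pairStab A (y • A) ⊓ centralizer {m'} := fun f => by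
      have hfy : Commute (f : G) y := mem_centralizer_singleton_iff.1 f.2.1
      have hfd : Commute (f : G) d := mem_centralizer_singleton_iff.1 f.2.2
      have hfA : (f : G) • A = A := fix_pt hdD hfd
      refine hconj f (mem_pairStab.2 ⟨hfA, ?_⟩) hfd.eq
      rw [← mul_smul, hfy.eq, mul_smul, hfA]
    haveI := (S.base.field_cyclic _ _ hne m' hm').1
    exact isCyclic_of_injective (G := F) (G' := ↥(h.pairStab A (y • A) ⊓ centralizer {m'}))
      { toFun := fun f => ⟨c⁻¹ * (f : G) * c, key f⟩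
        map_one' := Subtype.ext (by simp)
        map_mul' := fun a b => Subtype.ext (by
          show c⁻¹ * ((a : G) * b) * c = (c⁻¹ * a * c) * (c⁻¹ * b * c)
          group) }
      fun a b hab => Subtype.ext (mul_left_cancel (mul_right_cancel (congrArg Subtype.val hab)))
  refine ⟨y, s,
    { prime := hr, ne_two := hr2, hμ := hμ, oz := ho, oy := hoy, yU := yU.2, sU := sU.2, s4 := hs4'
      sy := hsy', le_cent := fun u hu => mem_centralizer_singleton_iff.2 (commute_U hu).eq.symm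
      zU := hzU, norm := fun x hx u hu => conj_U h hx hu, abel := fun x x' => S.comm_U
      two := fun x k => S.two_U, nz := fun g => S.normalizer_eq (ho ▸ hr)
      Ucyc := ?_, cu := ?_, oddQ := hQodd, Fcyc := hFcyc, auto := ?_ }⟩
  · intro T hTU hT
    set T' := T.subgroupOf (centMembers D z)
    have hT' : IsPGroup r T' := hT.comap_of_injective (centMembers D z).subtype Subtype.coe_injective
    haveI := hcyc (T'.map (subProj D z)) (hT'.map _)
    haveI : IsCyclic T' := isCyclic_of_surjective (T'.equivMapOfInjective _ hinj).symm.toMonoidHom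
      (T'.equivMapOfInjective _ hinj).symm.surjective
    exact isCyclic_of_surjective (Subgroup.subgroupOfEquivOfLe hTU).toMonoidHom
      (Subgroup.subgroupOfEquivOfLe hTU).surjective
  · intro u hu hc1 hc2
    have c1 : Commute (⟨u, hu⟩ : centMembers D z) yU := Subtype.ext hc1.eq
    have c2 : Commute (⟨u, hu⟩ : centMembers D z) (sU * sU) := Subtype.ext hc2.eq
    have h1 := hcu _ (c1.map (subProj D z)) (by rw [← map_mul]; exact c2.map (subProj D z))
    exact congrArg Subtype.val (hinj (h1.trans (map_one _).symm))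
  · intro x hx k hxk hxy
    obtain ⟨i, hi⟩ := mem_zpowers_iff.1 hxy
    set xU : centMembers D z := ⟨x, hx⟩
    have e : yU ^ i = xU * yU * xU⁻¹ := Subtype.ext (by simpa using hi)
    obtain ⟨n, hn⟩ := hauto (subProj D z xU) k
      (by rw [← map_pow, show xU ^ 2 ^ k = 1 from Subtype.ext (by simpa using hxk), map_one])
      ⟨i, by show subProj D z yU ^ i = _; rw [← map_zpow, e, map_mul, map_mul, map_inv]⟩
    exact ⟨n, congrArg Subtype.val (hinj (by rw [map_mul, map_mul, map_inv, map_pow]; exact hn) :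
      xU * yU * xU⁻¹ = yU ^ μ ^ n)⟩

theorem q1_pow : ∃ k : ℕ, q1 = 2 ^ k := by
  haveI : Fact (Nat.Prime 2) := ⟨Nat.prime_two⟩
  obtain ⟨k, hk⟩ := IsPGroup.iff_card.1 (show IsPGroup 2 ↥(h.grp E ⊓ centralizer {z}) from fun v =>
    ⟨1, Subtype.ext (by rw [SubgroupClass.coe_pow, pow_one, pow_two]; exact h.grp_sq v.2.1)⟩)
  exact ⟨k, S.card_fix.symm.trans hk⟩

end ClassGroups.SubData

/-- No element of prime order of a field part fixes four members of a class. -/
theorem torus_field_false_of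
    (hfacts : ∀ (X : Type u) [Group X] [Finite X] (D : Set X) (h : ClassGroups D) (q e : ℕ),
      h.TorusBase q e → Odd e → Cfsg.Lie.IsoSuzuki X → SuzukiData h q)
    (hT : h.Torus q e) (hI : TorusBelow G) {E X : h.Pt} (hEX : E ≠ X) {m : G} (hm : m ∈ h.swappers E X)
    {z : G} (hz : z ∈ h.pairStab E X ⊓ centralizer {m}) (hzp : (orderOf z).Prime)
    (h4 : 4 ≤ Nat.card ↥(h.grp E ⊓ centralizer {z})) : False := by
  set q1 := Nat.card ↥(h.grp E ⊓ centralizer {z}) with hq1
  have S : h.SubData q e E X m z q1 := ⟨hT.1, hEX, hm, hz, hq1.symm, h4⟩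
  obtain ⟨h', e', -, hT', hcard⟩ := S.sub_torus
  have hz1 : z ≠ 1 := fun e => hzp.ne_one (by rw [e, orderOf_one])
  have hs : Cfsg.Lie.IsoSuzuki (SubU D z) := hI (SubU D z) (S.card_lt hz1) (subD D z) h' q1 e' hT'.toTorus
  obtain ⟨hpt, hrest⟩ := hfacts _ _ h' q1 e' hT' hT'.toTorus.2 hs
  set r := orderOf z with hr
  have hr2 : r ≠ 2 := fun e => (Nat.not_even_iff_odd.2 (S.W_odd hz)) (by rw [← hr, e]; exact even_two)
  have hdvd : r ∣ q1 ^ 2 + 1 := S.dvd_fixed (hcard.symm.trans hpt) hzp rfl fun hd => by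
    obtain ⟨k, hk⟩ := S.q1_pow
    rw [Nat.add_sub_cancel, hk, ← pow_mul] at hd
    exact hr2 ((Nat.prime_dvd_prime_iff_eq hzp Nat.prime_two).1 (hzp.dvd_of_dvd_pow hd))
  obtain ⟨hcyc, y, s, μ, hy, hfree, hs4, hsD, hsy, hμ, hcu, hauto⟩ := hrest r hzp hdvd
  obtain ⟨y', s', hK⟩ := S.killData hzp rfl hcyc hy hfree hs4 hsD hsy hμ hcu hauto
  exact hK.false hT.1.gen_sq

/-- The field step of the induction. -/
theorem torus_field_false : ∀ (G : Type u) [Group G] [Finite G] (D : Set G) (h : ClassGroups D) (q e : ℕ),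
    h.Torus q e → TorusBelow G → ∀ E X : h.Pt, E ≠ X → ∀ m ∈ h.swappers E X,
      ∀ z ∈ h.pairStab E X ⊓ centralizer {m}, (orderOf z).Prime →
        4 ≤ Nat.card ↥(h.grp E ⊓ centralizer {z}) → False :=
  fun _ _ _ _ _ _ _ hT hI _ _ hEX _ hm _ hz hzp h4 =>
    torus_field_false_of (fun _ _ _ _ _ _ _ hT' _ hs => suzuki_data hT' hs) hT hI hEX hm hz hzp h4

end Cfsg.Agent.OddTranspX
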