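import Cfsg.Agent.Lib.OddTranspX.TwoTransMain
import Cfsg.Agent.Lib.OddTranspX.SuzukiFacts
import Cfsg.Agent.Lib.OddTranspX.TorusField

/-!
# Odd transpositions with full classes: `L2(2 ^ n)` or a Suzuki group

All inductions are complete: `torusMain` for the recursive setting, `main` for classes generated by a
class and one further member.
-/

set_option autoImplicit false
set_option linter.unusedSectionVars false

namespace Cfsg.Agent.OddTranspX

universe u

/-- The recursive setting is a Suzuki group. -/
theorem torusMain (G : Type u) [Group G] [Finite G] : TorusMain G :=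
  torusMain_of (fun _ _ _ _ _ _ _ hT hI _ _ hEX _ hm _ hz hzp h4 =>
    torus_field_false_of (fun _ _ _ _ _ _ _ hT' _ hs => suzuki_data hT' hs) hT hI hEX hm hz hzp h4) G

/-- **Classes generated by a class and one further member: `L2(2 ^ n)` or a Suzuki group.** -/
theorem main (G : Type u) [Group G] [Finite G] : Main G :=
  main_of (fun G _ _ => weakMain G) (fun G _ _ => torusMain G) G

end Cfsg.Agent.OddTranspX
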