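import Cfsg.Agent.Lib.OddTranspX.SubClass
import Cfsg.Agent.Lib.Suzuki.LieEquiv
import Cfsg.Agent.S0331

/-!
# The centre is trivial

Modulo its centre the setting recurs, so by induction the central quotient has cyclic Sylow
subgroups for odd primes, and transfer kills the centre.
-/

set_option autoImplicit false
set_option linter.style.haveILetI false
set_option linter.unusedSectionVars false

namespace Cfsg.Agent.OddTranspX

open Subgroup

universe u

variable {G : Type u} [Group G] [Finite G] {D : Set G}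

/-- Subgroups of odd prime power order of `L2(2^n)` and `Sz(q)` are cyclic. -/
theorem isCyclic_of_concl {X : Type u} [Group X] [Finite X] (h : Concl X) {r : ℕ} [Fact r.Prime]
    (hr2 : r ≠ 2) {P : Subgroup X} (hP : IsPGroup r P) : IsCyclic P := by
  rcases h with ⟨F, _, _, _, -, ⟨e⟩⟩ | ⟨F, _, _, m, hm, hF, ⟨e⟩⟩
  · haveI : IsCyclic ↥(P.map (e : X →* Matrix.ProjectiveSpecialLinearGroup (Fin 2) F)) :=
      isCyclic_of_isPGroup_psl hr2 (hP.map e.toMonoidHom)
    exact isCyclic_of_injective (e.subgroupMap P).toMonoidHom (e.subgroupMap P).injective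
  · haveI := Cfsg.Agent.Suzuki.charTwo hF
    obtain ⟨f⟩ : Nonempty (Cfsg.Sz F m ≃* Cfsg.Lie.Sz F (2 ^ (m + 1))) :=
      Cfsg.Agent.Suzuki.lieEquiv hm hF
    obtain ⟨S, hS⟩ := (hP.map (e.trans f.symm).toMonoidHom).exists_le_sylow
    haveI := S0331.result hm hF hr2 S
    exact isCyclic_of_injective ((inclusion hS).comp ((e.trans f.symm).subgroupMap P).toMonoidHom)
      ((inclusion_injective hS).comp ((e.trans f.symm).subgroupMap P).injective)

variable (hC : Classes D)
include hC

/-- Every square is a product of commutators. -/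
theorem Classes.sq_mem_commutator (g : G) : g ^ 2 ∈ _root_.commutator G := by
  rw [← Abelianization.ker_of G, MonoidHom.mem_ker, map_pow]
  have hg : g ∈ closure D := by rw [hC.gen]; exact mem_top g
  induction hg using closure_induction with
  | mem y hy => rw [← map_pow, pow_two, hC.sq hy, map_one]
  | one => rw [map_one, one_pow]
  | mul a b _ _ iha ihb => rw [map_mul, mul_pow, iha, ihb, one_mul]
  | inv a _ iha => rw [map_inv, inv_pow, iha, inv_one]

theorem Classes.center_sq {z : G} (hz : z ∈ center G) (h2 : z * z = 1) : z = 1 := by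
  have h1 : (zpowers z).Normal :=
    ⟨fun n hn g => by
      rw [mem_center_iff.1 (zpowers_le.2 hz hn) g, mul_inv_cancel_right]; exact hn⟩
  have hp : IsPGroup 2 (zpowers z) := fun n => ⟨1, Subtype.ext (by
    obtain ⟨k, hk⟩ := mem_zpowers_iff.1 n.2
    have h0 : (z ^ k) ^ (2 ^ 1 : ℕ) = 1 := by
      rw [← zpow_natCast (z ^ k), ← zpow_mul, mul_comm, zpow_mul, zpow_natCast, pow_one, pow_two, h2,
        one_zpow]
    rw [SubgroupClass.coe_pow, ← hk, h0]; rfl)⟩
  have := hC.core _ h1 hp
  rwa [zpowers_eq_bot] at this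

variable (hB : Below G)
include hB

/-- **The centre is trivial.** -/
theorem Classes.center_eq_bot : center G = ⊥ := by
  classical
  by_contra hne
  set Z := center G with hZ
  haveI : Fact (Nat.Prime 2) := ⟨Nat.prime_two⟩
  have hZodd : Odd (Nat.card Z) := by
    rw [← Nat.not_even_iff_odd, even_iff_two_dvd]
    intro h2
    obtain ⟨z, hz⟩ := exists_prime_orderOf_dvd_card' 2 h2
    have h1 : (z : G) = 1 := hC.center_sq z.2 (by
      have := pow_orderOf_eq_one z
      rw [hz, pow_two] at this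
      exact congrArg Subtype.val this)
    rw [← Subgroup.orderOf_coe, h1, orderOf_one] at hz
    omega
  set π := QuotientGroup.mk' Z with hπ
  set Db : Set (G ⧸ Z) := π '' D with hDb
  have hlift : ∀ a ∈ D, ∀ b ∈ D, Commute (π a) (π b) → Commute a b := by
    intro a ha b hb hc
    have h2 : (a * b) ^ 2 ∈ Z := by
      rw [← QuotientGroup.eq_one_iff]
      show π ((a * b) ^ 2) = 1
      rw [map_pow, map_mul, hc.mul_pow, ← map_pow, ← map_pow, pow_two, pow_two, hC.sq ha, hC.sq hb,
        map_one, one_mul]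
    refine GenA.OddTransp.comm_of_four hC.toOT ha hb ?_
    have h3 : a * (a * b) ^ 2 * a = ((a * b) ^ 2)⁻¹ := by
      rw [pow_two, mul_inv_rev, mul_inv_rev, hC.toOT.inv ha, hC.toOT.inv hb]
      rw [show a * (a * b * (a * b)) * a = a * a * b * (a * b * a) by simp only [mul_assoc], hC.sq ha,
        one_mul]
      simp only [mul_assoc]
    rw [mem_center_iff.1 h2 a, mul_assoc, hC.sq ha, mul_one] at h3
    rw [show 4 = 2 * 2 from rfl, pow_mul, pow_two ((a * b) ^ 2)]
    nth_rewrite 1 [h3]
    exact inv_mul_cancel _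
  have hinj : ∀ a ∈ D, ∀ b ∈ D, π a = π b → a = b := by
    intro a ha b hb he
    have hc := hlift a ha b hb (by rw [he])
    have h1 : a * b = 1 := hC.center_sq ((QuotientGroup.eq_one_iff (a * b)).1 (by
      show π (a * b) = 1
      rw [map_mul, he, ← map_mul, hC.sq hb, map_one])) (GenA.OddTransp.sq_mul (hC.sq ha) (hC.sq hb) hc)
    rw [eq_inv_of_mul_eq_one_left h1, hC.toOT.inv hb]
  have hotb : GenA.OddTransp.OT Db := by
    refine ⟨?_, ?_, ?_⟩
    · rintro _ ⟨a, ha, rfl⟩
      refine orderOf_eq_prime (by rw [← map_pow, pow_two, hC.sq ha, map_one]) fun h1 => ?_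
      exact hC.toOT.ne_one ha (hC.center_sq ((QuotientGroup.eq_one_iff a).1 h1) (hC.sq ha))
    · rintro _ ⟨a, ha, rfl⟩ q
      obtain ⟨g, rfl⟩ := QuotientGroup.mk'_surjective Z q
      exact ⟨g * a * g⁻¹, hC.conj a ha g, by simp [π]⟩
    · rintro _ ⟨a, ha, rfl⟩ _ ⟨b, hb, rfl⟩
      rcases hC.pair a ha b hb with h1 | h1
      · exact Or.inl (h1.map π)
      · exact Or.inr (h1.of_dvd_nat (by rw [← map_mul]; exact orderOf_map_dvd π _))
  have hCb : Classes Db := by
    refine
      { toOT := hotb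
        trans := ?_
        prod := ?_
        gen := ?_
        core := ?_
        big := ?_
        conjugate := ?_
        pairGen := ?_ }
    · rintro _ ⟨a, ha, rfl⟩ _ ⟨b, hb, rfl⟩ _ ⟨c, hc, rfl⟩ hab hbc
      exact (hC.trans a ha b hb c hc (hlift a ha b hb hab) (hlift b hb c hc hbc)).map π
    · rintro _ ⟨a, ha, rfl⟩ _ ⟨b, hb, rfl⟩ hab hne'
      exact ⟨a * b, hC.prod a ha b hb (hlift a ha b hb hab) fun h => hne' (by rw [h]), map_mul π a b⟩
    · rw [hDb, ← MonoidHom.map_closure, hC.gen, map_top_of_surjective π (QuotientGroup.mk'_surjective Z)]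
    · intro M hM hp
      haveI := hM
      set M' := M.comap π with hM'
      have hker : (π.subgroupComap M).ker ≤ center M' := fun x hx => by
        have h1 : (x : G) ∈ Z := (QuotientGroup.eq_one_iff _).1 (congrArg Subtype.val hx)
        exact mem_center_iff.2 fun y => Subtype.ext (mem_center_iff.1 h1 y)
      haveI : Group.IsNilpotent M := hp.isNilpotent
      haveI : Group.IsNilpotent M' := Subgroup.isNilpotent_of_ker_le_center (π.subgroupComap M) hker
      obtain ⟨P⟩ : Nonempty (Sylow 2 M') := inferInstance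
      haveI : (P : Subgroup M').Normal := inferInstance
      have hP : Cfsg.pCore 2 M' = ⊥ := by
        haveI : M'.Normal := hM.comap π
        have h1 := hC.core ((Cfsg.pCore 2 M').map M'.subtype) inferInstance
          ((Cores.pCore_isPGroup 2).map _)
        exact (map_eq_bot_iff_of_injective _ M'.subtype_injective).1 h1
      have hodd : ¬ 2 ∣ Nat.card M' := fun h2 => by
        have h3 := P.dvd_card_of_dvd_card h2
        have h4 : (P : Subgroup M') = ⊥ := le_bot_iff.1 (hP ▸ Cores.le_pCore P.2)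
        rw [h4, Subgroup.card_bot] at h3
        omega
      rw [eq_bot_iff_forall]
      intro q hq
      obtain ⟨x, rfl⟩ := QuotientGroup.mk'_surjective Z q
      obtain ⟨k, hk⟩ := hp ⟨_, hq⟩
      have hx : orderOf (π x) ∣ 2 ^ k := orderOf_dvd_of_pow_eq_one (congrArg Subtype.val hk)
      have hx2 : orderOf (π x) ∣ Nat.card M' :=
        (orderOf_map_dvd π x).trans (Subgroup.orderOf_dvd_natCard M' hq)
      have h5 : Nat.Coprime (2 ^ k) (Nat.card M') :=
        (Nat.prime_two.coprime_iff_not_dvd.2 hodd).pow_left k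
      exact orderOf_eq_one_iff.1 (Nat.eq_one_of_dvd_coprimes h5 hx hx2)
    · rintro _ ⟨a, ha, rfl⟩
      obtain ⟨b, hb, hab, hne'⟩ := hC.big a ha
      exact ⟨π b, ⟨b, hb, rfl⟩, hab.map π, fun he => hne' (hinj b hb a ha he)⟩
    · rintro _ ⟨a, ha, rfl⟩ _ ⟨b, hb, rfl⟩
      obtain ⟨g, hg⟩ := hC.conjugate a ha b hb
      exact ⟨π g, by rw [← hg]; simp⟩
    · obtain ⟨a, ha, x, hx, hax, hgen⟩ := hC.pairGen
      refine ⟨π a, ⟨a, ha, rfl⟩, π x, ⟨x, hx, rfl⟩, fun hc => hax (hlift a ha x hx hc), ?_⟩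
      rw [eq_top_iff, ← map_top_of_surjective π (QuotientGroup.mk'_surjective Z), ← hgen,
        MonoidHom.map_closure]
      refine closure_mono ?_
      rintro _ ⟨y, hy | rfl, rfl⟩
      · exact Or.inl ⟨⟨y, hy.1, rfl⟩, hy.2.map π⟩
      · exact Or.inr rfl
  have hcard : Nat.card (G ⧸ Z) < Nat.card G := by
    rw [Subgroup.card_eq_card_quotient_mul_card_subgroup Z]
    exact lt_mul_of_one_lt_right Nat.card_pos (Z.one_lt_card_iff_ne_bot.2 hne)
  have hQ := hB (G ⧸ Z) hcard Db hCb
  obtain ⟨r, hr, hrd⟩ := Nat.exists_prime_and_dvd (n := Nat.card Z)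
    (fun h1 => hne (Subgroup.card_eq_one.1 h1))
  haveI : Fact r.Prime := ⟨hr⟩
  have hr2 : r ≠ 2 := fun h1 => by
    rw [h1] at hrd
    exact (Nat.not_even_iff_odd.2 hZodd) (even_iff_two_dvd.2 hrd)
  obtain ⟨w, hw⟩ := exists_prime_orderOf_dvd_card' r hrd
  have hwo : orderOf (w : G) = r := by rw [Subgroup.orderOf_coe, hw]
  obtain ⟨P, hP⟩ := (IsPGroup.of_card (n := 1) (G := zpowers (w : G))
    (by rw [Nat.card_zpowers, hwo, pow_one])).exists_le_sylow
  let f : (P : Subgroup G) →* G ⧸ Z := π.comp (P : Subgroup G).subtype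
  haveI : IsCyclic f.range := isCyclic_of_concl hQ hr2
    (P.2.of_surjective f.rangeRestrict (MonoidHom.rangeRestrict_surjective f))
  have hkerf : f.ker ≤ center (P : Subgroup G) := fun p hp =>
    mem_center_iff.2 fun q => Subtype.ext
      (mem_center_iff.1 ((QuotientGroup.eq_one_iff (p : G)).1 hp) q)
  have hPab : ∀ p ∈ (P : Subgroup G), ∀ q ∈ (P : Subgroup G), p * q = q * p := fun p hp q hq =>
    congrArg Subtype.val ((f.rangeRestrict.isMulCommutative_of_isCyclic_of_ker_le_center
      (by rwa [MonoidHom.ker_rangeRestrict])).is_comm.comm (⟨p, hp⟩ : (P : Subgroup G)) ⟨q, hq⟩)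
  have hwd : (w : G) ∈ _root_.commutator G := by
    obtain ⟨l, hl⟩ := hr.odd_of_ne_two hr2
    have h1 := pow_mem (hC.sq_mem_commutator (w : G)) (l + 1)
    rwa [← pow_mul, show 2 * (l + 1) = orderOf (w : G) + 1 by omega, pow_succ, pow_orderOf_eq_one,
      one_mul] at h1
  have h2 := EqConjOdd.eq_one_of_central P hPab (hP (mem_zpowers (w : G))) w.2 hwd
  rw [h2, orderOf_one] at hwo
  exact hr.one_lt.ne hwo

end Cfsg.Agent.OddTranspX
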