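import Cfsg.Agent.Lib.OddTranspX.Defs
import Cfsg.Agent.Lib.Involutions.RankOne.Char.Main
import Cfsg.Agent.Lib.Involutions.RankOne.Char.TwoGroup
import Cfsg.Agent.Lib.Involutions.RankOne.U3.WNeBot
import Cfsg.Agent.Lib.Forms.SolubilizerPSL2.Inst

/-!
# Odd transpositions: midpoints from a line, and the regular endgame

A subgroup `PSL₂(2^n)` containing two non-commuting members gives a midpoint.  If the centralizer of
a class is regular on the other classes the group is `PSL₂(q)` or `Sz(q)`; in the unitary case of the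
rank one classification an element of the two-point stabiliser would centralize the class.
-/

set_option autoImplicit false
set_option linter.style.haveILetI false
set_option linter.unusedSectionVars false
set_option linter.unusedSimpArgs false

namespace Cfsg.Agent.OddTranspX

open Subgroup MulAction

universe u

variable {G : Type u} [Group G] [Finite G] {D : Set G}

/-- Two members with a product of order three give a midpoint. -/
theorem hasMid_of_three (h : ClassGroups D) {u y : G} (hu : u ∈ D) (hy : y ∈ D) (hne : u ≠ y)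
    (h3 : (u * y) ^ 3 = 1) : h.HasMid := by
  have huu := h.sq hu
  have hyy := h.sq hy
  have hnc : ¬ Commute u y := by
    intro hc
    refine hne ?_
    have h2 : (u * y) ^ 2 = 1 := by rw [pow_two]; exact GenA.OddTransp.sq_mul huu hyy hc
    rw [show 3 = 2 + 1 from rfl, pow_succ, h2, one_mul] at h3
    rw [eq_inv_of_mul_eq_one_left h3, h.toOT.inv hy]
  have hm : u * y * u ∈ D := h.toOT.conj2 hy huu
  refine ⟨h.pt u hu, h.pt y hy, fun e => hnc (h.pt_eq_iff.1 e), u, h.self_mem_grp hu,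
    u * y * u, hm, ?_, ?_⟩
  · refine (h.smul_pt _ _).trans (h.pt_eq_iff.2 ?_)
    have e : u * y * u * u * (u * y * u) = y :=
      calc u * y * u * u * (u * y * u) = u * y * (u * u) * (u * y * u) := by group
        _ = u * y * u * y * u := by rw [huu, mul_one]; group
        _ = y⁻¹ := eq_inv_of_mul_eq_one_left (by rw [← h3]; simp [pow_succ, mul_assoc])
        _ = y := h.toOT.inv hy
    rw [h.toOT.inv hm, e]
  · refine Eq.trans (h.pt_eq_iff.2 ?_) (h.smul_pt u hy).symm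
    rw [h.toOT.inv hu]

/-- A line inside a subgroup mapping onto `PSL₂(2^n)` with kernel a `2`-group gives a midpoint. -/
theorem hasMid_of_cover (h : ClassGroups D) (U : Subgroup G) {F : Type} [Field F] [Fintype F] [CharP F 2]
    (φ : U →* Matrix.ProjectiveSpecialLinearGroup (Fin 2) F) (hφ : Function.Surjective φ)
    (hker : IsPGroup 2 φ.ker) {a f : G} (ha : a ∈ D) (hf : f ∈ D)
    (haU : a ∈ U) (hfU : f ∈ U) (hnc : ¬ Commute a f) : h.HasMid := by
  haveI : Fact (Nat.Prime 2) := ⟨Nat.prime_two⟩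
  have hT := Forms.DicksonAction.twoPt (F := F) 2
  -- a product of odd order in the kernel is trivial
  have hodd1 : ∀ w : U, φ w = 1 → Odd (orderOf w) → w = 1 := fun w hw ho => by
    obtain ⟨k, hk⟩ := hker ⟨w, hw⟩
    exact RootInvolutions.Basic.eq_one_of_odd ho (congrArg Subtype.val hk)
  have haf : Odd (orderOf ((⟨a, haU⟩ : U) * ⟨f, hfU⟩)) := by
    rw [← Subgroup.orderOf_coe]; exact (h.pair a ha f hf).resolve_left hnc
  set A := φ ⟨a, haU⟩ with hA
  set B := φ ⟨f, hfU⟩ with hB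
  have hAB : ¬ Commute A B := fun hc => hnc (by
    have h1 : φ (((⟨a, haU⟩ : U) * ⟨f, hfU⟩) ^ 2) = 1 := by
      have hAA : A * A = 1 := by
        rw [hA, ← map_mul, show (⟨a, haU⟩ : U) * ⟨a, haU⟩ = 1 from Subtype.ext (h.sq ha), map_one]
      have hBB : B * B = 1 := by
        rw [hB, ← map_mul, show (⟨f, hfU⟩ : U) * ⟨f, hfU⟩ = 1 from Subtype.ext (h.sq hf), map_one]
      rw [map_pow, map_mul, pow_two]
      exact GenA.OddTransp.sq_mul hAA hBB hc
    have h2 := hodd1 _ h1 (haf.of_dvd_nat (orderOf_pow_dvd 2))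
    exact RootInvolutions.Basic.commute_of_sq_eq_one (h.sq ha) (h.sq hf) (congrArg Subtype.val h2))
  have hA2 : orderOf A = 2 := by
    refine orderOf_eq_prime ?_ fun h1 => hAB (by rw [h1]; exact Commute.one_left B)
    rw [hA, ← map_pow, show (⟨a, haU⟩ : U) ^ 2 = 1 from Subtype.ext (by
      rw [SubgroupClass.coe_pow, pow_two]; exact h.sq ha), map_one]
  have hB2 : orderOf B = 2 := by
    refine orderOf_eq_prime ?_ fun h1 => hAB (by rw [h1]; exact Commute.one_right A)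
    rw [hB, ← map_pow, show (⟨f, hfU⟩ : U) ^ 2 = 1 from Subtype.ext (by
      rw [SubgroupClass.coe_pow, pow_two]; exact h.sq hf), map_one]
  have hne1 : ∀ {T : Matrix.ProjectiveSpecialLinearGroup (Fin 2) F}, orderOf T = 2 → T ≠ 1 :=
    fun {T} h2 h1 => by rw [h1, orderOf_one] at h2; omega
  have hconj : ∀ S T : Matrix.ProjectiveSpecialLinearGroup (Fin 2) F, orderOf S = 2 → orderOf T = 2 →
      ¬ Commute S T → IsConj S T := by
    intro S T hS hT2 hST
    have hSS : S * S = 1 := by rw [← pow_two]; exact orderOf_dvd_iff_pow_eq_one.1 hS.dvd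
    have hTT : T * T = 1 := by rw [← pow_two]; exact orderOf_dvd_iff_pow_eq_one.1 hT2.dvd
    have hodd : Odd (orderOf (S * T)) := by
      by_contra he
      rw [Nat.not_odd_iff_even, even_iff_two_dvd] at he
      exact hST (RootInvolutions.Basic.commute_of_sq_eq_one hSS hTT
        (orderOf_dvd_iff_pow_eq_one.1 (hT.orderOf_eq he).dvd))
    obtain ⟨l, hl⟩ := hodd
    have hTi : T⁻¹ = T := inv_eq_of_mul_eq_one_right hTT
    have hSi : S⁻¹ = S := inv_eq_of_mul_eq_one_right hSS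
    have hr : S * (S * T) * S⁻¹ = (S * T)⁻¹ := by
      rw [mul_inv_rev, hTi, hSi, ← mul_assoc, hSS, one_mul]
    have h1 : S * ((S * T) ^ l)⁻¹ = (S * T) ^ l * S := by
      rw [← mul_inv_eq_iff_eq_mul, ← inv_pow, ← conj_pow,
        show S * (S * T)⁻¹ * S⁻¹ = (S * (S * T) * S⁻¹)⁻¹ by group, hr, inv_inv]
    refine isConj_iff.2 ⟨(S * T) ^ l, ?_⟩
    have h2 : (S * T) ^ (2 * l) = (S * T)⁻¹ :=
      eq_inv_of_mul_eq_one_left (by rw [← pow_succ, ← hl, pow_orderOf_eq_one])
    rw [mul_assoc, h1, ← mul_assoc, ← pow_add, ← two_mul, h2, mul_inv_rev, hTi, hSi, mul_assoc, hSS,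
      mul_one]
  have hmem : ∀ T, orderOf T = 2 → ∃ t : U, (t : G) ∈ D ∧ φ t = T := by
    intro T hT2
    have key : IsConj A T := by
      by_cases hAT : Commute A T
      · refine (hconj A B hA2 hB2 hAB).trans (hconj B T hB2 hT2 fun hBT => ?_)
        obtain ⟨x, hx⟩ := hT.exists_fixed (hne1 hT2)
        have hAx := (hT.cent_p hT2 hx hAT).1
        have hBx := (hT.cent_p hT2 hx hBT).1
        exact hAB (hT.comm x A B hAx hBx hA2 hB2)
      · exact hconj A T hA2 hT2 hAT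
    obtain ⟨c, hc⟩ := isConj_iff.1 key
    obtain ⟨c, rfl⟩ := hφ c
    exact ⟨c * ⟨a, haU⟩ * c⁻¹, h.conj a ha (c : G), by rw [map_mul, map_mul, map_inv, ← hA, hc]⟩
  -- two involutions with product of order three
  let u₁ : Matrix.SpecialLinearGroup (Fin 2) F := ⟨!![1, 1; 0, 1], by simp [Matrix.det_fin_two]⟩
  let u₂ : Matrix.SpecialLinearGroup (Fin 2) F := ⟨!![1, 0; 1, 1], by simp [Matrix.det_fin_two]⟩
  have h2F : (2 : F) = 0 := CharTwo.two_eq_zero
  have hne : ∀ w : Matrix.SpecialLinearGroup (Fin 2) F, (w : Matrix (Fin 2) (Fin 2) F) 0 1 ≠ 0 ∨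
      (w : Matrix (Fin 2) (Fin 2) F) 1 0 ≠ 0 → Forms.KleinPSL.pi F w ≠ 1 := by
    intro w hw h1
    rcases Forms.KleinPSL.pi_eq_one.1 h1 with rfl | rfl <;> simp at hw
  have hsq : ∀ w : Matrix.SpecialLinearGroup (Fin 2) F, w ^ 2 = 1 → Forms.KleinPSL.pi F w ≠ 1 →
      orderOf (Forms.KleinPSL.pi F w) = 2 := fun w hw h1 =>
    orderOf_eq_prime (by rw [← map_pow, hw, map_one]) h1
  have hu₁ : u₁ ^ 2 = 1 := by
    refine Subtype.ext ?_
    simp only [Matrix.SpecialLinearGroup.coe_pow, Matrix.SpecialLinearGroup.coe_mul,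
      Matrix.SpecialLinearGroup.coe_one]
    ext i j
    fin_cases i <;> fin_cases j <;> simp [u₁, pow_two, one_add_one_eq_two, h2F]
  have hu₂ : u₂ ^ 2 = 1 := by
    refine Subtype.ext ?_
    simp only [Matrix.SpecialLinearGroup.coe_pow, Matrix.SpecialLinearGroup.coe_mul,
      Matrix.SpecialLinearGroup.coe_one]
    ext i j
    fin_cases i <;> fin_cases j <;> simp [u₂, pow_two, one_add_one_eq_two, h2F]
  have hu₃ : (u₁ * u₂) ^ 3 = 1 := by
    refine Subtype.ext ?_
    simp only [Matrix.SpecialLinearGroup.coe_pow, Matrix.SpecialLinearGroup.coe_mul,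
      Matrix.SpecialLinearGroup.coe_one]
    ext i j
    fin_cases i <;> fin_cases j <;> simp [u₁, u₂, pow_succ, one_add_one_eq_two, h2F]
  obtain ⟨t₁, ht₁, hφ₁⟩ := hmem _ (hsq u₁ hu₁ (hne u₁ (Or.inl (by simp [u₁]))))
  obtain ⟨t₂, ht₂, hφ₂⟩ := hmem _ (hsq u₂ hu₂ (hne u₂ (Or.inr (by simp [u₂]))))
  have h12 : φ (t₁ * t₂) ≠ 1 := by
    rw [map_mul, hφ₁, hφ₂, ← map_mul]
    exact hne _ (Or.inl (by rw [Matrix.SpecialLinearGroup.coe_mul]; simp [u₁, u₂]))
  have h3 : φ ((t₁ * t₂) ^ 3) = 1 := by rw [map_pow, map_mul, hφ₁, hφ₂, ← map_mul, ← map_pow, hu₃, map_one]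
  refine hasMid_of_three h ht₁ ht₂ (fun heq => h12 ?_) ?_
  · rw [show t₁ * t₂ = 1 from Subtype.ext (by
      rw [Subgroup.coe_mul, ← heq, h.sq ht₁, OneMemClass.coe_one]), map_one]
  rcases h.pair _ ht₁ _ ht₂ with hc | ho
  · exfalso
    have h2 : (t₁ * t₂) ^ 2 = 1 := Subtype.ext (by
      rw [SubgroupClass.coe_pow, pow_two, Subgroup.coe_mul]
      exact GenA.OddTransp.sq_mul (h.sq ht₁) (h.sq ht₂) hc)
    rw [pow_succ, h2, one_mul] at h3
    exact h12 h3
  · rw [← Subgroup.coe_mul, Subgroup.orderOf_coe] at ho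
    exact congrArg Subtype.val (hodd1 _ h3 (ho.of_dvd_nat (orderOf_pow_dvd 3)))

/-- A line inside a subgroup `PSL₂(2^n)` gives a midpoint. -/
theorem hasMid_of_line (h : ClassGroups D) (U : Subgroup G) {F : Type} [Field F] [Fintype F] [CharP F 2]
    (e : U ≃* Matrix.ProjectiveSpecialLinearGroup (Fin 2) F) {a f : G} (ha : a ∈ D) (hf : f ∈ D)
    (haU : a ∈ U) (hfU : f ∈ U) (hnc : ¬ Commute a f) : h.HasMid :=
  hasMid_of_cover h U e.toMonoidHom e.surjective
    (by rw [(MonoidHom.ker_eq_bot_iff _).2 e.injective]; exact IsPGroup.of_bot) ha hf haU hfU hnc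

/-- The rank one set-up of the regular case. -/
theorem regular_setup (h : ClassGroups D)
    (hbig : ∃ a ∈ D, ∃ b ∈ D, Commute a b ∧ b ≠ a) (hodd : h.OddPair)
    (h2 : h.TwoTrans) {E X : h.Pt} (hEX : E ≠ X)
    (hfaith : ∀ k ∈ h.pairStab E X, (∀ v ∈ h.grp E, Commute k v) → k = 1)
    (hdec : ∀ g : G, g • E = E → ∃ μ k : G, (∀ v ∈ h.grp E, Commute μ v) ∧
      k ∈ h.pairStab E X ∧ g = μ * k) {m : G} (hm : m ∈ h.swappers E X) :
    FaithfulSMul G h.Pt ∧ Cfsg.IsRankOneSetup G h.Pt E m (centralizer (h.grp E : Set G)) ∧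
      ∃ x y : G, x ≠ 1 ∧ y ≠ 1 ∧ x ≠ y ∧ x * x = 1 ∧ y * y = 1 ∧ x * y = y * x := by
  classical
  obtain ⟨a, ha, haE⟩ := h.exists_pt E
  set M : Subgroup G := centralizer (h.grp E : Set G) with hM
  have hMfix : ∀ g ∈ M, g • E = E := fun g hg => by
    have hc : a * g = g * a := mem_centralizer_iff.1 hg a (haE ▸ h.self_mem_grp ha)
    rw [← haE, h.smul_pt, h.pt_eq_iff, ← hc, mul_inv_cancel_right]
  have hstab : ∀ {g : G}, g ∈ h.pairStab E X ↔ g • E = E ∧ g • X = X := fun {g} =>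
    Subgroup.mem_inf.trans (and_congr mem_stabilizer_iff mem_stabilizer_iff)
  have hfaithful : FaithfulSMul G h.Pt := by
    refine ⟨fun {g₁ g₂} hg => ?_⟩
    have hg' : ∀ A : h.Pt, (g₂⁻¹ * g₁) • A = A := fun A => by rw [mul_smul, hg A, inv_smul_smul]
    refine (inv_mul_eq_one.1 (hfaith _ (hstab.2 ⟨hg' E, hg' X⟩) fun v hv => ?_)).symm
    set g := g₂⁻¹ * g₁
    have h1 := h.grp_conj_fix (hg' E) hv
    have h2' : ((g * v * g⁻¹)⁻¹ * v) • X = X := by
      rw [mul_smul, inv_smul_eq_iff, mul_smul, mul_smul, inv_smul_eq_iff.2 (hg' X).symm, hg']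
    exact mul_inv_eq_iff_eq_mul.1
      (inv_mul_eq_one.1 (h.grp_semiregular (mul_mem (inv_mem h1) hv) h2' hEX.symm))
  haveI := hfaithful
  have hor : ∀ A B : h.Pt, ∃ g : G, g • A = B := fun A B => by
    by_cases hAB : A = B
    · exact ⟨1, by rw [one_smul, hAB]⟩
    obtain ⟨p, hp, hpA⟩ := h.exists_pt A
    obtain ⟨q, hq, hqB⟩ := h.exists_pt B
    obtain ⟨g, hg, -⟩ := h.exists_swapper hpA hqB hAB
    exact ⟨g, hg.2⟩
  have hpair : ∀ A B : h.Pt, A ≠ B → ∃ g : G, g • E = A ∧ g • X = B := fun A B hAB => by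
    obtain ⟨g, hg⟩ := hor E A
    obtain ⟨k, hk, hkX⟩ := h2 E X (g⁻¹ • B) hEX.symm fun e => hAB (by rw [← hg, ← e, smul_inv_smul])
    exact ⟨g * k, by rw [mul_smul, hk, hg], by rw [mul_smul, hkX, smul_inv_smul]⟩
  have hVM : h.grp E ≤ M := fun v hv => mem_centralizer_iff.2 fun w hw => (h.grp_comm hw hv).eq
  have hsetup : Cfsg.IsRankOneSetup G h.Pt E m M := by
    refine ⟨?_, h.sq hm.1, h.toOT.ne_one hm.1, fun e => hEX ((mem_stabilizer_iff.1 e).symm.trans hm.2),
      fun g hg => mem_stabilizer_iff.2 (hMfix g hg), ?_, ?_, ?_, ?_, ?_⟩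
    · rw [is_two_pretransitive_iff]
      intro p q r s hpq hrs
      obtain ⟨g, hgp, hgq⟩ := hpair p q hpq
      obtain ⟨k, hkr, hks⟩ := hpair r s hrs
      exact ⟨k * g⁻¹, by rw [mul_smul, ← hgp, inv_smul_smul, hkr],
        by rw [mul_smul, ← hgq, inv_smul_smul, hks]⟩
    · intro g hg y hy
      refine mem_centralizer_iff.2 fun v hv => ?_
      have hg' : g⁻¹ • E = E := inv_smul_eq_iff.2 (mem_stabilizer_iff.1 hg).symm
      have hv' := h.grp_conj_fix hg' hv
      rw [inv_inv] at hv'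
      calc v * (g * y * g⁻¹) = g * ((g⁻¹ * v * g) * y) * g⁻¹ := by group
        _ = g * (y * (g⁻¹ * v * g)) * g⁻¹ := by rw [mem_centralizer_iff.1 hy _ hv']
        _ = g * y * g⁻¹ * v := by group
    · refine (eq_bot_iff_forall _).2 fun g hg => ?_
      obtain ⟨hgM, hgX⟩ := mem_inf.1 hg
      rw [mem_stabilizer_iff, hm.2] at hgX
      exact hfaith g (hstab.2 ⟨hMfix g hgM, hgX⟩) fun v hv => (mem_centralizer_iff.1 hgM v hv).symm
    · rw [hm.2]
      refine le_antisymm (sup_le (fun g hg => mem_stabilizer_iff.2 (hMfix g hg)) inf_le_left) fun g hg => ?_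
      obtain ⟨μ, k, hμ, hk, rfl⟩ := hdec g (mem_stabilizer_iff.1 hg)
      exact mul_mem (mem_sup_left (mem_centralizer_iff.2 fun v hv => (hμ v hv).eq.symm)) (mem_sup_right hk)
    · refine even_iff_two_dvd.2 ?_
      rw [← h.ord a ha]
      exact Subgroup.orderOf_dvd_natCard M (hVM (haE ▸ h.self_mem_grp ha))
    · rw [hm.2]; exact hodd E X hEX
  obtain ⟨a₁, ha₁, b, hb, hab, hne⟩ := hbig
  have h22 : ∃ x y : G, x ≠ 1 ∧ y ≠ 1 ∧ x ≠ y ∧ x * x = 1 ∧ y * y = 1 ∧ x * y = y * x :=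
    ⟨a₁, b, h.toOT.ne_one ha₁, h.toOT.ne_one hb, hne.symm, h.sq ha₁, h.sq hb, hab.eq⟩
  exact ⟨hfaithful, hsetup, h22⟩

/-- **The regular endgame.** -/
theorem regular_endgame (h : ClassGroups D) (hgen : closure D = ⊤)
    (hbig : ∃ a ∈ D, ∃ b ∈ D, Commute a b ∧ b ≠ a) (hodd : h.OddPair)
    (h2 : h.TwoTrans) {E X : h.Pt} (hEX : E ≠ X)
    (hfaith : ∀ k ∈ h.pairStab E X, (∀ v ∈ h.grp E, Commute k v) → k = 1)
    (hdec : ∀ g : G, g • E = E → ∃ μ k : G, (∀ v ∈ h.grp E, Commute μ v) ∧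
      k ∈ h.pairStab E X ∧ g = μ * k) : Concl G := by
  classical
  haveI : Fact (Nat.Prime 2) := ⟨Nat.prime_two⟩
  obtain ⟨a, ha, haE⟩ := h.exists_pt E
  obtain ⟨x, hx, hxX⟩ := h.exists_pt X
  obtain ⟨m, hm, -⟩ := h.exists_swapper haE hxX hEX
  obtain ⟨hfaithful, hsetup, h22⟩ := regular_setup h hbig hodd h2 hEX hfaith hdec hm
  haveI := hfaithful
  set M : Subgroup G := centralizer (h.grp E : Set G) with hM
  -- a normal subgroup of odd index contains all members
  have htop : ∀ L : Subgroup G, L.Normal → Odd L.index → L = ⊤ := fun L hLn hLo => by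
    haveI := hLn
    refine eq_top_iff.2 (hgen ▸ (closure_le _).2 fun s hs => ?_)
    rw [SetLike.mem_coe, ← QuotientGroup.eq_one_iff]
    have hd : orderOf (s : G ⧸ L) ∣ Nat.gcd 2 L.index := by
      refine Nat.dvd_gcd (h.ord s hs ▸ orderOf_map_dvd (QuotientGroup.mk' L) s) ?_
      rw [Subgroup.index_eq_card]; exact orderOf_dvd_natCard _
    rwa [Nat.coprime_two_left.2 hLo, Nat.dvd_one, orderOf_eq_one_iff] at hd
  have hQ : IsPGroup 2 M := Involutions.RankOne.Char.isPGroup_two hsetup h22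
  obtain ⟨E', g', n, Fr⟩ := Involutions.RankOne.Char.exists_frame hsetup h22
  obtain ⟨S, O, sp⟩ := Involutions.RankOne.Char.exists_split hsetup h22 Fr
  have hO : O = ⊥ := by
    obtain ⟨k, hk⟩ := IsPGroup.iff_card.1 (hQ.to_le sp.le_O)
    refine Subgroup.card_eq_one.1 ?_
    rcases k with _ | k
    · simpa using hk
    · have := sp.odd_O
      rw [hk, pow_succ] at this
      exact absurd this (by simp [Nat.not_odd_iff_even, Nat.even_mul])
  have hSM : S = M := le_antisymm sp.le_S fun q hq => by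
    obtain ⟨x, hx, y, hy, rfl⟩ := sp.exists_mul q hq
    rw [hO, Subgroup.mem_bot] at hy
    rw [hy, mul_one]; exact hx
  subst hSM
  rcases sp.abelian_or_suzuki hsetup h22 with hA | hP
  · have hcomm : ∀ x ∈ M, ∀ y ∈ M, x * y = y * x := fun x hx y hy =>
      congrArg Subtype.val (hA.is_comm.comm (⟨x, hx⟩ : M) ⟨y, hy⟩)
    obtain ⟨L, hLn, hLo, F, hf, hft, ⟨k, hk, hF⟩, ⟨e⟩⟩ := Involutions.RankOne.exists_pslTwo hsetup h22
      (Cfsg.Agent.S0205.result hsetup.odd_card) (Involutions.RankOne.Char.exponent_two hsetup h22 hQ hcomm)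
    obtain rfl := htop L hLn hLo
    haveI : CharP F 2 := charP_of_card_eq_prime_pow (p := 2) (f := k) hF
    refine Or.inl ⟨F, hf, hft, ‹CharP F 2›, ?_, ⟨Subgroup.topEquiv.symm.trans e⟩⟩
    rw [hF]
    calc 4 = 2 ^ 2 := by norm_num
      _ ≤ 2 ^ k := Nat.pow_le_pow_right (by norm_num) hk
  · have hc := sp.card_center hsetup Fr hP
    have hcard := (Subgroup.center M).card_mul_index
    rw [hc] at hcard
    rcases sp.index_center hsetup Fr hP with e | e <;> rw [e] at hcard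
    · obtain ⟨L, hLn, hLo, F, hf, hft, k, hk, hF, ⟨eL⟩⟩ :=
        Involutions.RankOne.Sz.exists_suzuki hsetup h22 hQ hP (by rw [← hcard, hc, sq])
      obtain rfl := htop L hLn hLo
      exact Or.inr ⟨F, hf, hft, k, hk, hF, ⟨Subgroup.topEquiv.symm.trans eL⟩⟩
    · exfalso
      have hU : Involutions.RankOne.U3.Setting G h.Pt E m M n :=
        ⟨hsetup, h22, hQ, hP, Fr.two_le, hc, by rw [← hcard]; ring⟩
      refine Involutions.RankOne.U3.w_ne_bot hU ((eq_bot_iff_forall _).2 fun g hg => ?_)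
      obtain ⟨hgD, hgz⟩ := (Involutions.RankOne.U3.mem_W_iff hU).1 hg
      rw [hm.2] at hgD
      refine hfaith g hgD fun v hv => ?_
      by_cases hv1 : v = 1
      · rw [hv1]; exact Commute.one_right g
      refine (hgz v ((Involutions.RankOne.U3.mem_involutions_iff hU).1 ?_).1).symm
      exact ⟨mem_stabilizer_iff.2 (h.grp_fix hv), hv1, h.grp_sq hv⟩

/-- **The regular endgame** in the setting of the induction. -/
theorem concl_of_kernel_regular (hC : Classes D) (hodd : hC.toClassGroups.OddPair)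
    (h2 : hC.toClassGroups.TwoTrans) {E X : hC.toClassGroups.Pt} (hEX : E ≠ X)
    (hfaith : ∀ k ∈ hC.toClassGroups.pairStab E X,
      (∀ v ∈ hC.toClassGroups.grp E, Commute k v) → k = 1)
    (hdec : ∀ g : G, g • E = E → ∃ μ k : G, (∀ v ∈ hC.toClassGroups.grp E, Commute μ v) ∧
      k ∈ hC.toClassGroups.pairStab E X ∧ g = μ * k) : Concl G := by
  obtain ⟨a, ha, -⟩ := hC.toClassGroups.exists_pt E
  obtain ⟨b, hb, hab, hne⟩ := hC.big a ha
  exact regular_endgame hC.toClassGroups hC.gen ⟨a, ha, b, hb, hab, hne⟩ hodd h2 hEX hfaith hdec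

end Cfsg.Agent.OddTranspX
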