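import Cfsg.Agent.Lib.OddTranspX.OddPairBasic
import Cfsg.Agent.Lib.OddTranspX.Endgame

/-!
# Without a midpoint the classes have order `2^n` with `n` odd and no involution fixes two classes

Without a midpoint no product of two members has order divisible by three.  So three does not divide
the number `q - 1` of swappers of a pair (they form one class in a group `odd.2`) and `n` is odd.
An involution fixing two classes would centralize the same number `q₀` of elements of each class it
fixes, the fibres of `a ↦ swap(a, a^t)` would give `q₀ - 1 ∣ q - 1`, and `q ≤ q₀²` gives `n = 2 n₀`.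
-/

set_option autoImplicit false
set_option linter.style.haveILetI false
set_option linter.unusedSectionVars false

namespace Cfsg.Agent.OddTranspX

open Subgroup MulAction

universe u

variable {G : Type u} [Group G] [Finite G] {D : Set G}

/-- In a dihedral group of order twice odd the products with the reflection are reflections. -/
theorem ClassGroups.mul_pow_mem (h : ClassGroups D) {u y : G} (hu : u ∈ D) (hy : y ∈ D)
    (hodd : Odd (orderOf (u * y))) (i : ℕ) : u * (u * y) ^ i ∈ D := by
  obtain ⟨l, hl⟩ := hodd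
  have hr : u * (u * y) * u⁻¹ = (u * y)⁻¹ := by
    rw [mul_inv_rev, h.toOT.inv hu, h.toOT.inv hy, ← mul_assoc, h.sq hu, one_mul]
  have h1 : ((u * y) ^ (i * (l + 1)))⁻¹ * u = u * (u * y) ^ (i * (l + 1)) := by
    rw [← inv_pow, ← hr, conj_pow, inv_mul_cancel_right]
  have h2 := h.conj u hu ((u * y) ^ (i * (l + 1)))⁻¹
  rw [inv_inv, h1, mul_assoc, ← pow_add] at h2
  rwa [show i * (l + 1) + i * (l + 1) = i + i * orderOf (u * y) by rw [hl]; ring, pow_add,
    mul_comm i (orderOf (u * y)), pow_mul, pow_orderOf_eq_one, one_pow, mul_one] at h2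

/-- A product of two members of order divisible by three gives a midpoint. -/
theorem hasMid_of_dvd_three (h : ClassGroups D) {u y : G} (hu : u ∈ D) (hy : y ∈ D)
    (h3 : 3 ∣ orderOf (u * y)) : h.HasMid := by
  rcases h.pair u hu y hy with hc | hodd
  · exfalso
    have h2 : (u * y) ^ 2 = 1 := by
      rw [pow_two]; exact GenA.OddTransp.sq_mul (h.sq hu) (h.sq hy) hc
    have := h3.trans (orderOf_dvd_of_pow_eq_one h2)
    omega
  · have hw : orderOf ((u * y) ^ (orderOf (u * y) / 3)) = 3 :=
      orderOf_pow_orderOf_div (orderOf_pos (u * y)).ne' h3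
    refine hasMid_of_three h hu (h.mul_pow_mem hu hy hodd (orderOf (u * y) / 3)) (fun he => ?_) ?_
    · rw [left_eq_mul] at he
      rw [he, orderOf_one] at hw
      omega
    · rw [← mul_assoc, h.sq hu, one_mul]
      calc ((u * y) ^ (orderOf (u * y) / 3)) ^ 3
          = ((u * y) ^ (orderOf (u * y) / 3)) ^ orderOf ((u * y) ^ (orderOf (u * y) / 3)) := by rw [hw]
        _ = 1 := pow_orderOf_eq_one _

/-- A class of members in a group `odd.2`, without a midpoint: its size is prime to three. -/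
theorem three_not_dvd_card (h : ClassGroups D) (hno : ¬ h.HasMid) (S : Set G) (hS : S ⊆ D)
    (hinv : ∀ a ∈ S, ∀ b ∈ S, a * b * a ∈ S)
    (hodd : Odd (Nat.card (closure {g | ∃ a ∈ S, ∃ b ∈ S, g = a * b}))) {m : G} (hm : m ∈ S) :
    ¬ 3 ∣ Nat.card S := by
  classical
  haveI : Fact (Nat.Prime 3) := ⟨Nat.prime_three⟩
  haveI : Fact (Nat.Prime 2) := ⟨Nat.prime_two⟩
  set O := closure {g | ∃ a ∈ S, ∃ b ∈ S, g = a * b} with hO
  have hmD := hS hm
  have hmO : ∀ x ∈ O, m * x * m⁻¹ ∈ O := by
    have hle : O ≤ O.comap (MulAut.conj m).toMonoidHom := by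
      conv_lhs => rw [hO]
      rw [closure_le]
      rintro g ⟨a, ha, b, hb, rfl⟩
      refine subset_closure ⟨m * a * m, hinv m hm a ha, m * b * m, hinv m hm b hb, ?_⟩
      show m * (a * b) * m⁻¹ = m * a * m * (m * b * m)
      rw [h.toOT.inv hmD]
      calc m * (a * b) * m = m * a * (m * m) * b * m := by rw [h.sq hmD, mul_one]; group
        _ = m * a * m * (m * b * m) := by group
    exact fun x hx => hle hx
  have hOS : ∀ x ∈ O, ∀ s ∈ S, x * s * x⁻¹ ∈ S := by
    intro x hx
    induction hx using closure_induction with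
    | mem x hx =>
      obtain ⟨a, ha, b, hb, rfl⟩ := hx
      intro s hs
      have := hinv a ha _ (hinv b hb s hs)
      rw [mul_inv_rev, h.toOT.inv (hS ha), h.toOT.inv (hS hb)]
      simpa [mul_assoc] using this
    | one => intro s hs; simpa using hs
    | mul a b _ _ iha ihb => intro s hs; simpa [mul_assoc] using iha _ (ihb s hs)
    | inv a _ iha =>
      intro s hs
      have hset : (fun s : G => a * s * a⁻¹) '' S = S :=
        Set.eq_of_subset_of_ncard_le (by rintro _ ⟨y, hy, rfl⟩; exact iha y hy)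
          (Set.ncard_image_of_injective _ fun y z hyz => by simpa using hyz).ge (Set.toFinite S)
      rw [← hset] at hs
      obtain ⟨y, hy, rfl⟩ := hs
      simpa [mul_assoc] using hy
  let C : Subgroup O := (centralizer {m}).subgroupOf O
  have hcard : Nat.card S = C.index := by
    rw [Subgroup.index_eq_card]
    refine (Nat.card_eq_of_bijective
      (fun q : O ⧸ C => (⟨(q.out : G) * m * (q.out : G)⁻¹, hOS _ q.out.2 m hm⟩ : S)) ⟨?_, ?_⟩).symm
    · intro p q hpq
      have he : (p.out : G) * m * (p.out : G)⁻¹ = (q.out : G) * m * (q.out : G)⁻¹ :=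
        congrArg Subtype.val hpq
      rw [← p.out_eq, ← q.out_eq]
      refine QuotientGroup.eq.2 (mem_subgroupOf.2 (mem_centralizer_singleton_iff.2 ?_))
      push_cast
      calc (p.out : G)⁻¹ * q.out * m = (p.out : G)⁻¹ * ((q.out : G) * m * (q.out : G)⁻¹) * q.out := by
            group
        _ = (p.out : G)⁻¹ * ((p.out : G) * m * (p.out : G)⁻¹) * q.out := by rw [he]
        _ = m * ((p.out : G)⁻¹ * q.out) := by group
    · rintro ⟨m', hm'⟩
      obtain ⟨g, hgO, hg⟩ : ∃ g ∈ O, g * m * g⁻¹ = m' := by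
        rcases h.pair m hmD m' (hS hm') with hc | ⟨l, hl⟩
        · refine ⟨1, one_mem _, ?_⟩
          by_cases he : m = m'
          · simp [he]
          have hd := orderOf_dvd_of_pow_eq_one (show (m * m') ^ 2 = 1 by
            rw [pow_two]; exact GenA.OddTransp.sq_mul (h.sq hmD) (h.sq (hS hm')) hc)
          have ho : Odd (orderOf (m * m')) := hodd.of_dvd_nat (Subgroup.orderOf_dvd_natCard O
            (subset_closure ⟨m, hm, m', hm', rfl⟩))
          rcases (Nat.dvd_prime Nat.prime_two).1 hd with h1 | h1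
          · rw [orderOf_eq_one_iff] at h1
            exact absurd ((eq_inv_of_mul_eq_one_left h1).trans (h.toOT.inv (hS hm'))) he
          · rw [h1] at ho
            exact absurd ho (by decide)
        · refine ⟨(m * m') ^ l, pow_mem (show m * m' ∈ O from subset_closure ⟨m, hm, m', hm', rfl⟩) l, ?_⟩
          have hr : m * (m * m') * m⁻¹ = (m * m')⁻¹ := by
            rw [mul_inv_rev, h.toOT.inv hmD, h.toOT.inv (hS hm'), ← mul_assoc, h.sq hmD, one_mul]
          have h1 : m * ((m * m') ^ l)⁻¹ = (m * m') ^ l * m := by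
            rw [← mul_inv_eq_iff_eq_mul, ← inv_pow, ← conj_pow,
              show m * (m * m')⁻¹ * m⁻¹ = (m * (m * m') * m⁻¹)⁻¹ by group, hr, inv_inv]
          have h2 : (m * m') ^ (2 * l) = (m * m')⁻¹ :=
            eq_inv_of_mul_eq_one_left (by rw [← pow_succ, ← hl, pow_orderOf_eq_one])
          rw [mul_assoc, h1, ← mul_assoc, ← pow_add, ← two_mul, h2, mul_inv_rev, h.toOT.inv hmD,
            h.toOT.inv (hS hm'), mul_assoc, h.sq hmD, mul_one]
      refine ⟨QuotientGroup.mk ⟨g, hgO⟩, Subtype.ext ?_⟩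
      obtain ⟨c, hc⟩ := QuotientGroup.mk_out_eq_mul C ⟨g, hgO⟩
      show ((QuotientGroup.mk (s := C) (⟨g, hgO⟩ : O)).out : G) * m * _ = m'
      rw [hc, ← hg]
      push_cast
      have hcm : ((c : O) : G) * m = m * ((c : O) : G) :=
        mem_centralizer_singleton_iff.1 (mem_subgroupOf.1 c.2)
      calc g * ((c : O) : G) * m * (g * ((c : O) : G))⁻¹
          = g * (((c : O) : G) * m) * ((c : O) : G)⁻¹ * g⁻¹ := by group
        _ = g * m * g⁻¹ := by rw [hcm]; group
  -- a Sylow 3-subgroup normalized by `m`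
  let c : O →* O := ((MulAut.conj m).toMonoidHom.comp O.subtype).codRestrict O fun x => hmO x x.2
  have hcc : ∀ x : O, c (c x) = x := fun x => Subtype.ext (by
    show m * (m * (x : G) * m⁻¹) * m⁻¹ = x
    rw [h.toOT.inv hmD, GenA.OddTransp.conj_conj (h.sq hmD)])
  have hci : Function.Injective c := Function.LeftInverse.injective hcc
  let act : Sylow 3 O → Sylow 3 O := fun P => Sylow.ofCard ((P : Subgroup O).map c)
    (by rw [card_map_of_injective hci, P.card_eq_multiplicity])
  have hact : ∀ P, act (act P) = P := fun P => Sylow.ext (by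
    show ((P : Subgroup O).map c).map c = P
    rw [map_map, show c.comp c = MonoidHom.id O from MonoidHom.ext hcc, map_id])
  haveI := Fintype.ofFinite (Sylow 3 O)
  obtain ⟨P, hP⟩ := Equiv.Perm.exists_fixed_point_of_prime (p := 2) (n := 1)
    (σ := Function.Involutive.toPerm act hact) (by
      rw [← Nat.card_eq_fintype_card]
      intro h2
      obtain ⟨P₀⟩ : Nonempty (Sylow 3 O) := inferInstance
      exact Nat.not_even_iff_odd.2 hodd (even_iff_two_dvd.2
        (h2.trans (P₀.card_dvd_index.trans (P₀ : Subgroup O).index_dvd_card))))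
    (Equiv.ext fun P => by rw [pow_one, pow_two]; exact hact P)
  have hPfix : (P : Subgroup O).map c = P := congrArg (fun Q : Sylow 3 O => (Q : Subgroup O)) hP
  have hPC : (P : Subgroup O) ≤ C := by
    intro r hr
    by_contra hrC
    have hr' : r⁻¹ * c r ∈ (P : Subgroup O) :=
      mul_mem (inv_mem hr) (hPfix ▸ mem_map_of_mem c hr)
    have hne : r⁻¹ * c r ≠ 1 := fun h1 => hrC (mem_subgroupOf.2 (mem_centralizer_singleton_iff.2 (by
      rw [inv_mul_eq_one] at h1
      have h2 : (r : G) = m * r * m⁻¹ := congrArg Subtype.val h1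
      exact mul_inv_eq_iff_eq_mul.1 h2.symm |>.symm)))
    obtain ⟨k, hk⟩ := P.2 ⟨_, hr'⟩
    have hk' : (r⁻¹ * c r) ^ 3 ^ k = 1 := congrArg Subtype.val hk
    obtain ⟨j, hj, hj'⟩ := (Nat.dvd_prime_pow Nat.prime_three).1 (orderOf_dvd_of_pow_eq_one hk')
    rcases j with _ | j
    · exact hne (orderOf_eq_one_iff.1 (by rw [hj', pow_zero]))
    refine hno (hasMid_of_dvd_three h (h.conj m hmD (r : G)⁻¹) hmD ?_)
    have e : (r : G)⁻¹ * m * ((r : G)⁻¹)⁻¹ * m = ((r⁻¹ * c r : O) : G) := by
      rw [inv_inv]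
      show (r : G)⁻¹ * m * r * m = (r : G)⁻¹ * (m * r * m⁻¹)
      rw [h.toOT.inv hmD]; group
    rw [e, Subgroup.orderOf_coe, hj']
    exact dvd_pow_self 3 (Nat.succ_ne_zero j)
  rw [hcard]
  exact fun h3 => P.not_dvd_index (h3.trans (index_dvd_of_le hPC))

/-- There are `q - 1` swappers of a pair of classes. -/
theorem ClassGroups.card_swappers (h : ClassGroups D) {E X : h.Pt} (hEX : E ≠ X) :
    Nat.card (h.swappers E X) = Nat.card {a : G // a ∈ h.grp E ∧ a ≠ 1} := by
  obtain ⟨x, hx, hxX⟩ := h.exists_pt X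
  refine Nat.card_eq_of_bijective (fun m => ⟨(m : G) * x * (m : G)⁻¹,
    by
      have h1 := h.grp_conj (g := (m : G)) (h.self_mem_grp hx)
      rw [hxX, h.swapper_back m.2] at h1
      exact h1,
    fun h1 => h.toOT.ne_one hx (by simpa using h1)⟩) ⟨?_, ?_⟩
  · intro m m' he
    have he' : (m : G) * x * (m : G)⁻¹ = (m' : G) * x * (m' : G)⁻¹ := congrArg Subtype.val he
    rw [h.toOT.inv m.2.1, h.toOT.inv m'.2.1] at he'
    have hnc : ¬ Commute x ((m : G) * x * m) := fun hc => hEX (by
      calc E = (m : G) • X := (h.swapper_back m.2).symm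
        _ = (m : G) • h.pt x hx := by rw [hxX]
        _ = h.pt x hx := h.pt_eq_iff.2 (by rw [h.toOT.inv m.2.1]; exact hc.symm)
        _ = X := hxX)
    obtain ⟨s, -, -, huniq, -⟩ := GenA.OddTransp.swap h.toOT hx (h.toOT.conj2 hx (h.sq m.2.1)) hnc
    exact Subtype.ext ((huniq _ m.2.1 rfl).trans (huniq _ m'.2.1 he'.symm).symm)
  · rintro ⟨a, ha, ha1⟩
    obtain ⟨haD, haE⟩ := ha.resolve_left ha1
    obtain ⟨m, hm, hma⟩ := h.exists_swapper haE hxX hEX
    refine ⟨⟨m, hm⟩, Subtype.ext ?_⟩
    show m * x * m⁻¹ = a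
    rw [h.toOT.inv hm.1, ← hma, GenA.OddTransp.conj_conj (h.sq hm.1)]

/-- The number of non-trivial elements of a finite subgroup. -/
theorem card_ne_one (K : Subgroup G) : Nat.card {a : G // a ∈ K ∧ a ≠ 1} = Nat.card K - 1 := by
  classical
  have e : {a : G // a ∈ K ∧ a ≠ 1} ≃ {a : K // a ≠ 1} :=
    { toFun := fun v => ⟨⟨v, v.2.1⟩, fun h1 => v.2.2 (congrArg Subtype.val h1)⟩
      invFun := fun v => ⟨v.1, v.1.2, fun h1 => v.2 (Subtype.ext h1)⟩
      left_inv := fun _ => rfl
      right_inv := fun _ => rfl }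
  haveI := Fintype.ofFinite K
  rw [Nat.card_congr e, Nat.card_eq_fintype_card (α := {a : K // a ≠ 1}), Fintype.card_subtype_compl,
    Fintype.card_subtype_eq, ← Nat.card_eq_fintype_card]

/-- The order of the group of a class is a power of two. -/
theorem ClassGroups.grp_card (h : ClassGroups D) (E : h.Pt) (U : Subgroup G) (hU : U ≤ h.grp E) :
    ∃ n, Nat.card U = 2 ^ n := by
  haveI : Fact (Nat.Prime 2) := ⟨Nat.prime_two⟩
  exact IsPGroup.iff_card.1 (fun v : U => ⟨1, Subtype.ext (by
    rw [SubgroupClass.coe_pow, pow_one, pow_two]; exact h.grp_sq (hU v.2))⟩)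

/-- **Without a midpoint the classes have order an odd power of two.** -/
theorem odd_exponent (h : ClassGroups D) (hno : ¬ h.HasMid) {E X : h.Pt} (hEX : E ≠ X) :
    ∃ n, Odd n ∧ Nat.card (h.grp E) = 2 ^ n := by
  obtain ⟨n, hn⟩ := h.grp_card E (h.grp E) le_rfl
  refine ⟨n, ?_, hn⟩
  by_contra hev
  rw [Nat.not_odd_iff_even] at hev
  obtain ⟨k, rfl⟩ := hev
  obtain ⟨a, ha, haE⟩ := h.exists_pt E
  obtain ⟨x, hx, hxX⟩ := h.exists_pt X
  obtain ⟨m, hm, -⟩ := h.exists_swapper haE hxX hEX
  refine three_not_dvd_card h hno (h.swappers E X) (fun g hg => hg.1) (fun p hp q hq => ?_)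
    (h.torus_odd hEX) hm ?_
  · have := h.swapper_conj' hp.2 (h.swapper_back hp) hq
    rwa [h.toOT.inv hp.1] at this
  · rw [h.card_swappers hEX, card_ne_one, hn, ← two_mul, pow_mul]
    have h43 := Nat.sub_dvd_pow_sub_pow (2 ^ 2) 1 k
    norm_num at h43 ⊢
    exact h43

/-- The centralizer of `t` in the class group. -/
def ClassGroups.centIn (h : ClassGroups D) (t : G) (A : h.Pt) : Subgroup G :=
  h.grp A ⊓ centralizer {t}

theorem ClassGroups.mem_centIn {h : ClassGroups D} {t : G} {A : h.Pt} {v : G} :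
    v ∈ h.centIn t A ↔ v ∈ h.grp A ∧ Commute t v :=
  mem_inf.trans (and_congr_right fun _ =>
    mem_centralizer_singleton_iff.trans ⟨fun e => e.symm, fun e => e.eq.symm⟩)

/-- An involution centralizes the same number of elements in all classes it fixes. -/
theorem ClassGroups.card_centIn_eq (h : ClassGroups D) {t : G} (ht : t * t = 1) {A B : h.Pt}
    (hA : t • A = A) (hB : t • B = B) : Nat.card (h.centIn t A) = Nat.card (h.centIn t B) := by
  by_cases hAB : A = B
  · rw [hAB]
  suffices key : ∀ A B : h.Pt, t • A = A → t • B = B → A ≠ B →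
      Nat.card (h.centIn t A) ≤ Nat.card (h.centIn t B) from
    le_antisymm (key A B hA hB hAB) (key B A hB hA (Ne.symm hAB))
  intro A B hA hB hAB
  obtain ⟨a, ha, haA, hta⟩ := h.exists_commute_mem ht hA
  obtain ⟨b, hb, hbB, htb⟩ := h.exists_commute_mem ht hB
  have hnc : ¬ Commute a b := fun hc => hAB (haA ▸ hbB ▸ h.pt_eq_iff.2 hc)
  obtain ⟨m, hm, hmab, -, hfix⟩ := GenA.OddTransp.swap h.toOT ha hb hnc
  have htm : Commute t m := hfix t (Or.inl ⟨mul_inv_eq_iff_eq_mul.2 hta.eq, mul_inv_eq_iff_eq_mul.2 htb.eq⟩)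
  have hmA : m • A = B := by
    rw [← haA, ← hbB, h.smul_pt, h.pt_eq_iff, h.toOT.inv hm, hmab]
  refine Nat.card_le_card_of_injective (fun v : h.centIn t A =>
    (⟨m * v * m⁻¹, mem_centIn.2 ⟨hmA ▸ h.grp_conj (mem_centIn.1 v.2).1,
      (htm.mul_right (mem_centIn.1 v.2).2).mul_right htm.inv_right⟩⟩ : h.centIn t B)) fun v w hvw => ?_
  exact Subtype.ext ((MulAut.conj m).injective (congrArg Subtype.val hvw))

/-- **Two-class stabilizers have odd order.** -/
theorem Classes.odd_pair_of_no_mid (hC : Classes D) (hA : hC.toClassGroups.AllGen)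
    (hno : ¬ hC.toClassGroups.HasMid) : hC.toClassGroups.OddPair := by
  classical
  let h := hC.toClassGroups
  intro E X hEX
  rw [← Nat.not_even_iff_odd]
  intro heven
  obtain ⟨t, htp, ht⟩ := Involutions.StronglyEmbedded.exists_involution_mem heven
  obtain ⟨htE, htX⟩ := Subgroup.mem_inf.1 htp
  rw [mem_stabilizer_iff] at htE htX
  have htt : t * t = 1 := by rw [← pow_two]; exact orderOf_dvd_iff_pow_eq_one.1 ht.dvd
  have hti : t⁻¹ = t := inv_eq_of_mul_eq_one_right htt
  have htD : t ∉ D := fun htD => hEX (((h.smul_eq_iff htD).1 htE).trans ((h.smul_eq_iff htD).1 htX).symm)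
  obtain ⟨n, hnodd, hn⟩ := odd_exponent h hno hEX
  obtain ⟨n₀, hn₀⟩ := h.grp_card E (h.centIn t E) inf_le_left
  -- `q₀ > 1`
  obtain ⟨a₀, ha₀, ha₀E, hta₀⟩ := h.exists_commute_mem htt htE
  have hn₀0 : n₀ ≠ 0 := by
    rintro rfl
    rw [pow_zero, Subgroup.card_eq_one] at hn₀
    have : a₀ ∈ h.centIn t E := ClassGroups.mem_centIn.2 ⟨ha₀E ▸ h.self_mem_grp ha₀, hta₀⟩
    rw [hn₀] at this
    exact h.toOT.ne_one ha₀ (Subgroup.mem_bot.1 this)
  -- `q₀ < q`
  have hlt : n₀ < n := by
    by_contra hge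
    refine hC.not_centralize hA ht hEX.symm htX fun v hv => ?_
    have hle : Nat.card (h.grp E) ≤ Nat.card (h.centIn t E) := by
      rw [hn₀, hn]; exact Nat.pow_le_pow_right (by norm_num) (by omega)
    rw [← eq_of_le_of_card_ge inf_le_left hle] at hv
    exact (ClassGroups.mem_centIn.1 hv).2
  -- `q ≤ q₀²`
  have hle2 : n ≤ 2 * n₀ := by
    have hconj : ∀ v ∈ h.grp E, t * v * t ∈ h.grp E := fun v hv => by
      have := h.grp_conj_fix htE hv
      rwa [hti] at this
    let φ : h.grp E →* h.centIn t E :=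
      { toFun := fun v => ⟨v * (t * v * t), ClassGroups.mem_centIn.2 ⟨mul_mem v.2 (hconj v v.2), by
          show t * ((v : G) * (t * v * t)) = (v : G) * (t * v * t) * t
          have hc : (v : G) * (t * v * t) = t * v * t * v := h.grp_comm v.2 (hconj v v.2)
          rw [hc, mul_assoc (t * (v : G) * t) (v : G) t]
          calc t * (t * (v : G) * t * v) = (t * t) * ((v : G) * t * v) := by group
            _ = (v : G) * (t * v * t) * t := by
                rw [htt, one_mul]
                calc (v : G) * t * v = (v : G) * t * v * (t * t) := by rw [htt, mul_one]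
                  _ = (v : G) * (t * v * t) * t := by group
            _ = t * v * t * v * t := by rw [hc]
            _ = t * v * t * (v * t) := by group⟩⟩
        map_one' := Subtype.ext (by simp [htt])
        map_mul' := fun v w => Subtype.ext (by
          show (v : G) * w * (t * ((v : G) * w) * t) = v * (t * v * t) * (w * (t * w * t))
          have hc : (w : G) * (t * v * t) = t * v * t * w := h.grp_comm w.2 (hconj v v.2)
          calc (v : G) * w * (t * ((v : G) * w) * t) = v * (w * (t * v * t)) * (t * t)⁻¹ * (t * w * t) := by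
                group
            _ = _ := by rw [hc, htt, inv_one, mul_one]; group) }
    have hker : φ.ker.map (h.grp E).subtype ≤ h.centIn t E := by
      rintro _ ⟨v, hv, rfl⟩
      have hv' : (v : G) * (t * v * t) = 1 := congrArg Subtype.val hv
      refine ClassGroups.mem_centIn.2 ⟨v.2, ?_⟩
      show t * (v : G) = v * t
      have h1 : t * v * t = (v : G) := by
        rw [eq_inv_of_mul_eq_one_right hv', h.grp_inv v.2]
      calc t * (v : G) = t * v * (t * t) := by rw [htt, mul_one]
        _ = t * v * t * t := by group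
        _ = v * t := by rw [h1]
    have h1 := φ.ker.card_mul_index
    rw [index_ker] at h1
    have h2 : Nat.card φ.ker ≤ 2 ^ n₀ := by
      rw [← hn₀, ← card_map_of_injective (h.grp E).subtype_injective]
      exact Subgroup.card_le_of_le hker
    have h3 : Nat.card φ.range ≤ 2 ^ n₀ := hn₀ ▸ φ.range.card_le_card_group
    have h4 : 2 ^ n ≤ 2 ^ (2 * n₀) := by
      rw [two_mul, pow_add, ← hn, ← h1]; exact Nat.mul_le_mul h2 h3
    exact (Nat.pow_le_pow_iff_right (by norm_num)).1 h4
  -- a moved class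
  obtain ⟨Y, hY⟩ : ∃ Y : h.Pt, t • Y ≠ Y := by
    by_contra hall
    push Not at hall
    refine hC.not_centralize hA ht hEX.symm htX fun v hv => ?_
    have h1 := h.grp_conj_fix htE hv
    have h2 : ((t * v * t⁻¹)⁻¹ * v) • X = X := by
      rw [mul_smul, inv_smul_eq_iff, mul_smul, mul_smul, inv_smul_eq_iff.2 htX.symm, hall]
    exact mul_inv_eq_iff_eq_mul.1
      (inv_mul_eq_one.1 (h.grp_semiregular (mul_mem (inv_mem h1) hv) h2 hEX.symm))
  -- the swapper of `a` and `a ^ t`
  have hsw : ∀ a : {a : G // a ∈ h.grp Y ∧ a ≠ 1}, ∃ m ∈ D, m * a * m = t * a * t ∧ Commute t m ∧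
      ∀ m' ∈ D, m' * (a : G) * m' = t * a * t → m' = m := by
    intro a
    obtain ⟨haD, haY⟩ := a.2.1.resolve_left a.2.2
    have hnc : ¬ Commute (a : G) (t * a * t) := by
      intro hc
      refine hY ?_
      rw [← haY, h.smul_pt, h.pt_eq_iff, hti]
      exact hc.symm
    obtain ⟨m, hm, hma, huniq, hfix⟩ := GenA.OddTransp.swap h.toOT haD (h.toOT.conj2 haD htt) hnc
    refine ⟨m, hm, hma, hfix t (Or.inr ⟨by rw [hti], ?_⟩), huniq⟩
    rw [hti, GenA.OddTransp.conj_conj htt]
  choose sw hswD hswa hswt hswu using hsw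
  haveI := Fintype.ofFinite {a : G // a ∈ h.grp Y ∧ a ≠ 1}
  have hdvd : 2 ^ n₀ - 1 ∣ Nat.card {a : G // a ∈ h.grp Y ∧ a ≠ 1} := by
    rw [Nat.card_eq_fintype_card, ← Finset.card_univ, Finset.card_eq_sum_card_image sw]
    refine Finset.dvd_sum fun m hm => dvd_of_eq ?_
    obtain ⟨a, -, rfl⟩ := Finset.mem_image.1 hm
    set m := sw a with hmdef
    have hmD : m ∈ D := hswD a
    have htm : Commute t m := hswt a
    have hmi : m⁻¹ = m := h.toOT.inv hmD
    set u := t * m with hu
    have huu : u * u = 1 := GenA.OddTransp.sq_mul htt (h.sq hmD) htm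
    have hui : u⁻¹ = u := inv_eq_of_mul_eq_one_right huu
    obtain ⟨haD, haY⟩ := a.2.1.resolve_left a.2.2
    have huY : u • Y = Y := by
      rw [← haY, h.smul_pt, h.pt_eq_iff, hui, hu]
      have e : t * m * (a : G) * (t * m) = a := by
        calc t * m * (a : G) * (t * m) = t * m * (a : G) * (m * t) := by rw [htm.eq]
          _ = t * (m * a * m) * t := by group
          _ = a := by rw [hswa a, GenA.OddTransp.conj_conj htt]
      rw [e]
    have hmY : m • Y = t • Y := by
      calc m • Y = (t * u) • Y := by rw [hu, ← mul_assoc, htt, one_mul]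
        _ = t • Y := by rw [mul_smul, huY]
    have hmA : m • h.pt m hmD = h.pt m hmD := h.smul_self hmD
    have hne : h.pt m hmD ≠ Y := fun e => hY (by rw [← hmY, ← e, hmA])
    have htA : t • h.pt m hmD = h.pt m hmD := by
      rw [h.smul_pt, h.pt_eq_iff, mul_inv_eq_iff_eq_mul.2 htm.eq]
    have huA : u • h.pt m hmD = h.pt m hmD := by rw [hu, mul_smul, hmA, htA]
    have hsame : h.centIn u (h.pt m hmD) = h.centIn t (h.pt m hmD) := by
      ext v
      simp only [ClassGroups.mem_centIn]
      refine and_congr_right fun hv => ?_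
      have hmv : Commute m v := h.grp_comm (h.self_mem_grp hmD) hv
      refine ⟨fun hc => ?_, fun hc => hc.mul_left hmv⟩
      have h1 := hc.mul_left hmv
      rwa [hu, mul_assoc, h.sq hmD, mul_one] at h1
    have hcnt : Nat.card (h.centIn u Y) = 2 ^ n₀ := by
      rw [h.card_centIn_eq huu huY huA, hsame, h.card_centIn_eq htt htA htE, hn₀]
    rw [← hcnt, ← card_ne_one, ← Fintype.card_subtype, ← Nat.card_eq_fintype_card]
    refine Eq.symm (Nat.card_congr
      { toFun := fun b => ⟨(b.1 : G), ⟨ClassGroups.mem_centIn.2 ⟨b.1.2.1, ?_⟩, b.1.2.2⟩⟩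
        invFun := fun b => ⟨⟨(b : G), (ClassGroups.mem_centIn.1 b.2.1).1, b.2.2⟩, ?_⟩
        left_inv := fun _ => rfl
        right_inv := fun _ => rfl })
    · have hb : m * (b.1 : G) * m = t * b.1 * t := by
        have h1 := hswa b.1
        rwa [b.2] at h1
      show t * m * (b.1 : G) = (b.1 : G) * (t * m)
      calc t * m * (b.1 : G) = t * (m * b.1 * m) * m := by
            rw [mul_assoc t (m * (b.1 : G) * m) m, mul_assoc (m * (b.1 : G)) m m, h.sq hmD, mul_one]
            group
        _ = (t * t) * b.1 * (t * m) := by rw [hb]; group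
        _ = (b.1 : G) * (t * m) := by rw [htt, one_mul]
    · refine (hswu _ m hmD ?_).symm
      have hc : t * m * (b : G) = b * (t * m) := (ClassGroups.mem_centIn.1 b.2.1).2.eq
      calc m * (b : G) * m = t * (t * m * b) * m := by rw [mul_assoc t m (b : G), ← mul_assoc t t, htt, one_mul]
        _ = t * ((b : G) * (t * m)) * m := by rw [hc]
        _ = t * b * t * (m * m) := by group
        _ = t * b * t := by rw [h.sq hmD, mul_one]
  obtain ⟨g, hg⟩ : ∃ g : G, g • E = Y := by
    obtain ⟨y, hy, hyY⟩ := h.exists_pt Y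
    obtain ⟨g, hg⟩ := hC.conjugate a₀ ha₀ y hy
    exact ⟨g, by rw [← ha₀E, ← hyY, h.smul_pt, h.pt_eq_iff, hg]⟩
  have hYc : Nat.card (h.grp Y) = 2 ^ n := by
    rw [← hn]
    refine le_antisymm ?_ ?_
    · refine Nat.card_le_card_of_injective (fun v : h.grp Y => (⟨g⁻¹ * v * g⁻¹⁻¹,
        by have := h.grp_conj (g := g⁻¹) v.2; rwa [inv_smul_eq_iff.2 hg.symm] at this⟩ : h.grp E))
        fun v w hvw => Subtype.ext ((MulAut.conj g⁻¹).injective (congrArg Subtype.val hvw))
    · refine Nat.card_le_card_of_injective (fun v : h.grp E => (⟨g * v * g⁻¹, hg ▸ h.grp_conj v.2⟩ : h.grp Y))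
        fun v w hvw => Subtype.ext ((MulAut.conj g).injective (congrArg Subtype.val hvw))
  rw [card_ne_one, hYc] at hdvd
  have hgcd : Nat.gcd (2 ^ n₀ - 1) (2 ^ n - 1) = 2 ^ n₀ - 1 := Nat.gcd_eq_left hdvd
  rw [Nat.pow_sub_one_gcd_pow_sub_one] at hgcd
  have hg0 : Nat.gcd n₀ n = n₀ := Nat.pow_right_injective le_rfl (by
    have := Nat.one_le_two_pow (n := Nat.gcd n₀ n)
    have := Nat.one_le_two_pow (n := n₀)
    show 2 ^ Nat.gcd n₀ n = 2 ^ n₀
    omega)
  obtain ⟨c, rfl⟩ : n₀ ∣ n := hg0 ▸ Nat.gcd_dvd_right n₀ n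
  have hc1 : 1 < c := by
    by_contra hc
    have : n₀ * c ≤ n₀ * 1 := Nat.mul_le_mul le_rfl (not_lt.1 hc)
    omega
  have hc2 : c ≤ 2 := Nat.le_of_mul_le_mul_left (by rw [mul_comm n₀ 2]; exact hle2) (Nat.pos_of_ne_zero hn₀0)
  obtain rfl : c = 2 := by omega
  exact Nat.not_even_iff_odd.2 hnodd (even_two.mul_left n₀)

/-- **B2.** Either `L₂(q)` or two-class stabilizers have odd order. -/
theorem odd_pair (hC : Classes D) (hA : hC.toClassGroups.AllGen) : Concl G ∨ hC.toClassGroups.OddPair := by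
  by_cases hmid : hC.toClassGroups.HasMid
  · exact Or.inl (hC.concl_of_mid hA hmid)
  · exact Or.inr (hC.odd_pair_of_no_mid hA hmid)

end Cfsg.Agent.OddTranspX
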