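import Cfsg.Agent.Lib.OddTranspX.Good
import Cfsg.Agent.Lib.OddTranspX.Center
import Cfsg.Agent.Lib.OddTranspX.OddPair

/-!
# Transitivity on the classes from free elements of fine prime order

Every pair of classes has an element of fine prime order in the odd group of its swappers inverted
by a swapper.  If such elements fix only the two classes, the stabilizer of a class is transitive on
the other classes, and every class generates with every member outside it.
-/

set_option autoImplicit false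
set_option linter.unusedSectionVars false

namespace Cfsg.Agent.OddTranspX

open Subgroup MulAction
open scoped Pointwise

universe u

variable {G : Type u} [Group G] [Finite G] {D : Set G}

/-- Conjugation by a swapper on the odd group of the swappers. -/
def ClassGroups.torusConj (h : ClassGroups D) {E X : h.Pt} {m : G} (hm : m ∈ h.swappers E X) :
    MulAut (h.torus E X) where
  toFun g := ⟨m * g * m, h.torus_conj hm g.2⟩
  invFun g := ⟨m * g * m, h.torus_conj hm g.2⟩
  left_inv g := Subtype.ext (GenA.OddTransp.conj_conj (h.sq hm.1))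
  right_inv g := Subtype.ext (GenA.OddTransp.conj_conj (h.sq hm.1))
  map_mul' a b := Subtype.ext (by
    show m * ((a : G) * b) * m = m * a * m * (m * b * m)
    rw [show m * (a : G) * m * (m * b * m) = m * a * (m * m) * b * m by simp only [mul_assoc],
      h.sq hm.1, mul_one]
    simp only [mul_assoc])

/-- **An element of fine prime order inverted by a swapper.** -/
theorem ClassGroups.exists_inverted (h : ClassGroups D) {n p : ℕ}
    (hn : ∀ E : h.Pt, Nat.card (h.grp E) = 2 ^ n) (hp : Fine p n) (_hn1 : 1 ≤ n) {E X : h.Pt}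
    (hEX : E ≠ X) {m : G} (hm : m ∈ h.swappers E X) :
    ∃ y ∈ h.torus E X, orderOf y = p ∧ m * y * m = y⁻¹ := by
  classical
  have : Fact p.Prime := ⟨hp.prime⟩
  set T := h.torus E X with hT
  have hTodd : Odd (Nat.card T) := h.torus_odd hEX
  set K : Subgroup T := (centralizer {m}).subgroupOf T with hK
  have hmK : ∀ g : T, g ∈ K → (g : G) * m * (g : G)⁻¹ = m := fun g hg => by
    rw [mem_centralizer_singleton_iff.1 (mem_subgroupOf.1 hg), mul_inv_cancel_right]
  -- the swappers are the conjugates of `m` under the torus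
  let ψ : T ⧸ K → h.swappers E X := Quotient.lift
    (fun g : T => (⟨(g : G) * m * (g : G)⁻¹,
      h.swapper_conj (h.torus_fix g.2).1 (h.torus_fix g.2).2 hm⟩ : h.swappers E X))
    (by
      intro a b hab
      have h1 := hmK _ (QuotientGroup.leftRel_apply.1 hab)
      push_cast at h1
      refine Subtype.ext (?_ : (a : G) * m * (a : G)⁻¹ = (b : G) * m * (b : G)⁻¹)
      conv_lhs => rw [← h1]
      group)
  have hψ : Function.Bijective ψ := by
    constructor
    · rintro ⟨a⟩ ⟨b⟩ hab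
      refine Quotient.sound (QuotientGroup.leftRel_apply.2 ?_)
      have h1 : (a : G) * m * (a : G)⁻¹ = (b : G) * m * (b : G)⁻¹ := congrArg Subtype.val hab
      refine mem_centralizer_singleton_iff.2 ?_
      show ((a⁻¹ * b : T) : G) * m = m * ((a⁻¹ * b : T) : G)
      push_cast
      calc (a : G)⁻¹ * b * m = (a : G)⁻¹ * ((b : G) * m * (b : G)⁻¹) * b := by group
        _ = m * ((a : G)⁻¹ * b) := by rw [← h1]; group
    · rintro ⟨m', hm'⟩
      rcases h.pair m hm.1 m' hm'.1 with hc | hodd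
      · exact ⟨Quotient.mk _ 1, Subtype.ext (by
          show ((1 : T) : G) * m * ((1 : T) : G)⁻¹ = m'
          rw [← h.swapper_eq_of_commute hEX hm hm' hc]; simp)⟩
      obtain ⟨l, hl⟩ := hodd
      have hx : m * m' ∈ T := subset_closure ⟨m, hm, m', hm', rfl⟩
      refine ⟨Quotient.mk _ (⟨m * m', hx⟩ ^ l), Subtype.ext ?_⟩
      show ((⟨m * m', hx⟩ ^ l : T) : G) * m * ((⟨m * m', hx⟩ ^ l : T) : G)⁻¹ = m'
      push_cast
      set x := m * m' with hxdef
      have hinv : ∀ i : ℕ, m * (x ^ i)⁻¹ = x ^ i * m := by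
        intro i
        have h1 : m * x * m⁻¹ = x⁻¹ := by
          rw [hxdef, mul_inv_rev, h.toOT.inv hm.1, h.toOT.inv hm'.1, ← mul_assoc m m m', h.sq hm.1,
            one_mul]
        have h2 : m * x ^ i * m⁻¹ = (x ^ i)⁻¹ := by rw [← conj_pow, h1, inv_pow]
        rw [← h2, h.toOT.inv hm.1, ← mul_assoc, ← mul_assoc, h.sq hm.1, one_mul]
      have hm'x : m' = m * x := by rw [hxdef, ← mul_assoc, h.sq hm.1, one_mul]
      rw [mul_assoc, hinv, ← mul_assoc, ← pow_add, hm'x]
      have h4 : m * x = x⁻¹ * m := by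
        have := hinv 1
        rw [pow_one] at this
        rw [eq_inv_mul_iff_mul_eq, ← mul_assoc, ← this, mul_assoc, inv_mul_cancel, mul_one]
      rw [h4]
      congr 1
      rw [eq_inv_iff_mul_eq_one, ← pow_succ, show l + l + 1 = orderOf x by omega, pow_orderOf_eq_one]
  have hpdvd : p ∣ K.index := by
    rw [index_eq_card, Nat.card_eq_of_bijective ψ hψ, h.card_swappers hEX, card_ne_one, hn E]
    exact hp.dvd
  -- a Sylow subgroup fixed by `m`
  set φ := h.torusConj hm with hφ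
  have hnp : ¬ 2 ∣ Nat.card (Sylow p T) := fun h2 => by
    obtain ⟨P⟩ : Nonempty (Sylow p T) := inferInstance
    have h3 := (h2.trans P.card_dvd_index).trans (index_dvd_card _)
    exact (Nat.not_even_iff_odd.2 hTodd) (even_iff_two_dvd.2 h3)
  have : Fact (Nat.Prime 2) := ⟨Nat.prime_two⟩
  have : Fintype (Sylow p T) := Fintype.ofFinite _
  obtain ⟨P, hP⟩ := Equiv.Perm.exists_fixed_point_of_prime (α := Sylow p T) (p := 2) (n := 1)
    (by rwa [← Nat.card_eq_fintype_card]) (σ := MulAction.toPerm φ) (Equiv.ext fun P => by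
      rw [pow_one, pow_two, Equiv.Perm.mul_apply, MulAction.toPerm_apply, MulAction.toPerm_apply,
        smul_smul, show φ * φ = 1 from MulEquiv.ext fun g => Subtype.ext
          (GenA.OddTransp.conj_conj (h.sq hm.1)), one_smul]
      rfl)
  rw [MulAction.toPerm_apply] at hP
  obtain ⟨x, hxP, hxK⟩ : ∃ x ∈ (P : Subgroup T), x ∉ K := SetLike.not_le_iff_exists.1 fun hle =>
    P.not_dvd_index (hpdvd.trans (index_dvd_of_le hle))
  have hφx : φ x ∈ (P : Subgroup T) := by
    have h1 : φ • x ∈ φ • (P : Subgroup T) := smul_mem_pointwise_smul x φ _ hxP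
    rw [← Sylow.pointwise_smul_def, hP] at h1
    exact h1
  set z : T := x⁻¹ * φ x with hz
  have hmm := h.sq hm.1
  have hz1 : z ≠ 1 := by
    intro h1
    have h2 : (x : G) = m * x * m := congrArg Subtype.val (inv_mul_eq_one.1 h1)
    refine hxK (mem_centralizer_singleton_iff.2 ?_)
    show (x : G) * m = m * x
    conv_lhs => rw [h2, mul_assoc, hmm, mul_one]
  have hzinv : m * (z : G) * m = (z : G)⁻¹ := by
    show m * ((x : G)⁻¹ * (m * x * m)) * m = ((x : G)⁻¹ * (m * x * m))⁻¹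
    rw [mul_inv_rev, mul_inv_rev, mul_inv_rev, h.toOT.inv hm.1, inv_inv]
    calc m * ((x : G)⁻¹ * (m * x * m)) * m = m * (x : G)⁻¹ * m * x * (m * m) := by group
      _ = m * ((x : G)⁻¹ * m) * x := by rw [hmm]; group
  obtain ⟨j, hj⟩ := IsPGroup.iff_orderOf.1 P.2 ⟨z, mul_mem (inv_mem hxP) hφx⟩
  rw [Subgroup.orderOf_mk, ← Subgroup.orderOf_coe] at hj
  rcases j with _ | j
  · rw [pow_zero, orderOf_eq_one_iff] at hj
    exact absurd (Subtype.ext hj) hz1
  refine ⟨(z : G) ^ p ^ j, pow_mem z.2 _, ?_, ?_⟩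
  · rw [orderOf_pow' _ (pow_ne_zero _ hp.prime.ne_zero), hj,
      Nat.gcd_eq_right (pow_dvd_pow p (by omega)), pow_succ,
      Nat.mul_div_cancel_left _ (pow_pos hp.prime.pos j)]
  · have h1 : m * (z : G) ^ p ^ j * m⁻¹ = ((z : G) ^ p ^ j)⁻¹ := by
      rw [← conj_pow, h.toOT.inv hm.1, hzinv, inv_pow]
    rwa [h.toOT.inv hm.1] at h1

/-- A `p`-subgroup maximal in the stabilizer of a class fixing a second class and only these. -/
theorem ClassGroups.exists_sylow_pair (h : ClassGroups D) {n p : ℕ}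
    (hn : ∀ E : h.Pt, Nat.card (h.grp E) = 2 ^ n) (hp : Fine p n) (hn1 : 1 ≤ n)
    (hPF : h.PairFree p) {E X : h.Pt} (hEX : E ≠ X) :
    ∃ Q : Sylow p (stabilizer G E), (∀ q ∈ (Q : Subgroup (stabilizer G E)), (q : G) • X = X) ∧
      ∀ L : h.Pt, (∀ q ∈ (Q : Subgroup (stabilizer G E)), (q : G) • L = L) → L = E ∨ L = X := by
  have : Fact p.Prime := ⟨hp.prime⟩
  obtain ⟨a, ha, haE⟩ := h.exists_pt E
  obtain ⟨b, hb, hbX⟩ := h.exists_pt X
  obtain ⟨m, hm, -⟩ := h.exists_swapper haE hbX hEX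
  obtain ⟨y, hyT, hy, hmy⟩ := h.exists_inverted hn hp hn1 hEX hm
  obtain ⟨hyE, hyX⟩ := h.torus_fix hyT
  set H := stabilizer G E with hH
  let F : Subgroup H := (stabilizer G X).subgroupOf H
  have hyF : (⟨y, mem_stabilizer_iff.2 hyE⟩ : H) ∈ F := mem_subgroupOf.2 (mem_stabilizer_iff.2 hyX)
  obtain ⟨R, hR⟩ := (IsPGroup.of_card (n := 1) (G := zpowers (⟨⟨y, mem_stabilizer_iff.2 hyE⟩, hyF⟩ : F))
    (p := p) (by rw [Nat.card_zpowers, Subgroup.orderOf_mk, Subgroup.orderOf_mk, hy, pow_one])).exists_le_sylow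
  set R' : Subgroup H := (R : Subgroup F).map F.subtype with hR'
  obtain ⟨Q, hQ⟩ := (R.2.map F.subtype).exists_le_sylow
  have hyR : (⟨y, mem_stabilizer_iff.2 hyE⟩ : H) ∈ R' := ⟨_, hR (mem_zpowers _), rfl⟩
  have honly : ∀ L : h.Pt, (∀ q ∈ R', (q : G) • L = L) → L = E ∨ L = X := fun L hL =>
    hPF E X hEX m hm y (mem_inf.2 ⟨mem_stabilizer_iff.2 hyE, mem_stabilizer_iff.2 hyX⟩) hy hmy L
      (hL _ hyR)
  have hfixR : ∀ q ∈ R', (q : G) • X = X := by
    rintro _ ⟨q, -, rfl⟩
    exact mem_stabilizer_iff.1 (mem_subgroupOf.1 q.2)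
  -- `R'` is self-normalizing in `Q`
  have hle : (Q : Subgroup H) ⊓ F ≤ R' := by
    have hmax : ((Q : Subgroup H) ⊓ F).subgroupOf F = (R : Subgroup F) :=
      R.3 ((Q.2.to_le (inf_le_left : (Q : Subgroup H) ⊓ F ≤ Q)).comap_of_injective F.subtype
        F.subtype_injective)
        fun r hr => mem_subgroupOf.2 ⟨hQ ⟨r, hr, rfl⟩, r.2⟩
    intro q hq
    exact ⟨⟨q, hq.2⟩, hmax ▸ (mem_subgroupOf.2 hq : (⟨q, hq.2⟩ : F) ∈ _), rfl⟩
  have hQR : (Q : Subgroup H) ≤ R' := by
    have : Group.IsNilpotent (Q : Subgroup H) := Q.2.isNilpotent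
    have h1 : R'.subgroupOf (Q : Subgroup H) = ⊤ := by
      by_contra hne
      have h2 := Group.normalizerCondition_of_isNilpotent (G := (Q : Subgroup H))
        (R'.subgroupOf (Q : Subgroup H)) (lt_top_iff_ne_top.2 hne)
      obtain ⟨g, hg, hg'⟩ := SetLike.exists_of_lt h2
      refine hg' (mem_subgroupOf.2 (hle ⟨g.2, mem_subgroupOf.2 (mem_stabilizer_iff.2 ?_)⟩))
      rcases honly ((g : G) • X) (fun q hq => by
        have hq' : (g⁻¹ * ⟨q, hQ hq⟩ * g : (Q : Subgroup H)) ∈ R'.subgroupOf (Q : Subgroup H) :=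
          (Subgroup.mem_normalizer_iff''.1 hg ⟨q, hQ hq⟩).1 (mem_subgroupOf.2 hq)
        have h3 := hfixR _ (mem_subgroupOf.1 hq')
        push_cast at h3
        rw [mul_smul, mul_smul, inv_smul_eq_iff] at h3
        exact h3) with h4 | h4
      · exact absurd (smul_left_cancel _ (h4.trans (mem_stabilizer_iff.1 (g : H).2).symm)) hEX.symm
      · exact h4
    exact fun q hq => mem_subgroupOf.1 (h1 ▸ mem_top (⟨q, hq⟩ : (Q : Subgroup H)))
  exact ⟨Q, fun q hq => hfixR q (hQR hq), fun L hL => honly L fun q hq => hL q (hQ hq)⟩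

/-- **Free elements of fine prime order give double transitivity.** -/
theorem twoTrans_of_pairFree (h : ClassGroups D) {n p : ℕ}
    (hn : ∀ E : h.Pt, Nat.card (h.grp E) = 2 ^ n) (hp : Fine p n) (hn1 : 1 ≤ n)
    (hPF : h.PairFree p) : h.TwoTrans := by
  have : Fact p.Prime := ⟨hp.prime⟩
  intro E X Y hX hY
  obtain ⟨Q, hQX, -⟩ := h.exists_sylow_pair hn hp hn1 hPF (Ne.symm hX)
  obtain ⟨Q', -, honly⟩ := h.exists_sylow_pair hn hp hn1 hPF (Ne.symm hY)
  obtain ⟨g, hg⟩ := MulAction.exists_smul_eq (stabilizer G E) Q Q'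
  refine ⟨g, mem_stabilizer_iff.1 g.2, ?_⟩
  rcases honly ((g : G) • X) (fun q hq => by
    rw [← hg] at hq
    obtain ⟨r, hr, rfl⟩ := (Subgroup.mem_map.1 (show q ∈ (Q : Subgroup (stabilizer G E)).map
      (MulAut.conj g).toMonoidHom from hq))
    show ((g * r * g⁻¹ : stabilizer G E) : G) • (g : G) • X = (g : G) • X
    push_cast
    rw [mul_smul, mul_smul, inv_smul_smul, hQX r hr]) with h4 | h4
  · exact absurd (smul_left_cancel _ (h4.trans (mem_stabilizer_iff.1 g.2).symm)) hX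
  · exact h4

variable (hC : Classes D)
include hC

/-- **Every class and every member outside it generate.** -/
theorem Classes.allGen (h2 : hC.toClassGroups.TwoTrans) : hC.toClassGroups.AllGen := by
  set h := hC.toClassGroups with hh
  intro E f hf hfE
  obtain ⟨a, ha, x, hx, hax, hgen⟩ := hC.pairGen
  obtain ⟨e, he, heE⟩ := h.exists_pt E
  obtain ⟨g, hg⟩ := hC.conjugate a ha e he
  have hgE : g • h.pt a ha = E := by
    rw [h.smul_pt, ← heE, h.pt_eq_iff, hg]
  have hne : g • h.pt x hx ≠ E := fun e' =>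
    hax (h.pt_eq_iff.1 (smul_left_cancel g (hgE.trans e'.symm)))
  obtain ⟨k, hkE, hkX⟩ := h2 E (g • h.pt x hx) (h.pt f hf) hne hfE
  have hf0 : k * g * x * (k * g)⁻¹ ∈ h.grp (h.pt f hf) := by
    refine Or.inr ⟨h.conj x hx _, ?_⟩
    rw [← h.smul_pt (k * g) hx, mul_smul, hkX]
  have hf01 : k * g * x * (k * g)⁻¹ ≠ 1 := h.toOT.ne_one (h.conj x hx _)
  obtain ⟨j, hjf, hjE, hj⟩ :=
    h.exists_fix_conj hfE hf0 hf01 (h.self_mem_grp hf) (h.toOT.ne_one hf)
  set c := j * (k * g) with hc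
  have hcE : c • h.pt a ha = E := by rw [hc, mul_smul, mul_smul, hgE, hkE, hjE]
  have hcx : c * x * c⁻¹ = f := by rw [← hj, hc]; group
  have hle : closure ({y | y ∈ D ∧ Commute a y} ∪ {x}) ≤
      (closure ((h.grp E : Set G) ∪ {f})).comap (MulAut.conj c).toMonoidHom := by
    refine (closure_le _).2 ?_
    rintro y (⟨hy, hay⟩ | rfl)
    · refine subset_closure (Or.inl ?_)
      show c * y * c⁻¹ ∈ h.grp E
      refine Or.inr ⟨h.conj y hy c, ?_⟩
      rw [← h.smul_pt c hy, ← hcE, (h.pt_eq_iff.2 hay.symm : h.pt y hy = h.pt a ha)]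
    · exact subset_closure (Or.inr hcx)
  rw [hgen] at hle
  rw [eq_top_iff]
  intro w _
  have := hle (mem_top (c⁻¹ * w * c))
  rw [mem_comap] at this
  simpa [mul_assoc] using this

/-- **The weak setting.** -/
theorem Classes.weak (hB : Below G) : ∃ n, hC.toClassGroups.Weak n := by
  set h := hC.toClassGroups with hh
  obtain ⟨a, ha, -, -, -, -⟩ := hC.pairGen
  obtain ⟨n, hn⟩ := h.grp_card (h.pt a ha) (h.grp (h.pt a ha)) le_rfl
  have key : ∀ A B : h.Pt, Nat.card (h.grp A) ≤ Nat.card (h.grp B) := by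
    intro A B
    obtain ⟨b, hb, rfl⟩ := h.exists_pt A
    obtain ⟨c, hc, rfl⟩ := h.exists_pt B
    obtain ⟨g, hg⟩ := hC.conjugate b hb c hc
    have hgB : g • h.pt b hb = h.pt c hc := by rw [h.smul_pt, h.pt_eq_iff, hg]
    exact Nat.card_le_card_of_injective
      (fun v : h.grp (h.pt b hb) => (⟨g * v * g⁻¹, hgB ▸ h.grp_conj v.2⟩ : h.grp (h.pt c hc)))
      fun v w e => Subtype.ext (mul_left_cancel (mul_right_cancel (congrArg Subtype.val e)))
  have hall : ∀ E : h.Pt, Nat.card (h.grp E) = 2 ^ n := fun E =>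
    hn ▸ le_antisymm (key E _) (key _ E)
  refine ⟨n, ⟨hC.gen, hC.center_eq_bot hB, ?_, hall⟩⟩
  have h4 : 4 ≤ 2 ^ n := hn ▸ hC.four_le _
  exact (Nat.pow_le_pow_iff_right (by norm_num : 1 < 2)).1 (show 2 ^ 2 ≤ 2 ^ n from h4)

end Cfsg.Agent.OddTranspX
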