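import Cfsg.Agent.Lib.OddTranspX.PLemmas
import Cfsg.Agent.Lib.OddTranspX.TwoTrans

/-!
# No one-sided kernels

For a fine prime an element of `p`-power order fixing two classes and centralizing the first
centralizes the second.  Otherwise take a configuration (`b` centralizing the first only, `A` a
`p`-group centralizing both, commuting with `b`, `b ^ p ∈ A`) with `A` largest; with `b'` its image
under a swapper, `w = b b'` centralizes a class, so by induction the `p`-group `P` they generate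
fixes a further class, and maximality makes swappers of all three pairs normalize `P`, while the
members normalizing `P` generate a group twice odd.
-/

set_option autoImplicit false
set_option linter.style.haveILetI false
set_option linter.unusedSectionVars false

namespace Cfsg.Agent.OddTranspX

open Subgroup MulAction

universe u

variable {G : Type u} [Group G] [Finite G] {D : Set G}

/-- Commuting with generators. -/
theorem commute_of_mem_zpowers_sup {b c g : G} {A : Subgroup G} (hb : Commute c b)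
    (hA : ∀ a ∈ A, Commute c a) (hg : g ∈ zpowers b ⊔ A) : Commute c g := by
  have hle : zpowers b ⊔ A ≤ centralizer {c} :=
    sup_le (zpowers_le.2 (mem_centralizer_singleton_iff.2 hb.eq.symm))
      fun a ha => mem_centralizer_singleton_iff.2 (hA a ha).eq.symm
  exact (mem_centralizer_singleton_iff.1 (hle hg)).symm

/-- An element with `p`-th power in a `p`-group centralized by it. -/
theorem isPGroup_zpowers_sup {p : ℕ} [Fact p.Prime] {A : Subgroup G} {c : G} (hA : IsPGroup p A)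
    (hc : ∀ a ∈ A, Commute c a) (hp : c ^ p ∈ A) : IsPGroup p ↥(zpowers c ⊔ A) := by
  obtain ⟨j, hj⟩ := exists_orderOf_eq hA hp
  have hd : orderOf c ∣ p ^ (j + 1) := orderOf_dvd_of_pow_eq_one (by
    rw [pow_succ', pow_mul, ← hj, pow_orderOf_eq_one])
  obtain ⟨i, -, hi⟩ := (Nat.dvd_prime_pow (Fact.out : p.Prime)).1 hd
  refine (IsPGroup.of_card (n := i) (by rw [Nat.card_zpowers, hi])).to_sup_of_normal_right' hA ?_
  refine zpowers_le.2 (Subgroup.mem_normalizer_iff.2 fun a => ⟨fun ha => ?_, fun ha => ?_⟩)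
  · rwa [(hc a ha).eq, mul_inv_cancel_right]
  · have h1 := (hc _ ha).eq
    rw [show c * a * c⁻¹ = c * a * c⁻¹ from rfl] at h1
    have h2 : c * a * c⁻¹ = a := by
      have h3 : c⁻¹ * (c * (c * a * c⁻¹)) = c⁻¹ * (c * a * c⁻¹ * c) := by rw [h1]
      rw [inv_mul_cancel_left, inv_mul_cancel_right, inv_mul_cancel_left] at h3
      exact h3
    rwa [h2] at ha

namespace ClassGroups

variable (h : ClassGroups D)

/-- A configuration: `b` centralizes the first class only, `A` both. -/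
structure Cfg (p : ℕ) (E X : h.Pt) (b : G) (A : Subgroup G) : Prop where
  ne : E ≠ X
  pA : IsPGroup p A
  centE : ∀ a ∈ A, h.Cent a E
  centX : ∀ a ∈ A, h.Cent a X
  bE : h.Cent b E
  bX : b • X = X
  nX : ¬ h.Cent b X
  comm : ∀ a ∈ A, Commute b a
  pow : b ^ p ∈ A

/-- A configuration with largest `A`. -/
def MaxCfg (p : ℕ) (E X : h.Pt) (b : G) (A : Subgroup G) : Prop :=
  h.Cfg p E X b A ∧ ∀ (E' X' : h.Pt) (b' : G) (A' : Subgroup G), h.Cfg p E' X' b' A' →
    Nat.card A' ≤ Nat.card A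

variable {h} {p : ℕ} {E X : h.Pt} {b : G} {A : Subgroup G}

theorem Cfg.le_pairStab (hc : h.Cfg p E X b A) : zpowers b ⊔ A ≤ h.pairStab E X :=
  sup_le (zpowers_le.2 (mem_inf.2
      ⟨mem_stabilizer_iff.2 (Cent.fix h hc.bE), mem_stabilizer_iff.2 hc.bX⟩))
    fun a ha => mem_inf.2 ⟨mem_stabilizer_iff.2 (Cent.fix h (hc.centE a ha)),
      mem_stabilizer_iff.2 (Cent.fix h (hc.centX a ha))⟩

theorem Cfg.not_mem (hc : h.Cfg p E X b A) : b ∉ A := fun hb => hc.nX (hc.centX b hb)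

theorem MaxCfg.not_larger {E' X' : h.Pt} {b' : G} (hm : h.MaxCfg p E X b A) {A' : Subgroup G}
    (hA : A < A') (hc : h.Cfg p E' X' b' A') : False := by
  have h1 := hm.2 E' X' b' A' hc
  exact hA.ne (eq_of_le_of_card_ge hA.le h1)

variable {n : ℕ}

/-- The image under a swapper. -/
theorem Cfg.flip (hW : h.Weak n) (hp : Fine p n) (hc : h.Cfg p E X b A) {m : G}
    (hm : m ∈ h.swappers E X) {R : Subgroup G} (hR : IsPGroup p R) (hRK : R ≤ h.pairStab E X)
    (hbR : b ∈ R) (hRm : ∀ r ∈ R, m * r * m ∈ R) :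
    h.Cfg p X E (m * b * m) A ∧ Commute b (m * b * m) ∧ (∀ a ∈ A, Commute a m) := by
  haveI : Fact p.Prime := ⟨hp.prime⟩
  have hmm := h.sq hm.1
  have hAm : ∀ a ∈ A, Commute a m := fun a ha =>
    h.cent_commute_swapper hc.ne (hc.centE a ha) (hc.centX a ha) hm
  have hflip : ∀ a ∈ A, m * a * m = a := fun a ha => by
    rw [← (hAm a ha).eq, mul_assoc, hmm, mul_one]
  set b' := m * b * m with hb'
  have hb'R : b' ∈ R := hRm b hbR
  have hb'X : h.Cent b' X := h.cent_swap hm hc.bE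
  have hb'E : b' • E = E := mem_stabilizer_iff.1 (mem_inf.1 (hRK hb'R)).1
  have hbb : Commute b b' := by
    set c := b * b' * b⁻¹ * b'⁻¹ with hcdef
    have hcE : h.Cent c E := by
      rw [hcdef, show b * b' * b⁻¹ * b'⁻¹ = b * (b' * b⁻¹ * b'⁻¹) by group]
      exact h.cent_mul hc.bE (h.cent_conj_fix hb'E (h.cent_inv hc.bE))
    have hcX : h.Cent c X := h.cent_mul (h.cent_conj_fix hc.bX hb'X) (h.cent_inv hb'X)
    have hcm : Commute c m := h.cent_commute_swapper hc.ne hcE hcX hm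
    have h1 : m * c * m = c⁻¹ := by
      have hbi : b'⁻¹ = m * b⁻¹ * m := by
        rw [hb', mul_inv_rev, mul_inv_rev, h.toOT.inv hm.1, mul_assoc]
      rw [hcdef, show (b * b' * b⁻¹ * b'⁻¹)⁻¹ = b' * b * b'⁻¹ * b⁻¹ by group, hbi, hb']
      simp only [mul_assoc, hmm, mul_one]
    have h2 : c = 1 := by
      refine eq_one_of_odd_sq (odd_orderOf (h.odd_p hW hp) hR (x := c) (mul_mem (mul_mem
        (mul_mem hbR hb'R) (inv_mem hbR)) (inv_mem hb'R))) ?_
      rw [← hcm.eq, mul_assoc, hmm, mul_one] at h1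
      exact eq_inv_iff_mul_eq_one.1 h1
    rw [hcdef, mul_inv_eq_one, mul_inv_eq_iff_eq_mul] at h2
    exact h2
  refine ⟨⟨hc.ne.symm, hc.pA, hc.centX, hc.centE, hb'X, hb'E, fun h1 => hc.nX ?_, fun a ha => ?_,
    ?_⟩, hbb, hAm⟩
  · have h2 := h.cent_swap hm h1
    rwa [hb', GenA.OddTransp.conj_conj hmm] at h2
  · have h1 := (Commute.conj_iff m).2 (hc.comm a ha)
    rwa [h.toOT.inv hm.1, hflip a ha] at h1
  · have h1 : b' ^ p = m * b ^ p * m := by
      rw [hb', show m * b * m = m * b * m⁻¹ by rw [h.toOT.inv hm.1], conj_pow, h.toOT.inv hm.1]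
    rw [h1, hflip _ hc.pow]
    exact hc.pow

/-- With a second element centralizing the second class only, maximality confines the image. -/
theorem MaxCfg.step (hW : h.Weak n) (hp : Fine p n) (hmax : h.MaxCfg p E X b A) {c : G}
    (hcE : ¬ h.Cent c E) (hcX : h.Cent c X) (hcb : Commute c b) (hcA : ∀ a ∈ A, Commute c a)
    (hcp : c ^ p ∈ A) {m : G} (hm : m ∈ h.swappers E X) {R : Subgroup G} (hR : IsPGroup p R)
    (hRK : R ≤ h.pairStab E X) (hbR : b ∈ R) (hcR : c ∈ R) (hRm : ∀ r ∈ R, m * r * m ∈ R) :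
    m * b * m ∈ zpowers c ⊔ A := by
  haveI : Fact p.Prime := ⟨hp.prime⟩
  obtain ⟨hf, hbb, -⟩ := hmax.1.flip hW hp hm hR hRK hbR hRm
  obtain ⟨i, hi⟩ := h.exists_pow_mod hW hp hmax.1.ne hR hRK (hRm b hbR) hcR
    (hmax.1.centE _ hf.pow) (hmax.1.centE _ hcp) hcE
  set d := m * b * m * (c ^ i)⁻¹ with hd
  have hdR : d ∈ R := mul_mem (hRm b hbR) (inv_mem (pow_mem hcR i))
  have hdX : h.Cent d X := h.cent_mul hf.bE (h.cent_inv (h.cent_pow hcX i))
  have hdA : ∀ a ∈ A, Commute d a := fun a ha =>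
    (hf.comm a ha).mul_left ((hcA a ha).pow_left i).inv_left
  have hbd : Commute b d := hbb.mul_right ((hcb.symm.pow_right i).inv_right)
  have hdmem : d ∈ A := by
    by_contra hne
    refine hmax.not_larger (A' := zpowers d ⊔ A)
      (lt_of_le_of_ne le_sup_right fun h1 => hne (h1 ▸ mem_sup_left (mem_zpowers d)))
      (E' := E) (X' := X) (b' := b) ⟨hmax.1.ne, ?_, ?_, ?_, hmax.1.bE, hmax.1.bX, hmax.1.nX,
        fun a ha => commute_of_mem_zpowers_sup hbd hmax.1.comm ha, mem_sup_right hmax.1.pow⟩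
    · refine hR.to_le ?_ |>.to_sup_of_normal_right' hmax.1.pA ?_
      · exact zpowers_le.2 hdR
      · refine zpowers_le.2 (Subgroup.mem_normalizer_iff.2 fun a => ⟨fun ha => ?_, fun ha => ?_⟩)
        · rwa [(hdA a ha).eq, mul_inv_cancel_right]
        · have h1 : d * (d * a * d⁻¹) = d * a * d⁻¹ * d := (hdA _ ha).eq
          rw [inv_mul_cancel_right] at h1
          rwa [mul_left_cancel h1] at ha
    · intro a ha
      exact h.cent_iff.2 ((sup_le (zpowers_le.2 (h.cent_iff.1 hi))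
        (fun x hx => h.cent_iff.1 (hmax.1.centE x hx)) :
          zpowers d ⊔ A ≤ centralizer (h.grp E : Set G)) ha)
    · intro a ha
      exact h.cent_iff.2 ((sup_le (zpowers_le.2 (h.cent_iff.1 hdX))
        (fun x hx => h.cent_iff.1 (hmax.1.centX x hx)) :
          zpowers d ⊔ A ≤ centralizer (h.grp X : Set G)) ha)
  have h1 : m * b * m = d * c ^ i := by rw [hd, inv_mul_cancel_right]
  rw [h1]
  exact mul_mem (mem_sup_right hdmem) (mem_sup_left (pow_mem (mem_zpowers c) i))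

/-- A swapper normalizing the group of the configuration and the second element. -/
theorem MaxCfg.edge (hW : h.Weak n) (hp : Fine p n) (hmax : h.MaxCfg p E X b A) {c : G}
    (hcE' : c • E = E) (hcE : ¬ h.Cent c E) (hcX : h.Cent c X) (hcb : Commute c b)
    (hcA : ∀ a ∈ A, Commute c a) (hcp : c ^ p ∈ A) :
    ∃ m ∈ h.swappers E X, ∀ x ∈ zpowers c ⊔ (zpowers b ⊔ A),
      m * x * m ∈ zpowers c ⊔ (zpowers b ⊔ A) := by
  haveI : Fact p.Prime := ⟨hp.prime⟩
  set P := zpowers c ⊔ (zpowers b ⊔ A) with hP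
  have hPp : IsPGroup p P :=
    isPGroup_zpowers_sup (isPGroup_zpowers_sup hmax.1.pA hmax.1.comm hmax.1.pow)
      (fun a ha => commute_of_mem_zpowers_sup hcb hcA ha) (mem_sup_right hcp)
  obtain ⟨R, m, hm, hPR, hRK, hR, hRm⟩ := h.exists_sylow_swapper hW hp hmax.1.ne hPp
    (sup_le (zpowers_le.2 (mem_inf.2
      ⟨mem_stabilizer_iff.2 hcE', mem_stabilizer_iff.2 (Cent.fix h hcX)⟩)) hmax.1.le_pairStab)
  have hbR : b ∈ R := hPR (mem_sup_right (mem_sup_left (mem_zpowers b)))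
  have hcR : c ∈ R := hPR (mem_sup_left (mem_zpowers c))
  have hb := hmax.step hW hp hcE hcX hcb hcA hcp hm hR hRK hbR hcR hRm
  have hmax' : h.MaxCfg p X E c A :=
    ⟨⟨hmax.1.ne.symm, hmax.1.pA, hmax.1.centX, hmax.1.centE, hcX, hcE', hcE, hcA, hcp⟩, hmax.2⟩
  have hm' := h.swapper_symm hm
  have hRK' : R ≤ h.pairStab X E := fun x hx => mem_inf.2 ⟨(mem_inf.1 (hRK hx)).2, (mem_inf.1 (hRK hx)).1⟩
  have hc := hmax'.step hW hp hmax.1.nX hmax.1.bE hcb.symm hmax.1.comm hmax.1.pow hm' hR hRK'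
    hcR hbR hRm
  obtain ⟨-, -, hAm⟩ := hmax.1.flip hW hp hm hR hRK hbR hRm
  refine ⟨m, hm, fun x hx => ?_⟩
  have hle : P ≤ P.comap (MulAut.conj m).toMonoidHom := by
    refine sup_le (zpowers_le.2 ?_) (sup_le (zpowers_le.2 ?_) fun a ha => ?_)
    all_goals rw [mem_comap]
    · show m * c * m⁻¹ ∈ P
      rw [h.toOT.inv hm.1]
      exact mem_sup_right hc
    · show m * b * m⁻¹ ∈ P
      rw [h.toOT.inv hm.1]
      exact (sup_le le_sup_left (le_sup_right.trans le_sup_right) : zpowers c ⊔ A ≤ P) hb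
    · show m * a * m⁻¹ ∈ P
      rw [← (hAm a ha).eq, mul_inv_cancel_right]
      exact mem_sup_right (mem_sup_right ha)
  have h1 := hle hx
  rw [mem_comap] at h1
  have h2 : m * x * m⁻¹ ∈ P := h1
  rwa [h.toOT.inv hm.1] at h2

variable (h)

/-- By induction a `p`-group preserving `S` fixes two of the classes centralized by `S`. -/
theorem exists_fixed_class (hW : h.Weak n) (hp : Fine p n) (hB : WeakBelow G) {S : Set G}
    (hS : CentHyp D S) (hs : ∃ s ∈ S, s ≠ 1) {P : Subgroup G} (hP : IsPGroup p P)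
    (hPS : ∀ g ∈ P, ∀ s ∈ S, g * s * g⁻¹ ∈ S) (Z : h.Pt) :
    ∃ (a : G) (ha : a ∈ centSet D S), h.pt a ha.1 ≠ Z ∧
      ∀ g ∈ P, g • h.pt a ha.1 = h.pt a ha.1 := by
  classical
  haveI : Fact p.Prime := ⟨hp.prime⟩
  set h' := cent_classGroups h hS with hh'
  have hW' := cent_weak' h hS hW
  have hPF : h'.PairFree p := hB (CentQ D S) (card_lt h hW hs) _ h' n p hW' hp
  -- the number of classes is two modulo `p`
  have hmod : Nat.card h'.Pt ≡ 2 [MOD p] := by
    obtain ⟨a, ha, c, hc, hac⟩ := hS.ne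
    let a' : centGroup D S := ⟨a, centSet_subset_centGroup ha⟩
    let c' : centGroup D S := ⟨c, centSet_subset_centGroup hc⟩
    set E' := h'.pt _ (mem_centD h (y := a') ha.1) with hE'
    set X' := h'.pt _ (mem_centD h (y := c') hc.1) with hX'
    have hne : E' ≠ X' := fun h1 =>
      hac (h.pt_eq_iff.1 ((cent_pt_eq_iff h hS (a := a') (b := c') ha.1 hc.1).1 h1))
    obtain ⟨m, hm⟩ := h'.exists_swapper_pair hne
    obtain ⟨y, hy, hyp, hyinv⟩ := h'.exists_inverted hW'.card_grp hp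
      (by have := hW.two_le; omega) hne hm
    obtain ⟨hyE, hyX⟩ := h'.torus_fix hy
    have hyK : y ∈ h'.pairStab E' X' :=
      mem_inf.2 ⟨mem_stabilizer_iff.2 hyE, mem_stabilizer_iff.2 hyX⟩
    have hfix : fixedPoints (zpowers y) h'.Pt = ({E', X'} : Set h'.Pt) := by
      ext L
      refine ⟨fun hL => hPF E' X' hne m hm y hyK hyp hyinv L (hL ⟨y, mem_zpowers y⟩), ?_⟩
      rintro (rfl | rfl) ⟨g, hg⟩
      · exact (zpowers_le.2 (mem_stabilizer_iff.2 hyE) hg : g ∈ stabilizer _ E')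
      · exact (zpowers_le.2 (mem_stabilizer_iff.2 hyX) hg : g ∈ stabilizer _ X')
    have h1 := (IsPGroup.of_card (n := 1) (G := zpowers y)
      (by rw [Nat.card_zpowers, hyp, pow_one])).card_modEq_card_fixedPoints h'.Pt
    rwa [hfix, Nat.card_coe_set_eq, Set.ncard_pair hne] at h1
  -- the classes centralized by `S`
  let C := {L : h.Pt // ∃ (a : G) (ha : a ∈ centSet D S), h.pt a ha.1 = L}
  have hmove : ∀ g ∈ P, ∀ L : C, ∃ (a : G) (ha : a ∈ centSet D S), h.pt a ha.1 = g • L.1 := by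
    rintro g hg ⟨L, a, ha, rfl⟩
    refine ⟨g * a * g⁻¹, ⟨h.conj a ha.1 g, fun s hs' => ?_⟩, (h.smul_pt g ha.1).symm⟩
    have h1 := ha.2 _ (hPS g⁻¹ (inv_mem hg) s hs')
    have h2 := (Commute.conj_iff g).2 h1
    rwa [show g * (g⁻¹ * s * g⁻¹⁻¹) * g⁻¹ = s by group] at h2
  letI : MulAction P C :=
    { smul := fun g L => ⟨(g : G) • L.1, hmove g g.2 L⟩
      one_smul := fun L => Subtype.ext (one_smul G L.1)
      mul_smul := fun g k L => Subtype.ext (mul_smul (g : G) k L.1) }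
  have h2 := hP.card_modEq_card_fixedPoints C
  rw [← card_centPt h hS] at h2
  by_contra hno
  push Not at hno
  have hsub : Subsingleton (fixedPoints P C) := by
    refine ⟨fun L K => ?_⟩
    have key : ∀ L : fixedPoints P C, L.1.1 = Z := by
      rintro ⟨⟨L, a, ha, rfl⟩, hfix⟩
      by_contra hne
      obtain ⟨g, hg, hgne⟩ := hno a ha hne
      exact hgne (congrArg Subtype.val (hfix ⟨g, hg⟩))
    exact Subtype.ext (Subtype.ext ((key L).trans (key K).symm))
  have h3 : Nat.card (fixedPoints P C) ≤ 1 := Finite.card_le_one_iff_subsingleton.2 hsub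
  have h4 : Nat.card (fixedPoints P C) ≡ 2 [MOD p] := h2.symm.trans hmod
  have hp3 : 3 ≤ p := by
    obtain ⟨l, hl⟩ := h.odd_p hW hp
    have := hp.prime.two_le
    omega
  have h5 := Nat.ModEq.eq_of_lt_of_lt h4 (by omega) (by omega)
  omega

/-- **No one-sided kernels.** -/
theorem one_sided (hW : h.Weak n) (hp : Fine p n) (hB : WeakBelow G) {E X : h.Pt} (hEX : E ≠ X)
    {k : G} (hk : ∃ j : ℕ, orderOf k = p ^ j) (hkE : h.Cent k E) (hkX : k • X = X) :
    h.Cent k X := by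
  classical
  haveI : Fact p.Prime := ⟨hp.prime⟩
  by_contra hkne
  -- a configuration
  obtain ⟨j, hj⟩ := hk
  have hex : ∃ i, h.Cent (k ^ p ^ i) X :=
    ⟨j, fun v _ => by rw [← hj, pow_orderOf_eq_one]; exact Commute.one_left v⟩
  have hi := Nat.find_spec hex
  obtain ⟨i, hi'⟩ : ∃ i, Nat.find hex = i + 1 := by
    refine Nat.exists_eq_succ_of_ne_zero fun h0 => hkne ?_
    rw [h0, pow_zero, pow_one] at hi
    exact hi
  rw [hi'] at hi
  have hmin : ¬ h.Cent (k ^ p ^ i) X := Nat.find_min hex (by omega)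
  have hcfg : h.Cfg p E X (k ^ p ^ i) (zpowers (k ^ p ^ (i + 1))) := by
    refine ⟨hEX, ?_, fun a ha => ?_, fun a ha => ?_, h.cent_pow hkE _, ?_, hmin, fun a ha => ?_, ?_⟩
    · exact (IsPGroup.of_card (n := j) (G := zpowers k) (by rw [Nat.card_zpowers, hj])).to_le
        (zpowers_le.2 (pow_mem (mem_zpowers k) _))
    · exact h.cent_iff.2 (zpowers_le.2 (h.cent_iff.1 (h.cent_pow hkE _)) ha)
    · exact h.cent_iff.2 (zpowers_le.2 (h.cent_iff.1 hi) ha)
    · exact mem_stabilizer_iff.1 (pow_mem (mem_stabilizer_iff.2 hkX) _)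
    · obtain ⟨z, rfl⟩ := mem_zpowers_iff.1 ha
      exact ((Commute.refl k).pow_pow _ _).zpow_right z
    · rw [← pow_mul, ← pow_succ]; exact mem_zpowers _
  -- a largest one
  let ι := {A : Subgroup G // ∃ (E X : h.Pt) (b : G), h.Cfg p E X b A}
  haveI : Nonempty ι := ⟨⟨_, _, _, _, hcfg⟩⟩
  obtain ⟨⟨A, E, X, b, hc⟩, hAmax⟩ := Finite.exists_max fun A : ι => Nat.card A.1
  have hmax : h.MaxCfg p E X b A :=
    ⟨hc, fun E' X' b' A' hc' => hAmax ⟨A', E', X', b', hc'⟩⟩
  clear hkne hcfg hmin hi hkE hkX hEX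
  -- the image and the product
  obtain ⟨R, m, hm, hPR, hRK, hR, hRm⟩ := h.exists_sylow_swapper hW hp hc.ne
    (isPGroup_zpowers_sup hc.pA hc.comm hc.pow) hc.le_pairStab
  have hbR : b ∈ R := hPR (mem_sup_left (mem_zpowers b))
  have hAR : A ≤ R := le_sup_right.trans hPR
  obtain ⟨hf, hbb, hAm⟩ := hc.flip hW hp hm hR hRK hbR hRm
  set b' := m * b * m with hb'
  have hb'R : b' ∈ R := hRm b hbR
  set w := b * b' with hw
  have hwR : w ∈ R := mul_mem hbR hb'R
  have hwA : ∀ a ∈ A, Commute w a := fun a ha => (hc.comm a ha).mul_left (hf.comm a ha)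
  have hwb : Commute w b := (Commute.refl b).mul_left hbb.symm
  have hwb' : Commute w b' := hbb.mul_left (Commute.refl b')
  have hwm : Commute w m := by
    show b * b' * m = m * (b * b')
    rw [hbb.eq, hb']
    calc m * b * m * b * m = m * b * (m * b * m) := by group
      _ = m * (b * (m * b * m)) := by group
      _ = m * (m * b * m * b) := by rw [hbb.eq]
  have hwE : w • E = E := mem_stabilizer_iff.1 (mem_inf.1 (hRK hwR)).1
  have hwX : w • X = X := mem_stabilizer_iff.1 (mem_inf.1 (hRK hwR)).2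
  have hwnE : ¬ h.Cent w E := fun h1 => hf.nX (by
    rw [show b' = b⁻¹ * w by rw [hw, inv_mul_cancel_left]]
    exact h.cent_mul (h.cent_inv hc.bE) h1)
  have hwnX : ¬ h.Cent w X := fun h1 => hc.nX (by
    rw [show b = w * b'⁻¹ by rw [hw, mul_inv_cancel_right]]
    exact h.cent_mul h1 (h.cent_inv hf.bE))
  have hwp : w ^ p ∈ A := by rw [hw, hbb.mul_pow]; exact mul_mem hc.pow hf.pow
  have hw1 : w ≠ 1 := fun h1 => hwnE fun v _ => h1 ▸ Commute.one_left v
  set S : Set G := insert w (A : Set G) with hSdef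
  have hSR : ∀ s ∈ S, s ∈ R := by
    rintro s (rfl | hs)
    exacts [hwR, hAR hs]
  have hfull := h.centHyp_full hW hp (S := S) fun s hs =>
    ⟨exists_orderOf_eq hR (hSR s hs), E, X, hc.ne, mem_stabilizer_iff.1 (mem_inf.1 (hRK (hSR s hs))).1,
      mem_stabilizer_iff.1 (mem_inf.1 (hRK (hSR s hs))).2⟩
  have hmS : m ∈ centSet D S := by
    refine ⟨hm.1, ?_⟩
    rintro s (rfl | hs)
    exacts [hwm, hAm s hs]
  set P := zpowers b' ⊔ (zpowers b ⊔ A) with hPdef
  have hPR' : P ≤ R := sup_le (zpowers_le.2 hb'R) hPR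
  have hPp : IsPGroup p P := hR.to_le hPR'
  have hPw : ∀ g ∈ P, Commute w g := by
    intro g hg
    have hle : P ≤ centralizer {w} := sup_le (zpowers_le.2 (mem_centralizer_singleton_iff.2 hwb'.eq.symm))
      (fun x hx => mem_centralizer_singleton_iff.2 (commute_of_mem_zpowers_sup hwb hwA hx).eq.symm)
    exact (mem_centralizer_singleton_iff.1 (hle hg)).symm
  have hPA : P ≤ normalizer (A : Set G) := by
    refine sup_le (zpowers_le.2 ?_) (sup_le (zpowers_le.2 ?_) le_normalizer)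
    all_goals refine Subgroup.mem_normalizer_iff.2 fun a => ⟨fun ha => ?_, fun ha => ?_⟩
    · rwa [(hf.comm a ha).eq, mul_inv_cancel_right]
    · have h1 : b' * (b' * a * b'⁻¹) = b' * a * b'⁻¹ * b' := (hf.comm _ ha).eq
      rw [inv_mul_cancel_right] at h1
      rwa [mul_left_cancel h1] at ha
    · rwa [(hc.comm a ha).eq, mul_inv_cancel_right]
    · have h1 : b * (b * a * b⁻¹) = b * a * b⁻¹ * b := (hc.comm _ ha).eq
      rw [inv_mul_cancel_right] at h1
      rwa [mul_left_cancel h1] at ha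
  have hPS : ∀ g ∈ P, ∀ s ∈ S, g * s * g⁻¹ ∈ S := by
    rintro g hg s (rfl | hs)
    · refine Or.inl ?_
      rw [← (hPw g hg).eq, mul_inv_cancel_right]
    · exact Or.inr ((Subgroup.mem_normalizer_iff.1 (hPA hg) s).1 hs)
  set Z := h.pt m hm.1 with hZ
  have hne : ∃ a ∈ centSet D S, ∃ c ∈ centSet D S, ¬ Commute a c := by
    by_contra hall
    push Not at hall
    have hbm : b * m * b⁻¹ ∈ centSet D S := by
      refine ⟨h.conj m hm.1 b, fun s hs => ?_⟩
      have hbP : b ∈ P := mem_sup_right (mem_sup_left (mem_zpowers b))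
      have h1 := hmS.2 _ (hPS b⁻¹ (inv_mem hbP) s hs)
      have h2 := (Commute.conj_iff b).2 h1
      rwa [show b * (b⁻¹ * s * b⁻¹⁻¹) * b⁻¹ = s by group] at h2
    have h3 := h.swapper_eq_of_commute hc.ne (h.swapper_conj (Cent.fix h hc.bE) hc.bX hm) hm
      (hall _ hbm m hmS)
    have h4 : b' = b := by
      rw [hb', ← mul_inv_eq_iff_eq_mul.1 h3, mul_assoc, h.sq hm.1, mul_one]
    exact hc.nX (h4 ▸ hf.bE)
  have hS : CentHyp D S := ⟨hfull, hne⟩
  obtain ⟨a₀, ha₀, -, hPY⟩ := h.exists_fixed_class hW hp hB hS ⟨w, Set.mem_insert w _, hw1⟩ hPp hPS Z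
  set Y := h.pt a₀ ha₀.1 with hY
  have hSY : ∀ s ∈ S, h.Cent s Y := by
    intro s hs v hv
    rcases hv with rfl | ⟨hvD, hvY⟩
    · exact Commute.one_right s
    · exact (hfull a₀ ha₀ v hvD (h.pt_eq_iff.1 hvY).symm).2 s hs
  have hwY : h.Cent w Y := hSY w (Set.mem_insert w _)
  have hAY : ∀ a ∈ A, h.Cent a Y := fun a ha => hSY a (Set.mem_insert_of_mem w ha)
  have hYE : Y ≠ E := fun h1 => hwnE (h1 ▸ hwY)
  have hYX : Y ≠ X := fun h1 => hwnX (h1 ▸ hwY)
  have hbP : b ∈ P := mem_sup_right (mem_sup_left (mem_zpowers b))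
  have hb'P : b' ∈ P := mem_sup_left (mem_zpowers b')
  have hwP : w ∈ P := mul_mem hbP hb'P
  have hlarger : A < zpowers b ⊔ A :=
    lt_of_le_of_ne le_sup_right fun h1 => hc.not_mem (h1 ▸ mem_sup_left (mem_zpowers b))
  have hbY : ¬ h.Cent b Y := by
    intro hbY
    have hb'Y : h.Cent b' Y := by
      rw [show b' = b⁻¹ * w by rw [hw, inv_mul_cancel_left]]
      exact h.cent_mul (h.cent_inv hbY) hwY
    refine hmax.not_larger hlarger (E' := Y) (X' := E) (b' := b') ⟨hYE,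
      isPGroup_zpowers_sup hc.pA hc.comm hc.pow, fun a ha => h.cent_iff.2 ?_,
      fun a ha => h.cent_iff.2 ?_, hb'Y, hf.bX, hf.nX,
      fun a ha => commute_of_mem_zpowers_sup hbb.symm hf.comm ha, mem_sup_right hf.pow⟩
    · exact (sup_le (zpowers_le.2 (h.cent_iff.1 hbY)) (fun x hx => h.cent_iff.1 (hAY x hx)) :
        zpowers b ⊔ A ≤ _) ha
    · exact (sup_le (zpowers_le.2 (h.cent_iff.1 hc.bE)) (fun x hx => h.cent_iff.1 (hc.centE x hx)) :
        zpowers b ⊔ A ≤ _) ha
  have hb'Y : ¬ h.Cent b' Y := fun h1 => hbY (by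
    rw [show b = w * b'⁻¹ by rw [hw, mul_inv_cancel_right]]
    exact h.cent_mul hwY (h.cent_inv h1))
  -- swappers of the three pairs normalize `P`
  obtain ⟨m₁, hm₁, hn₁⟩ := hmax.edge hW hp hf.bX hf.nX hf.bE hbb.symm hf.comm hf.pow
  have hmaxY : h.MaxCfg p E Y b A :=
    ⟨⟨hYE.symm, hc.pA, hc.centE, hAY, hc.bE, hPY b hbP, hbY, hc.comm, hc.pow⟩, hmax.2⟩
  obtain ⟨m₂, hm₂, hn₂⟩ := hmaxY.edge hW hp hwE hwnE hwY hwb hwA hwp
  have hmaxX : h.MaxCfg p X Y b' A :=
    ⟨⟨hYX.symm, hc.pA, hc.centX, hAY, hf.bE, hPY b' hb'P, hb'Y, hf.comm, hf.pow⟩, hmax.2⟩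
  obtain ⟨m₃, hm₃, hn₃⟩ := hmaxX.edge hW hp hwX hwnX hwY hwb' hwA hwp
  have hP2 : zpowers w ⊔ (zpowers b ⊔ A) = P := by
    refine le_antisymm (sup_le (zpowers_le.2 hwP) le_sup_right) (sup_le (zpowers_le.2 ?_) le_sup_right)
    rw [show b' = b⁻¹ * w by rw [hw, inv_mul_cancel_left]]
    exact mul_mem (inv_mem (mem_sup_right (mem_sup_left (mem_zpowers b)))) (mem_sup_left (mem_zpowers w))
  have hP3 : zpowers w ⊔ (zpowers b' ⊔ A) = P := by
    refine le_antisymm (sup_le (zpowers_le.2 hwP)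
      (sup_le (zpowers_le.2 hb'P) (le_sup_right.trans le_sup_right)))
      (sup_le (le_sup_left.trans le_sup_right) (sup_le (zpowers_le.2 ?_) (le_sup_right.trans le_sup_right)))
    rw [show b = w * b'⁻¹ by rw [hw, mul_inv_cancel_right]]
    exact mul_mem (mem_sup_left (mem_zpowers w))
      (inv_mem (mem_sup_right (mem_sup_left (mem_zpowers b'))))
  rw [hP2] at hn₂
  rw [hP3] at hn₃
  -- the members normalizing `P`
  set M : Set G := {g | g ∈ D ∧ ∀ x ∈ P, g * x * g ∈ P} with hMdef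
  have hinv : ∀ g ∈ M, ∀ g' ∈ M, g * g' * g ∈ M := by
    intro g hg g' hg'
    refine ⟨h.toOT.conj2 hg'.1 (h.sq hg.1), fun x hx => ?_⟩
    rw [show g * g' * g * x * (g * g' * g) = g * (g' * (g * x * g) * g') * g by group]
    exact hg.2 _ (hg'.2 _ (hg.2 x hx))
  have hPE : ∀ x ∈ P, x • E = E ∧ x • X = X := fun x hx =>
    ⟨mem_stabilizer_iff.1 (mem_inf.1 (hRK (hPR' hx))).1,
      mem_stabilizer_iff.1 (mem_inf.1 (hRK (hPR' hx))).2⟩
  -- none lies in the first class
  have hfix : ∀ (g : G) (hg : g ∈ M), h.pt g hg.1 ≠ E := by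
    intro g hg hgE
    have hgm : g ∈ h.grp E := Or.inr ⟨hg.1, hgE⟩
    have h1 : b' * g * b'⁻¹ * g ∈ h.grp E := mul_mem (h.grp_conj_fix hf.bX hgm) hgm
    have h2 : b' * g * b'⁻¹ * g ∈ P := by
      rw [show b' * g * b'⁻¹ * g = b' * (g * b'⁻¹ * g) by group]
      exact mul_mem hb'P (hg.2 _ (inv_mem hb'P))
    have h3 := eq_one_of_odd_sq (odd_orderOf (h.odd_p hW hp) hPp h2) (h.grp_sq h1)
    have h4 : Commute b' g := mul_inv_eq_iff_eq_mul.1 (eq_inv_of_mul_eq_one_left h3 |>.trans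
      (h.toOT.inv hg.1))
    exact hf.nX (h.cent_of_commute hW hp hc.ne hf.bX (Cent.fix h hf.bE) (exists_orderOf_eq hR hb'R)
      hgm (h.toOT.ne_one hg.1) h4)
  -- they pairwise do not commute
  have hnc : ∀ g ∈ M, ∀ g' ∈ M, Commute g g' → g = g' := by
    intro g hg g' hg' hcgg
    by_contra hne'
    set L := h.pt g hg.1 with hL
    set F : Subgroup G := closure {g, g'} with hF
    have hgF : g ∈ F := subset_closure (Set.mem_insert g _)
    have hg'F : g' ∈ F := subset_closure (Set.mem_insert_of_mem g rfl)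
    have hFL : F ≤ h.grp L := by
      rw [hF, closure_le]
      rintro x (rfl | rfl)
      · exact h.self_mem_grp hg.1
      · exact Or.inr ⟨hg'.1, h.pt_eq_iff.2 hcgg.symm⟩
    haveI : IsMulCommutative F := ⟨⟨fun x y => Subtype.ext (h.grp_comm (hFL x.2) (hFL y.2)).eq⟩⟩
    have hncyc : ¬ IsCyclic F := by
      intro hcy
      haveI := hcy
      have hd : Nat.card F ∣ 2 := by
        rw [← IsCyclic.exponent_eq_card]
        exact Monoid.exponent_dvd_of_forall_pow_eq_one fun x => Subtype.ext (by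
          rw [SubgroupClass.coe_pow, pow_two]; exact h.grp_sq (hFL x.2))
      have h3 : ({1, g, g'} : Set G) ⊆ F := by
        rintro x (rfl | rfl | rfl)
        exacts [one_mem F, hgF, hg'F]
      have h4 := Set.ncard_le_ncard h3 (Set.toFinite _)
      rw [Set.ncard_eq_three.2 ⟨1, g, g', (h.toOT.ne_one hg.1).symm,
        (h.toOT.ne_one hg'.1).symm, hne', rfl⟩, ← Nat.card_coe_set_eq] at h4
      have h5 : Nat.card F ≤ 2 := Nat.le_of_dvd (by norm_num) hd
      simp only [SetLike.coe_sort_coe] at h4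
      omega
    have hFn : F ≤ normalizer (P : Set G) := by
      rw [hF, closure_le]
      intro x hx
      have hxM : x ∈ M := by rcases hx with rfl | rfl; exacts [hg, hg']
      have hxi := h.toOT.inv hxM.1
      refine Subgroup.mem_normalizer_iff.2 fun y => ⟨fun hy => ?_, fun hy => ?_⟩
      · rw [hxi]; exact hxM.2 y hy
      · have h6 := hxM.2 _ hy
        rw [hxi, GenA.OddTransp.conj_conj (h.sq hxM.1)] at h6
        exact h6
    have hcop : (Nat.card F).Coprime (Nat.card P) := by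
      obtain ⟨a, ha⟩ := h.grp_card L F hFL
      obtain ⟨c, hc'⟩ := IsPGroup.iff_card.1 hPp
      rw [ha, hc']
      exact (Nat.coprime_two_left.2 (h.odd_p hW hp).pow).pow_left a
    have hPL : P ≤ centralizer (h.grp L : Set G) := by
      rw [← Coprime.fixedGen_eq hncyc hFn hcop]
      refine iSup₂_le fun x hx y hy => ?_
      have hxL := hFL hx.1
      have hcom : Commute y x := mem_centralizer_singleton_iff.1 hy.2 |>.symm |> Commute.symm
      have hyL : y • L = L := h.fix_of_commute hxL hx.2 hcom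
      refine h.cent_iff.1 ?_
      by_cases hLE : L = E
      · exact h.cent_of_commute hW hp (hLE ▸ hc.ne) hyL (hPE y hy.1).2
          (exists_orderOf_eq hPp hy.1) hxL hx.2 hcom
      · exact h.cent_of_commute hW hp hLE hyL (hPE y hy.1).1 (exists_orderOf_eq hPp hy.1) hxL hx.2 hcom
    have hcentL : ∀ x ∈ P, h.Cent x L := fun x hx => h.cent_iff.2 (hPL hx)
    have hLE : L ≠ E := fun h1 => hf.nX (h1 ▸ hcentL b' hb'P)
    refine hmax.not_larger hlarger (E' := L) (X' := E) (b' := b') ⟨hLE,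
      isPGroup_zpowers_sup hc.pA hc.comm hc.pow, fun a ha => hcentL a (mem_sup_right ha),
      fun a ha => h.cent_iff.2 ?_, hcentL b' hb'P, hf.bX, hf.nX,
      fun a ha => commute_of_mem_zpowers_sup hbb.symm hf.comm ha, mem_sup_right hf.pow⟩
    exact (sup_le (zpowers_le.2 (h.cent_iff.1 hc.bE)) (fun x hx => h.cent_iff.1 (hc.centE x hx)) :
      zpowers b ⊔ A ≤ _) ha
  exact h.no_triangle (M := M) (fun g hg => hg.1) hinv hnc ⟨hm₁.1, hn₁⟩ ⟨hm₂.1, hn₂⟩ ⟨hm₃.1, hn₃⟩
    hm₁.2 hm₂.2 hm₃.2 hfix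

end ClassGroups

end Cfsg.Agent.OddTranspX
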