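import Cfsg.Agent.Lib.OddTranspX.TorusSetup

/-!
# `torus_base`: the recursive setting holds

The products of two swappers of two classes are exactly the linear elements of the pair stabiliser.
-/

set_option autoImplicit false
set_option linter.style.haveILetI false
set_option linter.unusedSectionVars false

namespace Cfsg.Agent.OddTranspX

open Subgroup MulAction

universe u

variable {G : Type u} [Group G] [Finite G] {D : Set G}

theorem ClassGroups.torus_le (h : ClassGroups D) (E X : h.Pt) : h.torus E X ≤ h.pairStab E X :=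
  fun _ hg => h.mem_pairStab.2 (h.torus_fix hg)

theorem ClassGroups.torus_conj_stab (h : ClassGroups D) {E X : h.Pt} {k c : G}
    (hk : k ∈ h.pairStab E X) (hc : c ∈ h.torus E X) : k * c * k⁻¹ ∈ h.torus E X := by
  obtain ⟨hkE, hkX⟩ := h.mem_pairStab.1 hk
  have hle : h.torus E X ≤ (h.torus E X).comap (MulAut.conj k).toMonoidHom := by
    conv_lhs => rw [ClassGroups.torus]
    rw [closure_le]
    rintro _ ⟨a, ha, b, hb, rfl⟩
    exact subset_closure ⟨_, h.swapper_conj hkE hkX ha, _, h.swapper_conj hkE hkX hb,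
      by show k * (a * b) * k⁻¹ = _; group⟩
  exact hle hc

theorem ClassGroups.pairStab_conj (h : ClassGroups D) {E X E' X' : h.Pt} {g : G} (hE : g • E = E')
    (hX : g • X = X') : Nat.card (h.pairStab E X) = Nat.card (h.pairStab E' X') := by
  refine Nat.card_eq_of_bijective (fun k => ⟨g * k * g⁻¹, h.mem_pairStab.2
    ⟨by rw [mul_smul, mul_smul, inv_smul_eq_iff.2 hE.symm, (h.mem_pairStab.1 k.2).1, hE],
     by rw [mul_smul, mul_smul, inv_smul_eq_iff.2 hX.symm, (h.mem_pairStab.1 k.2).2, hX]⟩⟩)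
    ⟨fun a b hab => Subtype.ext ((MulAut.conj g).injective (congrArg Subtype.val hab)), fun k =>
      ⟨⟨g⁻¹ * k * g, h.mem_pairStab.2
        ⟨by rw [mul_smul, mul_smul, hE, (h.mem_pairStab.1 k.2).1, inv_smul_eq_iff.2 hE.symm],
         by rw [mul_smul, mul_smul, hX, (h.mem_pairStab.1 k.2).2, inv_smul_eq_iff.2 hX.symm]⟩⟩,
        Subtype.ext (by show g * (g⁻¹ * (k : G) * g) * g⁻¹ = k; group)⟩⟩

variable {h : ClassGroups D} {n p : ℕ} (T : TorusHyp h n p)
include T

/-- An element inverted by a swapper is linear. -/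
theorem TorusHyp.lin_of_inverted {E X : h.Pt} (hEX : E ≠ X) (S : Semi h E X) {m : G}
    (hm : m ∈ h.swappers E X) {x : h.pairStab E X} (hx : m * (x : G) * m = (x : G)⁻¹) :
    S.aut x = 1 := by
  haveI : Fact p.Prime := ⟨T.prime⟩
  obtain ⟨y, hy⟩ := T.exists_elem hEX
  have hmm := h.sq hm.1
  have hmi := h.toOT.inv hm.1
  have hconj : ∀ k : h.pairStab E X, m * (k : G) * m ∈ h.pairStab E X := fun k =>
    h.mem_pairStab.2 (by
      rw [mul_smul, mul_smul, hm.2, (h.mem_pairStab.1 k.2).2, h.swapper_back hm, mul_smul, mul_smul,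
        h.swapper_back hm, (h.mem_pairStab.1 k.2).1, hm.2]
      exact ⟨rfl, rfl⟩)
  let c : h.pairStab E X →* h.pairStab E X := MonoidHom.mk' (fun k => ⟨m * k * m, hconj k⟩)
    fun a b => Subtype.ext (by
      show m * ((a : G) * b) * m = m * a * m * (m * b * m)
      rw [show m * (a : G) * m * (m * b * m) = m * a * (m * m) * b * m by group, hmm]; group)
  have hcc : ∀ k, c (c k) = k := fun k => Subtype.ext (GenA.OddTransp.conj_conj hmm)
  have hc_inj : Function.Injective c := Function.LeftInverse.injective hcc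
  have hy1 := T.aut_eq_one_of_pow S (k := y) (hy ▸ pow_orderOf_eq_one y)
  have hcy : orderOf (c y) = p := by rw [orderOf_injective c hc_inj, hy]
  -- the elements of order `p` lie in one cyclic group
  have hpow : ∀ z : h.pairStab E X, orderOf z = p → ∃ i : ℕ, z = y ^ i := by
    intro z hz
    have hz1 := T.aut_eq_one_of_pow S (k := z) (hz ▸ pow_orderOf_eq_one z)
    have hcz : S.coef z ^ p = 1 := by rw [← S.coef_pow_of_lin hz1, ← hz, pow_orderOf_eq_one, S.coef_one]
    have hprim : IsPrimitiveRoot (S.coef y) p := by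
      have h1 : orderOf (S.coef y) = p := orderOf_eq_prime
        (by rw [← S.coef_pow_of_lin hy1, ← hy, pow_orderOf_eq_one, S.coef_one])
        (T.coef_ne_one hEX S hy)
      exact h1 ▸ IsPrimitiveRoot.orderOf _
    haveI : NeZero p := ⟨T.prime.ne_zero⟩
    obtain ⟨i, -, hi⟩ := hprim.eq_pow_of_pow_eq_one hcz
    refine ⟨i, Subtype.ext (mul_inv_eq_one.1 (T.faithful hEX (mul_mem z.2 (inv_mem (y ^ i).2)) ?_))⟩
    have hyi : S.aut (y ^ i) = 1 := by rw [S.aut_pow, hy1, one_pow]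
    have hcoef : S.coef (z * (y ^ i)⁻¹) = 1 := by
      have h1 := S.coef_mul_of_lin (k := z * (y ^ i)⁻¹) (by
        have := (S.mul (z * (y ^ i)⁻¹) (y ^ i)).2
        rw [inv_mul_cancel_right, hz1, hyi, mul_one] at this
        exact this.symm) (y ^ i)
      rw [inv_mul_cancel_right, S.coef_pow_of_lin hy1, hi, eq_comm,
        mul_eq_right₀ (S.coef_ne_zero z)] at h1
      exact h1
    refine (S.coef_aut_eq_one_iff _).1 ⟨hcoef, ?_⟩
    have := (S.mul (z * (y ^ i)⁻¹) (y ^ i)).2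
    rw [inv_mul_cancel_right, hz1, hyi, mul_one] at this
    exact this.symm
  obtain ⟨a, ha⟩ := hpow (c y) hcy
  obtain ⟨j, hj⟩ := hpow (x * y * x⁻¹)
    (show orderOf (MulAut.conj x y) = p by rw [MulEquiv.orderOf_eq, hy])
  have hcx : c x = x⁻¹ := Subtype.ext hx
  -- conjugation by `x` and by `x⁻¹` agree on `c y`
  have h1 : x * c y * x⁻¹ = (c y) ^ j := by
    rw [ha, ← conj_pow, hj, ← pow_mul, ← pow_mul, mul_comm]
  have h2 : x⁻¹ * c y * x = (c y) ^ j := by
    rw [← map_pow, ← hj, map_mul, map_mul, map_inv, hcx, inv_inv]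
  have h3 : x ^ 2 * c y = c y * x ^ 2 := by
    have h4 : x * c y * x⁻¹ = x⁻¹ * c y * x := h1.trans h2.symm
    calc x ^ 2 * c y = x * (x * c y * x⁻¹) * x := by rw [pow_two]; group
      _ = c y * x ^ 2 := by rw [h4, pow_two]; group
  have h5 := (T.lin_iff hEX S hcy (x ^ 2)).2 h3
  rw [S.aut_pow] at h5
  have hoddx : Odd (orderOf (S.aut x)) :=
    Odd.of_dvd_nat (T.oddPair E X hEX)
      ((orderOf_map_dvd S.autHom x).trans (orderOf_dvd_natCard x))
  obtain ⟨l, hl⟩ := hoddx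
  have h6 := orderOf_dvd_of_pow_eq_one h5
  rcases (Nat.dvd_prime Nat.prime_two).1 h6 with h7 | h7
  · exact orderOf_eq_one_iff.1 h7
  · omega

/-- Products of two swappers are linear. -/
theorem TorusHyp.aut_torus {E X : h.Pt} (hEX : E ≠ X) (S : Semi h E X) {g : G}
    (hg : g ∈ h.torus E X) : S.aut ⟨g, h.torus_le E X hg⟩ = 1 := by
  have hle : h.torus E X ≤ (MonoidHom.ker S.autHom).map (h.pairStab E X).subtype := by
    rw [ClassGroups.torus, closure_le]
    rintro _ ⟨m, hm, m', hm', rfl⟩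
    have hmem : m * m' ∈ h.pairStab E X := h.mem_pairStab.2 (by
      rw [mul_smul, hm'.2, h.swapper_back hm, mul_smul, h.swapper_back hm', hm.2]
      exact ⟨rfl, rfl⟩)
    refine ⟨⟨m * m', hmem⟩, T.lin_of_inverted hEX S hm (x := ⟨m * m', hmem⟩) ?_, rfl⟩
    show m * (m * m') * m = (m * m')⁻¹
    rw [mul_inv_rev, h.toOT.inv hm.1, h.toOT.inv hm'.1, ← mul_assoc m m, h.sq hm.1, one_mul]
  obtain ⟨k, hk, rfl⟩ := hle hg
  exact hk

/-- A linear element is determined by its scalar. -/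
theorem TorusHyp.eq_of_coef {E X : h.Pt} (hEX : E ≠ X) (S : Semi h E X) {k l : h.pairStab E X}
    (hk : S.aut k = 1) (hl : S.aut l = 1) (hc : S.coef k = S.coef l) : k = l := by
  have e : S.aut (k * l⁻¹) = 1 := by
    have h1 : S.autHom (k * l⁻¹) = 1 := by
      rw [map_mul, map_inv, show S.autHom k = 1 from hk, show S.autHom l = 1 from hl, inv_one, mul_one]
    exact h1
  have h1 := S.coef_mul_of_lin e l
  rw [inv_mul_cancel_right, hc, eq_comm, mul_eq_right₀ (S.coef_ne_zero l)] at h1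
  exact Subtype.ext (mul_inv_eq_one.1 (T.faithful hEX (k * l⁻¹).2
    ((S.coef_aut_eq_one_iff _).1 ⟨h1, e⟩)))

/-- Linear elements commute. -/
theorem TorusHyp.lin_comm {E X : h.Pt} (hEX : E ≠ X) (S : Semi h E X) {k l : h.pairStab E X}
    (hk : S.aut k = 1) (hl : S.aut l = 1) : k * l = l * k :=
  T.eq_of_coef hEX S (by rw [(S.mul _ _).2, hk, hl, one_mul]) (by rw [(S.mul _ _).2, hk, hl, one_mul])
    (by rw [S.coef_mul_of_lin hk, S.coef_mul_of_lin hl, mul_comm])

/-- The torus maps onto the non-zero scalars. -/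
theorem TorusHyp.torus_surj {E X : h.Pt} (hEX : E ≠ X) (S : Semi h E X) {x : S.F} (hx : x ≠ 0) :
    ∃ g, ∃ hg : g ∈ h.torus E X, S.coef ⟨g, h.torus_le E X hg⟩ = x := by
  obtain ⟨v₁, hv₁⟩ := S.bij.2 1
  obtain ⟨w, hw⟩ := S.bij.2 x
  obtain ⟨haD, haE⟩ := v₁.2.resolve_left fun h1 => one_ne_zero (by
    rw [← hv₁, show v₁ = 1 from Subtype.ext h1, S.φ_one] : (1 : S.F) = 0)
  obtain ⟨hwD, hwE⟩ := w.2.resolve_left fun h1 => hx (by
    rw [← hw, show w = 1 from Subtype.ext h1, S.φ_one])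
  obtain ⟨y, hy, hyX⟩ := h.exists_pt X
  obtain ⟨m, hm, hma⟩ := h.exists_swapper haE hyX hEX
  obtain ⟨m', hm', hma'⟩ := h.exists_swapper hwE hyX hEX
  refine ⟨m' * m, subset_closure ⟨m', hm', m, hm, rfl⟩, ?_⟩
  have h1 := S.spec ⟨m' * m, h.torus_le E X (subset_closure ⟨m', hm', m, hm, rfl⟩)⟩ v₁
  rw [hv₁, map_one, mul_one] at h1
  rw [← h1, ← hw]
  refine congrArg S.φ (Subtype.ext ?_)
  show m' * m * (v₁ : G) * (m' * m)⁻¹ = w
  rw [mul_inv_rev, h.toOT.inv hm.1, h.toOT.inv hm'.1]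
  calc m' * m * (v₁ : G) * (m * m') = m' * (m * v₁ * m) * m' := by group
    _ = w := by rw [hma, ← hma', GenA.OddTransp.conj_conj (h.sq hm'.1)]

/-- The torus is the group of linear elements. -/
theorem TorusHyp.mem_torus_iff {E X : h.Pt} (hEX : E ≠ X) (S : Semi h E X) {g : G}
    (hg : g ∈ h.pairStab E X) : g ∈ h.torus E X ↔ S.aut ⟨g, hg⟩ = 1 := by
  refine ⟨fun h1 => T.aut_torus hEX S h1, fun h1 => ?_⟩
  obtain ⟨c, hc, hcc⟩ := T.torus_surj hEX S (S.coef_ne_zero ⟨g, hg⟩)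
  have := congrArg Subtype.val (T.eq_of_coef hEX S (T.aut_torus hEX S hc) h1 hcc)
  exact (show c = g from this) ▸ hc

theorem TorusHyp.card_torus {E X : h.Pt} (hEX : E ≠ X) :
    Nat.card (h.torus E X) = 2 ^ n - 1 := by
  classical
  obtain ⟨S⟩ := T.semi hEX
  rw [← T.card_grp E, ← S.card_F]
  haveI := Fintype.ofFinite S.F
  rw [Nat.card_eq_fintype_card (α := S.F), ← Fintype.card_units, ← Nat.card_eq_fintype_card]
  refine Nat.card_eq_of_bijective
    (fun g => Units.mk0 (S.coef ⟨g, h.torus_le E X g.2⟩) (S.coef_ne_zero _)) ⟨?_, ?_⟩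
  · intro a b hab
    have := congrArg Subtype.val (T.eq_of_coef hEX S (T.aut_torus hEX S a.2) (T.aut_torus hEX S b.2)
      (congrArg Units.val hab))
    exact Subtype.ext this
  · intro u
    obtain ⟨g, hg, hgu⟩ := T.torus_surj hEX S u.ne_zero
    exact ⟨⟨g, hg⟩, Units.ext hgu⟩

theorem TorusHyp.torus_isCyclic {E X : h.Pt} (hEX : E ≠ X) : IsCyclic (h.torus E X) := by
  obtain ⟨S⟩ := T.semi hEX
  let f : h.torus E X →* S.F :=
    { toFun := fun g => S.coef ⟨g, h.torus_le E X g.2⟩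
      map_one' := S.coef_one
      map_mul' := fun a b => S.coef_mul_of_lin (T.aut_torus hEX S a.2) ⟨b, h.torus_le E X b.2⟩ }
  exact isCyclic_of_injective_ringHom f fun a b hab => Subtype.ext (Subtype.mk.inj
    (T.eq_of_coef hEX S (T.aut_torus hEX S a.2) (T.aut_torus hEX S b.2) hab))

theorem TorusHyp.torus_free {E X : h.Pt} (hEX : E ≠ X) {c : G} (hc : c ∈ h.torus E X) (hc1 : c ≠ 1)
    {v : G} (hv : v ∈ h.grp E) (hv1 : v ≠ 1) : c * v * c⁻¹ ≠ v := by
  intro hfix
  obtain ⟨S⟩ := T.semi hEX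
  exact hc1 (T.faithful hEX (h.torus_le E X hc)
    (S.centralize_of_lin_fix (T.aut_torus hEX S hc) (v := ⟨v, hv⟩)
      (fun h1 => hv1 (congrArg Subtype.val h1)) (Subtype.ext hfix)))

/-- Swappers invert the torus. -/
theorem TorusHyp.inverted {E X : h.Pt} (hEX : E ≠ X) {m : G} (hm : m ∈ h.swappers E X) {c : G}
    (hc : c ∈ h.torus E X) : m * c * m = c⁻¹ := by
  obtain ⟨S⟩ := T.semi hEX
  have hcomm : ∀ a ∈ h.torus E X, ∀ b ∈ h.torus E X, a * b = b * a := fun a ha b hb =>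
    congrArg Subtype.val (T.lin_comm hEX S (T.aut_torus hEX S ha) (T.aut_torus hEX S hb))
  have hmm := h.sq hm.1
  have hinvp : ∀ a ∈ h.swappers E X, m * (m * a) * m = (m * a)⁻¹ := fun a ha => by
    rw [← mul_assoc m m, hmm, one_mul, mul_inv_rev, h.toOT.inv hm.1, h.toOT.inv ha.1]
  have he : ∀ u v : G, m * (u * v) * m = m * u * m * (m * v * m) := fun u v => by
    calc m * (u * v) * m = m * u * 1 * v * m := by group
      _ = m * u * (m * m) * v * m := by rw [hmm]
      _ = m * u * m * (m * v * m) := by group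
  have he' : ∀ u : G, m * u⁻¹ * m = (m * u * m)⁻¹ := fun u => by
    rw [mul_inv_rev, mul_inv_rev, h.toOT.inv hm.1, mul_assoc]
  rw [ClassGroups.torus] at hc
  induction hc using closure_induction with
  | mem g hg =>
    obtain ⟨a, ha, b, hb, rfl⟩ := hg
    have hma : m * a ∈ h.torus E X := subset_closure ⟨m, hm, a, ha, rfl⟩
    have hmb : m * b ∈ h.torus E X := subset_closure ⟨m, hm, b, hb, rfl⟩
    have hab : a * b = (m * a)⁻¹ * (m * b) := by
      rw [mul_inv_rev, h.toOT.inv ha.1, h.toOT.inv hm.1, mul_assoc a, ← mul_assoc m m, hmm, one_mul]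
    rw [hab, he, he', hinvp a ha, hinvp b hb, inv_inv, mul_inv_rev (m * a)⁻¹ (m * b), inv_inv]
    exact hcomm _ hma _ (inv_mem hmb)
  | one => rw [mul_one, hmm, inv_one]
  | mul a b ha hb iha ihb =>
    rw [he, iha, ihb, ← mul_inv_rev]
    exact congrArg _ (hcomm _ hb _ ha)
  | inv a ha iha => rw [he', iha]

/-- Every element is a torus element times one centralising a given swapper. -/
theorem TorusHyp.card_pair {E X : h.Pt} (hEX : E ≠ X) {m : G} (hm : m ∈ h.swappers E X) :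
    Nat.card (h.pairStab E X) =
      (2 ^ n - 1) * Nat.card ↥(h.pairStab E X ⊓ centralizer {m}) := by
  classical
  have hinj : Function.Injective fun o : h.torus E X =>
      (⟨(o : G) * m * (o : G)⁻¹, h.swapper_conj (h.torus_fix o.2).1 (h.torus_fix o.2).2 hm⟩ :
        h.swappers E X) := by
    intro a b hab
    have h1 : (a : G) * m * (a : G)⁻¹ = b * m * (b : G)⁻¹ := congrArg Subtype.val hab
    have hd : (b : G)⁻¹ * a ∈ h.torus E X := mul_mem (inv_mem b.2) a.2
    have h2 : ((b : G)⁻¹ * a) * m = m * ((b : G)⁻¹ * a) := by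
      calc (b : G)⁻¹ * a * m = (b : G)⁻¹ * ((a : G) * m * (a : G)⁻¹) * a := by group
        _ = m * ((b : G)⁻¹ * a) := by rw [h1]; group
    have h3 := T.inverted hEX hm hd
    rw [mul_assoc, h2, ← mul_assoc, h.sq hm.1, one_mul] at h3
    have h4 : ((b : G)⁻¹ * a) ^ 2 = 1 := by
      rw [pow_two]; nth_rewrite 1 [h3]; exact inv_mul_cancel _
    have hodd : Odd (orderOf ((b : G)⁻¹ * a)) :=
      Odd.of_dvd_nat (T.oddPair E X hEX)
        (Subgroup.orderOf_dvd_natCard _ (h.torus_le E X hd))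
    have h5 : (b : G)⁻¹ * a = 1 :=
      RootInvolutions.Basic.eq_one_of_odd hodd (n := 1) (by rw [pow_one]; exact h4)
    exact Subtype.ext (inv_mul_eq_one.1 h5).symm
  have hbij : Function.Bijective fun o : h.torus E X =>
      (⟨(o : G) * m * (o : G)⁻¹, h.swapper_conj (h.torus_fix o.2).1 (h.torus_fix o.2).2 hm⟩ :
        h.swappers E X) := by
    haveI : Finite (h.swappers E X) := Subtype.finite
    refine (Nat.bijective_iff_injective_and_card _).2 ⟨hinj, ?_⟩
    rw [T.card_torus hEX, h.card_swappers hEX, card_ne_one, T.card_grp]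
  rw [← T.card_torus hEX, ← Nat.card_prod]
  refine (Nat.card_eq_of_bijective (fun x : h.torus E X × ↥(h.pairStab E X ⊓ centralizer {m}) =>
    (⟨(x.1 : G) * x.2, mul_mem (h.torus_le E X x.1.2) (mem_inf.1 x.2.2).1⟩ : h.pairStab E X))
    ⟨?_, ?_⟩).symm
  · rintro ⟨a, w⟩ ⟨a', w'⟩ he
    have he' : (a : G) * w = a' * w' := congrArg Subtype.val he
    have hcm : ∀ z : ↥(h.pairStab E X ⊓ centralizer {m}), (z : G) * m * (z : G)⁻¹ = m := fun z =>
      mul_inv_eq_iff_eq_mul.2 (mem_centralizer_singleton_iff.1 (mem_inf.1 z.2).2)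
    have h1 : a = a' := hbij.1 (Subtype.ext (by
      calc (a : G) * m * (a : G)⁻¹ = (a * w) * m * ((a : G) * w)⁻¹ := by
            conv_lhs => rw [← hcm w]
            group
        _ = (a' * w') * m * ((a' : G) * w')⁻¹ := by rw [he']
        _ = (a' : G) * ((w' : G) * m * (w' : G)⁻¹) * (a' : G)⁻¹ := by group
        _ = _ := by rw [hcm w']))
    subst h1
    exact Prod.ext rfl (Subtype.ext (mul_left_cancel he'))
  · intro g
    obtain ⟨hgE, hgX⟩ := h.mem_pairStab.1 g.2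
    obtain ⟨o, ho⟩ := hbij.2 ⟨(g : G) * m * (g : G)⁻¹, h.swapper_conj hgE hgX hm⟩
    have ho' : (o : G) * m * (o : G)⁻¹ = (g : G) * m * (g : G)⁻¹ := congrArg Subtype.val ho
    refine ⟨⟨o, (o : G)⁻¹ * g, mem_inf.2 ⟨mul_mem (inv_mem (h.torus_le E X o.2)) g.2,
      mem_centralizer_singleton_iff.2 ?_⟩⟩, Subtype.ext (mul_inv_cancel_left _ _)⟩
    calc (o : G)⁻¹ * g * m = (o : G)⁻¹ * ((g : G) * m * (g : G)⁻¹) * g := by group
      _ = m * ((o : G)⁻¹ * g) := by rw [← ho']; group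

/-- The automorphism is faithful on the centraliser of a swapper. -/
theorem TorusHyp.aut_inj {E X : h.Pt} (hEX : E ≠ X) (S : Semi h E X) {m : G}
    (hm : m ∈ h.swappers E X) {k : h.pairStab E X} (hk : (k : G) ∈ centralizer {m})
    (h1 : S.aut k = 1) : k = 1 := by
  have hkt : (k : G) ∈ h.torus E X := (T.mem_torus_iff hEX S k.2).2 h1
  have h2 := T.inverted hEX hm hkt
  rw [mul_assoc, mem_centralizer_singleton_iff.1 hk, ← mul_assoc, h.sq hm.1, one_mul] at h2
  have hodd : Odd (orderOf (k : G)) :=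
    Odd.of_dvd_nat (T.oddPair E X hEX) (Subgroup.orderOf_dvd_natCard _ k.2)
  refine Subtype.ext (RootInvolutions.Basic.eq_one_of_odd hodd (n := 1) ?_)
  rw [pow_one, pow_two]
  nth_rewrite 1 [h2]
  exact inv_mul_cancel _

theorem TorusHyp.field_cyclic {E X : h.Pt} (hEX : E ≠ X) {m : G} (hm : m ∈ h.swappers E X) :
    IsCyclic ↥(h.pairStab E X ⊓ centralizer {m}) := by
  classical
  obtain ⟨S⟩ := T.semi hEX
  haveI : Fact (Nat.Prime 2) := ⟨Nat.prime_two⟩
  haveI : CharP S.F 2 := charP_of_card_eq_prime_pow (p := 2) (f := n)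
    (by rw [← Nat.card_eq_fintype_card, S.card_F, T.card_grp])
  letI : Algebra (ZMod 2) S.F := ZMod.algebra S.F 2
  let ι : RingAut S.F →* (S.F ≃ₐ[ZMod 2] S.F) :=
    MonoidHom.mk' (fun σ => AlgEquiv.ofRingEquiv (f := σ) fun x =>
      RingHom.congr_fun (Subsingleton.elim (σ.toRingHom.comp (algebraMap (ZMod 2) S.F))
        (algebraMap (ZMod 2) S.F)) x) fun σ τ => AlgEquiv.ext fun x => rfl
  have hι : Function.Injective ι := fun σ τ hστ =>
    RingEquiv.ext fun x => AlgEquiv.congr_fun hστ x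
  let f : ↥(h.pairStab E X ⊓ centralizer {m}) →* (S.F ≃ₐ[ZMod 2] S.F) :=
    ι.comp (S.autHom.comp (Subgroup.inclusion inf_le_left))
  refine isCyclic_of_injective f ((injective_iff_map_eq_one f).2 fun k hk => ?_)
  have h1 := T.aut_inj hEX S hm (k := Subgroup.inclusion inf_le_left k) (mem_inf.1 k.2).2
    (hι (hk.trans (map_one ι).symm))
  exact Subgroup.inclusion_injective _ (h1.trans (map_one _).symm)

theorem TorusHyp.field_fixed {E X : h.Pt} (hEX : E ≠ X) {m : G} (hm : m ∈ h.swappers E X) {k : G}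
    (hk : k ∈ h.pairStab E X ⊓ centralizer {m}) :
    Nat.card ↥(h.grp E ⊓ centralizer {k}) ^ orderOf k = 2 ^ n := by
  obtain ⟨S⟩ := T.semi hEX
  set k' : h.pairStab E X := ⟨k, (mem_inf.1 hk).1⟩ with hk'
  have hord : orderOf (S.aut k') = orderOf k := by
    refine Nat.dvd_antisymm ((orderOf_map_dvd S.autHom k').trans
      (dvd_of_eq (Subgroup.orderOf_coe k').symm)) (orderOf_dvd_of_pow_eq_one ?_)
    have h1 := T.aut_inj hEX S hm (k := k' ^ orderOf (S.aut k'))
      (by rw [SubgroupClass.coe_pow]; exact pow_mem (mem_inf.1 hk).2 _)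
      (by rw [S.aut_pow, pow_orderOf_eq_one])
    exact congrArg Subtype.val h1
  have hpos : 0 < orderOf k := IsOfFinOrder.orderOf_pos (isOfFinOrder_of_finite k)
  obtain ⟨v, hv, hfix⟩ := S.exists_fix k' (by omega) fun v _ => by
    rw [show k' ^ orderOf (S.aut k') = 1 from Subtype.ext (by
      rw [hord, SubgroupClass.coe_pow]; exact pow_orderOf_eq_one k), Subgroup.coe_one, one_mul,
      inv_one, mul_one]
  rw [S.card_centralized (k := k') hv hfix, ← hord, S.card_fixed, S.card_F, T.card_grp]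

/-- An element of the torus of prime order fixes no third class. -/
theorem TorusHyp.semiregular_prime (hmem : ∀ t : G, orderOf t = 2 → t ∈ D) {E X A : h.Pt}
    (hEX : E ≠ X) (hAE : A ≠ E) (hAX : A ≠ X) {o : G} (ho : o ∈ h.torus E X) {r : ℕ} (hr : r.Prime)
    (hor : orderOf o = r) : o • A ≠ A := by
  intro hA
  have ho1 : o ≠ 1 := fun h1 => by rw [h1, orderOf_one] at hor; exact hr.one_lt.ne hor
  obtain ⟨hoE, hoX⟩ := h.torus_fix ho
  have hodd : Odd (orderOf o) :=
    Odd.of_dvd_nat (h.torus_odd hEX) (Subgroup.orderOf_dvd_natCard _ ho)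
  obtain ⟨S⟩ := T.semi hEX
  obtain ⟨S'⟩ := T.semi hEX.symm
  have hlinX : S'.aut ⟨o, h.mem_pairStab.2 ⟨hoX, hoE⟩⟩ = 1 :=
    (T.lin_symm hEX S S' _ _).1 (T.aut_torus hEX S ho)
  have hfreeX : ∀ v : G, v ∈ h.grp X → v ≠ 1 → o * v * o⁻¹ ≠ v := fun v hv hv1 hfix =>
    ho1 (T.faithful hEX.symm (h.mem_pairStab.2 ⟨hoX, hoE⟩)
      (S'.centralize_of_lin_fix hlinX (v := ⟨v, hv⟩) (fun h1 => hv1 (congrArg Subtype.val h1))
        (Subtype.ext hfix)))
  have intor : ∀ {P : h.Pt}, P ≠ A → o • P = P →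
      (∀ v : G, v ∈ h.grp P → v ≠ 1 → o * v * o⁻¹ ≠ v) → o ∈ h.torus P A := by
    intro P hPA hP hfree
    obtain ⟨SP⟩ := T.semi hPA
    exact (T.mem_torus_iff hPA SP (h.mem_pairStab.2 ⟨hP, hA⟩)).2
      (T.lin_of_free SP hr (Subtype.ext (by
        rw [SubgroupClass.coe_pow, ← hor, pow_orderOf_eq_one, Subgroup.coe_one]))
        fun v hv hfix => hfree v v.2 (fun h1 => hv (Subtype.ext h1)) (congrArg Subtype.val hfix))
  have hoEA : o ∈ h.torus E A := intor hAE.symm hoE fun v hv hv1 => T.torus_free hEX ho ho1 hv hv1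
  have hoXA : o ∈ h.torus X A := intor hAX.symm hoX hfreeX
  obtain ⟨e, he, heE⟩ := h.exists_pt E
  obtain ⟨x, hx, hxX⟩ := h.exists_pt X
  obtain ⟨a, ha, haA⟩ := h.exists_pt A
  obtain ⟨m, hm, -⟩ := h.exists_swapper heE hxX hEX
  obtain ⟨n₁, hn₁, -⟩ := h.exists_swapper heE haA hAE.symm
  obtain ⟨n₂, hn₂, -⟩ := h.exists_swapper hxX haA hAX.symm
  set g := m * n₂ * n₁ with hg
  have hgE : g • E = E := by
    rw [hg, mul_smul, mul_smul, hn₁.2, h.swapper_back hn₂, h.swapper_back hm]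
  have i1 := T.inverted hAE.symm hn₁ hoEA
  have i2 := T.inverted hAX.symm hn₂ (inv_mem hoXA)
  have i3 := T.inverted hEX hm ho
  rw [inv_inv] at i2
  have hgo : g * o * g⁻¹ = o⁻¹ := by
    rw [hg, mul_inv_rev, mul_inv_rev, h.toOT.inv hm.1, h.toOT.inv hn₁.1, h.toOT.inv hn₂.1,
      show m * n₂ * n₁ * o * (n₁ * (n₂ * m)) = m * (n₂ * (n₁ * o * n₁) * n₂) * m by group, i1, i2, i3]
  have hne : o⁻¹ ≠ o := fun h1 => ho1 (RootInvolutions.Basic.eq_one_of_odd hodd (n := 1) (by
    rw [pow_one, pow_two]; nth_rewrite 1 [← h1]; exact inv_mul_cancel _))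
  have hgeven : Even (orderOf g) := by
    rw [← Nat.not_odd_iff_even]
    intro hgodd
    have h2 : Commute (g ^ 2) o := mul_inv_eq_iff_eq_mul.1 (by
      calc g ^ 2 * o * (g ^ 2)⁻¹ = g * (g * o * g⁻¹) * g⁻¹ := by rw [pow_two]; group
        _ = o := by rw [hgo, ← conj_inv, hgo, inv_inv])
    have h3 := commute_of_sq hgodd h2
    exact hne (by rw [← hgo, h3.eq, mul_inv_cancel_right])
  obtain ⟨l, hl⟩ := hgeven
  have hgpos : 0 < orderOf g := IsOfFinOrder.orderOf_pos (isOfFinOrder_of_finite g)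
  set t := g ^ l with ht
  have hto : orderOf t = 2 := by
    haveI : Fact (Nat.Prime 2) := ⟨Nat.prime_two⟩
    exact orderOf_eq_prime (by rw [ht, ← pow_mul, mul_two, ← hl, pow_orderOf_eq_one])
      (pow_ne_one_of_lt_orderOf (by omega) (by omega))
  have hci : ∀ j : ℕ, g ^ j * o * (g ^ j)⁻¹ = o ∨ g ^ j * o * (g ^ j)⁻¹ = o⁻¹ := by
    intro j
    induction j with
    | zero => left; simp
    | succ j ih =>
      have e : g ^ (j + 1) * o * (g ^ (j + 1))⁻¹ = g * (g ^ j * o * (g ^ j)⁻¹) * g⁻¹ := by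
        rw [pow_succ']; group
      rw [e]
      rcases ih with ih | ih <;> rw [ih]
      · exact Or.inr hgo
      · exact Or.inl (by rw [← conj_inv, hgo, inv_inv])
  have htD := hmem t hto
  have htE : t • E = E := mem_stabilizer_iff.1 (pow_mem (mem_stabilizer_iff.2 hgE) l)
  have htV : t ∈ h.grp E := by
    rw [(h.smul_eq_iff htD).1 htE]
    exact h.self_mem_grp htD
  rcases hci l with hc | hc
  · exact T.torus_free hEX ho ho1 htV (h.toOT.ne_one htD)
      (mul_inv_eq_iff_eq_mul.2 (mul_inv_eq_iff_eq_mul.1 hc).symm)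
  · rw [h.toOT.inv htD] at hc
    have h1 : t * (o * t * o⁻¹) ∈ h.grp E := mul_mem htV (h.grp_conj_fix hoE htV)
    have h2 : t * (o * t * o⁻¹) = (o ^ 2)⁻¹ := by
      rw [show t * (o * t * o⁻¹) = t * o * t * o⁻¹ by group, hc, pow_two, mul_inv_rev]
    rw [h2] at h1
    have h3 := h.grp_sq (inv_mem h1)
    rw [inv_inv, ← pow_add] at h3
    exact ho1 (RootInvolutions.Basic.eq_one_of_odd hodd (n := 2) h3)

/-- Non-trivial torus elements fix only their two classes. -/
theorem TorusHyp.semiregular (hmem : ∀ t : G, orderOf t = 2 → t ∈ D) {E X A : h.Pt}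
    (hEX : E ≠ X) {c : G} (hc : c ∈ h.torus E X) (hc1 : c ≠ 1) (hA : c • A = A) :
    A = E ∨ A = X := by
  by_contra hne
  push Not at hne
  obtain ⟨r, hr, hrd⟩ := Nat.exists_prime_and_dvd (n := orderOf c)
    (fun h1 => hc1 (orderOf_eq_one_iff.1 h1))
  have hpos : 0 < orderOf c := IsOfFinOrder.orderOf_pos (isOfFinOrder_of_finite c)
  refine T.semiregular_prime hmem hEX hne.1 hne.2 (pow_mem hc (orderOf c / r)) hr ?_
    (mem_stabilizer_iff.1 (pow_mem (mem_stabilizer_iff.2 hA) _))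
  rw [orderOf_pow_of_dvd (Nat.div_ne_zero_iff.2 ⟨hr.ne_zero, Nat.le_of_dvd hpos hrd⟩)
    (Nat.div_dvd_of_dvd hrd), Nat.div_div_self hrd hpos.ne']

omit T in
/-- **The recursive setting holds.** -/
theorem torus_base (hB : Below G) (hC : Classes D) (h2 : hC.toClassGroups.TwoTrans)
    (hA : hC.toClassGroups.AllGen) (hmid : ¬ hC.toClassGroups.HasMid) :
    ∃ q e, hC.toClassGroups.TorusBase q e := by
  set h := hC.toClassGroups with hh
  obtain ⟨n, p, T⟩ := exists_torusHyp hB hC hA hmid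
  have hmem : ∀ t : G, orderOf t = 2 → t ∈ D := fun t ht => hC.mem_of_involution T.oddPair ht
  obtain ⟨a, ha, x, hx, hax, -⟩ := hC.pairGen
  set E₀ := h.pt a ha with hE₀
  set X₀ := h.pt x hx with hX₀
  have h0 : E₀ ≠ X₀ := fun e => hax (h.pt_eq_iff.1 e)
  obtain ⟨m₀, hm₀, -⟩ := h.exists_swapper (E := E₀) (X := X₀) rfl rfl h0
  have hq4 : 4 ≤ 2 ^ n := by
    have := Nat.pow_le_pow_right (show 1 ≤ 2 by norm_num) T.n_three
    omega
  have hcardK : ∀ E X : h.Pt, E ≠ X →
      Nat.card (h.pairStab E X) = Nat.card (h.pairStab E₀ X₀) := by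
    intro E X hEX
    obtain ⟨g, hg⟩ : ∃ g : G, g • E₀ = E := by
      obtain ⟨b, hb, rfl⟩ := h.exists_pt E
      obtain ⟨g, hg⟩ := hC.conjugate a ha b hb
      exact ⟨g, by rw [hE₀, h.smul_pt]; exact h.pt_eq_iff.2 (hg ▸ Commute.refl _)⟩
    have hne : g • X₀ ≠ E := fun h1 => h0 (smul_left_cancel g (hg.trans h1.symm))
    obtain ⟨k, hkE, hkX⟩ := h2 E (g • X₀) X hne hEX.symm
    exact (h.pairStab_conj (g := k * g) (by rw [mul_smul, hg, hkE])
      (by rw [mul_smul, hkX])).symm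
  refine ⟨2 ^ n, Nat.card ↥(h.pairStab E₀ X₀ ⊓ centralizer {m₀}),
    { gen := hC.gen
      core := hC.core
      center_bot := hC.center_eq_bot hB
      four_le := hq4
      card_grp := T.card_grp
      nontrivial := ⟨E₀, X₀, h0⟩
      two := h2
      no_mid := hmid
      faithful := fun E X hEX k hk hkE => T.faithful hEX hk hkE
      card_pairStab := fun E X hEX => by rw [hcardK E X hEX, T.card_pair h0 hm₀]
      torus_part := fun E X hEX => ⟨h.torus E X, h.torus_le E X, T.torus_isCyclic hEX,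
        T.card_torus hEX, fun k hk c hc => h.torus_conj_stab hk hc,
        fun c hc hc1 v hv hv1 => T.torus_free hEX hc hc1 hv hv1,
        fun c hc hc1 A hA => T.semiregular hmem hEX hc hc1 hA,
        fun m hm c hc => T.inverted hEX hm hc⟩
      field_cyclic := fun E X hEX m hm => ⟨T.field_cyclic hEX hm, ?_⟩
      field_fixed := fun E X hEX m hm k hk => T.field_fixed hEX hm hk }⟩
  have h1 := T.card_pair hEX hm
  rw [hcardK E X hEX, T.card_pair h0 hm₀] at h1
  exact (Nat.eq_of_mul_eq_mul_left (by omega) h1).symm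

end Cfsg.Agent.OddTranspX
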