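import Cfsg.Agent.Lib.OddTranspX.CharLemma
import Cfsg.Agent.Lib.Characters.Induction

/-!
# No short generalized character supported off the products of two members

If an involution `d` has normal closure the whole group, no integral generalized character of a
subgroup `C` supported on elements conjugate neither to `1`, `d` nor a product `d d^x`, with fusion
controlled by `C`, has mean one and squared norm at most three.
-/

set_option autoImplicit false
set_option linter.style.haveILetI false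
set_option linter.unusedSectionVars false

namespace Cfsg.Agent.OddTranspX

open Subgroup Finset
open scoped ComplexConjugate

universe u

variable {G : Type u} [Group G] [Finite G]

/-- **The moment lemma.** -/
theorem no_short_character {d : G} (hd : orderOf d = 2) (hgen : normalClosure ({d} : Set G) = ⊤)
    (C : Subgroup G) (t : C → ℤ) (hgenchar : Cfsg.IsGeneralizedCharacter C fun c => (t c : ℂ))
    (hone : ∀ c, t c ≠ 0 → (c : G) ≠ 1) (hdd : ∀ c, t c ≠ 0 → ¬ IsConj d (c : G))
    (hprod : ∀ c, t c ≠ 0 → ∀ x : G, ¬ IsConj (d * (x * d * x⁻¹)) (c : G))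
    (hTI : ∀ c, t c ≠ 0 → ∀ g : G, g * (c : G) * g⁻¹ ∈ C → g ∈ C)
    (hmean : ∀ [Fintype C], ∑ c : C, t c = (Nat.card C : ℤ))
    (hsq : ∀ [Fintype C], ∑ c : C, t c ^ 2 ≤ 3 * (Nat.card C : ℤ)) : False := by
  classical
  haveI := Fintype.ofFinite G
  haveI := Fintype.ofFinite (Cfsg.IrrCharacter G)
  let θ : C → ℂ := fun c => (t c : ℂ)
  have hθ0 : ∀ c, θ c ≠ 0 → t c ≠ 0 := fun c h e => h (by show (t c : ℂ) = 0; rw [e, Int.cast_zero])
  have hclass : ∀ x y : C, θ (x * y * x⁻¹) = θ y := fun x y => by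
    obtain ⟨χ, ψ, hχ, hψ, he⟩ := hgenchar
    show (fun c => (t c : ℂ)) (x * y * x⁻¹) = (fun c => (t c : ℂ)) y
    rw [he, Pi.sub_apply, Pi.sub_apply, Characters.char_isClassFunction hχ y x,
      Characters.char_isClassFunction hψ y x]
  let a : Cfsg.IrrCharacter G → ℂ := fun χ => Cfsg.classInner θ fun c : C => (χ : G → ℂ) c
  have hadef : ∀ χ : Cfsg.IrrCharacter G,
      a χ = (Nat.card C : ℂ)⁻¹ * ∑ c : C, θ c * conj ((χ : G → ℂ) c) := fun χ => Characters.classInner_def _ _
  have hint : ∀ χ, ∃ n : ℤ, a χ = (n : ℂ) := by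
    intro χ
    obtain ⟨φ, ψ, hφ, hψ, he⟩ := hgenchar
    have hres := Characters.isCharacter_restrict C (Characters.irr_isCharacter χ)
    obtain ⟨m₁, h₁⟩ := Characters.classInner_char_nat hφ hres
    obtain ⟨m₂, h₂⟩ := Characters.classInner_char_nat hψ hres
    refine ⟨(m₁ : ℤ) - m₂, ?_⟩
    show Cfsg.classInner θ _ = _
    rw [show θ = φ - ψ from he, Characters.classInner_sub_left, h₁, h₂]
    push_cast
    ring
  choose n hn using hint
  have hcol : ∀ g : G, (∀ c : C, θ c ≠ 0 → ¬ IsConj g (c : G)) → ∑ χ, a χ * (χ : G → ℂ) g = 0 := by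
    intro g hg
    calc ∑ χ, a χ * (χ : G → ℂ) g
        = (Nat.card C : ℂ)⁻¹ * ∑ c : C, θ c * ∑ χ : Cfsg.IrrCharacter G,
            (χ : G → ℂ) g * conj ((χ : G → ℂ) c) := by
          simp only [hadef, Finset.mul_sum, Finset.sum_mul]
          rw [Finset.sum_comm]
          exact sum_congr rfl fun c _ => sum_congr rfl fun χ _ => by ring
      _ = 0 := by
          rw [sum_eq_zero, mul_zero]
          intro c _
          by_cases hc : θ c = 0
          · rw [hc, zero_mul]
          · rw [Characters.second_orthogonality, if_neg (hg c hc), mul_zero]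
  have hm0 : ∑ χ, a χ * (χ : G → ℂ) 1 = 0 :=
    hcol 1 fun c hc h => hone c (hθ0 c hc) (isConj_one_right.1 h)
  have hm1 : ∑ χ, a χ * (χ : G → ℂ) d = 0 := hcol d fun c hc => hdd c (hθ0 c hc)
  have hm2 : ∑ χ, a χ * ((χ : G → ℂ) d ^ 2 / (χ : G → ℂ) 1) = 0 := by
    have h1 : ∀ χ : Cfsg.IrrCharacter G, (χ : G → ℂ) d ^ 2 / (χ : G → ℂ) 1 =
        (Nat.card G : ℂ)⁻¹ * ∑ x : G, (χ : G → ℂ) (d * (x * d * x⁻¹)) := by
      intro χ
      rw [Characters.sum_mul_conjugates χ.2, mul_div_assoc, mul_assoc, inv_mul_cancel_left₀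
        Characters.natCard_ne_zero]
      ring
    calc ∑ χ, a χ * ((χ : G → ℂ) d ^ 2 / (χ : G → ℂ) 1)
        = (Nat.card G : ℂ)⁻¹ * ∑ x : G, ∑ χ, a χ * (χ : G → ℂ) (d * (x * d * x⁻¹)) := by
          simp only [h1, Finset.mul_sum]
          rw [Finset.sum_comm]
          exact sum_congr rfl fun c _ => sum_congr rfl fun χ _ => by ring
      _ = 0 := by rw [sum_eq_zero fun x _ => hcol _ fun c hc => hprod c (hθ0 c hc) x, mul_zero]
  -- the trivial character
  let o : Cfsg.IrrCharacter G := ⟨fun _ => 1, Characters.isIrrCharacter_one⟩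
  have ho : a o = 1 := by
    rw [hadef]
    have h1 : ∑ c : C, θ c * conj ((o : G → ℂ) c) = ((∑ c : C, t c : ℤ) : ℂ) := by
      rw [Int.cast_sum]
      exact sum_congr rfl fun c _ => by
        show θ c * conj (1 : ℂ) = _
        rw [map_one, mul_one]
    rw [h1, hmean, Int.cast_natCast, inv_mul_cancel₀ (Characters.natCard_ne_zero (G := C))]
  -- the norm
  have hnorm : ∑ χ, a χ * conj (a χ) =
      (Nat.card C : ℂ)⁻¹ * ((∑ c : C, t c ^ 2 : ℤ) : ℂ) := by
    have hcount : ∀ c c' : G, ∑ χ : Cfsg.IrrCharacter G, (χ : G → ℂ) c' * conj ((χ : G → ℂ) c) =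
        ∑ g : G, if g * c * g⁻¹ = c' then (1 : ℂ) else 0 := by
      intro c c'
      rw [Characters.second_orthogonality, Finset.sum_boole]
      split_ifs with h
      · obtain ⟨y, hy⟩ := isConj_iff.1 h.symm
        rw [Nat.card_eq_fintype_card, Nat.cast_inj, ← Fintype.card_subtype]
        exact Fintype.card_congr
          { toFun := fun z => ⟨y * z, by
              refine Eq.trans ?_ hy
              have := mem_centralizer_singleton_iff.1 z.2
              calc y * (z : G) * c * (y * z)⁻¹ = y * ((z : G) * c * (z : G)⁻¹) * y⁻¹ := by group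
                _ = y * c * y⁻¹ := by rw [this, mul_inv_cancel_right]⟩
            invFun := fun g => ⟨y⁻¹ * g, mem_centralizer_singleton_iff.2 (by
              have := g.2.trans hy.symm
              calc y⁻¹ * (g : G) * c = y⁻¹ * ((g : G) * c * (g : G)⁻¹) * g := by group
                _ = y⁻¹ * (y * c * y⁻¹) * g := by rw [this]
                _ = c * (y⁻¹ * g) := by group)⟩
            left_inv := fun z => Subtype.ext (inv_mul_cancel_left _ _)
            right_inv := fun g => Subtype.ext (mul_inv_cancel_left _ _) }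
      · rw [Finset.filter_false_of_mem fun g _ e => h (isConj_iff.2 ⟨g, e⟩).symm, Finset.card_empty,
          Nat.cast_zero]
    have h2 : ∀ g : G, ∑ c : C, ∑ c' : C, θ c * conj (θ c') * (if g * (c : G) * g⁻¹ = c' then (1 : ℂ) else 0) =
        if g ∈ C then ((∑ c : C, t c ^ 2 : ℤ) : ℂ) else 0 := by
      intro g
      by_cases hgC : g ∈ C
      · rw [if_pos hgC, Int.cast_sum]
        refine sum_congr rfl fun c _ => ?_
        rw [Finset.sum_eq_single (⟨g * c * g⁻¹, mul_mem (mul_mem hgC c.2) (inv_mem hgC)⟩ : C)]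
        · rw [if_pos rfl, mul_one,
            show (⟨g * c * g⁻¹, mul_mem (mul_mem hgC c.2) (inv_mem hgC)⟩ : C) =
              ⟨g, hgC⟩ * c * (⟨g, hgC⟩ : C)⁻¹ from Subtype.ext rfl, hclass]
          show θ c * conj ((t c : ℤ) : ℂ) = _
          rw [map_intCast, Int.cast_pow, pow_two]
        · intro c' _ hne
          rw [if_neg fun e => hne (Subtype.ext e.symm), mul_zero]
        · exact fun h => absurd (mem_univ _) h
      · rw [if_neg hgC]
        refine sum_eq_zero fun c _ => sum_eq_zero fun c' _ => ?_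
        by_cases hc : θ c = 0
        · rw [hc, zero_mul, zero_mul]
        rw [if_neg fun e => hgC (hTI c (hθ0 c hc) g (by rw [e]; exact c'.2)), mul_zero]
    calc ∑ χ, a χ * conj (a χ)
        = (Nat.card C : ℂ)⁻¹ * ((Nat.card C : ℂ)⁻¹ * ∑ c : C, ∑ c' : C, θ c * conj (θ c') *
            ∑ χ : Cfsg.IrrCharacter G, (χ : G → ℂ) c' * conj ((χ : G → ℂ) c)) := by
          simp only [hadef, map_mul, map_inv₀, map_natCast, map_sum, Complex.conj_conj, Finset.mul_sum,
            Finset.sum_mul]
          conv_rhs => rw [Finset.sum_comm]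
          rw [Finset.sum_comm]
          refine sum_congr rfl fun c _ => ?_
          rw [Finset.sum_comm]
          exact sum_congr rfl fun c' _ => sum_congr rfl fun χ _ => by ring
      _ = (Nat.card C : ℂ)⁻¹ * ((Nat.card C : ℂ)⁻¹ * ∑ g : G, ∑ c : C, ∑ c' : C,
            θ c * conj (θ c') * (if g * (c : G) * g⁻¹ = c' then (1 : ℂ) else 0)) := by
          congr 2
          rw [eq_comm, Finset.sum_comm]
          refine sum_congr rfl fun c _ => ?_
          rw [Finset.sum_comm]
          refine sum_congr rfl fun c' _ => ?_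
          rw [hcount, Finset.mul_sum]
      _ = _ := by
          rw [sum_congr rfl fun g _ => h2 g, Finset.sum_ite, Finset.sum_const_zero, add_zero, Finset.sum_const,
            nsmul_eq_mul, ← Fintype.card_subtype, ← Nat.card_eq_fintype_card,
            inv_mul_cancel_left₀ (Characters.natCard_ne_zero (G := C))]
  have hn3 : ∑ χ, n χ ^ 2 ≤ 3 := by
    have h1 : ((∑ χ, n χ ^ 2 : ℤ) : ℂ) * (Nat.card C : ℂ) = ((∑ c : C, t c ^ 2 : ℤ) : ℂ) := by
      rw [Int.cast_sum]
      calc (∑ χ, ((n χ ^ 2 : ℤ) : ℂ)) * (Nat.card C : ℂ) = (∑ χ, a χ * conj (a χ)) * (Nat.card C : ℂ) := by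
            refine congrArg (· * _) (sum_congr rfl fun χ _ => ?_)
            rw [hn, map_intCast, Int.cast_pow, pow_two]
        _ = _ := by
            rw [hnorm]
            field_simp [Characters.natCard_ne_zero (G := C)]
    have h2 : (∑ χ, n χ ^ 2) * (Nat.card C : ℤ) = ∑ c : C, t c ^ 2 := by exact_mod_cast h1
    have h3 := hsq
    have h4 : (0 : ℤ) < Nat.card C := by exact_mod_cast Nat.card_pos
    nlinarith
  -- real degrees and values
  have hdeg : ∀ χ : Cfsg.IrrCharacter G, ∃ m : ℕ, 0 < m ∧ (χ : G → ℂ) 1 = (m : ℂ) :=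
    fun χ => Characters.irr_one_pos χ.2
  choose m hm0' hm using hdeg
  have hdreal : ∀ χ : Cfsg.IrrCharacter G, (χ : G → ℂ) d = (((χ : G → ℂ) d).re : ℂ) := by
    intro χ
    have h1 := Characters.char_inv (Characters.irr_isCharacter χ) d
    rw [show d⁻¹ = d from inv_eq_of_mul_eq_one_right (by rw [← pow_two, ← hd]; exact pow_orderOf_eq_one d)] at h1
    exact (Complex.conj_eq_iff_re.1 h1.symm).symm
  set k : Cfsg.IrrCharacter G → ℝ := fun χ => (m χ : ℝ) - ((χ : G → ℂ) d).re with hkdef
  have hkC : ∀ χ : Cfsg.IrrCharacter G, (χ : G → ℂ) d = (m χ : ℂ) - (k χ : ℂ) := fun χ => by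
    conv_lhs => rw [hdreal χ]
    simp [hkdef]
  refine no_short_vector o n (fun χ => (m χ : ℝ)) k ?_ ?_ ?_ (fun χ => by exact_mod_cast hm0' χ) ?_ hn3 ?_ ?_ ?_
  · exact_mod_cast (hn o).symm.trans ho
  · have h1 : ((m o : ℕ) : ℂ) = 1 := (hm o).symm
    exact_mod_cast h1
  · have h1 : ((m o : ℕ) : ℂ) = 1 := (hm o).symm
    have h2 : (m o : ℝ) = 1 := by exact_mod_cast h1
    simp [hkdef, h2, o]
  · intro χ hχ
    have hle : ((χ : G → ℂ) d).re ≤ (m χ : ℝ) := by
      have h1 := (Complex.re_le_norm ((χ : G → ℂ) d)).trans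
        (Characters.char_norm_le (Characters.irr_isCharacter χ) d)
      rwa [hm, Complex.norm_natCast] at h1
    refine sub_pos.2 (lt_of_le_of_ne hle fun e => hχ ?_)
    have h1 : (χ : G → ℂ) d = (χ : G → ℂ) 1 := by rw [hdreal χ, e, hm]; simp
    have hker : ∀ x : G, (χ : G → ℂ) x = (χ : G → ℂ) 1 := by
      have hle' : normalClosure ({d} : Set G) ≤ Characters.charKernel _ (Characters.irr_isCharacter χ) := by
        haveI := Characters.charKernel_normal (Characters.irr_isCharacter χ)
        exact normalClosure_le_normal (Set.singleton_subset_iff.2 (Characters.mem_charKernel.2 h1))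
      intro x
      exact Characters.mem_charKernel.1 (hle' (hgen ▸ mem_top x))
    have h2 := Characters.classInner_isIrr_self χ.2
    have h3 : Cfsg.classInner (χ : G → ℂ) (o : G → ℂ) = (χ : G → ℂ) 1 := by
      rw [Characters.classInner_def]
      simp [o, hker, Finset.card_univ, Nat.card_eq_fintype_card]
    by_contra hne
    rw [Characters.classInner_isIrr_ne χ.2 o.2 fun e => hne (Subtype.ext e)] at h3
    exact Characters.irr_one_ne_zero χ.2 h3.symm
  · have h1 := hm0
    simp only [hn, hm] at h1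
    exact_mod_cast h1
  · have h1 := congrArg₂ (· - ·) hm0 hm1
    simp only [sub_zero, ← Finset.sum_sub_distrib, ← mul_sub, hn, hm, hkC, sub_sub_cancel] at h1
    exact_mod_cast h1
  · have h1 : ∑ χ, a χ * ((k χ : ℂ) ^ 2 / (m χ : ℂ)) = 0 := by
      calc ∑ χ, a χ * ((k χ : ℂ) ^ 2 / (m χ : ℂ))
          = ∑ χ, (a χ * (χ : G → ℂ) 1 - 2 * (a χ * (χ : G → ℂ) d) +
              a χ * ((χ : G → ℂ) d ^ 2 / (χ : G → ℂ) 1)) := sum_congr rfl fun χ _ => by
            rw [hkC χ, hm]
            have : (m χ : ℂ) ≠ 0 := by exact_mod_cast (hm0' χ).ne'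
            field_simp
            ring
        _ = 0 := by rw [sum_add_distrib, sum_sub_distrib, ← Finset.mul_sum, hm0, hm1, hm2]; ring
    simp only [hn, ← mul_div_assoc] at h1
    exact_mod_cast h1

end Cfsg.Agent.OddTranspX
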