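import Cfsg.Agent.Lib.OddTranspX.TorusPrimeLarge
import Cfsg.Agent.Lib.OddTranspX.Moment

/-!
# The torus with prime field part does not occur

For `r = 3` the class stabilizer acts doubly transitively on the seven members and on the eight cosets
of the preimage of the two-class stabilizer; one plus the difference of the two permutation characters
has mean one and squared norm three and lives on elements fixing the class only, against the moment
lemma.
-/

set_option autoImplicit false
set_option linter.style.haveILetI false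
set_option linter.unusedSectionVars false

namespace Cfsg.Agent.OddTranspX

open Subgroup MulAction

universe u v

/-- The number of orbits as a count of fixed points. -/
theorem sum_card_fixedBy_of_orbits {H : Type u} [Group H] [Fintype H] {A : Type v} [MulAction H A]
    [Finite A] {T : Type*} [Finite T] (f : A → T) (hf : Function.Surjective f)
    (hinv : ∀ (g : H) a, f (g • a) = f a) (horb : ∀ a b, f a = f b → ∃ g : H, g • a = b) :
    (∑ g : H, (Nat.card (fixedBy A g) : ℤ)) = (Nat.card T : ℤ) * Nat.card H := by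
  classical
  haveI := Fintype.ofFinite A
  haveI := Fintype.ofFinite (Quotient (orbitRel H A))
  have e : Nat.card (Quotient (orbitRel H A)) = Nat.card T := by
    refine Nat.card_eq_of_bijective (Quotient.lift f fun a b hab => ?_) ⟨?_, ?_⟩
    · obtain ⟨g, rfl⟩ := hab
      exact hinv g b
    · intro p q
      refine Quotient.inductionOn₂ p q fun a b hab => Quotient.sound ?_
      obtain ⟨g, hg⟩ := horb b a hab.symm
      exact ⟨g, hg⟩
    · intro t
      obtain ⟨a, rfl⟩ := hf t
      exact ⟨Quotient.mk _ a, rfl⟩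
  have h1 := sum_card_fixedBy_eq_card_orbits_mul_card_group H A
  rw [← e, Nat.card_eq_fintype_card, Nat.card_eq_fintype_card (α := H)]
  simp only [Nat.card_eq_fintype_card]
  exact_mod_cast h1

theorem card_fixedBy_prod {H : Type u} [Group H] {A : Type v} [MulAction H A] {B : Type*} [MulAction H B]
    (g : H) : Nat.card (fixedBy (A × B) g) = Nat.card (fixedBy A g) * Nat.card (fixedBy B g) := by
  rw [← Nat.card_prod]
  exact Nat.card_congr
    { toFun := fun p => (⟨p.1.1, congrArg Prod.fst p.2⟩, ⟨p.1.2, congrArg Prod.snd p.2⟩)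
      invFun := fun p => ⟨(p.1.1, p.2.1), Prod.ext p.1.2 p.2.2⟩
      left_inv := fun _ => rfl
      right_inv := fun _ => rfl }

theorem card_fixedBy_conj {H : Type u} [Group H] {A : Type v} [MulAction H A] (y g : H) :
    Nat.card (fixedBy A (y * g * y⁻¹)) = Nat.card (fixedBy A g) :=
  (Nat.card_congr
    { toFun := fun a => ⟨y • a.1, by
        show (y * g * y⁻¹) • y • a.1 = y • a.1
        rw [mul_smul, mul_smul, inv_smul_smul, a.2]⟩
      invFun := fun a => ⟨y⁻¹ • a.1, by
        show g • y⁻¹ • a.1 = y⁻¹ • a.1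
        rw [eq_inv_smul_iff, ← mul_smul, ← mul_smul]
        exact a.2⟩
      left_inv := fun a => Subtype.ext (inv_smul_smul y a.1)
      right_inv := fun a => Subtype.ext (smul_inv_smul y a.1) }).symm

variable {G : Type u} [Group G] [Finite G] {D : Set G}

theorem card_linearEquiv_le {V : Type v} [AddCommGroup V] [Module (ZMod 2) V] [Finite V]
    (h3 : Module.finrank (ZMod 2) V = 3) : Nat.card (V ≃ₗ[ZMod 2] V) ≤ 168 := by
  classical
  haveI := Fintype.ofFinite V
  haveI : Module.Finite (ZMod 2) V := Module.Finite.of_finite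
  let b := Module.finBasisOfFinrankEq (ZMod 2) V h3
  have h1 := card_linearIndependent (K := ZMod 2) (V := V) (k := 3) (by rw [h3])
  refine le_trans (Nat.card_le_card_of_injective
    (fun e : V ≃ₗ[ZMod 2] V => (⟨e ∘ b, b.linearIndependent.map' e.toLinearMap e.ker⟩ :
      {s : Fin 3 → V // LinearIndependent (ZMod 2) s})) fun e e' he => ?_) ?_
  · have h2 : ∀ i, e (b i) = e' (b i) := congrFun (congrArg Subtype.val he)
    exact LinearEquiv.toLinearMap_injective (b.ext h2)
  · rw [h1, h3, Fin.prod_univ_three, ZMod.card]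
    norm_num

theorem torus_prime_false_three {h : ClassGroups D} {r : ℕ} {E X : h.Pt} {C W : Subgroup G} {v₀ : G}
    (P : PrimeData h r E X C W v₀) (h3 : r = 3) : False := by
  classical
  subst h3
  set H := stabilizer G E with hHdef
  letI : MulAction H {v : h.Vec E // v ≠ 0} := MulAction.compHom _ (h.linRep E)
  haveI hFH : Fintype H := Fintype.ofFinite _
  have hsm : ∀ (g : H) (u : {v : h.Vec E // v ≠ 0}), (g • u).1 = h.linRep E g u.1 := fun _ _ => rfl
  set N := P.preK with hN
  set B := H ⧸ N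
  set b₀ : B := QuotientGroup.mk (1 : H)
  have hfixB : ∀ (g y : H), g • (QuotientGroup.mk y : B) = QuotientGroup.mk y ↔ y⁻¹ * g * y ∈ N := fun g y => by
    rw [MulAction.Quotient.smul_mk, eq_comm, QuotientGroup.eq, smul_eq_mul, mul_assoc]
  have hfix0 : ∀ g : H, g • b₀ = b₀ ↔ g ∈ N := fun g => by
    rw [hfixB, inv_one, one_mul, mul_one]
  have hker : ∀ g : H, h.linRep E g = 1 → ∀ b : B, g • b = b := by
    intro g hg b
    obtain ⟨y, rfl⟩ := QuotientGroup.mk_surjective b
    rw [hfixB]
    show (h.linRep E).rangeRestrict (y⁻¹ * g * y) ∈ P.linK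
    rw [show (h.linRep E).rangeRestrict (y⁻¹ * g * y) = 1 from Subtype.ext (by
      show h.linRep E (y⁻¹ * g * y) = 1
      rw [map_mul, map_mul, hg, mul_one, map_inv, inv_mul_cancel])]
    exact one_mem _
  -- elements of the torus fix only the base coset
  have hCC : ∀ c : H, (c : G) ∈ C → c ≠ 1 → ∀ b : B, c • b = b → b = b₀ := by
    intro c hc hc1 b hb
    obtain ⟨y, rfl⟩ := QuotientGroup.mk_surjective b
    rw [hfixB] at hb
    obtain ⟨μ, k, hμ, hk, he⟩ := P.mem_preK.1 hb
    have hkC : k ∈ C := by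
      by_contra hkC
      obtain ⟨a, ha, w, hw, hw1, rfl⟩ := P.exists_conj hk hkC
      have h7 : (c : G) ^ (2 ^ 3 - 1) = 1 := by
        rw [← P.card_C]
        exact congrArg Subtype.val (pow_card_eq_one' (x := (⟨c, hc⟩ : C)))
      have h8 : h.linRep E ⟨a * w * a⁻¹, P.fix_E hk⟩ ^ (2 ^ 3 - 1) = 1 := by
        rw [show h.linRep E ⟨a * w * a⁻¹, P.fix_E hk⟩ = h.linRep E (y⁻¹ * c * y) by
          rw [eq_comm, ← mul_inv_eq_one, ← map_inv, ← map_mul, h.linRep_eq_one_iff]
          show ∀ v ∈ h.grp E, Commute (((y⁻¹ * c * y : H) : G) * (a * w * a⁻¹)⁻¹) v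
          rwa [he, mul_inv_cancel_right],
          ← map_pow, show (y⁻¹ * c * y) ^ (2 ^ 3 - 1) = y⁻¹ * c ^ (2 ^ 3 - 1) * y by
            conv_lhs => rw [show y⁻¹ * c * y = y⁻¹ * c * y⁻¹⁻¹ by rw [inv_inv]]
            rw [conj_pow, inv_inv],
          show c ^ (2 ^ 3 - 1) = 1 from Subtype.ext (by rw [SubgroupClass.coe_pow, h7]; rfl),
          mul_one, inv_mul_cancel, map_one]
      rw [← map_pow] at h8
      have h9 := congrArg Subtype.val (P.eq_one_of_linRep (k := (⟨a * w * a⁻¹, P.fix_E hk⟩ : H) ^ (2 ^ 3 - 1))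
        (by rw [SubgroupClass.coe_pow]; exact pow_mem hk _) h8)
      rw [SubgroupClass.coe_pow, OneMemClass.coe_one, conj_pow, conj_eq_one_iff] at h9
      have hw3 : w ^ 3 = 1 := by
        rw [← P.card_W]; exact congrArg Subtype.val (pow_card_eq_one' (x := (⟨w, hw⟩ : W)))
      exact hw1 (by
        rw [show (2 : ℕ) ^ 3 - 1 = 3 * 2 + 1 from rfl, pow_succ, pow_mul, hw3, one_pow, one_mul] at h9
        exact h9)
    have hyE : (y : G)⁻¹ • E = E := inv_smul_eq_iff.2 (mem_stabilizer_iff.1 y.2).symm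
    obtain ⟨ν, k', hν, hk', he'⟩ := P.lift hyE hc (fun e => hc1 (Subtype.ext e)) ⟨k, hkC, fun v hv => by
      have hkE : k • E = E := P.fix_E hk
      have h1 : k⁻¹ * ((y : G)⁻¹ * c * ((y : G)⁻¹)⁻¹) = k⁻¹ * μ * k := by
        rw [inv_inv, mul_assoc k⁻¹ μ k, ← he]
        rfl
      rw [h1]
      have hv' := (hμ _ (h.grp_conj_fix hkE hv)).eq
      show k⁻¹ * μ * k * v = v * (k⁻¹ * μ * k)
      calc k⁻¹ * μ * k * v = k⁻¹ * (μ * (k * v * k⁻¹)) * k := by group
        _ = v * (k⁻¹ * μ * k) := by rw [hv']; group⟩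
    refine QuotientGroup.eq.2 ?_
    rw [mul_one]
    exact P.mem_preK.2 ⟨ν, k', hν, hk', he'⟩
  -- the coset space has eight points
  have hKcard : Nat.card (h.pairStab E X) = 21 := by
    rw [P.torus.1.card_pairStab E X P.ne]
    norm_num
  have hlinK : Nat.card P.linK = 21 := by
    rw [← hKcard]
    refine (Nat.card_eq_of_bijective (fun k : h.pairStab E X => (⟨(h.linRep E).rangeRestrict ⟨k, P.fix_E k.2⟩,
      ⟨_, mem_subgroupOf.2 k.2, rfl⟩⟩ : P.linK)) ⟨?_, ?_⟩).symm
    · intro k k' e
      have e' : h.linRep E ⟨k, P.fix_E k.2⟩ = h.linRep E ⟨k', P.fix_E k'.2⟩ :=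
        congrArg Subtype.val (congrArg Subtype.val e)
      have h1 := P.eq_one_of_linRep (k := ⟨k, P.fix_E k.2⟩ * (⟨k', P.fix_E k'.2⟩ : H)⁻¹)
        (mul_mem k.2 (inv_mem k'.2)) (by rw [map_mul, map_inv, e', mul_inv_cancel])
      exact Subtype.ext (mul_inv_eq_one.1 (congrArg Subtype.val h1))
    · rintro ⟨_, k, hk, rfl⟩
      exact ⟨⟨k, mem_subgroupOf.1 hk⟩, rfl⟩
  have hind : Nat.card B = P.linK.index := by
    rw [← Subgroup.index_comap_of_surjective _ (MonoidHom.rangeRestrict_surjective _)]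
    exact (Subgroup.index_eq_card N).symm
  have hle8 : Nat.card B ≤ 8 := by
    have h1 := P.linK.card_mul_index
    rw [hlinK, ← hind] at h1
    have h2 := (h.linRep E).range.card_le_card_group.trans (card_linearEquiv_le P.finrank)
    omega
  let cst : C → H := fun c => ⟨c, P.fix_E (P.C_le c.2)⟩
  have hcst : ∀ {c : C}, c ≠ 1 → cst c ≠ 1 := fun hc e =>
    hc (Subtype.ext (congrArg (fun g : H => (g : G)) e))
  have hC0 : ∀ c : C, cst c • b₀ = b₀ := fun c => (hfix0 _).2
    (P.mem_preK.2 ⟨1, c, fun v _ => Commute.one_left v, P.C_le c.2, (one_mul _).symm⟩)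
  obtain ⟨b₁, hb₁⟩ : ∃ b : B, b ≠ b₀ := by
    by_contra hno
    push Not at hno
    refine P.preK_ne_top (eq_top_iff.2 fun g _ => ?_)
    exact (hfix0 g).1 (hno _)
  let orb : Option C → B := fun o => o.elim b₀ fun c => cst c • b₁
  have horb : Function.Bijective orb := by
    have hne : ∀ c : C, cst c • b₁ ≠ b₀ := fun c e => hb₁ (smul_left_cancel (cst c) (e.trans (hC0 c).symm))
    have hi : Function.Injective orb := by
      rintro (_ | c) (_ | c') e
      · rfl
      · exact absurd e.symm (hne c')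
      · exact absurd e (hne c)
      · by_contra hcc
        have hcc' : c'⁻¹ * c ≠ 1 := fun e1 => hcc (congrArg some (inv_mul_eq_one.1 e1).symm)
        refine hb₁ (hCC _ (c'⁻¹ * c).2 (hcst hcc') b₁ ?_)
        show ((cst c')⁻¹ * cst c) • b₁ = b₁
        rw [mul_smul, inv_smul_eq_iff]
        exact e
    refine (Nat.bijective_iff_injective_and_card orb).2 ⟨hi, ?_⟩
    have h1 := Nat.card_le_card_of_injective orb hi
    rw [Finite.card_option, P.card_C] at h1 ⊢
    omega
  have hB : Nat.card B = 8 := by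
    rw [← Nat.card_eq_of_bijective orb horb, Finite.card_option, P.card_C]
    norm_num
  have htransB : ∀ b : B, b ≠ b₀ → ∃ g : H, g • b₀ = b₀ ∧ g • b₁ = b := by
    intro b hb
    obtain ⟨o, rfl⟩ := horb.2 b
    rcases o with _ | c
    · exact absurd rfl hb
    · exact ⟨cst c, hC0 c, rfl⟩
  -- the vectors
  have hΩ : Nat.card {v : h.Vec E // v ≠ 0} = 7 := by
    have h1 : Nat.card {v : h.Vec E // v ≠ 0} + 1 = 2 ^ 3 := by
      rw [← P.torus.1.card_grp E, ← Finite.card_option,
        Nat.card_congr (Equiv.optionSubtypeNe (0 : h.Vec E))]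
      rfl
    omega
  have htransΩ : ∀ u v : {v : h.Vec E // v ≠ 0}, ∃ g : H, g • b₀ = b₀ ∧ g • u = v := by
    intro u v
    obtain ⟨c, hc, hcv⟩ := torus_regular P.torus.1 P.C_le P.card_C P.free (h.val u.1).2
      (ClassGroups.val_ne u.2) (h.val v.1).2 (ClassGroups.val_ne v.2)
    exact ⟨cst ⟨c, hc⟩, hC0 ⟨c, hc⟩, Subtype.ext (ClassGroups.val_inj hcv)⟩
  have hfixC : ∀ c : H, (c : G) ∈ C → c ≠ 1 →
      Nat.card (fixedBy {v : h.Vec E // v ≠ 0} c) = 0 ∧ Nat.card (fixedBy B c) = 1 := by
    intro c hc hc1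
    constructor
    · have : IsEmpty (fixedBy {v : h.Vec E // v ≠ 0} c) := ⟨fun u =>
        P.free (c : G) hc (fun e => hc1 (Subtype.ext e)) _ (h.val u.1.1).2 (ClassGroups.val_ne u.1.2)
          (congrArg (fun v : {v : h.Vec E // v ≠ 0} => (h.val v.1 : G)) u.2)⟩
      exact Nat.card_of_isEmpty
    · have h0 : c • b₀ = b₀ := hC0 ⟨c, hc⟩
      have : Subsingleton (fixedBy B c) :=
        ⟨fun p q => Subtype.ext ((hCC c hc hc1 _ p.2).trans (hCC c hc hc1 _ q.2).symm)⟩
      exact Nat.card_of_subsingleton (⟨b₀, h0⟩ : fixedBy B c)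
  have hfixW : ∀ w : H, (w : G) ∈ W → w ≠ 1 →
      Nat.card (fixedBy {v : h.Vec E // v ≠ 0} w) = 1 ∧ Nat.card (fixedBy B w) = 2 := by
    intro w hw hw1
    have hw1' : (w : G) ≠ 1 := fun e => hw1 (Subtype.ext e)
    constructor
    · have hmem : w • P.base = P.base := Subtype.ext (ClassGroups.val_inj (P.W_fix _ hw))
      have : Subsingleton (fixedBy {v : h.Vec E // v ≠ 0} w) := ⟨fun p q => by
        have key : ∀ p : fixedBy {v : h.Vec E // v ≠ 0} w, (h.val p.1.1 : G) = v₀ := fun p =>
          P.W_only _ hw hw1' _ (h.val p.1.1).2 (ClassGroups.val_ne p.1.2)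
            (congrArg (fun v : {v : h.Vec E // v ≠ 0} => (h.val v.1 : G)) p.2)
        exact Subtype.ext (Subtype.ext (ClassGroups.val_inj ((key p).trans (key q).symm)))⟩
      exact Nat.card_of_subsingleton (⟨P.base, hmem⟩ : fixedBy _ w)
    · have hw0 : w • b₀ = b₀ := (hfix0 _).2
        (P.mem_preK.2 ⟨1, w, fun v _ => Commute.one_left v, P.W_le hw, (one_mul _).symm⟩)
      have hle2 : Nat.card (fixedBy B w) ≤ 2 := by
        let f : fixedBy B w → Bool := fun p => decide (p.1 = b₀)
        refine (Nat.card_le_card_of_injective f fun p q e => ?_).trans (by simp)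
        apply Subtype.ext
        by_cases hp : p.1 = b₀
        · rw [hp]
          simp only [f, hp, decide_true] at e
          exact (of_decide_eq_true e.symm).symm
        · have hq : q.1 ≠ b₀ := fun hq => by
            simp only [f, hq, decide_true] at e
            exact hp (of_decide_eq_true e)
          obtain ⟨o, ho⟩ := horb.2 p.1
          obtain ⟨o', ho'⟩ := horb.2 q.1
          rcases o with _ | a
          · exact absurd ho.symm hp
          rcases o' with _ | a'
          · exact absurd ho'.symm hq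
          simp only [orb, Option.elim] at ho ho'
          by_contra hne
          have haa : a' * a⁻¹ ≠ 1 := fun e1 => hne (by rw [← ho, ← ho', mul_inv_eq_one.1 e1])
          set c := cst a' * (cst a)⁻¹ with hc
          have hcC : (c : G) ∈ C := (a' * a⁻¹).2
          have hcq : c • p.1 = q.1 := by rw [← ho, hc, mul_smul, inv_smul_smul, ho']
          have hcomm : c⁻¹ * (w * c * w⁻¹) = 1 := by
            by_contra hne1
            refine hp (hCC _ ?_ hne1 p.1 ?_)
            · show (c : G)⁻¹ * ((w : G) * c * (w : G)⁻¹) ∈ C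
              exact mul_mem (inv_mem hcC) (P.norm _ (P.W_le hw) _ hcC)
            · rw [mul_smul, mul_smul, mul_smul, inv_smul_eq_iff.2 p.2.symm, hcq, q.2, inv_smul_eq_iff, hcq]
          refine hw1' (P.eq_one_of_comm hw hcC (fun e1 => haa (Subtype.ext e1)) ?_)
          have h2 : c = w * c * w⁻¹ := inv_mul_eq_one.1 hcomm
          exact congrArg Subtype.val (mul_inv_eq_iff_eq_mul.1 h2.symm)
      have hmod : 8 ≡ Nat.card (fixedBy B w) [MOD 3] := by
        haveI : Fact (Nat.Prime 3) := ⟨Nat.prime_three⟩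
        have hp : IsPGroup 3 (zpowers w) := IsPGroup.of_card (n := 1) (by
          rw [Nat.card_zpowers, pow_one]
          refine orderOf_eq_prime (Subtype.ext ?_) hw1
          rw [SubgroupClass.coe_pow, ← P.card_W]
          exact congrArg Subtype.val (pow_card_eq_one' (x := (⟨(w : G), hw⟩ : W))))
        have h1 := hp.card_modEq_card_fixedPoints B
        rw [hB] at h1
        refine h1.trans (congrArg (· % 3) (Nat.card_congr (Equiv.subtypeEquivRight fun b => ?_)))
        refine ⟨fun hb => hb ⟨w, mem_zpowers w⟩, fun hb g => ?_⟩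
        exact (zpowers_le.2 (mem_stabilizer_iff.2 hb) : zpowers w ≤ stabilizer H b) g.2
      have h1 : 1 ≤ Nat.card (fixedBy B w) :=
        Nat.one_le_iff_ne_zero.2 (Nat.card_ne_zero.2 ⟨⟨⟨b₀, hw0⟩⟩, inferInstance⟩)
      unfold Nat.ModEq at hmod
      omega
  -- the character
  let t : H → ℤ := fun g => 1 + (Nat.card (fixedBy {v : h.Vec E // v ≠ 0} g) : ℤ) - Nat.card (fixedBy B g)
  have htM : ∀ g : H, h.linRep E g = 1 → t g = 0 := by
    intro g hg
    have h1 : Nat.card (fixedBy {v : h.Vec E // v ≠ 0} g) = 7 := by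
      rw [← hΩ]
      exact Nat.card_congr (Equiv.subtypeUnivEquiv fun u => Subtype.ext (by rw [hsm, hg]; rfl))
    have h2 : Nat.card (fixedBy B g) = 8 := by
      rw [← hB]
      exact Nat.card_congr (Equiv.subtypeUnivEquiv (hker g hg))
    simp only [t, h1, h2]
    norm_num
  have htK : ∀ k : H, (k : G) ∈ h.pairStab E X → t k = 0 := by
    intro k hk
    by_cases hk1 : k = 1
    · exact htM k (by rw [hk1, map_one])
    by_cases hkC : (k : G) ∈ C
    · obtain ⟨h1, h2⟩ := hfixC k hkC hk1
      simp only [t, h1, h2]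
      norm_num
    · obtain ⟨a, ha, w, hw, hw1, he⟩ := P.exists_conj hk hkC
      obtain ⟨h1, h2⟩ := hfixW ⟨w, P.fix_E (P.W_le hw)⟩ hw fun e =>
        hw1 (congrArg Subtype.val e)
      have hk' : k = cst ⟨a, ha⟩ * ⟨w, P.fix_E (P.W_le hw)⟩ * (cst ⟨a, ha⟩)⁻¹ := Subtype.ext he
      simp only [t, hk', card_fixedBy_conj, h1, h2]
      norm_num
  have honly : ∀ g : H, t g ≠ 0 → ∀ A : h.Pt, (g : G) • A = A → A = E := by
    intro g hg A hA
    by_contra hne
    obtain ⟨y, hy, hyX⟩ := P.torus.1.two E X A P.ne.symm hne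
    set y' : H := ⟨y, hy⟩
    refine hg ?_
    have hmem : ((y'⁻¹ * g * y' : H) : G) ∈ h.pairStab E X := mem_pairStab.2
      ⟨mem_stabilizer_iff.1 (y'⁻¹ * g * y').2, by
        show (y⁻¹ * (g : G) * y) • X = X
        rw [mul_smul, mul_smul, hyX, hA, inv_smul_eq_iff, hyX]⟩
    have h1 := htK _ hmem
    have hg' : g = y' * (y'⁻¹ * g * y') * y'⁻¹ := by group
    rw [hg']
    simp only [t, card_fixedBy_conj] at h1 ⊢
    exact h1
  have hnotM : ∀ g : H, t g ≠ 0 → ¬ (g : G) ∈ h.grp E := fun g hg hgE =>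
    hg (htM g ((h.linRep_eq_one_iff g).2 fun v hv => h.grp_comm hgE hv))
  obtain ⟨d, hd, hdE⟩ := h.exists_pt E
  refine no_short_character (d := d) (h.ord d hd) ?_ H t ?_ (fun g hg e => ?_) (fun g hg e => ?_)
    (fun g hg x e => ?_) (fun g hg x hx => ?_) ?_ ?_
  · -- the normal closure
    rw [eq_top_iff, ← P.torus.1.gen, closure_le]
    intro b hb
    obtain ⟨g, hg⟩ : ∃ g : G, g • E = h.pt b hb := by
      by_cases hEb : E = h.pt b hb
      · exact ⟨1, by rw [one_smul, hEb]⟩
      obtain ⟨m, hm, -⟩ := h.exists_swapper hdE rfl hEb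
      exact ⟨m, hm.2⟩
    have hgd : g⁻¹ * b * g ∈ h.grp E := by
      have h1 := h.grp_conj (g := g⁻¹) (h.self_mem_grp hb)
      rw [inv_inv, inv_smul_eq_iff.2 hg.symm] at h1
      exact h1
    obtain ⟨c, -, hc⟩ := torus_regular P.torus.1 P.C_le P.card_C P.free (hdE ▸ h.self_mem_grp hd)
      (h.toOT.ne_one hd) hgd (fun e => h.toOT.ne_one hb (by
        calc b = g * (g⁻¹ * b * g) * g⁻¹ := by group
          _ = 1 := by rw [e, mul_one, mul_inv_cancel]))
    have : b = g * c * d * (g * c)⁻¹ := by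
      calc b = g * (g⁻¹ * b * g) * g⁻¹ := by group
        _ = g * c * d * (g * c)⁻¹ := by rw [← hc]; group
    rw [this]
    exact normalClosure_normal.conj_mem d (subset_normalClosure (Set.mem_singleton d)) _
  · refine ⟨_, _, Characters.isCharacter_add Characters.isCharacter_one
      (Characters.isCharacter_permChar (G := H) {v : h.Vec E // v ≠ 0}),
      Characters.isCharacter_permChar (G := H) B, ?_⟩
    funext g
    simp [t]
  · exact hg (htM g (by rw [show g = 1 from Subtype.ext e, map_one]))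
  · obtain ⟨y, hy⟩ := isConj_iff.1 e
    have hgD : (g : G) ∈ D := hy ▸ h.conj d hd y
    exact hnotM g hg (Or.inr ⟨hgD, (honly g hg _ (h.smul_self hgD))⟩)
  · obtain ⟨y, hy⟩ := isConj_iff.1 e
    set a := y * d * y⁻¹
    set b := y * (x * d * x⁻¹) * y⁻¹
    have ha : a ∈ D := h.conj d hd y
    have hb : b ∈ D := h.conj _ (h.conj d hd x) y
    have hab : (g : G) = a * b := by
      rw [← hy]
      show _ = y * d * y⁻¹ * (y * (x * d * x⁻¹) * y⁻¹)
      group
    have hga : (g : G) * a * g = a := by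
      rw [hab]
      calc a * b * a * (a * b) = a * b * (a * a) * b := by group
        _ = a * (b * b) := by rw [h.sq ha]; group
        _ = a := by rw [h.sq hb, mul_one]
    have hgb : (g : G) * b * g = b := by
      rw [hab]
      calc a * b * b * (a * b) = a * (b * b) * a * b := by group
        _ = a * a * b := by rw [h.sq hb, mul_one]
        _ = b := by rw [h.sq ha, one_mul]
    have hgE : (g : G) • E = E := mem_stabilizer_iff.1 g.2
    have hfix : ∀ {s : G}, (g : G) * s * g = s → s • E = E := fun {s} hs => honly g hg _ (by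
      calc (g : G) • s • E = ((g : G) * s * g) • E := by rw [mul_smul, mul_smul, hgE]
        _ = s • E := by rw [hs])
    refine hnotM g hg ?_
    rw [hab]
    exact mul_mem (Or.inr ⟨ha, ((h.smul_eq_iff ha).1 (hfix hga)).symm⟩)
      (Or.inr ⟨hb, ((h.smul_eq_iff hb).1 (hfix hgb)).symm⟩)
  · refine mem_stabilizer_iff.2 ?_
    have h1 : (x * (g : G) * x⁻¹) • E = E := mem_stabilizer_iff.1 hx
    rw [mul_smul, mul_smul, ← eq_inv_smul_iff] at h1
    have h2 := honly g hg _ h1
    rw [inv_smul_eq_iff] at h2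
    exact h2.symm
  · intro inst
    obtain rfl : hFH = inst := Subsingleton.elim _ _
    have h1 := sum_card_fixedBy_of_orbits (H := H) (A := {v : h.Vec E // v ≠ 0}) (T := Unit)
      (fun _ => ()) (fun _ => ⟨P.base, rfl⟩) (fun _ _ => rfl)
      fun u v _ => (htransΩ u v).imp fun _ hg => hg.2
    have h2 := sum_card_fixedBy_of_orbits (H := H) (A := B) (T := Unit)
      (fun _ => ()) (fun _ => ⟨b₀, rfl⟩) (fun _ _ => rfl)
      fun u v _ => exists_smul_eq H u v
    simp only [t, Finset.sum_sub_distrib, Finset.sum_add_distrib, h1, h2, Finset.sum_const, Finset.card_univ,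
      nsmul_eq_mul, mul_one, Nat.card_unique, Nat.cast_one, one_mul, ← Nat.card_eq_fintype_card]
    ring
  · intro inst
    obtain rfl : hFH = inst := Subsingleton.elim _ _
    have h1 := sum_card_fixedBy_of_orbits (H := H) (A := {v : h.Vec E // v ≠ 0}) (T := Unit)
      (fun _ => ()) (fun _ => ⟨P.base, rfl⟩) (fun _ _ => rfl)
      fun u v _ => (htransΩ u v).imp fun _ hg => hg.2
    have h2 := sum_card_fixedBy_of_orbits (H := H) (A := B) (T := Unit)
      (fun _ => ()) (fun _ => ⟨b₀, rfl⟩) (fun _ _ => rfl)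
      fun u v _ => exists_smul_eq H u v
    have h11 := sum_card_fixedBy_of_orbits (H := H) (A := {v : h.Vec E // v ≠ 0} × {v : h.Vec E // v ≠ 0})
      (T := Bool) (fun p => decide (p.1 = p.2)) (fun b => by
        obtain ⟨u, hu⟩ : ∃ u : {v : h.Vec E // v ≠ 0}, u ≠ P.base := by
          haveI : Nontrivial {v : h.Vec E // v ≠ 0} := Finite.one_lt_card_iff_nontrivial.1 (by rw [hΩ]; norm_num)
          exact exists_ne _
        cases b
        · exact ⟨(u, P.base), by simp [hu]⟩
        · exact ⟨(u, u), by simp⟩)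
      (fun g p => by simp [smul_left_cancel_iff]) (fun p q hpq => by
        by_cases hp : p.1 = p.2
        · simp only [hp, decide_true] at hpq
          have hq : q.1 = q.2 := of_decide_eq_true hpq.symm
          obtain ⟨g, -, hg⟩ := htransΩ p.1 q.1
          exact ⟨g, Prod.ext hg (by show g • p.2 = q.2; rw [← hp, ← hq, hg])⟩
        · simp only [hp, decide_false] at hpq
          have hq : q.1 ≠ q.2 := of_decide_eq_false hpq.symm
          obtain ⟨g, hg1, hg2⟩ := P.two_transitive p.1.2 p.2.2 (fun e => hp (Subtype.ext e)) q.1.2 q.2.2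
            (fun e => hq (Subtype.ext e))
          exact ⟨g, Prod.ext (Subtype.ext hg1) (Subtype.ext hg2)⟩)
    have h22 := sum_card_fixedBy_of_orbits (H := H) (A := B × B) (T := Bool)
      (fun p => decide (p.1 = p.2)) (fun b => by
        cases b
        · exact ⟨(b₁, b₀), by simp [hb₁]⟩
        · exact ⟨(b₀, b₀), by simp⟩)
      (fun g p => by simp [smul_left_cancel_iff]) (fun p q hpq => by
        obtain ⟨g, hg⟩ := exists_smul_eq H p.1 b₀
        obtain ⟨g', hg'⟩ := exists_smul_eq H q.1 b₀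
        by_cases hp : p.1 = p.2
        · simp only [hp, decide_true] at hpq
          have hq : q.1 = q.2 := of_decide_eq_true hpq.symm
          exact ⟨g'⁻¹ * g, Prod.ext (by show (g'⁻¹ * g) • p.1 = q.1; rw [mul_smul, hg, inv_smul_eq_iff, hg'])
            (by show (g'⁻¹ * g) • p.2 = q.2; rw [← hp, ← hq, mul_smul, hg, inv_smul_eq_iff, hg'])⟩
        · simp only [hp, decide_false] at hpq
          have hq : q.1 ≠ q.2 := of_decide_eq_false hpq.symm
          obtain ⟨k, hk0, hk1⟩ := htransB (g • p.2) fun e => hp (smul_left_cancel g (hg.trans e.symm))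
          obtain ⟨k', hk0', hk1'⟩ := htransB (g' • q.2) fun e => hq (smul_left_cancel g' (hg'.trans e.symm))
          exact ⟨g'⁻¹ * k' * k⁻¹ * g, Prod.ext
            (by show (g'⁻¹ * k' * k⁻¹ * g) • p.1 = q.1
                rw [mul_smul, mul_smul, mul_smul, hg, inv_smul_eq_iff.2 hk0.symm, hk0', inv_smul_eq_iff, hg'])
            (by show (g'⁻¹ * k' * k⁻¹ * g) • p.2 = q.2
                rw [mul_smul, mul_smul, mul_smul, inv_smul_eq_iff.2 hk1.symm, hk1', inv_smul_smul])⟩)
    have h12 := sum_card_fixedBy_of_orbits (H := H) (A := {v : h.Vec E // v ≠ 0} × B) (T := Unit)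
      (fun _ => ()) (fun _ => ⟨(P.base, b₀), rfl⟩) (fun _ _ => rfl) fun p q _ => by
        obtain ⟨g, hg⟩ := exists_smul_eq H p.2 b₀
        obtain ⟨g', hg'⟩ := exists_smul_eq H q.2 b₀
        obtain ⟨k, hk0, hk⟩ := htransΩ (g • p.1) (g' • q.1)
        exact ⟨g'⁻¹ * k * g, Prod.ext
          (by show (g'⁻¹ * k * g) • p.1 = q.1; rw [mul_smul, mul_smul, hk, inv_smul_smul])
          (by show (g'⁻¹ * k * g) • p.2 = q.2; rw [mul_smul, mul_smul, hg, hk0, inv_smul_eq_iff, hg'])⟩
    have hb2 : Nat.card Bool = 2 := by simp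
    simp only [card_fixedBy_prod, Nat.cast_mul, hb2, Nat.cast_ofNat] at h11 h22
    simp only [card_fixedBy_prod, Nat.cast_mul, Nat.card_unique, Nat.cast_one, one_mul] at h1 h2 h12
    refine le_of_eq ?_
    calc ∑ g : H, t g ^ 2
        = ∑ g : H, (1 + 2 * (Nat.card (fixedBy {v : h.Vec E // v ≠ 0} g) : ℤ) - 2 * Nat.card (fixedBy B g)
            + (Nat.card (fixedBy {v : h.Vec E // v ≠ 0} g) : ℤ) * Nat.card (fixedBy {v : h.Vec E // v ≠ 0} g)
            + (Nat.card (fixedBy B g) : ℤ) * Nat.card (fixedBy B g)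
            - 2 * ((Nat.card (fixedBy {v : h.Vec E // v ≠ 0} g) : ℤ) * Nat.card (fixedBy B g))) :=
          Finset.sum_congr rfl fun g _ => by simp only [t]; ring
      _ = 3 * (Nat.card H : ℤ) := by
          simp only [Finset.sum_sub_distrib, Finset.sum_add_distrib, ← Finset.mul_sum, h1, h2, h11, h22, h12,
            Finset.sum_const, Finset.card_univ, nsmul_eq_mul, mul_one, ← Nat.card_eq_fintype_card]
          push_cast
          ring

/-- **The torus with prime field part does not occur.** -/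
theorem torus_prime_false {h : ClassGroups D} {r : ℕ} (hT : h.Torus (2 ^ r) r) (hr : r.Prime) : False := by
  obtain ⟨E, X, C, W, v₀, P⟩ := exists_primeData hT hr
  by_cases h3 : r = 3
  · exact torus_prime_false_three P h3
  · refine torus_prime_false_large P ?_
    have := hr.two_le
    obtain ⟨l, rfl⟩ := hT.2
    omega

end Cfsg.Agent.OddTranspX
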