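import Cfsg.Agent.Lib.OddTranspX.Reduce
import Cfsg.Agent.Lib.OddTranspX.OneSided
import Cfsg.Agent.Lib.OddTranspX.TorusBaseMain
import Cfsg.Agent.Lib.OddTranspX.TorusPrime

/-!
# Assembly

The three inductions (`weakMain_of`, `torusMain_of`, `main_of`) with the two remaining pieces,
`PairFree` from "no one-sided kernels" and the field case of the torus, as hypotheses, and the
passage to the subgroup of S5051.
-/

set_option autoImplicit false
set_option linter.style.haveILetI false
set_option linter.unusedSectionVars false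

namespace Cfsg.Agent.OddTranspX

open Subgroup MulAction

universe u

/-- The setting without a generating pair, by induction. -/
theorem weakMain_of
    (hstep : ∀ (G : Type u) [Group G] [Finite G] (D : Set G) (h : ClassGroups D) (n p : ℕ),
      h.Weak n → Fine p n → WeakBelow G → h.PairFree p)
    (G : Type u) [Group G] [Finite G] : WeakMain G := by
  have key : ∀ (k : ℕ) (G : Type u) [Group G] [Finite G], Nat.card G ≤ k → WeakMain G := by
    intro k
    induction k with
    | zero =>
      intro G _ _ hk
      have : 0 < Nat.card G := Nat.card_pos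
      omega
    | succ k ih =>
      intro G _ _ hk D h n p hW hp
      exact hstep G D h n p hW hp fun H _ _ hH => ih H (by omega)
  exact key _ G le_rfl

/-- The recursive setting, by induction. -/
theorem torusMain_of
    (hfield : ∀ (G : Type u) [Group G] [Finite G] (D : Set G) (h : ClassGroups D) (q e : ℕ),
      h.Torus q e → TorusBelow G → ∀ (E X : h.Pt), E ≠ X → ∀ m ∈ h.swappers E X,
        ∀ z ∈ h.pairStab E X ⊓ Subgroup.centralizer {m}, (orderOf z).Prime →
          4 ≤ Nat.card ↥(h.grp E ⊓ Subgroup.centralizer {z}) → False)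
    (G : Type u) [Group G] [Finite G] : TorusMain G := by
  have key : ∀ (k : ℕ) (G : Type u) [Group G] [Finite G], Nat.card G ≤ k → TorusMain G := by
    intro k
    induction k with
    | zero =>
      intro G _ _ hk
      have : 0 < Nat.card G := Nat.card_pos
      omega
    | succ k ih =>
      intro G _ _ hk D h q e hT
      by_cases he : e = 1
      · subst he
        exact torus_one hT
      exfalso
      obtain ⟨E, X, hEX⟩ := hT.1.nontrivial
      obtain ⟨m, hm⟩ := h.exists_swapper_pair hEX
      set W := h.pairStab E X ⊓ Subgroup.centralizer {m} with hWdef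
      obtain ⟨hcyc, hcard⟩ := hT.1.field_cyclic E X hEX m hm
      obtain ⟨r, hr, hre⟩ := Nat.exists_prime_and_dvd he
      haveI : Fact r.Prime := ⟨hr⟩
      obtain ⟨w, hw⟩ := exists_prime_orderOf_dvd_card' r (hcard.symm ▸ hre : r ∣ Nat.card W)
      have hwo : orderOf (w : G) = r := by rw [Subgroup.orderOf_coe, hw]
      by_cases h4 : 4 ≤ Nat.card ↥(h.grp E ⊓ Subgroup.centralizer {(w : G)})
      · exact hfield G D h q e hT (fun H _ _ hH => ih H (by omega)) E X hEX m hm w w.2
          (hwo.symm ▸ hr) h4
      -- only one member fixed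
      have hpow := hT.1.field_fixed E X hEX m hm w w.2
      rw [hwo] at hpow
      obtain ⟨i, hi⟩ := h.grp_card E (h.grp E ⊓ Subgroup.centralizer {(w : G)}) inf_le_left
      rw [hi] at hpow h4
      have hi1 : i = 1 := by
        rcases i with _ | _ | i
        · have := hT.1.four_le
          rw [pow_zero, one_pow] at hpow
          omega
        · rfl
        · refine absurd ?_ h4
          rw [pow_add]
          have := Nat.one_le_two_pow (n := i)
          omega
      subst hi1
      rw [pow_one] at hpow
      subst hpow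
      obtain ⟨g, hg⟩ := (isCyclic_iff_exists_zpowers_eq_top.1 hcyc)
      have hgo : orderOf (g : G) = e := by
        rw [Subgroup.orderOf_coe, ← Nat.card_zpowers, hg, Subgroup.card_top, hcard]
      have hpow' := hT.1.field_fixed E X hEX m hm g g.2
      obtain ⟨j, hj⟩ := h.grp_card E (h.grp E ⊓ Subgroup.centralizer {(g : G)}) inf_le_left
      rw [hj, hgo, ← pow_mul] at hpow'
      have hje : j * e = r := Nat.pow_right_injective le_rfl hpow'
      have he2 : e = r :=
        ((Nat.dvd_prime hr).1 (Dvd.intro_left j hje)).resolve_left he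
      subst he2
      exact torus_prime_false hT hr
  exact key _ G le_rfl

/-- Classes: `L2` or Suzuki. -/
theorem main_of
    (hweak : ∀ (G : Type u) [Group G] [Finite G], WeakMain G)
    (htorus : ∀ (G : Type u) [Group G] [Finite G], TorusMain G)
    (G : Type u) [Group G] [Finite G] : Main G := by
  have key : ∀ (k : ℕ) (G : Type u) [Group G] [Finite G], Nat.card G ≤ k → Main G := by
    intro k
    induction k with
    | zero =>
      intro G _ _ hk
      have : 0 < Nat.card G := Nat.card_pos
      omega
    | succ k ih =>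
      intro G _ _ hk D hC
      have hB : Below G := fun H _ _ hH => ih H (by omega)
      obtain ⟨n, hW⟩ := hC.weak hB
      obtain ⟨p, hp⟩ := exists_fine hW.two_le
      have h2 : hC.toClassGroups.TwoTrans :=
        twoTrans_of_pairFree _ hW.card_grp hp (by have := hW.two_le; omega)
          (hweak G D hC.toClassGroups n p hW hp)
      have hA := hC.allGen h2
      by_cases hmid : hC.toClassGroups.HasMid
      · exact hC.concl_of_mid hA hmid
      obtain ⟨q, e, hT⟩ := torus_base hB hC h2 hA hmid
      exact Or.inr (htorus G D hC.toClassGroups q e hT.toTorus)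
  exact key _ G le_rfl

/-- S5051 from `Main`. -/
theorem odd_partner_quotient {G : Type u} [Group G] [Finite G] {D : Set G}
    (hmain : ∀ (H : Type u) [Group H] [Finite H], Main H)
    (hD : Cfsg.IsOddTranspositionSet D) {d x : G} (hd : d ∈ D) (hx : x ∈ Cfsg.oddPartners D d) :
    Concl (↥(closure (Cfsg.sameCommutingClass D d ∪ {x})) ⧸
        Cfsg.pCore 2 ↥(closure (Cfsg.sameCommutingClass D d ∪ {x}))) ∨
      ∃ n : ℕ, Nonempty ((↥(closure (Cfsg.sameCommutingClass D d ∪ {x})) ⧸
        Cfsg.pCore 2 ↥(closure (Cfsg.sameCommutingClass D d ∪ {x}))) ≃* DihedralGroup n) := by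
  obtain ⟨⟨hord, -, hconj, hpair⟩, h4⟩ := hD
  obtain ⟨hxD, hxd, hodd⟩ := hx
  set S := Cfsg.sameCommutingClass D d ∪ {x} with hS
  set X := closure S with hX
  set D' : Set X := {y | (y : G) ∈ D} with hD'
  have hot : GenA.OddTransp.OT D' := by
    refine ⟨fun a ha => ?_, fun a ha g => ?_, fun a ha b hb => ?_⟩
    · rw [← Subgroup.orderOf_coe]; exact hord _ ha
    · simpa [hD'] using hconj _ ha (g : G)
    · rcases hpair _ ha _ hb with h1 | h1 | ⟨h1, -⟩
      · exact Or.inl (Subtype.ext h1)
      · refine Or.inr ?_
        rwa [← Subgroup.orderOf_coe]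
      · exact absurd h1 (h4 _ ha _ hb)
  have hdS : d ∈ S := Or.inl ⟨hd, rfl⟩
  let d' : X := ⟨d, subset_closure hdS⟩
  let x' : X := ⟨x, subset_closure (Or.inr rfl)⟩
  let A : Set X := {y | (y : G) ∈ Cfsg.sameCommutingClass D d}
  have hA : A ⊆ sameCls D' d' := by
    rintro a ⟨haD, heq⟩
    refine ⟨haD, fun y hy => ?_⟩
    have h1 : ((y : G) ∈ Cfsg.commutingMembers D d) ↔ (y : G) ∈ Cfsg.commutingMembers D a := by
      rw [heq]
    exact ⟨fun hc => Subtype.ext (h1.2 ⟨hy, (congrArg Subtype.val hc.eq).symm⟩).2.symm,
      fun hc => Subtype.ext (h1.1 ⟨hy, (congrArg Subtype.val hc.eq).symm⟩).2.symm⟩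
  have hdx : ¬ Commute d' x' := by
    intro hc
    have hdd : d * d = 1 := by have := pow_orderOf_eq_one d; rwa [hord d hd, pow_two] at this
    have hxx : x * x = 1 := by have := pow_orderOf_eq_one x; rwa [hord x hxD, pow_two] at this
    have h1 := eq_one_of_odd_sq hodd
      (GenA.OddTransp.sq_mul hdd hxx (congrArg Subtype.val hc.eq))
    refine hxd ?_
    calc x = d * (d * x) := by rw [← mul_assoc, hdd, one_mul]
      _ = d := by rw [h1, mul_one]
  have hgen : closure (A ∪ {x'}) = (⊤ : Subgroup X) := by
    have h1 : (A ∪ {x'} : Set X) = (fun y : X => (y : G)) ⁻¹' S := by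
      ext y
      simp [A, x', hS, Subtype.ext_iff]
    rw [h1]
    exact closure_closure_coe_preimage
  exact concl_or_dihedral hot (d := d') (x := x') hd (show d' ∈ A from ⟨hd, rfl⟩) hA hxD hdx hgen
    fun H _ _ _ => hmain H

end Cfsg.Agent.OddTranspX
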