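import Cfsg.Agent.Lib.Characters.Counting
import Cfsg.Agent.Lib.Characters.Inner

/-!
# Automizers of Sylow subgroups of prime order missing the products of two conjugate involutions

If an involution `d` has normal closure the whole group and `r` divides the order of no product
`d * d^x`, then a Sylow subgroup `W` of order `r` has an automizer of order at least three: otherwise
a generalized character of norm at most three supported on the `r`-singular elements would contain the
trivial character once, and the three moments at `1`, `d` and the class of `d` contradict this.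
-/

set_option autoImplicit false
set_option linter.style.haveILetI false
set_option linter.unusedSectionVars false

namespace Cfsg.Agent.OddTranspX

open Subgroup Finset
open scoped ComplexConjugate

universe u

/-- The arithmetic of three moments of a short integral vector. -/
theorem no_short_vector {ι : Type*} [Fintype ι] (o : ι) (a : ι → ℤ) (x k : ι → ℝ) (ho : a o = 1)
    (hxo : x o = 1) (hko : k o = 0) (hx : ∀ i, 0 < x i) (hk : ∀ i, i ≠ o → 0 < k i)
    (hn : ∑ i, a i ^ 2 ≤ 3) (h1 : ∑ i, (a i : ℝ) * x i = 0) (h2 : ∑ i, (a i : ℝ) * k i = 0)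
    (h3 : ∑ i, (a i : ℝ) * k i ^ 2 / x i = 0) : False := by
  classical
  set S := (univ.erase o).filter fun i => a i ≠ 0 with hS
  have hsum : ∀ g : ι → ℝ, ∑ i, (a i : ℝ) * g i = g o + ∑ i ∈ S, (a i : ℝ) * g i := by
    intro g
    rw [← add_sum_erase univ _ (mem_univ o), ho, Int.cast_one, one_mul, hS, sum_filter_of_ne]
    intro i _ hne h0
    exact hne (by rw [h0, Int.cast_zero, zero_mul])
  have h3' : ∑ i, (a i : ℝ) * (k i ^ 2 / x i) = 0 := by
    rw [← h3]; exact sum_congr rfl fun i _ => (mul_div_assoc _ _ _).symm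
  rw [hsum, hxo] at h1
  rw [hsum, hko, zero_add] at h2
  rw [hsum, hko] at h3'
  rw [zero_pow two_ne_zero, zero_div, zero_add] at h3'
  have hsq : ∑ i ∈ S, a i ^ 2 ≤ 2 := by
    rw [← add_sum_erase univ _ (mem_univ o), ho] at hn
    have h4 : ∑ i ∈ S, a i ^ 2 ≤ ∑ i ∈ univ.erase o, a i ^ 2 :=
      sum_le_sum_of_subset_of_nonneg (filter_subset _ _) fun i _ _ => sq_nonneg _
    linarith
  have hone : ∀ i ∈ S, 1 ≤ a i ^ 2 := fun i hi => by
    have := mul_self_pos.2 (mem_filter.1 hi).2
    rw [pow_two]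
    omega
  have hcard : S.card ≤ 2 := by
    have h4 : ∑ _i ∈ S, (1 : ℤ) ≤ ∑ i ∈ S, a i ^ 2 := sum_le_sum hone
    rw [sum_const, nsmul_one] at h4
    omega
  have hk' : ∀ i ∈ S, 0 < k i := fun i hi => hk i (mem_erase.1 (mem_filter.1 hi).1).1
  rcases (show S.card = 0 ∨ S.card = 1 ∨ S.card = 2 by omega) with h | h | h
  · rw [card_eq_zero.1 h, sum_empty] at h1
    norm_num at h1
  · obtain ⟨i, hi⟩ := card_eq_one.1 h
    rw [hi, sum_singleton] at h2
    rcases mul_eq_zero.1 h2 with h0 | h0
    · exact (mem_filter.1 (hi ▸ mem_singleton_self i : i ∈ S)).2 (by exact_mod_cast h0)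
    · exact (hk' i (hi ▸ mem_singleton_self i)).ne' h0
  · obtain ⟨i, j, hij, hS2⟩ := card_eq_two.1 h
    have hiS : i ∈ S := by rw [hS2]; simp
    have hjS : j ∈ S := by rw [hS2]; simp
    rw [hS2, sum_pair hij] at h1 h2 h3' hsq
    have hi1 := hone i hiS
    have hj1 := hone j hjS
    have hai : a i = 1 ∨ a i = -1 := sq_eq_one_iff.1 (by omega)
    have haj : a j = 1 ∨ a j = -1 := sq_eq_one_iff.1 (by omega)
    have hki := hk' i hiS
    have hkj := hk' j hjS
    have hxi := hx i
    have hxj := hx j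
    rcases hai with e1 | e1 <;> rcases haj with e2 | e2 <;> rw [e1, e2] at h1 h2 h3' <;>
      push_cast at h1 h2 h3'
    · linarith
    · have he : k i = k j := by linarith
      rw [he] at h3'
      have h5 : k j ^ 2 / x i = k j ^ 2 / x j := by linarith
      rw [div_eq_div_iff hxi.ne' hxj.ne'] at h5
      have h6 : x i = x j := by
        have h7 : k j ^ 2 ≠ 0 := pow_ne_zero 2 hkj.ne'
        exact (mul_left_cancel₀ h7 h5).symm
      linarith
    · have he : k i = k j := by linarith
      rw [he] at h3'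
      have h5 : k j ^ 2 / x i = k j ^ 2 / x j := by linarith
      rw [div_eq_div_iff hxi.ne' hxj.ne'] at h5
      have h6 : x i = x j := by
        have h7 : k j ^ 2 ≠ 0 := pow_ne_zero 2 hkj.ne'
        exact (mul_left_cancel₀ h7 h5).symm
      linarith
    · linarith

variable {G : Type u} [Group G] [Finite G]

/-- An abelian-by-`r'` linear character of the centralizer of a Sylow subgroup of order `r`. -/
theorem exists_linear {r : ℕ} [hr : Fact r.Prime] (W : Subgroup G) (hW : Nat.card W = r)
    (hsyl : ¬ r ^ 2 ∣ Nat.card G) :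
    ∃ ξ : ↥(centralizer (W : Set G)) →* ℂˣ,
      (∀ c : ↥(centralizer (W : Set G)), (c : G) ∈ W → ξ c = 1 → c = 1) ∧
        ∀ c, ξ c ≠ 1 → r ∣ orderOf c := by
  haveI : IsCyclic W := isCyclic_of_prime_card hW
  set C := centralizer (W : Set G) with hC
  haveI : IsMulCommutative W := inferInstance
  have hWC : W ≤ C := le_centralizer_iff_isMulCommutative.2 inferInstance
  have hP : Nat.card (W.subgroupOf C) = r := (Nat.card_congr (subgroupOfEquivOfLe hWC).toEquiv).trans hW
  have hidx : ¬ r ∣ (W.subgroupOf C).index := fun h => hsyl (by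
    refine dvd_trans ?_ C.card_subgroup_dvd_card
    rw [pow_two, ← (W.subgroupOf C).card_mul_index, hP]
    exact Nat.mul_dvd_mul_left r h)
  have hcardP : Nat.card (W.subgroupOf C) = r ^ (Nat.card C).factorization r := by
    have h1 : (Nat.card C).factorization r = 1 := by
      rw [← (W.subgroupOf C).card_mul_index, hP, Nat.factorization_mul hr.out.ne_zero
        Subgroup.index_ne_zero_of_finite, Finsupp.add_apply, Nat.Prime.factorization_self hr.out,
        Nat.factorization_eq_zero_of_not_dvd hidx, add_zero]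
    rw [hP, h1, pow_one]
  let P : Sylow r C := Sylow.ofCard (W.subgroupOf C) hcardP
  have hPc : Nat.card (P : Subgroup C) = r := hP
  have hN : normalizer ((P : Subgroup C) : Set C) ≤ centralizer ((P : Subgroup C) : Set C) :=
    fun c _ => mem_centralizer_iff.2 fun w hw => Subtype.ext (mem_centralizer_iff.1 c.2 (w : G) hw)
  haveI : IsCyclic (P : Subgroup C) := isCyclic_of_prime_card hPc
  haveI : IsCyclic (rootsOfUnity r ℂ) := inferInstance
  haveI : NeZero r := ⟨hr.out.ne_zero⟩
  let e : (P : Subgroup C) ≃* rootsOfUnity r ℂ := mulEquivOfCyclicCardEq (by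
    rw [hPc, Complex.card_rootsOfUnity])
  let φ : C →* ℂˣ := (rootsOfUnity r ℂ).subtype.comp (e.toMonoidHom.comp (MonoidHom.transferSylow P hN))
  have hcop : ∀ z : C, z ∈ (P : Subgroup C) → z ^ (P : Subgroup C).index = 1 → z = 1 := by
    intro z hz h
    refine orderOf_eq_one_iff.1 (Nat.eq_one_of_dvd_coprimes (hr.out.coprime_iff_not_dvd.2 hidx)
      ?_ (orderOf_dvd_of_pow_eq_one h))
    exact hPc ▸ (P : Subgroup C).orderOf_dvd_natCard hz
  refine ⟨φ, fun c hcW hc => ?_, fun c hc => ?_⟩
  · have h1 : MonoidHom.transferSylow P hN c = 1 := by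
      have : ((e (MonoidHom.transferSylow P hN c) : rootsOfUnity r ℂ) : ℂˣ) = 1 := hc
      exact e.map_eq_one_iff.1 (Subtype.ext this)
    refine hcop c hcW ?_
    have h2 := MonoidHom.transferSylow_eq_pow P hN c hcW
    rw [h1] at h2
    exact (congrArg Subtype.val h2).symm
  · by_contra hd
    refine hc ?_
    have h1 : orderOf (MonoidHom.transferSylow P hN c) ∣ Nat.gcd r (orderOf c) :=
      Nat.dvd_gcd ((_root_.orderOf_dvd_natCard _).trans (dvd_of_eq hPc)) (orderOf_map_dvd _ c)
    rw [(hr.out.coprime_iff_not_dvd.2 hd), Nat.dvd_one, orderOf_eq_one_iff] at h1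
    show ((e (MonoidHom.transferSylow P hN c) : rootsOfUnity r ℂ) : ℂˣ) = 1
    rw [h1, map_one, OneMemClass.coe_one]

/-- Two elements with a nontrivial `r`-part are fused only by the normalizer of `W`. -/
theorem mem_normalizer_of_conj {r : ℕ} [hr : Fact r.Prime] (W : Subgroup G) (hW : Nat.card W = r)
    (hsyl : ¬ r ^ 2 ∣ Nat.card G) {c c' : G} (hc : c ∈ centralizer (W : Set G))
    (hc' : c' ∈ centralizer (W : Set G)) (hrc : r ∣ orderOf c) {g : G} (hg : g * c * g⁻¹ = c') :
    g ∈ normalizer (W : Set G) := by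
  have hmem : ∀ z ∈ centralizer (W : Set G), orderOf z = r → z ∈ W := by
    intro z hz hzo
    have hWp : IsPGroup r W := IsPGroup.of_card (n := 1) (by rw [hW, pow_one])
    have hzp : IsPGroup r (zpowers z) := IsPGroup.of_card (n := 1) (by rw [Nat.card_zpowers, hzo, pow_one])
    have hsup : IsPGroup r (zpowers z ⊔ W : Subgroup G) :=
      hzp.to_sup_of_normal_right' hWp (zpowers_le.2 (centralizer_le_normalizer _ hz))
    obtain ⟨j, hj⟩ := hsup.exists_card_eq
    have hj1 : j ≤ 1 := by
      by_contra hlt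
      exact hsyl (((pow_dvd_pow r (by omega : 2 ≤ j)).trans (dvd_of_eq hj.symm)).trans
        (zpowers z ⊔ W).card_subgroup_dvd_card)
    have heq : W = zpowers z ⊔ W := eq_of_le_of_card_ge le_sup_right (by
      rw [hj, hW]; exact (Nat.pow_le_pow_right hr.out.pos hj1).trans_eq (pow_one r))
    rw [heq]
    exact mem_sup_left (mem_zpowers z)
  set j := orderOf c / r with hj
  have hjo : orderOf (c ^ j) = r := orderOf_pow_orderOf_div (orderOf_pos c).ne' hrc
  have h1 : c ^ j ∈ W := hmem _ (pow_mem hc j) hjo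
  have hconj : g * c ^ j * g⁻¹ = c' ^ j := by rw [← conj_pow, hg]
  have h2 : c' ^ j ∈ W := hmem _ (pow_mem hc' j) (by
    rw [← hconj, ← MulAut.conj_apply, MulEquiv.orderOf_eq, hjo])
  have hgen : zpowers (c ^ j) = W := eq_of_le_of_card_ge (zpowers_le.2 h1) (by
    rw [Nat.card_zpowers, hjo, hW])
  have hmap : W.map (MulAut.conj g).toMonoidHom = W := by
    refine eq_of_le_of_card_ge ?_ (card_map_of_injective (MulAut.conj g).injective).ge
    rw [← hgen, MonoidHom.map_zpowers, zpowers_le, hgen]
    show g * c ^ j * g⁻¹ ∈ W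
    rw [hconj]; exact h2
  exact mem_normalizer_iff.2 fun y => by
    constructor
    · intro hy; rw [← hmap]; exact ⟨y, hy, rfl⟩
    · intro hy
      rw [← hmap] at hy
      obtain ⟨y', hy', he⟩ := hy
      rwa [show y = y' from ((MulAut.conj g).injective he).symm]

/-- The automizer of `W` has order at least three. -/
theorem three_le_automizer {d : G} (hd : orderOf d = 2) (hgen : normalClosure ({d} : Set G) = ⊤)
    {r : ℕ} [hr : Fact r.Prime] (hr2 : r ≠ 2) (W : Subgroup G) (hW : Nat.card W = r)
    (hsyl : ¬ r ^ 2 ∣ Nat.card G) (hprod : ∀ x : G, ¬ r ∣ orderOf (d * (x * d * x⁻¹))) :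
    3 * Nat.card (centralizer (W : Set G)) ≤ Nat.card (normalizer (W : Set G)) := by
  classical
  by_contra hlt
  push Not at hlt
  haveI := Fintype.ofFinite G
  haveI := Fintype.ofFinite (Cfsg.IrrCharacter G)
  set C := centralizer (W : Set G) with hC
  set N := normalizer (W : Set G) with hN
  obtain ⟨ξ, hξW, hξr⟩ : ∃ ξ : C →* ℂˣ, (∀ c : C, (c : G) ∈ W → ξ c = 1 → c = 1) ∧
      ∀ c, ξ c ≠ 1 → r ∣ orderOf c := exists_linear W hW hsyl
  have hCN : C ≤ N := centralizer_le_normalizer _
  have hNC : ∀ g ∈ N, ∀ c ∈ C, g * c * g⁻¹ ∈ C := by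
    intro g hg c hc
    refine mem_centralizer_iff.2 fun w hw => ?_
    have hw' : g⁻¹ * w * g ∈ W := by simpa using (mem_normalizer_iff.1 (inv_mem hg) w).1 hw
    calc w * (g * c * g⁻¹) = g * ((g⁻¹ * w * g) * c) * g⁻¹ := by group
      _ = g * (c * (g⁻¹ * w * g)) * g⁻¹ := by rw [mem_centralizer_iff.1 hc _ hw']
      _ = g * c * g⁻¹ * w := by group
  let θ : C → ℂ := fun c => 1 - (ξ c : ℂ)
  have hθ : ∀ c, θ c ≠ 0 → r ∣ orderOf (c : G) := fun c h => by
    rw [Subgroup.orderOf_coe]
    exact hξr c fun e => h (show (1 : ℂ) - (ξ c : ℂ) = 0 by rw [e, Units.val_one, sub_self])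
  let a : Cfsg.IrrCharacter G → ℂ := fun χ => Cfsg.classInner θ fun c : C => (χ : G → ℂ) c
  have hadef : ∀ χ : Cfsg.IrrCharacter G,
      a χ = (Nat.card C : ℂ)⁻¹ * ∑ c : C, θ c * conj ((χ : G → ℂ) c) := fun χ => Characters.classInner_def _ _
  have hint : ∀ χ, ∃ n : ℤ, a χ = (n : ℂ) := by
    intro χ
    have hres := Characters.isCharacter_restrict C (Characters.irr_isCharacter χ)
    obtain ⟨m₁, h₁⟩ := Characters.classInner_char_nat (Characters.isCharacter_one (G := C)) hres
    obtain ⟨m₂, h₂⟩ := Characters.classInner_char_nat (Characters.isCharacter_linear ξ) hres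
    refine ⟨(m₁ : ℤ) - m₂, ?_⟩
    show Cfsg.classInner ((fun _ : C => (1 : ℂ)) - fun c => (ξ c : ℂ)) _ = _
    rw [Characters.classInner_sub_left, h₁, h₂]
    push_cast
    ring
  choose n hn using hint
  -- sums of values against the coefficients
  have hcol : ∀ g : G, (∀ c : C, θ c ≠ 0 → ¬ IsConj g (c : G)) → ∑ χ, a χ * (χ : G → ℂ) g = 0 := by
    intro g hg
    calc ∑ χ, a χ * (χ : G → ℂ) g
        = (Nat.card C : ℂ)⁻¹ * ∑ c : C, θ c * ∑ χ : Cfsg.IrrCharacter G,
            (χ : G → ℂ) g * conj ((χ : G → ℂ) c) := by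
          simp only [hadef, Finset.mul_sum, Finset.sum_mul]
          rw [Finset.sum_comm]
          exact sum_congr rfl fun c _ => sum_congr rfl fun χ _ => by ring
      _ = 0 := by
          rw [sum_eq_zero, mul_zero]
          intro c _
          by_cases hc : θ c = 0
          · rw [hc, zero_mul]
          · rw [Characters.second_orthogonality, if_neg (hg c hc), mul_zero]
  have hnc : ∀ g : G, ¬ r ∣ orderOf g → ∀ c : C, θ c ≠ 0 → ¬ IsConj g (c : G) := by
    intro g hg c hc hcon
    obtain ⟨y, hy⟩ := isConj_iff.1 hcon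
    refine hg ?_
    have h1 : orderOf (y * g * y⁻¹) = orderOf g := by rw [← MulAut.conj_apply, MulEquiv.orderOf_eq]
    rw [← h1, hy]
    exact hθ c hc
  have hm0 : ∑ χ, a χ * (χ : G → ℂ) 1 = 0 :=
    hcol 1 (hnc 1 (by rw [orderOf_one]; exact hr.out.not_dvd_one))
  have hm1 : ∑ χ, a χ * (χ : G → ℂ) d = 0 :=
    hcol d (hnc d (by rw [hd]; exact fun h => hr2 ((Nat.prime_dvd_prime_iff_eq hr.out Nat.prime_two).1 h)))
  have hm2 : ∑ χ, a χ * ((χ : G → ℂ) d ^ 2 / (χ : G → ℂ) 1) = 0 := by
    have h1 : ∀ χ : Cfsg.IrrCharacter G, (χ : G → ℂ) d ^ 2 / (χ : G → ℂ) 1 =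
        (Nat.card G : ℂ)⁻¹ * ∑ x : G, (χ : G → ℂ) (d * (x * d * x⁻¹)) := by
      intro χ
      rw [Characters.sum_mul_conjugates χ.2, mul_div_assoc, mul_assoc, inv_mul_cancel_left₀
        Characters.natCard_ne_zero]
      ring
    calc ∑ χ, a χ * ((χ : G → ℂ) d ^ 2 / (χ : G → ℂ) 1)
        = (Nat.card G : ℂ)⁻¹ * ∑ x : G, ∑ χ, a χ * (χ : G → ℂ) (d * (x * d * x⁻¹)) := by
          simp only [h1, Finset.mul_sum]
          rw [Finset.sum_comm]
          exact sum_congr rfl fun c _ => sum_congr rfl fun χ _ => by ring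
      _ = 0 := by rw [sum_eq_zero fun x _ => hcol _ (hnc _ (hprod x)), mul_zero]
  -- the trivial character
  let o : Cfsg.IrrCharacter G := ⟨fun _ => 1, Characters.isIrrCharacter_one⟩
  have hξ1 : (fun c : C => (ξ c : ℂ)) ≠ fun _ => 1 := by
    intro e
    obtain ⟨w, hw⟩ := exists_prime_orderOf_dvd_card' (G := W) r (hW.symm ▸ dvd_rfl)
    have hwC : (w : G) ∈ C := le_centralizer_iff_isMulCommutative.2
      (by haveI : IsCyclic W := isCyclic_of_prime_card hW; infer_instance) w.2
    have h1 := hξW ⟨w, hwC⟩ w.2 (Units.ext ((congrFun e ⟨w, hwC⟩).trans Units.val_one.symm))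
    rw [show w = 1 from Subtype.ext (congrArg (fun z : C => (z : G)) h1), orderOf_one] at hw
    exact hr.out.one_lt.ne hw
  have ho : a o = 1 := by
    show Cfsg.classInner ((fun _ : C => (1 : ℂ)) - fun c => (ξ c : ℂ)) (fun _ : C => (1 : ℂ)) = 1
    rw [Characters.classInner_sub_left, Characters.classInner_isIrr_self Characters.isIrrCharacter_one,
      Characters.classInner_isIrr_ne (Characters.isIrrCharacter_linear ξ) Characters.isIrrCharacter_one hξ1,
      sub_zero]
  -- the norm
  have hnorm : ∑ χ, a χ * conj (a χ) =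
      (Nat.card C : ℂ)⁻¹ * ((Nat.card N : ℂ) + (Nat.card C : ℂ)) := by
    have hcount : ∀ c c' : G, ∑ χ : Cfsg.IrrCharacter G, (χ : G → ℂ) c' * conj ((χ : G → ℂ) c) =
        ∑ g : G, if g * c * g⁻¹ = c' then (1 : ℂ) else 0 := by
      intro c c'
      rw [Characters.second_orthogonality, Finset.sum_boole]
      split_ifs with h
      · obtain ⟨y, hy⟩ := isConj_iff.1 h.symm
        rw [Nat.card_eq_fintype_card, Nat.cast_inj, ← Fintype.card_subtype]
        exact Fintype.card_congr
          { toFun := fun z => ⟨y * z, by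
              refine Eq.trans ?_ hy
              have := mem_centralizer_singleton_iff.1 z.2
              calc y * (z : G) * c * (y * z)⁻¹ = y * ((z : G) * c * (z : G)⁻¹) * y⁻¹ := by group
                _ = y * c * y⁻¹ := by rw [this, mul_inv_cancel_right]⟩
            invFun := fun g => ⟨y⁻¹ * g, mem_centralizer_singleton_iff.2 (by
              have := g.2.trans hy.symm
              calc y⁻¹ * (g : G) * c = y⁻¹ * ((g : G) * c * (g : G)⁻¹) * g := by group
                _ = y⁻¹ * (y * c * y⁻¹) * g := by rw [this]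
                _ = c * (y⁻¹ * g) := by group)⟩
            left_inv := fun z => Subtype.ext (inv_mul_cancel_left _ _)
            right_inv := fun g => Subtype.ext (mul_inv_cancel_left _ _) }
      · rw [Finset.filter_false_of_mem fun g _ e => h (isConj_iff.2 ⟨g, e⟩).symm, Finset.card_empty,
          Nat.cast_zero]
    have h2 : ∀ g : G, ∑ c : C, ∑ c' : C, θ c * conj (θ c') * (if g * (c : G) * g⁻¹ = c' then (1 : ℂ) else 0) =
        if g ∈ N then (Nat.card C : ℂ) * (1 + if g ∈ C then 1 else 0) else 0 := by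
      intro g
      by_cases hgN : g ∈ N
      · rw [if_pos hgN]
        let ψ : C →* ℂˣ := ξ.comp ((MulAut.conj g).toMonoidHom.comp C.subtype |>.codRestrict C
          fun c => hNC g hgN c c.2)
        have hψ : ∀ c : C, ∑ c' : C, θ c * conj (θ c') * (if g * (c : G) * g⁻¹ = c' then (1 : ℂ) else 0) =
            θ c * conj (1 - (ψ c : ℂ)) := by
          intro c
          rw [Finset.sum_eq_single (⟨g * c * g⁻¹, hNC g hgN c c.2⟩ : C)]
          · rw [if_pos rfl, mul_one]; rfl
          · intro c' _ hne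
            rw [if_neg fun e => hne (Subtype.ext e.symm), mul_zero]
          · exact fun h => absurd (mem_univ _) h
        rw [sum_congr rfl fun c _ => hψ c]
        have h4 : ∑ c : C, θ c * conj (1 - (ψ c : ℂ)) = (Nat.card C : ℂ) *
            Cfsg.classInner ((fun _ : C => (1 : ℂ)) - fun c => (ξ c : ℂ))
              ((fun _ : C => (1 : ℂ)) - fun c => (ψ c : ℂ)) := by
          rw [Characters.classInner_def, mul_inv_cancel_left₀ Characters.natCard_ne_zero]
          rfl
        rw [h4]
        congr 1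
        have hψ1 : (fun c : C => (ψ c : ℂ)) ≠ fun _ => 1 := fun e => hξ1 (funext fun c => by
          have := congrFun e ⟨g⁻¹ * c * g, by simpa using hNC g⁻¹ (inv_mem hgN) c c.2⟩
          refine Eq.trans ?_ this
          show (ξ c : ℂ) = (ξ _ : ℂ)
          congr 2
          exact Subtype.ext (show (c : G) = g * (g⁻¹ * c * g) * g⁻¹ by group))
        rw [Characters.classInner_sub_left, Characters.classInner_sub_right, Characters.classInner_sub_right,
          Characters.classInner_isIrr_self Characters.isIrrCharacter_one,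
          Characters.classInner_isIrr_ne Characters.isIrrCharacter_one (Characters.isIrrCharacter_linear ψ) hψ1.symm,
          Characters.classInner_isIrr_ne (Characters.isIrrCharacter_linear ξ) Characters.isIrrCharacter_one hξ1]
        by_cases hgC : g ∈ C
        · rw [if_pos hgC, show (fun c : C => (ψ c : ℂ)) = fun c => (ξ c : ℂ) from funext fun c => by
            show (ξ _ : ℂ) = (ξ c : ℂ)
            rw [show (((MulAut.conj g).toMonoidHom.comp C.subtype).codRestrict C fun c => hNC g hgN c c.2) c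
              = (⟨g, hgC⟩ : C) * c * (⟨g, hgC⟩ : C)⁻¹ from Subtype.ext rfl, map_mul, map_mul, map_inv,
              mul_comm (ξ ⟨g, hgC⟩) (ξ c), mul_inv_cancel_right],
            Characters.classInner_isIrr_self (Characters.isIrrCharacter_linear ξ)]
          ring
        · rw [if_neg hgC, Characters.classInner_isIrr_ne (Characters.isIrrCharacter_linear ξ)
            (Characters.isIrrCharacter_linear ψ) fun e => hgC (mem_centralizer_iff.2 fun w hw => ?_)]
          · ring
          have hwC : w ∈ C := le_centralizer_iff_isMulCommutative.2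
            (by haveI : IsCyclic W := isCyclic_of_prime_card hW; infer_instance) hw
          have hw2 : g * w * g⁻¹ ∈ W := (mem_normalizer_iff.1 hgN w).1 hw
          have h5 := hξW (⟨g * w * g⁻¹, hNC g hgN w hwC⟩ * (⟨w, hwC⟩ : C)⁻¹) (mul_mem hw2 (inv_mem hw)) (by
            rw [map_mul, map_inv, mul_inv_eq_one]
            exact Units.ext (congrFun e ⟨w, hwC⟩).symm)
          rw [mul_inv_eq_one] at h5
          exact (mul_inv_eq_iff_eq_mul.1 (congrArg Subtype.val h5 :)).symm
      · rw [if_neg hgN]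
        refine sum_eq_zero fun c _ => sum_eq_zero fun c' _ => ?_
        by_cases hc : θ c = 0
        · rw [hc, zero_mul, zero_mul]
        rw [if_neg fun e => hgN (mem_normalizer_of_conj W hW hsyl c.2 c'.2 (hθ c hc) e), mul_zero]
    calc ∑ χ, a χ * conj (a χ)
        = (Nat.card C : ℂ)⁻¹ * ((Nat.card C : ℂ)⁻¹ * ∑ c : C, ∑ c' : C, θ c * conj (θ c') *
            ∑ χ : Cfsg.IrrCharacter G, (χ : G → ℂ) c' * conj ((χ : G → ℂ) c)) := by
          simp only [hadef, map_mul, map_inv₀, map_natCast, map_sum, Complex.conj_conj, Finset.mul_sum,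
            Finset.sum_mul]
          conv_rhs => rw [Finset.sum_comm]
          rw [Finset.sum_comm]
          refine sum_congr rfl fun c _ => ?_
          rw [Finset.sum_comm]
          exact sum_congr rfl fun c' _ => sum_congr rfl fun χ _ => by ring
      _ = (Nat.card C : ℂ)⁻¹ * ((Nat.card C : ℂ)⁻¹ * ∑ g : G, ∑ c : C, ∑ c' : C,
            θ c * conj (θ c') * (if g * (c : G) * g⁻¹ = c' then (1 : ℂ) else 0)) := by
          congr 2
          rw [eq_comm, Finset.sum_comm]
          refine sum_congr rfl fun c _ => ?_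
          rw [Finset.sum_comm]
          refine sum_congr rfl fun c' _ => ?_
          rw [hcount, Finset.mul_sum]
      _ = _ := by
          congr 1
          rw [sum_congr rfl fun g _ => h2 g]
          have h6 : ∀ g : G, (if g ∈ N then (Nat.card C : ℂ) * (1 + if g ∈ C then 1 else 0) else 0) =
              (Nat.card C : ℂ) * ((if g ∈ N then 1 else 0) + if g ∈ C then 1 else 0) := by
            intro g
            by_cases hgN : g ∈ N
            · rw [if_pos hgN, if_pos hgN]
            · rw [if_neg hgN, if_neg hgN, if_neg fun hgC => hgN (hCN hgC)]; ring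
          rw [sum_congr rfl fun g _ => h6 g, ← Finset.mul_sum,
            inv_mul_cancel_left₀ (Characters.natCard_ne_zero (G := C)), sum_add_distrib, sum_boole, sum_boole,
            Nat.card_eq_fintype_card, Nat.card_eq_fintype_card, ← Fintype.card_subtype, ← Fintype.card_subtype]
  have hn3 : ∑ χ, n χ ^ 2 ≤ 3 := by
    have h1 : ((∑ χ, n χ ^ 2 : ℤ) : ℂ) * (Nat.card C : ℂ) = (Nat.card N : ℂ) + (Nat.card C : ℂ) := by
      rw [Int.cast_sum]
      calc (∑ χ, ((n χ ^ 2 : ℤ) : ℂ)) * (Nat.card C : ℂ) = (∑ χ, a χ * conj (a χ)) * (Nat.card C : ℂ) := by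
            refine congrArg (· * _) (sum_congr rfl fun χ _ => ?_)
            rw [hn, map_intCast, Int.cast_pow, pow_two]
        _ = _ := by
            rw [hnorm]
            field_simp [Characters.natCard_ne_zero (G := C)]
    have h2 : (∑ χ, n χ ^ 2) * (Nat.card C : ℤ) = (Nat.card N : ℤ) + (Nat.card C : ℤ) := by exact_mod_cast h1
    have h3 : (Nat.card N : ℤ) < 3 * (Nat.card C : ℤ) := by exact_mod_cast hlt
    have h4 : (0 : ℤ) < Nat.card C := by exact_mod_cast Nat.card_pos
    nlinarith
  -- real degrees and values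
  have hdeg : ∀ χ : Cfsg.IrrCharacter G, ∃ m : ℕ, 0 < m ∧ (χ : G → ℂ) 1 = (m : ℂ) :=
    fun χ => Characters.irr_one_pos χ.2
  choose m hm0' hm using hdeg
  have hdreal : ∀ χ : Cfsg.IrrCharacter G, (χ : G → ℂ) d = (((χ : G → ℂ) d).re : ℂ) := by
    intro χ
    have h1 := Characters.char_inv (Characters.irr_isCharacter χ) d
    rw [show d⁻¹ = d from inv_eq_of_mul_eq_one_right (by rw [← pow_two, ← hd]; exact pow_orderOf_eq_one d)] at h1
    exact (Complex.conj_eq_iff_re.1 h1.symm).symm
  set k : Cfsg.IrrCharacter G → ℝ := fun χ => (m χ : ℝ) - ((χ : G → ℂ) d).re with hkdef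
  have hkC : ∀ χ : Cfsg.IrrCharacter G, (χ : G → ℂ) d = (m χ : ℂ) - (k χ : ℂ) := fun χ => by
    conv_lhs => rw [hdreal χ]
    simp [hkdef]
  refine no_short_vector o n (fun χ => (m χ : ℝ)) k ?_ ?_ ?_ (fun χ => by exact_mod_cast hm0' χ) ?_ hn3 ?_ ?_ ?_
  · exact_mod_cast (hn o).symm.trans ho
  · have h1 : ((m o : ℕ) : ℂ) = 1 := (hm o).symm
    exact_mod_cast h1
  · have h1 : ((m o : ℕ) : ℂ) = 1 := (hm o).symm
    have h2 : (m o : ℝ) = 1 := by exact_mod_cast h1
    simp [hkdef, h2, o]
  · intro χ hχ
    have hle : ((χ : G → ℂ) d).re ≤ (m χ : ℝ) := by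
      have h1 := (Complex.re_le_norm ((χ : G → ℂ) d)).trans
        (Characters.char_norm_le (Characters.irr_isCharacter χ) d)
      rwa [hm, Complex.norm_natCast] at h1
    refine sub_pos.2 (lt_of_le_of_ne hle fun e => hχ ?_)
    have h1 : (χ : G → ℂ) d = (χ : G → ℂ) 1 := by rw [hdreal χ, e, hm]; simp
    have hker : ∀ x : G, (χ : G → ℂ) x = (χ : G → ℂ) 1 := by
      have hle' : normalClosure ({d} : Set G) ≤ Characters.charKernel _ (Characters.irr_isCharacter χ) := by
        haveI := Characters.charKernel_normal (Characters.irr_isCharacter χ)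
        exact normalClosure_le_normal (Set.singleton_subset_iff.2 (Characters.mem_charKernel.2 h1))
      intro x
      exact Characters.mem_charKernel.1 (hle' (hgen ▸ mem_top x))
    have h2 := Characters.classInner_isIrr_self χ.2
    have h3 : Cfsg.classInner (χ : G → ℂ) (o : G → ℂ) = (χ : G → ℂ) 1 := by
      rw [Characters.classInner_def]
      simp [o, hker, Finset.card_univ, Nat.card_eq_fintype_card]
    by_contra hne
    rw [Characters.classInner_isIrr_ne χ.2 o.2 fun e => hne (Subtype.ext e)] at h3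
    exact Characters.irr_one_ne_zero χ.2 h3.symm
  · have h1 := hm0
    simp only [hn, hm] at h1
    exact_mod_cast h1
  · have h1 := congrArg₂ (· - ·) hm0 hm1
    simp only [sub_zero, ← Finset.sum_sub_distrib, ← mul_sub, hn, hm, hkC, sub_sub_cancel] at h1
    exact_mod_cast h1
  · have h1 : ∑ χ, a χ * ((k χ : ℂ) ^ 2 / (m χ : ℂ)) = 0 := by
      calc ∑ χ, a χ * ((k χ : ℂ) ^ 2 / (m χ : ℂ))
          = ∑ χ, (a χ * (χ : G → ℂ) 1 - 2 * (a χ * (χ : G → ℂ) d) +
              a χ * ((χ : G → ℂ) d ^ 2 / (χ : G → ℂ) 1)) := sum_congr rfl fun χ _ => by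
            rw [hkC χ, hm]
            have : (m χ : ℂ) ≠ 0 := by exact_mod_cast (hm0' χ).ne'
            field_simp
            ring
        _ = 0 := by rw [sum_add_distrib, sum_sub_distrib, ← Finset.mul_sum, hm0, hm1, hm2]; ring
    simp only [hn, ← mul_div_assoc] at h1
    exact_mod_cast h1

end Cfsg.Agent.OddTranspX
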