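import Cfsg.Agent.GenA.OddTransp
import Cfsg.Agent.Lib.ZStar.Main
import Cfsg.Agent.Lib.EqSubConj.Large
import Cfsg.Agent.Lib.EqConjOdd.Basic
import Cfsg.Agent.Lib.Forms.SolubilizerPSL2.Inst

/-!
# The line lemma for odd transpositions

`D` is a conjugation invariant set of odd transpositions, commuting is transitive on `D`, and the
product of two distinct commuting members is a member, so each class together with `1` is an
elementary abelian group.  If `G` is generated by the class of `d` and one member `x` not commuting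
with `d`, and the class of one swapper of the two classes is the image of the class of `x` under a
member commuting with `d`, then `G` is `PSL₂(q)` with `q` the order of the group of the class.
-/

set_option autoImplicit false
set_option linter.style.haveILetI false
set_option linter.unusedSectionVars false

namespace Cfsg.Agent.OddTranspX

open Subgroup MulAction
open Cfsg.Agent.GenA.OddTransp (OT)

universe u

variable {G : Type u} [Group G] {D : Set G}

/-- Odd transpositions whose commuting classes are, with `1`, groups. -/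
structure ClassGroups (D : Set G) : Prop extends OT D where
  trans : ∀ a ∈ D, ∀ b ∈ D, ∀ c ∈ D, Commute a b → Commute b c → Commute a c
  prod : ∀ a ∈ D, ∀ b ∈ D, Commute a b → a ≠ b → a * b ∈ D

namespace ClassGroups

variable (h : ClassGroups D)

/-- The commuting classes. -/
def setoid : Setoid D where
  r a b := Commute (a : G) b
  iseqv := ⟨fun _ => Commute.refl _, fun hab => hab.symm,
    fun {a b c} hab hbc => h.trans _ a.2 _ b.2 _ c.2 hab hbc⟩

/-- The set of classes. -/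
def Pt : Type u := Quotient h.setoid

/-- The class of a member. -/
def pt (a : G) (ha : a ∈ D) : h.Pt := Quotient.mk h.setoid ⟨a, ha⟩

theorem pt_eq_iff {a b : G} {ha : a ∈ D} {hb : b ∈ D} : h.pt a ha = h.pt b hb ↔ Commute a b :=
  Quotient.eq''

theorem exists_pt (A : h.Pt) : ∃ (a : G) (ha : a ∈ D), h.pt a ha = A :=
  Quotient.inductionOn A fun a => ⟨a.1, a.2, rfl⟩

instance instFinitePt [Finite G] : Finite h.Pt := Quotient.finite h.setoid

instance instSMulPt : SMul G h.Pt :=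
  ⟨fun g => Quotient.map' (fun a : D => (⟨g * a * g⁻¹, h.conj _ a.2 g⟩ : D))
    fun a b (hab : Commute (a : G) b) => (by
      show g * (a : G) * g⁻¹ * (g * b * g⁻¹) = g * b * g⁻¹ * (g * a * g⁻¹)
      calc g * (a : G) * g⁻¹ * (g * b * g⁻¹) = g * (a * b) * g⁻¹ := by group
        _ = g * (b * a) * g⁻¹ := by rw [hab.eq]
        _ = g * b * g⁻¹ * (g * a * g⁻¹) := by group)⟩

theorem smul_pt (g : G) {a : G} (ha : a ∈ D) : g • h.pt a ha = h.pt (g * a * g⁻¹) (h.conj _ ha g) :=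
  rfl

instance instMulActionPt : MulAction G h.Pt where
  one_smul A := by
    obtain ⟨a, ha, rfl⟩ := h.exists_pt A
    rw [smul_pt, pt_eq_iff]
    simp [Commute.refl]
  mul_smul g k A := by
    obtain ⟨a, ha, rfl⟩ := h.exists_pt A
    rw [smul_pt, smul_pt, smul_pt, pt_eq_iff]
    simp [mul_assoc, Commute.refl]

/-- A member fixes its own class only. -/
theorem smul_eq_iff {a : G} (ha : a ∈ D) {A : h.Pt} : a • A = A ↔ A = h.pt a ha := by
  obtain ⟨b, hb, rfl⟩ := h.exists_pt A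
  rw [smul_pt, pt_eq_iff, pt_eq_iff, h.toOT.inv ha]
  refine ⟨fun hc => (GenA.OddTransp.comm_conj_self h.toOT ha hb hc.symm).symm, fun hc => ?_⟩
  rw [GenA.OddTransp.fix_of_commute (h.sq ha) hc.symm]

theorem smul_self {a : G} (ha : a ∈ D) : a • h.pt a ha = h.pt a ha := (h.smul_eq_iff ha).2 rfl

/-- The group of a class. -/
def grp (E : h.Pt) : Subgroup G where
  carrier := {g | g = 1 ∨ ∃ hg : g ∈ D, h.pt g hg = E}
  one_mem' := Or.inl rfl
  mul_mem' {a b} := by
    rintro (rfl | ⟨ha, hA⟩) hb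
    · simpa using hb
    rcases hb with rfl | ⟨hb, hB⟩
    · rw [mul_one]; exact Or.inr ⟨ha, hA⟩
    have hc : Commute a b := h.pt_eq_iff.1 (hA.trans hB.symm)
    by_cases hab : a = b
    · exact Or.inl (by rw [hab, h.sq hb])
    · exact Or.inr ⟨h.prod a ha b hb hc hab,
        (h.pt_eq_iff.2 ((Commute.refl a).mul_left hc.symm)).trans hA⟩
  inv_mem' {a} := by
    rintro (rfl | ⟨ha, hA⟩)
    · exact Or.inl inv_one
    · rw [h.toOT.inv ha]; exact Or.inr ⟨ha, hA⟩

theorem mem_grp {E : h.Pt} {g : G} : g ∈ h.grp E ↔ g = 1 ∨ ∃ hg : g ∈ D, h.pt g hg = E := Iff.rfl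

theorem self_mem_grp {a : G} (ha : a ∈ D) : a ∈ h.grp (h.pt a ha) := Or.inr ⟨ha, rfl⟩

theorem grp_comm {E : h.Pt} {a b : G} (ha : a ∈ h.grp E) (hb : b ∈ h.grp E) : Commute a b := by
  rcases ha with rfl | ⟨ha, hA⟩
  · exact Commute.one_left b
  rcases hb with rfl | ⟨hb, hB⟩
  · exact Commute.one_right a
  exact h.pt_eq_iff.1 (hA.trans hB.symm)

theorem grp_sq {E : h.Pt} {a : G} (ha : a ∈ h.grp E) : a * a = 1 := by
  rcases ha with rfl | ⟨ha, -⟩
  · exact one_mul 1
  · exact h.sq ha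

theorem grp_inv {E : h.Pt} {a : G} (ha : a ∈ h.grp E) : a⁻¹ = a :=
  inv_eq_of_mul_eq_one_right (h.grp_sq ha)

theorem grp_fix {E : h.Pt} {a : G} (ha : a ∈ h.grp E) : a • E = E := by
  rcases ha with rfl | ⟨ha, rfl⟩
  · exact one_smul G E
  · exact h.smul_self ha

/-- The group of a class fixes no other point. -/
theorem grp_semiregular {E : h.Pt} {a : G} (ha : a ∈ h.grp E) {A : h.Pt} (hA : a • A = A)
    (hne : A ≠ E) : a = 1 := by
  rcases ha with rfl | ⟨ha, rfl⟩
  · rfl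
  · exact absurd ((h.smul_eq_iff ha).1 hA) hne

theorem grp_conj {E : h.Pt} {a g : G} (ha : a ∈ h.grp E) : g * a * g⁻¹ ∈ h.grp (g • E) := by
  rcases ha with rfl | ⟨ha, rfl⟩
  · simp [one_mem]
  · exact Or.inr ⟨h.conj a ha g, (h.smul_pt g ha).symm⟩

theorem grp_conj_fix {E : h.Pt} {a g : G} (hg : g • E = E) (ha : a ∈ h.grp E) :
    g * a * g⁻¹ ∈ h.grp E := hg ▸ h.grp_conj ha

/-- The members exchanging two classes. -/
def swappers (E X : h.Pt) : Set G := {m | m ∈ D ∧ m • E = X}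

theorem swapper_back {E X : h.Pt} {m : G} (hm : m ∈ h.swappers E X) : m • X = E := by
  rw [← hm.2, ← mul_smul, h.sq hm.1, one_smul]

theorem swapper_symm {E X : h.Pt} {m : G} (hm : m ∈ h.swappers E X) : m ∈ h.swappers X E :=
  ⟨hm.1, h.swapper_back hm⟩

/-- Commuting swappers are equal. -/
theorem swapper_eq_of_commute {E X : h.Pt} (hEX : E ≠ X) {m m' : G} (hm : m ∈ h.swappers E X)
    (hm' : m' ∈ h.swappers E X) (hc : Commute m m') : m = m' := by
  by_contra hne
  have hD := h.prod m hm.1 m' hm'.1 hc hne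
  have h1 : (m * m') • E = E := by rw [mul_smul, hm'.2, h.swapper_back hm]
  have h2 : (m * m') • X = X := by rw [mul_smul, h.swapper_back hm', hm.2]
  exact hEX (((h.smul_eq_iff hD).1 h1).trans ((h.smul_eq_iff hD).1 h2).symm)

theorem swapper_conj {E X : h.Pt} {g m : G} (hgE : g • E = E) (hgX : g • X = X)
    (hm : m ∈ h.swappers E X) : g * m * g⁻¹ ∈ h.swappers E X :=
  ⟨h.conj m hm.1 g, by rw [mul_smul, mul_smul, inv_smul_eq_iff.2 hgE.symm, hm.2, hgX]⟩

theorem swapper_conj' {E X : h.Pt} {g m : G} (hgE : g • E = X) (hgX : g • X = E)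
    (hm : m ∈ h.swappers E X) : g * m * g⁻¹ ∈ h.swappers E X :=
  ⟨h.conj m hm.1 g, by
    rw [mul_smul, mul_smul, inv_smul_eq_iff.2 hgX.symm, h.swapper_back hm, hgE]⟩

/-- For members of two classes there is a swapper of the classes conjugating one to the other. -/
theorem exists_swapper {E X : h.Pt} {a y : G} {ha : a ∈ D} {hy : y ∈ D} (hE : h.pt a ha = E)
    (hX : h.pt y hy = X) (hEX : E ≠ X) : ∃ m ∈ h.swappers E X, m * a * m = y := by
  have hnc : ¬ Commute a y := fun hc => hEX (hE ▸ hX ▸ h.pt_eq_iff.2 hc)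
  obtain ⟨m, hm, hma, -, -⟩ := GenA.OddTransp.swap h.toOT ha hy hnc
  refine ⟨m, ⟨hm, ?_⟩, hma⟩
  rw [← hE, ← hX, smul_pt, pt_eq_iff, h.toOT.inv hm, hma]

/-- The stabilizer of two classes is transitive on the members of the first. -/
theorem exists_fix_conj {E X : h.Pt} (hEX : E ≠ X) {a a' : G} (ha : a ∈ h.grp E) (ha1 : a ≠ 1)
    (ha' : a' ∈ h.grp E) (ha'1 : a' ≠ 1) :
    ∃ k : G, k • E = E ∧ k • X = X ∧ k * a * k⁻¹ = a' := by
  obtain ⟨haD, haE⟩ := ha.resolve_left ha1
  obtain ⟨ha'D, ha'E⟩ := ha'.resolve_left ha'1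
  obtain ⟨y, hy, hX⟩ := h.exists_pt X
  obtain ⟨m, hm, hma⟩ := h.exists_swapper haE hX hEX
  obtain ⟨m', hm', hma'⟩ := h.exists_swapper ha'E hX hEX
  refine ⟨m' * m, by rw [mul_smul, hm.2, h.swapper_back hm'],
    by rw [mul_smul, h.swapper_back hm, hm'.2], ?_⟩
  rw [mul_inv_rev, h.toOT.inv hm.1, h.toOT.inv hm'.1]
  calc m' * m * a * (m * m') = m' * (m * a * m) * m' := by group
    _ = a' := by rw [hma, ← hma', GenA.OddTransp.conj_conj (h.sq hm'.1)]

/-! ### The odd group of the swappers -/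

/-- The group generated by the products of two swappers. -/
def torus (E X : h.Pt) : Subgroup G :=
  closure {g | ∃ m ∈ h.swappers E X, ∃ m' ∈ h.swappers E X, g = m * m'}

theorem torus_fix {E X : h.Pt} {g : G} (hg : g ∈ h.torus E X) : g • E = E ∧ g • X = X := by
  have hle : h.torus E X ≤ stabilizer G E ⊓ stabilizer G X := by
    rw [torus, closure_le]
    rintro g ⟨m, hm, m', hm', rfl⟩
    refine mem_inf.2 ⟨mem_stabilizer_iff.2 ?_, mem_stabilizer_iff.2 ?_⟩
    · rw [mul_smul, hm'.2, h.swapper_back hm]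
    · rw [mul_smul, h.swapper_back hm', hm.2]
  exact mem_inf.1 (hle hg)

theorem torus_conj {E X : h.Pt} {g m : G} (hm : m ∈ h.swappers E X) (hg : g ∈ h.torus E X) :
    m * g * m ∈ h.torus E X := by
  have hle : h.torus E X ≤ (h.torus E X).comap (MulAut.conj m).toMonoidHom := by
    conv_lhs => rw [torus]
    rw [closure_le]
    rintro g ⟨a, ha, b, hb, rfl⟩
    show m * (a * b) * m⁻¹ ∈ h.torus E X
    refine subset_closure ⟨m * a * m⁻¹, h.swapper_conj' hm.2 (h.swapper_back hm) ha,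
      m * b * m⁻¹, h.swapper_conj' hm.2 (h.swapper_back hm) hb, ?_⟩
    group
  have := hle hg
  rw [mem_comap] at this
  simpa [h.toOT.inv hm.1] using this

/-- The products of two swappers generate a group of odd order. -/
theorem torus_odd [Finite G] {E X : h.Pt} (hEX : E ≠ X) : Odd (Nat.card (h.torus E X)) := by
  set Y : Subgroup G := closure (h.swappers E X) with hY
  have hperm : ∀ g ∈ Y, (g • E = E ∧ g • X = X) ∨ (g • E = X ∧ g • X = E) := by
    intro g hg
    induction hg using closure_induction with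
    | mem g hg => exact Or.inr ⟨hg.2, h.swapper_back hg⟩
    | one => exact Or.inl ⟨one_smul G E, one_smul G X⟩
    | mul a b _ _ iha ihb =>
      rcases iha with ⟨a1, a2⟩ | ⟨a1, a2⟩ <;> rcases ihb with ⟨b1, b2⟩ | ⟨b1, b2⟩ <;>
        simp [mul_smul, a1, a2, b1, b2]
    | inv a _ iha =>
      rcases iha with ⟨a1, a2⟩ | ⟨a1, a2⟩
      · exact Or.inl ⟨inv_smul_eq_iff.2 a1.symm, inv_smul_eq_iff.2 a2.symm⟩
      · exact Or.inr ⟨inv_smul_eq_iff.2 a2.symm, inv_smul_eq_iff.2 a1.symm⟩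
  have hM : ∀ g ∈ Y, ∀ m ∈ h.swappers E X, g * m * g⁻¹ ∈ h.swappers E X := fun g hg m hm => by
    rcases hperm g hg with ⟨g1, g2⟩ | ⟨g1, g2⟩
    · exact h.swapper_conj g1 g2 hm
    · exact h.swapper_conj' g1 g2 hm
  have key : ∀ m, ∀ hm : m ∈ h.swappers E X, ∀ m', ∀ hm' : m' ∈ h.swappers E X,
      (⟨m, subset_closure hm⟩ * ⟨m', subset_closure hm'⟩ : Y) ∈ Cfsg.oddCore Y := by
    intro m hm m' hm'
    have hiso : Cfsg.IsIsolatedInvolution (⟨m, subset_closure hm⟩ : Y) := by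
      refine ⟨by rw [Subgroup.orderOf_mk]; exact h.ord m hm.1, fun g hg => ?_⟩
      exact Subtype.ext (h.swapper_eq_of_commute hEX hm (hM g g.2 m hm)
        (congrArg Subtype.val hg.eq)).symm
    have h1 := ZStar.Main.commutator_mem_oddCore hiso ⟨m', subset_closure hm'⟩
    rcases h.pair m hm.1 m' hm'.1 with hc | hodd
    · have he : (⟨m, subset_closure hm⟩ * ⟨m', subset_closure hm'⟩ : Y) = 1 := Subtype.ext (by
        show m * m' = 1
        rw [← h.swapper_eq_of_commute hEX hm hm' hc, h.sq hm.1])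
      rw [he]; exact one_mem _
    obtain ⟨l, hl⟩ := hodd
    have h2 : (⟨m, subset_closure hm⟩ * ⟨m', subset_closure hm'⟩ : Y) =
        ((⟨m, subset_closure hm⟩ : Y) * ⟨m', subset_closure hm'⟩ * (⟨m, subset_closure hm⟩ : Y)⁻¹ *
          (⟨m', subset_closure hm'⟩ : Y)⁻¹) ^ (l + 1) := by
      apply Subtype.ext
      push_cast
      rw [h.toOT.inv hm.1, h.toOT.inv hm'.1, mul_assoc (m * m'), ← pow_two, ← pow_mul,
        show 2 * (l + 1) = orderOf (m * m') + 1 by omega, pow_succ, pow_orderOf_eq_one, one_mul]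
    rw [h2]
    exact pow_mem h1 _
  have hle : h.torus E X ≤ (Cfsg.oddCore Y).map Y.subtype := by
    rw [torus, closure_le]
    rintro g ⟨m, hm, m', hm', rfl⟩
    exact ⟨_, key m hm m' hm', rfl⟩
  refine Odd.of_dvd_nat ?_ (card_dvd_of_le hle)
  rw [card_map_of_injective Y.subtype_injective]
  exact Cores.oddCore_odd

/-! ### The line -/

variable [Finite G] {E X : h.Pt} (hEX : E ≠ X)
  (hgen : closure (((h.grp E : Set G)) ∪ {g | ∃ hg : g ∈ D, h.pt g hg = X}) = ⊤)
  (hmid : ∃ v ∈ h.grp E, ∃ (m : G) (hm : m ∈ D), m • E = X ∧ h.pt m hm = v • X)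

include hEX hmid

/-- Every member of the first class gives a midpoint. -/
theorem midpoint {u : G} (hu : u ∈ h.grp E) (hu1 : u ≠ 1) :
    ∃ (m : G) (hm : m ∈ D), m • E = X ∧ h.pt m hm = u • X := by
  obtain ⟨v, hv, m, hm, hmE, hmv⟩ := hmid
  have hv1 : v ≠ 1 := by
    rintro rfl
    rw [one_smul] at hmv
    have h1 := h.smul_self hm
    rw [hmv, h.swapper_back ⟨hm, hmE⟩] at h1
    exact hEX h1
  obtain ⟨k, hkE, hkX, hk⟩ := h.exists_fix_conj hEX hv hv1 hu hu1
  refine ⟨k * m * k⁻¹, h.conj m hm k, (h.swapper_conj hkE hkX ⟨hm, hmE⟩).2, ?_⟩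
  calc h.pt (k * m * k⁻¹) (h.conj m hm k) = k • h.pt m hm := (h.smul_pt k hm).symm
    _ = (k * v * k⁻¹) • X := by
      rw [hmv, mul_smul, mul_smul, inv_smul_eq_iff.2 hkX.symm]
    _ = u • X := by rw [hk]

/-- Every member of the second class is a conjugate of a midpoint swapper. -/
theorem exists_decomp {y : G} (hy : y ∈ D) (hyX : h.pt y hy = X) :
    ∃ w ∈ h.grp E, w ≠ 1 ∧ ∃ m ∈ h.swappers E X, y = w * m * w ∧ y • E = w • X := by
  classical
  obtain ⟨v, -, m₀, hm₀, hm₀E, -⟩ := id hmid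
  choose f hf hfE hfu using fun u : {u : G // u ∈ h.grp E ∧ u ≠ 1} =>
    h.midpoint hEX hmid u.2.1 u.2.2
  have hΦ : ∀ u : {u : G // u ∈ h.grp E ∧ u ≠ 1},
      (u : G) * f u * u ∈ h.grp X ∧ (u : G) * f u * u ≠ 1 ∧ ((u : G) * f u * u) • E = (u : G) • X := by
    intro u
    have hE : ((u : G) * f u * u) • E = (u : G) • X := by
      rw [mul_smul, mul_smul, h.grp_fix u.2.1, hfE u]
    have hmem : (u : G) * f u * u ∈ h.grp X := by
      have h1 := h.grp_conj (g := (u : G)) (h.self_mem_grp (hf u))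
      rwa [hfu u, ← mul_smul, h.grp_sq u.2.1, one_smul, h.grp_inv u.2.1] at h1
    refine ⟨hmem, fun h1 => hEX ?_, hE⟩
    rw [h1, one_smul] at hE
    exact smul_left_cancel (u : G) ((h.grp_fix u.2.1).trans hE)
  let Φ : {u : G // u ∈ h.grp E ∧ u ≠ 1} → {u : G // u ∈ h.grp X ∧ u ≠ 1} :=
    fun u => ⟨(u : G) * f u * u, (hΦ u).1, (hΦ u).2.1⟩
  have hinj : Function.Injective Φ := by
    intro u w huw
    have h1 : (u : G) • X = (w : G) • X := by
      rw [← (hΦ u).2.2, ← (hΦ w).2.2]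
      exact congrArg (fun z : {u : G // u ∈ h.grp X ∧ u ≠ 1} => (z : G) • E) huw
    have h2 : ((w : G) * u) • X = X := by
      rw [mul_smul, h1, ← mul_smul, h.grp_sq w.2.1, one_smul]
    have h3 := h.grp_semiregular (mul_mem w.2.1 u.2.1) h2 hEX.symm
    refine Subtype.ext ?_
    rw [eq_inv_of_mul_eq_one_right h3, h.grp_inv w.2.1]
  let e : {u : G // u ∈ h.grp E ∧ u ≠ 1} ≃ {u : G // u ∈ h.grp X ∧ u ≠ 1} :=
    { toFun := fun u => ⟨m₀ * u * m₀⁻¹, hm₀E ▸ h.grp_conj u.2.1,
        fun h1 => u.2.2 (by simpa using h1)⟩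
      invFun := fun u => ⟨m₀ * u * m₀⁻¹, h.swapper_back ⟨hm₀, hm₀E⟩ ▸ h.grp_conj u.2.1,
        fun h1 => u.2.2 (by simpa using h1)⟩
      left_inv := fun u => Subtype.ext (by
        show m₀ * (m₀ * (u : G) * m₀⁻¹) * m₀⁻¹ = u
        rw [h.toOT.inv hm₀, GenA.OddTransp.conj_conj (h.sq hm₀)])
      right_inv := fun u => Subtype.ext (by
        show m₀ * (m₀ * (u : G) * m₀⁻¹) * m₀⁻¹ = u
        rw [h.toOT.inv hm₀, GenA.OddTransp.conj_conj (h.sq hm₀)]) }
  have hbij : Function.Bijective Φ :=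
    (Nat.bijective_iff_injective_and_card Φ).2 ⟨hinj, Nat.card_congr e⟩
  obtain ⟨u, hu⟩ := hbij.2 ⟨y, Or.inr ⟨hy, hyX⟩, h.toOT.ne_one hy⟩
  have he : (u : G) * f u * u = y := congrArg Subtype.val hu
  exact ⟨u, u.2.1, u.2.2, f u, ⟨hf u, hfE u⟩, he.symm, he ▸ (hΦ u).2.2⟩

include hgen

/-- The two classes, moved by the group of the first, exhaust the classes. -/
theorem line (A : h.Pt) : A = E ∨ ∃ u ∈ h.grp E, A = u • X := by
  let L : Set h.Pt := {A | A = E ∨ ∃ u ∈ h.grp E, A = u • X}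
  have hEL : E ∈ L := Or.inl rfl
  have hXL : X ∈ L := Or.inr ⟨1, one_mem _, (one_smul G X).symm⟩
  have hV : ∀ v ∈ h.grp E, ∀ A ∈ L, v • A ∈ L := by
    rintro v hv A (rfl | ⟨u, hu, rfl⟩)
    · exact Or.inl (h.grp_fix hv)
    · exact Or.inr ⟨v * u, mul_mem hv hu, (mul_smul v u X).symm⟩
  have hS : ∀ m ∈ h.swappers E X, ∀ A ∈ L, m • A ∈ L := by
    rintro m hm A (rfl | ⟨u, hu, rfl⟩)
    · rw [hm.2]; exact hXL
    by_cases hu1 : u = 1
    · rw [hu1, one_smul, h.swapper_back hm]; exact hEL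
    have hy : m * u * m⁻¹ ∈ h.grp X := hm.2 ▸ h.grp_conj hu
    obtain ⟨hyD, hyX⟩ := hy.resolve_left fun h1 => hu1 (by simpa using h1)
    obtain ⟨w, hw, -, m', -, -, hyE⟩ := h.exists_decomp hEX hmid hyD hyX
    have e : m • u • X = (m * u * m⁻¹) • E := by
      rw [mul_smul, mul_smul, inv_smul_eq_iff.2 (h.swapper_back ⟨hm.1, hm.2⟩).symm]
    rw [e, hyE]
    exact Or.inr ⟨w, hw, rfl⟩
  have hG : ∀ g : G, ∀ B ∈ L, g • B ∈ L := by
    intro g
    have hg : g ∈ closure ((h.grp E : Set G) ∪ {g | ∃ hg : g ∈ D, h.pt g hg = X}) := by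
      rw [hgen]; exact mem_top g
    have hgen' : ∀ y ∈ (h.grp E : Set G) ∪ {g | ∃ hg : g ∈ D, h.pt g hg = X},
        ∀ B ∈ L, y • B ∈ L := by
      rintro y (hy | ⟨hy, hyX⟩) B hB
      · exact hV y hy B hB
      · obtain ⟨w, hw, -, m, hm, rfl, -⟩ := h.exists_decomp hEX hmid hy hyX
        rw [mul_smul, mul_smul]
        exact hV w hw _ (hS m hm _ (hV w hw B hB))
    induction hg using closure_induction_right with
    | one => intro B hB; rwa [one_smul]
    | mul_right a _ y hy ih => intro B hB; rw [mul_smul]; exact ih _ (hgen' y hy B hB)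
    | mul_inv_cancel a _ y hy ih =>
      intro B hB
      have hyy : y⁻¹ = y := by
        rcases hy with hy | ⟨hy, -⟩
        · exact h.grp_inv hy
        · exact h.toOT.inv hy
      rw [hyy, mul_smul]; exact ih _ (hgen' y hy B hB)
  -- the classes form one orbit
  obtain ⟨a, ha, rfl⟩ := h.exists_pt A
  by_cases hA : h.pt a ha = E
  · exact Or.inl hA
  obtain ⟨d, hd, hdE⟩ := h.exists_pt E
  obtain ⟨m, hm, -⟩ := h.exists_swapper hdE (rfl : h.pt a ha = h.pt a ha) (Ne.symm hA)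
  exact hm.2 ▸ hG m E hEL

/-- The group acts doubly transitively. -/
theorem exists_map_pair {A B : h.Pt} (hAB : A ≠ B) : ∃ g : G, g • E = A ∧ g • X = B := by
  obtain ⟨g, hg⟩ : ∃ g : G, g • E = A := by
    by_cases hA : A = E
    · exact ⟨1, by rw [hA, one_smul]⟩
    obtain ⟨d, hd, hdE⟩ := h.exists_pt E
    obtain ⟨a, ha, haA⟩ := h.exists_pt A
    obtain ⟨m, hm, -⟩ := h.exists_swapper hdE haA (Ne.symm hA)
    exact ⟨m, hm.2⟩
  obtain ⟨u, hu, hBu⟩ := (h.line hEX hgen hmid (g⁻¹ • B)).resolve_left fun h1 => hAB (by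
    rw [← hg, ← h1, smul_inv_smul])
  refine ⟨g * u, by rw [mul_smul, h.grp_fix hu, hg], ?_⟩
  rw [mul_smul, ← hBu, smul_inv_smul]

/-- The stabilizer of the first class is the group of the class times the torus. -/
theorem stabilizer_decomp {g : G} (hg : g • E = E) :
    ∃ v ∈ h.grp E, ∃ k ∈ h.torus E X, g = v * k := by
  obtain ⟨v₀, -, m, hm, hmE, -⟩ := id hmid
  have hms : m ∈ h.swappers E X := ⟨hm, hmE⟩
  let B : Set G := {g | (∃ v ∈ h.grp E, ∃ k ∈ h.torus E X, g = v * k) ∨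
    ∃ v ∈ h.grp E, ∃ k ∈ h.torus E X, ∃ w ∈ h.grp E, g = v * k * m * w}
  have hcv : ∀ k ∈ h.torus E X, ∀ w ∈ h.grp E, k * w * k⁻¹ ∈ h.grp E := fun k hk w hw =>
    h.grp_conj_fix (h.torus_fix hk).1 hw
  have hmm : ∀ {z : G}, m * (m * z) = z := fun {z} => by rw [← mul_assoc, h.sq hm, one_mul]
  have hBV : ∀ a ∈ B, ∀ w ∈ h.grp E, a * w ∈ B := by
    rintro a (⟨v, hv, k, hk, rfl⟩ | ⟨v, hv, k, hk, w₀, hw₀, rfl⟩) w hw
    · exact Or.inl ⟨v * (k * w * k⁻¹), mul_mem hv (hcv k hk w hw), k, hk, by group⟩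
    · exact Or.inr ⟨v, hv, k, hk, w₀ * w, mul_mem hw₀ hw, by group⟩
  have hBK : ∀ a ∈ B, ∀ k₀ ∈ h.torus E X, a * k₀ ∈ B := by
    rintro a (⟨v, hv, k, hk, rfl⟩ | ⟨v, hv, k, hk, w₀, hw₀, rfl⟩) k₀ hk₀
    · exact Or.inl ⟨v, hv, k * k₀, mul_mem hk hk₀, mul_assoc v k k₀⟩
    · refine Or.inr ⟨v, hv, k * (m * k₀ * m), mul_mem hk (h.torus_conj hms hk₀),
        k₀⁻¹ * w₀ * k₀, by simpa using hcv k₀⁻¹ (inv_mem hk₀) w₀ hw₀, ?_⟩
      simp only [mul_assoc, mul_inv_cancel_left, hmm]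
  have hBm : ∀ a ∈ B, a * m ∈ B := by
    rintro a (⟨v, hv, k, hk, rfl⟩ | ⟨v, hv, k, hk, w₀, hw₀, rfl⟩)
    · exact Or.inr ⟨v, hv, k, hk, 1, one_mem _, by rw [mul_one]⟩
    by_cases hw1 : w₀ = 1
    · exact Or.inl ⟨v, hv, k, hk, by rw [hw1, mul_one, mul_assoc, h.sq hm, mul_one]⟩
    have hy : m * w₀ * m⁻¹ ∈ h.grp X := hmE ▸ h.grp_conj hw₀
    obtain ⟨hyD, hyX⟩ := hy.resolve_left fun h1 => hw1 (by simpa using h1)
    obtain ⟨w, hw, -, m', hm', hy', -⟩ := h.exists_decomp hEX hmid hyD hyX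
    refine Or.inr ⟨v * (k * w * k⁻¹), mul_mem hv (hcv k hk w hw), k * (m' * m),
      mul_mem hk (subset_closure ⟨m', hm', m, hms, rfl⟩), w, hw, ?_⟩
    rw [h.toOT.inv hm] at hy'
    calc v * k * m * w₀ * m = v * k * (m * w₀ * m) := by group
      _ = v * k * (w * m' * (m * m) * w) := by rw [hy', h.sq hm, mul_one]
      _ = v * (k * w * k⁻¹) * (k * (m' * m)) * m * w := by group
  have hBS : ∀ a ∈ B, ∀ m' ∈ h.swappers E X, a * m' ∈ B := fun a ha m' hm' => by
    have := hBK _ (hBm a ha) (m * m') (subset_closure ⟨m, hms, m', hm', rfl⟩)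
    rwa [mul_assoc, hmm] at this
  have hgen' : ∀ y ∈ (h.grp E : Set G) ∪ {g | ∃ hg : g ∈ D, h.pt g hg = X},
      ∀ a ∈ B, a * y ∈ B := by
    rintro y (hy | ⟨hy, hyX⟩) a ha
    · exact hBV a ha y hy
    · obtain ⟨w, hw, -, m', hm', rfl, -⟩ := h.exists_decomp hEX hmid hy hyX
      rw [← mul_assoc, ← mul_assoc]
      exact hBV _ (hBS _ (hBV a ha w hw) m' hm') w hw
  have hgB : g ∈ B := by
    have hg' : g ∈ closure ((h.grp E : Set G) ∪ {g | ∃ hg : g ∈ D, h.pt g hg = X}) := by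
      rw [hgen]; exact mem_top g
    clear hg
    induction hg' using closure_induction_right with
    | one => exact Or.inl ⟨1, one_mem _, 1, one_mem _, (one_mul 1).symm⟩
    | mul_right a _ y hy ih => exact hgen' y hy a ih
    | mul_inv_cancel a _ y hy ih =>
      have hyy : y⁻¹ = y := by
        rcases hy with hy | ⟨hy, -⟩
        · exact h.grp_inv hy
        · exact h.toOT.inv hy
      rw [hyy]; exact hgen' y hy a ih
  rcases hgB with hgB | ⟨v, hv, k, hk, w, hw, rfl⟩
  · exact hgB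
  · rw [mul_smul, mul_smul, mul_smul, h.grp_fix hw, hmE, (h.torus_fix hk).2] at hg
    exact absurd (smul_left_cancel v (hg.trans (h.grp_fix hv).symm)) hEX.symm

/-- The stabilizer of both classes is the torus. -/
theorem mem_torus {g : G} (hgE : g • E = E) (hgX : g • X = X) : g ∈ h.torus E X := by
  obtain ⟨v, hv, k, hk, rfl⟩ := h.stabilizer_decomp hEX hgen hmid hgE
  rw [mul_smul, (h.torus_fix hk).2] at hgX
  rw [h.grp_semiregular hv hgX hEX.symm, one_mul]
  exact hk

/-- The order of the group is the order of the class group times an odd number. -/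
theorem card_eq (h2 : Even (Nat.card (h.grp E))) :
    ∃ k : ℕ, Odd k ∧ Nat.card G = Nat.card (h.grp E) * k := by
  have hP : Nat.card h.Pt = Nat.card (h.grp E) + 1 := by
    rw [← Finite.card_option]
    refine (Nat.card_eq_of_bijective
      (fun o : Option (h.grp E) => o.elim E fun u => (u : G) • X) ⟨?_, ?_⟩).symm
    · have hne : ∀ u : h.grp E, (u : G) • X ≠ E := fun u h1 => hEX.symm
        (smul_left_cancel (u : G) (h1.trans (h.grp_fix u.2).symm))
      rintro (_ | u) (_ | w) huw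
      · rfl
      · exact absurd huw.symm (hne w)
      · exact absurd huw (hne u)
      · have h1 : ((w : G)⁻¹ * u) • X = X := by
          rw [mul_smul, show (u : G) • X = (w : G) • X from huw, inv_smul_smul]
        have := h.grp_semiregular (mul_mem (inv_mem w.2) u.2) h1 hEX.symm
        exact congrArg some (Subtype.ext (inv_mul_eq_one.1 this).symm)
    · intro A
      rcases h.line hEX hgen hmid A with rfl | ⟨u, hu, rfl⟩
      · exact ⟨none, rfl⟩
      · exact ⟨some ⟨u, hu⟩, rfl⟩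
  haveI : IsPretransitive G h.Pt := ⟨fun A B => by
    have hor : ∀ C : h.Pt, ∃ g : G, g • E = C := fun C => by
      by_cases hC : C = E
      · exact ⟨1, by rw [hC, one_smul]⟩
      · obtain ⟨g, hg, -⟩ := h.exists_map_pair hEX hgen hmid (A := C) (B := E) hC
        exact ⟨g, hg⟩
    obtain ⟨a, rfl⟩ := hor A
    obtain ⟨b, rfl⟩ := hor B
    exact ⟨b * a⁻¹, by rw [mul_smul, inv_smul_smul]⟩⟩
  have hst : Nat.card (stabilizer G E) = Nat.card (h.grp E) * Nat.card (h.torus E X) := by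
    rw [← Nat.card_prod]
    refine (Nat.card_eq_of_bijective (fun p : h.grp E × h.torus E X =>
      (⟨(p.1 : G) * p.2, mem_stabilizer_iff.2 (by
        rw [mul_smul, (h.torus_fix p.2.2).1, h.grp_fix p.1.2])⟩ : stabilizer G E)) ⟨?_, ?_⟩).symm
    · rintro ⟨v, k⟩ ⟨v', k'⟩ he
      have he' : (v : G) * k = v' * k' := congrArg Subtype.val he
      have h1 : (v : G) • X = (v' : G) • X := by
        have := congrArg (· • X) he'
        simpa only [mul_smul, (h.torus_fix k.2).2, (h.torus_fix k'.2).2] using this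
      have h2 : ((v' : G)⁻¹ * v) • X = X := by rw [mul_smul, h1, inv_smul_smul]
      have hv : (v : G) = v' :=
        (inv_mul_eq_one.1 (h.grp_semiregular (mul_mem (inv_mem v'.2) v.2) h2 hEX.symm)).symm
      rw [hv] at he'
      exact Prod.ext (Subtype.ext hv) (Subtype.ext (mul_left_cancel he'))
    · rintro ⟨g, hg⟩
      obtain ⟨v, hv, k, hk, rfl⟩ := h.stabilizer_decomp hEX hgen hmid hg
      exact ⟨⟨⟨v, hv⟩, ⟨k, hk⟩⟩, rfl⟩
  refine ⟨Nat.card (h.torus E X) * (Nat.card (h.grp E) + 1), (h.torus_odd hEX).mul (h2.add_one), ?_⟩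
  rw [← (stabilizer G E).card_mul_index, index_stabilizer_of_transitive, hP, hst, mul_assoc]

/-- The generators are involutions, so squares are products of commutators. -/
theorem sq_mem_commutator (g : G) : g ^ 2 ∈ _root_.commutator G := by
  rw [← Abelianization.ker_of G, MonoidHom.mem_ker, map_pow]
  have hg : g ∈ closure ((h.grp E : Set G) ∪ {g | ∃ hg : g ∈ D, h.pt g hg = X}) := by
    rw [hgen]; exact mem_top g
  induction hg using closure_induction with
  | mem y hy =>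
    rw [← map_pow, pow_two]
    rcases hy with hy | ⟨hy, -⟩
    · rw [h.grp_sq hy, map_one]
    · rw [h.sq hy, map_one]
  | one => rw [map_one, one_pow]
  | mul a b _ _ iha ihb => rw [map_mul, mul_pow, iha, ihb, one_mul]
  | inv a _ iha => rw [map_inv, inv_pow, iha, inv_one]

/-- An element fixing every class is central. -/
theorem mem_center_of_kernel {g : G} (hg : ∀ A : h.Pt, g • A = A) : g ∈ center G := by
  have hV : ∀ (g : G), (∀ A : h.Pt, g • A = A) → ∀ v ∈ h.grp E, Commute g v := by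
    intro g hg v hv
    have h1 := h.grp_conj_fix (hg E) hv
    have h2 : ((g * v * g⁻¹)⁻¹ * v) • X = X := by
      rw [mul_smul, inv_smul_eq_iff, mul_smul, mul_smul, inv_smul_eq_iff.2 (hg X).symm, hg]
    have h3 := h.grp_semiregular (mul_mem (inv_mem h1) hv) h2 hEX.symm
    exact mul_inv_eq_iff_eq_mul.1 (inv_mul_eq_one.1 h3)
  obtain ⟨v₀, -, m, hm, hmE, -⟩ := id hmid
  have hcl : ∀ y ∈ (h.grp E : Set G) ∪ {g | ∃ hg : g ∈ D, h.pt g hg = X}, Commute g y := by
    rintro y (hy | ⟨hy, hyX⟩)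
    · exact hV g hg y hy
    · have h1 : m * y * m⁻¹ ∈ h.grp E :=
        h.swapper_back ⟨hm, hmE⟩ ▸ hyX ▸ h.grp_conj (h.self_mem_grp hy)
      have h2 := hV (m * g * m⁻¹) (fun A => by rw [mul_smul, mul_smul, hg, smul_inv_smul]) _ h1
      exact (Commute.conj_iff m).1 h2
  refine mem_center_iff.2 fun y => ?_
  have hy : y ∈ closure ((h.grp E : Set G) ∪ {g | ∃ hg : g ∈ D, h.pt g hg = X}) := by
    rw [hgen]; exact mem_top y
  have hle : closure ((h.grp E : Set G) ∪ {g | ∃ hg : g ∈ D, h.pt g hg = X}) ≤ centralizer {g} :=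
    (closure_le _).2 fun z hz => mem_centralizer_singleton_iff.2 (hcl z hz).symm.eq
  exact mem_centralizer_singleton_iff.1 (hle hy)

end ClassGroups

/-- Subgroups of odd prime power order of `PSL₂(2^n)` are cyclic. -/
theorem isCyclic_of_isPGroup_psl {F : Type*} [Field F] [Fintype F] [CharP F 2] {r : ℕ}
    [hr : Fact r.Prime] (hr2 : r ≠ 2) {P : Subgroup (Matrix.ProjectiveSpecialLinearGroup (Fin 2) F)}
    (hP : IsPGroup r P) : IsCyclic P := by
  haveI : Fact (Nat.Prime 2) := ⟨Nat.prime_two⟩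
  have hT := Forms.DicksonAction.twoPt (F := F) 2
  rcases subsingleton_or_nontrivial P with hs | hn
  · infer_instance
  haveI := hn
  haveI := hP.center_nontrivial
  obtain ⟨⟨g, hgc⟩, hg⟩ := exists_ne (1 : center P)
  have hg1 : (g : Matrix.ProjectiveSpecialLinearGroup (Fin 2) F) ≠ 1 := fun h1 =>
    hg (Subtype.ext (Subtype.ext h1))
  have hodd : ∀ k : P, Odd (orderOf (k : Matrix.ProjectiveSpecialLinearGroup (Fin 2) F)) := by
    intro k
    obtain ⟨j, hj⟩ := IsPGroup.iff_orderOf.1 hP k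
    rw [Subgroup.orderOf_coe, hj]
    exact (hr.out.odd_of_ne_two hr2).pow
  have hg2 : orderOf (g : Matrix.ProjectiveSpecialLinearGroup (Fin 2) F) ≠ 2 := fun h1 => by
    have := hodd g
    rw [h1] at this
    exact absurd this (by decide)
  obtain ⟨a, b, hab, hfix⟩ := hT.exists_pair hg1 hg2
  have hga : (g : Matrix.ProjectiveSpecialLinearGroup (Fin 2) F) • a = a := by
    show a ∈ fixedBy _ (g : Matrix.ProjectiveSpecialLinearGroup (Fin 2) F)
    rw [hfix]; simp
  have hgb : (g : Matrix.ProjectiveSpecialLinearGroup (Fin 2) F) • b = b := by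
    show b ∈ fixedBy _ (g : Matrix.ProjectiveSpecialLinearGroup (Fin 2) F)
    rw [hfix]; simp
  have hle : P ≤ Forms.SolubilizerPSL2.ptw a b := by
    intro k hk
    have hc : Commute (g : Matrix.ProjectiveSpecialLinearGroup (Fin 2) F) k :=
      congrArg Subtype.val (mem_center_iff.1 hgc ⟨k, hk⟩).symm
    rcases Forms.SolubilizerPSL2.commute_fix hT hg1 hab hga hgb hc with hh | ⟨h1, h2⟩
    · exact Forms.SolubilizerPSL2.mem_ptw.2 hh
    · exfalso
      have hk1 : k = 1 := RootInvolutions.Basic.eq_one_of_odd (hodd ⟨k, hk⟩) (n := 1)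
        (by rw [pow_one, pow_two]; exact Forms.SolubilizerPSL2.swap_sq hT hab h1 h2)
      rw [hk1, one_smul] at h1
      exact hab h1
  haveI := Forms.SolubilizerPSL2.isCyclic_ptw hT hab
  exact isCyclic_of_injective (Subgroup.inclusion hle) (Subgroup.inclusion_injective hle)

/-- **The line lemma.** -/
theorem line_lemma [Finite G] (h : ClassGroups D) {E X : h.Pt} (hEX : E ≠ X)
    (hgen : closure (((h.grp E : Set G)) ∪ {g | ∃ hg : g ∈ D, h.pt g hg = X}) = ⊤)
    (h4 : 4 ≤ Nat.card (h.grp E))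
    (hmid : ∃ v ∈ h.grp E, ∃ (m : G) (hm : m ∈ D), m • E = X ∧ h.pt m hm = v • X) :
    ∃ (F : Type) (_ : Field F) (_ : Fintype F), CharP F 2 ∧ Fintype.card F = Nat.card (h.grp E) ∧
      Nonempty (G ≃* Matrix.ProjectiveSpecialLinearGroup (Fin 2) F) := by
  classical
  haveI : Fact (Nat.Prime 2) := ⟨Nat.prime_two⟩
  set V := h.grp E with hV
  have hVp : IsPGroup 2 V := fun v => ⟨1, Subtype.ext (by
    rw [SubgroupClass.coe_pow, pow_one, pow_two]; exact h.grp_sq v.2)⟩
  obtain ⟨n, hn⟩ := IsPGroup.iff_card.1 hVp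
  have hn2 : 2 ≤ n := by
    by_contra hh
    have : 2 ^ n ≤ 2 ^ 1 := Nat.pow_le_pow_right (by norm_num) (by omega)
    omega
  have hqeven : Even (Nat.card V) := by
    rw [hn]; exact Nat.even_pow.2 ⟨even_two, by omega⟩
  obtain ⟨κ, hκ, hG⟩ := h.card_eq hEX hgen hmid hqeven
  let Gb := (toPermHom G h.Pt).range
  let π : G →* Gb := (toPermHom G h.Pt).rangeRestrict
  have hπ : Function.Surjective π := MonoidHom.rangeRestrict_surjective _
  have hsm : ∀ (g : G) (A : h.Pt), π g • A = g • A := fun g A => rfl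
  have hker : ∀ g : G, π g = 1 → ∀ A : h.Pt, g • A = A := fun g hg A => by
    rw [← hsm g A, hg, one_smul]
  haveI : FaithfulSMul Gb h.Pt := ⟨fun {a b} hab => Subtype.ext (Equiv.ext hab)⟩
  have hinjV : ∀ v ∈ V, π v = 1 → v = 1 := fun v hv hv1 =>
    h.grp_semiregular hv (hker v hv1 X) hEX.symm
  set Q : Subgroup Gb := V.map π with hQ
  have hQc : Nat.card Q = Nat.card V := by
    refine (Nat.card_eq_of_bijective (fun v : V => (⟨π v, v, v.2, rfl⟩ : Q)) ⟨?_, ?_⟩).symm
    · intro v w hvw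
      have h1 : π ((v : G)⁻¹ * w) = 1 := by
        rw [map_mul, map_inv, show π (v : G) = π w from congrArg Subtype.val hvw, inv_mul_cancel]
      exact Subtype.ext (inv_mul_eq_one.1 (hinjV _ (mul_mem (inv_mem v.2) w.2) h1))
    · rintro ⟨_, v, hv, rfl⟩
      exact ⟨⟨v, hv⟩, rfl⟩
  obtain ⟨v₀, -, m, hm, hmE, -⟩ := id hmid
  have hsetup : Cfsg.IsRankOneSetup Gb h.Pt E (π m) Q := by
    refine ⟨?_, ?_, ?_, ?_, ?_, ?_, ?_, ?_, ?_, ?_⟩
    · rw [is_two_pretransitive_iff]
      intro a b c d hab hcd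
      obtain ⟨g, hga, hgb⟩ := h.exists_map_pair hEX hgen hmid hab
      obtain ⟨k, hkc, hkd⟩ := h.exists_map_pair hEX hgen hmid hcd
      exact ⟨π (k * g⁻¹), by rw [hsm, mul_smul, ← hga, inv_smul_smul, hkc],
        by rw [hsm, mul_smul, ← hgb, inv_smul_smul, hkd]⟩
    · rw [← map_mul, h.sq hm, map_one]
    · intro h1
      exact hEX ((hker m h1 E).symm.trans hmE)
    · intro h1
      exact hEX (((hsm m E).symm.trans (mem_stabilizer_iff.1 h1)).symm.trans hmE)
    · rintro _ ⟨v, hv, rfl⟩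
      exact mem_stabilizer_iff.2 ((hsm v E).trans (h.grp_fix hv))
    · intro a ha y hy
      obtain ⟨g, rfl⟩ := hπ a
      obtain ⟨v, hv, rfl⟩ := hy
      exact ⟨g * v * g⁻¹, h.grp_conj_fix ((hsm g E).symm.trans ha) hv,
        by rw [map_mul, map_mul, map_inv]⟩
    · refine (eq_bot_iff_forall _).2 ?_
      rintro _ ⟨⟨v, hv, rfl⟩, hfx⟩
      have h1 : v • X = X := by
        have := mem_stabilizer_iff.1 hfx
        rwa [hsm m E, hmE, hsm] at this
      rw [h.grp_semiregular hv h1 hEX.symm, map_one]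
    · refine le_antisymm (sup_le ?_ inf_le_left) fun a ha => ?_
      · rintro _ ⟨v, hv, rfl⟩
        exact mem_stabilizer_iff.2 ((hsm v E).trans (h.grp_fix hv))
      obtain ⟨g, rfl⟩ := hπ a
      obtain ⟨v, hv, k, hk, rfl⟩ := h.stabilizer_decomp hEX hgen hmid ((hsm g E).symm.trans ha)
      rw [map_mul]
      refine mul_mem (mem_sup_left ⟨v, hv, rfl⟩) (mem_sup_right (mem_inf.2 ⟨?_, ?_⟩))
      · exact mem_stabilizer_iff.2 ((hsm k E).trans (h.torus_fix hk).1)
      · exact mem_stabilizer_iff.2 (by rw [hsm m E, hmE, hsm, (h.torus_fix hk).2])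
    · rwa [hQc]
    · refine Odd.of_dvd_nat (h.torus_odd hEX) ((card_dvd_of_le ?_).trans (card_map_dvd (h.torus E X) π))
      intro a ha
      obtain ⟨g, rfl⟩ := hπ a
      obtain ⟨ha1, ha2⟩ := mem_inf.1 ha
      refine ⟨g, h.mem_torus hEX hgen hmid ((hsm g E).symm.trans ha1) ?_, rfl⟩
      have := mem_stabilizer_iff.1 ha2
      rwa [hsm m E, hmE, hsm] at this
  have hGb : Nat.card Gb ∣ Nat.card V * κ := hG ▸ card_dvd_of_surjective π hπ
  have hcopκ : ∀ j : ℕ, Nat.Coprime (2 ^ j) κ := fun j =>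
    (Nat.coprime_two_left.2 hκ).pow_left j
  have hQp : IsPGroup 2 Q := IsPGroup.of_card (n := n) (hQc.trans hn)
  obtain ⟨S, hS⟩ := hQp.exists_le_sylow
  obtain ⟨j, hj⟩ := IsPGroup.iff_card.1 S.2
  have hSd : Nat.card (S : Subgroup Gb) ∣ Nat.card V := by
    have h1 := (S : Subgroup Gb).card_subgroup_dvd_card.trans hGb
    rw [hj] at h1 ⊢
    exact (hcopκ j).dvd_of_dvd_mul_right h1
  have hSQ : (S : Subgroup Gb) = Q :=
    (eq_of_le_of_card_ge hS (by rw [hQc]; exact Nat.le_of_dvd Nat.card_pos hSd)).symm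
  have htwo : ∀ x : Gb, ∀ k : ℕ, x ^ 2 ^ k = 1 → x ^ 2 = 1 := EqSubConj.two_pow_sq (S := S) (by
    rw [hSQ]
    rintro _ ⟨v, hv, rfl⟩
    rw [pow_two, ← map_mul, h.grp_sq hv, map_one])
  obtain ⟨a, b, hab, ha, hb⟩ : ∃ a b : Q, a ≠ b ∧ a ≠ 1 ∧ b ≠ 1 := by
    haveI : Nontrivial Q := Finite.one_lt_card_iff_nontrivial.1 (by omega)
    obtain ⟨a, ha⟩ := exists_ne (1 : Q)
    by_contra hall
    push Not at hall
    have hsurj : Function.Surjective (fun o : Bool => if o then a else (1 : Q)) := fun b => by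
      by_cases hb : b = 1
      · exact ⟨false, hb.symm⟩
      · exact ⟨true, by_contra fun hne => hb (hall a b hne ha)⟩
    have := Nat.card_le_card_of_surjective _ hsurj
    rw [hQc, Nat.card_eq_fintype_card (α := Bool), Fintype.card_bool] at this
    omega
  obtain ⟨⟨va, hva, eva⟩, ⟨vb, hvb, evb⟩⟩ := And.intro a.2 b.2
  obtain ⟨L, hLn, hLodd, hcase⟩ := S1136.result hsetup
    ⟨a, b, fun h1 => ha (Subtype.ext h1), fun h1 => hb (Subtype.ext h1),
      fun h1 => hab (Subtype.ext h1), by rw [← eva, ← map_mul, h.grp_sq hva, map_one],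
      by rw [← evb, ← map_mul, h.grp_sq hvb, map_one],
      by rw [← eva, ← evb, ← map_mul, ← map_mul, (h.grp_comm hva hvb).eq]⟩
  haveI := hLn
  have hLtop : L = ⊤ := by
    have hinv : ∀ s : G, s * s = 1 → π s ∈ L := fun s hs => by
      rw [← QuotientGroup.eq_one_iff]
      have hd : orderOf ((π s : Gb) : Gb ⧸ L) ∣ Nat.gcd 2 L.index := by
        refine Nat.dvd_gcd (orderOf_dvd_of_pow_eq_one ?_) ?_
        · rw [pow_two, ← QuotientGroup.mk_mul, ← map_mul, hs, map_one, QuotientGroup.mk_one]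
        · rw [Subgroup.index_eq_card]; exact orderOf_dvd_natCard _
      rwa [Nat.coprime_two_left.2 hLodd, Nat.dvd_one, orderOf_eq_one_iff] at hd
    refine eq_top_iff.2 fun a _ => ?_
    obtain ⟨g, rfl⟩ := hπ a
    have hle : (⊤ : Subgroup G) ≤ L.comap π := by
      rw [← hgen, closure_le]
      rintro y (hy | ⟨hy, -⟩)
      · exact hinv y (h.grp_sq hy)
      · exact hinv y (h.sq hy)
    exact hle (mem_top g)
  rcases hcase with ⟨F, hf, hfin, ⟨k, hk, hF⟩, ⟨e⟩⟩ | hsz | ⟨F, hf, hfin, k, hk, hF, ⟨e⟩⟩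
  rotate_left
  · exact absurd hsz (EqSubConj.not_suzuki htwo)
  · exact (EqSubConj.not_unitary htwo hk hF e).elim
  haveI : CharP F 2 := charP_of_card_eq_prime_pow (p := 2) (f := k) hF
  let eb : Gb ≃* Matrix.ProjectiveSpecialLinearGroup (Fin 2) F :=
    ((MulEquiv.subgroupCongr hLtop).trans Subgroup.topEquiv).symm.trans e
  -- the order of the field
  have hFV : Fintype.card F = Nat.card V := by
    have h1 := PSLOrderSpectrum.card_psl_two (F := F)
    have hk1 : 1 ≤ 2 ^ k := Nat.one_le_two_pow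
    have hkev : Even (2 ^ k) := Nat.even_pow.2 ⟨even_two, by omega⟩
    rw [hF, Nat.coprime_two_left.2 (Nat.Even.sub_odd hk1 hkev odd_one), one_mul,
      ← Nat.card_congr eb.toEquiv] at h1
    have hodd : Odd ((2 ^ k - 1) * (2 ^ k + 1)) :=
      (Nat.Even.sub_odd hk1 hkev odd_one).mul hkev.add_one
    rw [hF, hn]
    refine Nat.dvd_antisymm ((hcopκ k).dvd_of_dvd_mul_right ?_)
      ((Nat.Coprime.pow_left n (Nat.coprime_two_left.2 hodd)).dvd_of_dvd_mul_right ?_)
    · exact hn ▸ (h1 ▸ Dvd.intro _ rfl : 2 ^ k ∣ Nat.card Gb).trans hGb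
    · rw [← h1, ← hn, ← hQc]
      exact Q.card_subgroup_dvd_card
  -- the kernel is trivial
  have hbot : ∀ z : G, π z = 1 → z = 1 := by
    intro z hz
    by_contra hz1
    obtain ⟨r, hr, hrd⟩ := Nat.exists_prime_and_dvd (n := orderOf z)
      fun h1 => hz1 (orderOf_eq_one_iff.1 h1)
    haveI : Fact r.Prime := ⟨hr⟩
    obtain ⟨w, hwz, hwo⟩ : ∃ w, w ∈ zpowers z ∧ orderOf w = r :=
      ⟨z ^ (orderOf z / r), pow_mem (mem_zpowers z) _, by
        rw [orderOf_pow_orderOf_div (orderOf_pos z).ne' hrd]⟩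
    have hwπ : π w = 1 := by
      have : zpowers z ≤ π.ker := zpowers_le.2 hz
      exact this hwz
    have hwc : w ∈ center G := h.mem_center_of_kernel hEX hgen hmid (hker w hwπ)
    have hwodd : Odd r := by
      rw [← hwo]
      refine Odd.of_dvd_nat (h.torus_odd hEX) ?_
      exact Subgroup.orderOf_dvd_natCard _ (h.mem_torus hEX hgen hmid (hker w hwπ E) (hker w hwπ X))
    have hr2 : r ≠ 2 := fun h1 => by rw [h1] at hwodd; exact absurd hwodd (by decide)
    obtain ⟨P, hP⟩ := (IsPGroup.of_card (n := 1) (G := zpowers w)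
      (by rw [Nat.card_zpowers, hwo, pow_one])).exists_le_sylow
    have hwd : w ∈ _root_.commutator G := by
      obtain ⟨l, hl⟩ := hwodd
      have h1 := pow_mem (h.sq_mem_commutator hEX hgen hmid w) (l + 1)
      rwa [← pow_mul, show 2 * (l + 1) = orderOf w + 1 by omega, pow_succ, pow_orderOf_eq_one,
        one_mul] at h1
    let f : (P : Subgroup G) →* Matrix.ProjectiveSpecialLinearGroup (Fin 2) F :=
      eb.toMonoidHom.comp (π.comp (P : Subgroup G).subtype)
    haveI : IsCyclic f.range := isCyclic_of_isPGroup_psl hr2 (P.2.of_surjective f.rangeRestrict (MonoidHom.rangeRestrict_surjective f))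
    have hkerf : f.ker ≤ center (P : Subgroup G) := fun p hp => by
      have h1 : π p = 1 := eb.map_eq_one_iff.1 hp
      exact mem_center_iff.2 fun q => Subtype.ext
        (mem_center_iff.1 (h.mem_center_of_kernel hEX hgen hmid (hker _ h1)) q)
    have hPab : ∀ p ∈ (P : Subgroup G), ∀ q ∈ (P : Subgroup G), p * q = q * p := fun p hp q hq =>
      congrArg Subtype.val ((f.rangeRestrict.isMulCommutative_of_isCyclic_of_ker_le_center
        (by rwa [MonoidHom.ker_rangeRestrict])).is_comm.comm (⟨p, hp⟩ : (P : Subgroup G)) ⟨q, hq⟩)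
    have := EqConjOdd.eq_one_of_central P hPab (hP (mem_zpowers w)) hwc hwd
    rw [this, orderOf_one] at hwo
    exact hr.one_lt.ne hwo
  refine ⟨F, hf, hfin, ‹CharP F 2›, hFV, ⟨(MulEquiv.ofBijective π ⟨?_, hπ⟩).trans eb⟩⟩
  exact (injective_iff_map_eq_one π).2 hbot

end Cfsg.Agent.OddTranspX
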