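import Cfsg.Prelude.Def_Sz
import Cfsg.Agent.Lib.OddTranspX.LineLemma

/-!
# Odd transpositions with full classes: the setting of the induction

`Classes D` is what remains of S5051 after factoring the largest normal 2-subgroup: the classes of
commuting members are, with `1`, elementary groups of order at least four, and one class and one
further member generate.  `TwoTrans`, `AllGen`, `OddPair` and `FieldData` are the successive
conclusions of the steps.
-/

set_option autoImplicit false

namespace Cfsg.Agent.OddTranspX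

open MulAction

universe u

variable {G : Type u} [Group G] {D : Set G}

/-- The setting of the induction. -/
structure Classes (D : Set G) : Prop extends ClassGroups D where
  gen : Subgroup.closure D = ⊤
  core : ∀ N : Subgroup G, N.Normal → IsPGroup 2 N → N = ⊥
  big : ∀ a ∈ D, ∃ b ∈ D, Commute a b ∧ b ≠ a
  conjugate : ∀ a ∈ D, ∀ b ∈ D, ∃ g : G, g * a * g⁻¹ = b
  pairGen : ∃ a ∈ D, ∃ x ∈ D, ¬ Commute a x ∧
    Subgroup.closure ({y | y ∈ D ∧ Commute a y} ∪ {x}) = ⊤

/-- The conclusion: `L2(2^n)` or a Suzuki group. -/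
def Concl (X : Type u) [Group X] : Prop :=
  (∃ (F : Type) (_ : Field F) (_ : Fintype F), CharP F 2 ∧ 4 ≤ Fintype.card F ∧
    Nonempty (X ≃* Matrix.ProjectiveSpecialLinearGroup (Fin 2) F)) ∨ Cfsg.Lie.IsoSuzuki X

/-- What is proved by induction on the order. -/
def Main (G : Type u) [Group G] : Prop := ∀ D : Set G, Classes D → Concl G

/-- The induction hypothesis below the order of `G`. -/
def Below (G : Type u) [Group G] : Prop :=
  ∀ (H : Type u) [Group H] [Finite H], Nat.card H < Nat.card G → Main H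

variable (h : ClassGroups D)

/-- The stabiliser of two classes. -/
def ClassGroups.pairStab (E X : h.Pt) : Subgroup G := stabilizer G E ⊓ stabilizer G X

/-- The stabiliser of a class is transitive on the other classes. -/
def ClassGroups.TwoTrans : Prop :=
  ∀ E X Y : h.Pt, X ≠ E → Y ≠ E → ∃ g : G, g • E = E ∧ g • X = Y

/-- Every class and every member outside it generate. -/
def ClassGroups.AllGen : Prop :=
  ∀ (E : h.Pt) (f : G) (hf : f ∈ D), h.pt f hf ≠ E →
    Subgroup.closure ((h.grp E : Set G) ∪ {f}) = ⊤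

/-- The midpoint condition of the line lemma, for some pair of classes. -/
def ClassGroups.HasMid : Prop :=
  ∃ E X : h.Pt, E ≠ X ∧ ∃ v ∈ h.grp E, ∃ (m : G) (hm : m ∈ D), m • E = X ∧ h.pt m hm = v • X

/-- Two-class stabilisers have odd order. -/
def ClassGroups.OddPair : Prop :=
  ∀ E X : h.Pt, E ≠ X → Odd (Nat.card (h.pairStab E X))

/-- The remaining configuration: classes of order `2 ^ r`, `r` an odd prime, and two-class
stabilisers Frobenius groups `(2 ^ r - 1) : r`, the cyclic part regular on the members of a class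
and the prime part fixing exactly one member of it. -/
def ClassGroups.FieldData (r : ℕ) : Prop :=
  r.Prime ∧ 3 ≤ r ∧ (∀ E : h.Pt, Nat.card (h.grp E) = 2 ^ r) ∧
    ∀ E X : h.Pt, E ≠ X → ∃ C : Subgroup G, C ≤ h.pairStab E X ∧ IsCyclic C ∧
      Nat.card C = 2 ^ r - 1 ∧ Nat.card (h.pairStab E X) = (2 ^ r - 1) * r ∧
      (∀ k ∈ h.pairStab E X, ∀ c ∈ C, k * c * k⁻¹ ∈ C) ∧
      (∀ c ∈ C, c ≠ 1 → ∀ v ∈ h.grp E, v ≠ 1 → c * v * c⁻¹ ≠ v) ∧
      (∀ k ∈ h.pairStab E X, k ∉ C → ∃! v : G, v ∈ h.grp E ∧ v ≠ 1 ∧ k * v * k⁻¹ = v)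

theorem Classes.four_le [Finite G] (hC : Classes D) (E : hC.toClassGroups.Pt) :
    4 ≤ Nat.card (hC.toClassGroups.grp E) := by
  obtain ⟨a, ha, rfl⟩ := hC.toClassGroups.exists_pt E
  obtain ⟨b, hb, hab, hne⟩ := hC.big a ha
  have hbE : b ∈ hC.toClassGroups.grp (hC.toClassGroups.pt a ha) :=
    Or.inr ⟨hb, hC.toClassGroups.pt_eq_iff.2 hab.symm⟩
  set V := hC.toClassGroups.grp (hC.toClassGroups.pt a ha) with hV
  have hp : IsPGroup 2 V := fun v => ⟨1, Subtype.ext (by
    rw [SubgroupClass.coe_pow, pow_one, pow_two]; exact hC.toClassGroups.grp_sq v.2)⟩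
  have : Fact (Nat.Prime 2) := ⟨Nat.prime_two⟩
  obtain ⟨n, hn⟩ := IsPGroup.iff_card.1 hp
  have h3 : 2 < Nat.card V := by
    classical
    let _ := Fintype.ofFinite V
    rw [Nat.card_eq_fintype_card, Fintype.two_lt_card_iff]
    exact ⟨1, ⟨a, hC.toClassGroups.self_mem_grp ha⟩, ⟨b, hbE⟩,
      fun h => hC.ne_one ha (congrArg Subtype.val h).symm,
      fun h => hC.ne_one hb (congrArg Subtype.val h).symm,
      fun h => hne (congrArg Subtype.val h).symm⟩
  rw [hn] at h3 ⊢
  rcases n with _ | _ | n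
  · omega
  · omega
  · rw [pow_add]
    have := Nat.one_le_two_pow (n := n)
    omega

/-- The line lemma in the setting: a midpoint and generation by all pairs give `L2(q)`. -/
theorem Classes.concl_of_mid [Finite G] (hC : Classes D) (hA : hC.toClassGroups.AllGen)
    (hmid : hC.toClassGroups.HasMid) : Concl G := by
  obtain ⟨E, X, hEX, hm⟩ := hmid
  obtain ⟨f, hf, hX⟩ := hC.toClassGroups.exists_pt X
  have hgen : Subgroup.closure ((hC.toClassGroups.grp E : Set G) ∪
      {g | ∃ hg : g ∈ D, hC.toClassGroups.pt g hg = X}) = ⊤ := by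
    rw [eq_top_iff, ← hA E f hf (by rw [hX]; exact hEX.symm)]
    refine Subgroup.closure_mono (Set.union_subset_union_right _ ?_)
    rintro g rfl
    exact ⟨hf, hX⟩
  obtain ⟨F, hFf, hFt, hF2, hFc, hFe⟩ :=
    line_lemma hC.toClassGroups hEX hgen (hC.four_le E) hm
  exact Or.inl ⟨F, hFf, hFt, hF2, hFc ▸ hC.four_le E, hFe⟩

end Cfsg.Agent.OddTranspX
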