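import Mathlib.GroupTheory.Sylow
import Mathlib.GroupTheory.PGroup

/-!
# Odd groups transitive on the involutions of a group of order sixty-four

An element of `7`-power order in an odd group transitive on the non-trivial elements of an
elementary abelian group of order `64` fixes none of them unless it is trivial: otherwise a Sylow
`7`-subgroup would be abelian of order `49` with exactly two subgroups having fixed points, and its
normalizer, of odd order, would interchange them.
-/

set_option autoImplicit false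
set_option linter.unusedSectionVars false
set_option linter.style.haveILetI false

namespace Cfsg.Agent.OddTranspX.Seven

open MulAction Subgroup

variable {V : Type*} [Group V] [Finite V] {Y : Type*} [Group Y] [MulDistribMulAction Y V]

/-- The points fixed by a subgroup. -/
def fixSub (H : Subgroup Y) : Subgroup V where
  carrier := {v | ∀ h ∈ H, h • v = v}
  one_mem' h _ := smul_one h
  mul_mem' ha hb h hh := by rw [smul_mul', ha h hh, hb h hh]
  inv_mem' ha h hh := by rw [smul_inv', ha h hh]

theorem mem_fixSub {H : Subgroup Y} {v : V} : v ∈ fixSub H ↔ ∀ h ∈ H, h • v = v := Iff.rfl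

theorem fixSub_anti {H K : Subgroup Y} (h : H ≤ K) : fixSub (V := V) K ≤ fixSub H :=
  fun _ hv x hx => hv x (h hx)

theorem fixSub_map_conj {g : Y} {H : Subgroup Y} {v : V}
    (hv : v ∈ fixSub (V := V) H) : g • v ∈ fixSub (H.map (MulAut.conj g).toMonoidHom) := by
  rintro _ ⟨x, hx, rfl⟩
  show (g * x * g⁻¹) • g • v = g • v
  rw [← mul_smul, show g * x * g⁻¹ * g = g * x by group, mul_smul, hv x hx]

variable (hV : Nat.card V = 2 ^ 6) [Finite Y] [FaithfulSMul Y V]

include hV

omit [FaithfulSMul Y V] in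
/-- A `7`-subgroup fixes `1`, `8` or all `64` points. -/
theorem card_fixSub {H : Subgroup Y} (hH : IsPGroup 7 H) :
    Nat.card (fixSub (V := V) H) = 1 ∨ Nat.card (fixSub (V := V) H) = 8 ∨
      Nat.card (fixSub (V := V) H) = 64 := by
  haveI : Fact (Nat.Prime 7) := ⟨by decide⟩
  have h1 := hH.card_modEq_card_fixedPoints V
  have h2 : Nat.card (fixedPoints H V) = Nat.card (fixSub (V := V) H) :=
    Nat.card_congr (Equiv.subtypeEquivRight fun v =>
      ⟨fun hv h hh => hv ⟨h, hh⟩, fun hv h => hv h h.2⟩)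
  rw [hV, h2] at h1
  obtain ⟨i, hi, hc⟩ := (Nat.dvd_prime_pow Nat.prime_two).1
    (hV ▸ (fixSub (V := V) H).card_subgroup_dvd_card)
  rw [hc] at h1 ⊢
  interval_cases i <;> first | (norm_num; done) | (norm_num [Nat.ModEq] at h1)

/-- A non-trivial `7`-subgroup fixing a non-trivial point fixes exactly eight. -/
theorem card_fixSub_eq {H : Subgroup Y} (hH : IsPGroup 7 H) (hH1 : H ≠ ⊥) {v : V} (hv : v ≠ 1)
    (hfix : v ∈ fixSub H) : Nat.card (fixSub (V := V) H) = 8 := by
  rcases card_fixSub hV hH with h | h | h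
  · rw [Subgroup.card_eq_one] at h
    rw [h] at hfix
    exact absurd (Subgroup.mem_bot.1 hfix) hv
  · exact h
  · refine absurd ((eq_bot_iff_forall H).2 fun x hx => eq_of_smul_eq_smul (α := V) fun w => ?_) hH1
    rw [one_smul]
    have htop : fixSub (V := V) H = ⊤ :=
      Subgroup.eq_top_of_card_eq _ (h.trans (by rw [hV]; norm_num))
    exact (htop ▸ mem_top w : w ∈ fixSub H) x hx

/-- Orbits of size `49` of one group meet or use more than `63` points. -/
theorem orbit_meet {H : Subgroup Y} {T : Set V} (hT : Nat.card T < 98) {u w : V}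
    (hu : orbit H u ⊆ T) (hw : orbit H w ⊆ T) (cu : 49 ≤ Nat.card (orbit H u))
    (cw : 49 ≤ Nat.card (orbit H w)) : w ∈ orbit H u := by
  by_contra hwu
  have hdisj : Disjoint (orbit H u) (orbit H w) := by
    refine Set.disjoint_left.2 fun z hzu hzw => hwu ?_
    rw [← orbit_eq_iff.2 hzu, orbit_eq_iff.2 hzw]
    exact mem_orbit_self w
  have h1 := Set.ncard_le_ncard (Set.union_subset hu hw) (Set.toFinite T)
  rw [Set.ncard_union_eq hdisj (Set.toFinite _) (Set.toFinite _)] at h1
  simp only [← Nat.card_coe_set_eq] at h1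
  omega

omit [FaithfulSMul Y V] in
theorem card_ne_one_set : Nat.card ({v : V | v ≠ 1} : Set V) = 63 := by
  rw [Nat.card_coe_set_eq, show {v : V | v ≠ 1} = ({1} : Set V)ᶜ from rfl, Set.ncard_compl,
    Set.ncard_singleton, hV]
  norm_num

/-- A `7`-subgroup fixing a non-trivial point has order at most seven. -/
theorem card_le_seven {H : Subgroup Y} (hH : IsPGroup 7 H) {v : V} (hv : v ≠ 1)
    (hfix : v ∈ fixSub H) : Nat.card H ≤ 7 := by
  haveI : Fact (Nat.Prime 7) := ⟨by decide⟩
  obtain ⟨s, hs⟩ := IsPGroup.iff_card.1 hH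
  by_contra hlt
  have hs2 : 2 ≤ s := by
    by_contra h2
    interval_cases s <;> omega
  obtain ⟨K, hK⟩ := Sylow.exists_subgroup_card_pow_prime (G := H) 7 (n := 2)
    (by rw [hs]; exact pow_dvd_pow 7 hs2)
  set L : Subgroup Y := K.map H.subtype with hL
  have hLH : L ≤ H := map_subtype_le K
  have hL49 : Nat.card L = 49 := by rw [hL, card_map_of_injective H.subtype_injective, hK]; norm_num
  have hLp : IsPGroup 7 L := hH.to_le hLH
  have hL1 : L ≠ ⊥ := fun h1 => by rw [h1, Subgroup.card_bot] at hL49; omega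
  have hF := card_fixSub_eq hV hLp hL1 hv (fixSub_anti hLH hfix)
  -- points outside the fixed points have regular orbits
  have horb : ∀ u : V, u ∉ fixSub L → Nat.card (orbit L u) = 49 ∧
      orbit L u ⊆ ((fixSub L : Subgroup V) : Set V)ᶜ := by
    intro u hu
    refine ⟨?_, ?_⟩
    · have hst : stabilizer L u = ⊥ := by
        by_contra hne
        set M : Subgroup Y := (stabilizer L u).map L.subtype with hM
        have hM1 : M ≠ ⊥ := fun h1 => hne ((map_eq_bot_iff_of_injective _ L.subtype_injective).1 h1)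
        have huM : u ∈ fixSub M := by
          rintro _ ⟨x, hx, rfl⟩
          exact mem_stabilizer_iff.1 hx
        have hMF := card_fixSub_eq hV (hLp.to_le (map_subtype_le _)) hM1 hv
          (fixSub_anti (map_subtype_le _) (fixSub_anti hLH hfix))
        have := Subgroup.eq_of_le_of_card_ge (fixSub_anti (V := V) (map_subtype_le (stabilizer L u)))
          (by rw [hMF, hF])
        exact hu (this ▸ huM)
      have h1 : Nat.card L = Nat.card (orbit L u) * Nat.card (stabilizer L u) := by
        rw [← Nat.card_prod]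
        exact Nat.card_congr (orbitProdStabilizerEquivGroup L u).symm
      rw [hst, Subgroup.card_bot, mul_one, hL49] at h1
      exact h1.symm
    · rintro z ⟨x, rfl⟩ hz
      refine hu fun y hy => ?_
      have h2 : (x : L) • u = u := by
        have h3 := hz (x : Y)⁻¹ (inv_mem x.2)
        have h4 : ((x : Y)⁻¹) • ((x : Y) • u) = (x : Y) • u := h3
        rw [inv_smul_smul] at h4
        exact h4.symm
      have h5 : y • ((x : L) • u) = (x : L) • u := hz y hy
      rwa [h2] at h5
  have hcard : Nat.card (((fixSub L : Subgroup V) : Set V)ᶜ : Set V) = 56 := by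
    rw [Nat.card_coe_set_eq, Set.ncard_compl, hV, ← Nat.card_coe_set_eq]
    show 2 ^ 6 - Nat.card (fixSub (V := V) L) = 56
    rw [hF]; norm_num
  obtain ⟨u, hu⟩ : (((fixSub L : Subgroup V) : Set V)ᶜ).Nonempty :=
    (Set.ncard_pos (Set.toFinite _)).1 (by rw [← Nat.card_coe_set_eq, hcard]; norm_num)
  have hall : ((fixSub L : Subgroup V) : Set V)ᶜ ⊆ orbit L u := fun w hw =>
    orbit_meet hV (by rw [hcard]; norm_num) (horb u hu).2 (horb w hw).2 (horb u hu).1.ge
      (horb w hw).1.ge
  have := Set.ncard_le_ncard hall (Set.toFinite _)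
  rw [← Nat.card_coe_set_eq, ← Nat.card_coe_set_eq, hcard, (horb u hu).1] at this
  omega

variable (hodd : Odd (Nat.card Y))
  (htr : ∀ v w : V, v ≠ 1 → w ≠ 1 → ∃ y : Y, y • v = w)
include hodd htr

/-- An element of `7`-power order fixing a non-trivial point is trivial. -/
theorem eq_one_of_fix {k : Y} {j : ℕ} (hk : orderOf k = 7 ^ j) {v₀ : V} (hv₀ : v₀ ≠ 1)
    (hkv : k • v₀ = v₀) : k = 1 := by
  classical
  haveI : Fact (Nat.Prime 7) := ⟨by decide⟩
  by_contra hk1
  have hkp : IsPGroup 7 (zpowers k) := IsPGroup.of_card (n := j) (by rw [Nat.card_zpowers, hk])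
  have hk0 : v₀ ∈ fixSub (zpowers k) := fun x hx =>
    (zpowers_le.2 (mem_stabilizer_iff.2 hkv) hx : x ∈ stabilizer Y v₀)
  have hkcard : Nat.card (zpowers k) = 7 := by
    refine le_antisymm (card_le_seven hV hkp hv₀ hk0) ?_
    rw [Nat.card_zpowers, hk]
    rcases j with _ | j
    · exact absurd (orderOf_eq_one_iff.1 (by simpa using hk)) hk1
    · exact Nat.le_of_dvd (by positivity) (dvd_pow_self 7 (Nat.succ_ne_zero j))
  have horbY : ∀ v : V, v ≠ 1 → Nat.card Y = 63 * Nat.card (stabilizer Y v) := by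
    intro v hv
    have h1 : Nat.card Y = Nat.card (orbit Y v) * Nat.card (stabilizer Y v) := by
      rw [← Nat.card_prod]
      exact Nat.card_congr (orbitProdStabilizerEquivGroup Y v).symm
    have h2 : orbit Y v = {w : V | w ≠ 1} := by
      ext w
      refine ⟨?_, fun hw => htr v w hv hw⟩
      rintro ⟨y, rfl⟩ h1
      exact hv (smul_left_cancel y (h1.trans (smul_one y).symm))
    rw [h1, h2, card_ne_one_set hV]
  -- the Sylow subgroups have order forty-nine
  obtain ⟨S, hS⟩ := hkp.exists_le_sylow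
  have h49 : 49 ∣ Nat.card Y := by
    rw [horbY v₀ hv₀]
    refine (show 49 ∣ 63 * 7 by norm_num).trans (Nat.mul_dvd_mul_left 63 ?_)
    rw [← hkcard]
    exact card_dvd_of_le fun x hx => mem_stabilizer_iff.2 (hk0 x hx)
  obtain ⟨s, hs⟩ := IsPGroup.iff_card.1 S.2
  have hsub : ∀ v : V, Nat.card (S : Subgroup Y) =
      Nat.card (orbit (S : Subgroup Y) v) * Nat.card (stabilizer (S : Subgroup Y) v) := fun v => by
    rw [← Nat.card_prod]
    exact Nat.card_congr (orbitProdStabilizerEquivGroup (S : Subgroup Y) v).symm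
  have hstab : ∀ v : V, v ≠ 1 → Nat.card (stabilizer (S : Subgroup Y) v) ≤ 7 := by
    intro v hv
    rw [← card_map_of_injective (S : Subgroup Y).subtype_injective]
    refine card_le_seven hV (S.2.to_le (map_subtype_le _)) hv ?_
    rintro _ ⟨x, hx, rfl⟩
    exact mem_stabilizer_iff.1 hx
  have horbS : ∀ v : V, v ≠ 1 → orbit (S : Subgroup Y) v ⊆ {w : V | w ≠ 1} := by
    rintro v hv _ ⟨x, rfl⟩ h1
    exact hv (smul_left_cancel (x : Y) ((show (x : Y) • v = 1 from h1).trans (smul_one _).symm))
  have hScard : Nat.card (S : Subgroup Y) = 49 := by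
    have hs2 : 2 ≤ s := by
      have h1 := (Sylow.card_eq_multiplicity S).symm.trans hs
      have h2 : 7 ^ 2 ∣ Nat.card Y := h49
      rw [Nat.pow_right_injective (by norm_num : 2 ≤ 7) |>.eq_iff] at h1
      rw [← h1]
      exact ((Nat.prime_iff.1 (Fact.out : Nat.Prime 7)).irreducible |> fun _ =>
        (Nat.Prime.pow_dvd_iff_le_factorization (Fact.out) Nat.card_pos.ne').1 h2)
    rcases eq_or_lt_of_le hs2 with h | h
    · rw [hs, ← h]; norm_num
    exfalso
    have hbig : ∀ v : V, v ≠ 1 → 49 ≤ Nat.card (orbit (S : Subgroup Y) v) := by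
      intro v hv
      have h1 := hsub v
      rw [hs] at h1
      have h3 : 7 ^ 3 ≤ 7 ^ s := Nat.pow_le_pow_right (by norm_num) h
      have h4 := Nat.mul_le_mul_left (Nat.card (orbit (S : Subgroup Y) v)) (hstab v hv)
      omega
    have hall : {w : V | w ≠ 1} ⊆ orbit (S : Subgroup Y) v₀ := fun w hw =>
      orbit_meet hV (by rw [card_ne_one_set hV]; norm_num) (horbS v₀ hv₀) (horbS w hw)
        (hbig v₀ hv₀) (hbig w hw)
    have h5 := Set.ncard_le_ncard hall (Set.toFinite _)
    have h6 := Set.ncard_le_ncard (horbS v₀ hv₀) (Set.toFinite _)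
    simp only [← Nat.card_coe_set_eq, card_ne_one_set hV] at h5 h6
    have h7 : Nat.card (orbit (S : Subgroup Y) v₀) ∣ 7 ^ s := hs ▸ Dvd.intro _ (hsub v₀).symm
    obtain ⟨i, hi, hi'⟩ := (Nat.dvd_prime_pow (Fact.out : Nat.Prime 7)).1 h7
    rw [le_antisymm h6 h5] at hi'
    rcases i with _ | i
    · omega
    · rcases i with _ | i
      · omega
      · have : 49 ∣ 63 := by rw [hi', pow_succ, pow_succ]; exact ⟨7 ^ i, by ring⟩
        omega
  haveI hScomm : IsMulCommutative (S : Subgroup Y) :=
    IsPGroup.isMulCommutative_of_card_eq_prime_sq (p := 7) (hScard.trans (by norm_num))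
  -- the subgroups of order seven with fixed points
  let A : Subgroup Y := zpowers k
  have hseven : ∀ {H : Subgroup Y}, H ≤ S → ∀ {v : V}, v ≠ 1 → v ∈ fixSub H → H ≠ ⊥ →
      Nat.card (fixSub (V := V) H) = 8 ∧ Nat.card H = 7 := by
    intro H hH v hv hvH hH1
    have hp := S.2.to_le hH
    refine ⟨card_fixSub_eq hV hp hH1 hv hvH, le_antisymm (card_le_seven hV hp hv hvH) ?_⟩
    obtain ⟨i, hi⟩ := IsPGroup.iff_card.1 hp
    rcases i with _ | i
    · exact absurd (Subgroup.card_eq_one.1 (by simpa using hi)) hH1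
    · rw [hi]; exact Nat.le_of_dvd (by positivity) (dvd_pow_self 7 (Nat.succ_ne_zero i))
  have hdisj : ∀ {H K : Subgroup Y}, H ≤ S → K ≤ S → Nat.card H = 7 → Nat.card K = 7 →
      ∀ {v : V}, v ≠ 1 → v ∈ fixSub H → v ∈ fixSub K → H = K := by
    intro H K hH hK cH cK v hv h1 h2
    have h3 : H ⊔ K ≤ stabilizer Y v :=
      sup_le (fun x hx => mem_stabilizer_iff.2 (h1 x hx)) fun x hx => mem_stabilizer_iff.2 (h2 x hx)
    have h4 : Nat.card ↥(H ⊔ K) ≤ 7 := card_le_seven hV (S.2.to_le (sup_le hH hK)) hv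
      fun x hx => mem_stabilizer_iff.1 (h3 hx)
    exact (eq_of_le_of_card_ge le_sup_left (by omega)).trans
      (eq_of_le_of_card_ge le_sup_right (by omega)).symm
  have hA : A ≤ S ∧ Nat.card A = 7 ∧ v₀ ∈ fixSub A := ⟨hS, hkcard, hk0⟩
  obtain ⟨vB, hvB, hvBA, hB1⟩ : ∃ v : V, v ≠ 1 ∧ v ∉ fixSub A ∧
      stabilizer (S : Subgroup Y) v ≠ ⊥ := by
    by_contra hno
    push Not at hno
    set T : Set V := ((fixSub A : Subgroup V) : Set V)ᶜ with hT
    have hFA : Nat.card (fixSub (V := V) A) = 8 :=
      card_fixSub_eq hV hkp (fun h1 => by rw [← Subgroup.card_eq_one] at h1; omega) hv₀ hk0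
    have hTc : Nat.card T = 56 := by
      rw [hT, Nat.card_coe_set_eq, Set.ncard_compl, hV, ← Nat.card_coe_set_eq]
      show 2 ^ 6 - Nat.card (fixSub (V := V) A) = 56
      rw [hFA]; norm_num
    have hinT : ∀ v ∈ T, orbit (S : Subgroup Y) v ⊆ T ∧ Nat.card (orbit (S : Subgroup Y) v) = 49 := by
      intro v hv
      have hv1 : v ≠ 1 := fun h1 => hv (h1 ▸ one_mem _)
      refine ⟨?_, ?_⟩
      · rintro _ ⟨x, rfl⟩ hx
        refine hv fun a ha => smul_left_cancel (x : Y) ?_
        have hc : (x : Y) * a = a * x :=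
          congrArg Subtype.val (hScomm.is_comm.comm x ⟨a, hS ha⟩)
        have h1 : a • ((x : Y) • v) = (x : Y) • v := hx a ha
        rw [← mul_smul, hc, mul_smul, h1]
      · have h1 := hsub v
        rw [hno v hv1 hv, Subgroup.card_bot, mul_one, hScard] at h1
        exact h1.symm
    obtain ⟨u, hu⟩ : T.Nonempty :=
      (Set.ncard_pos (Set.toFinite _)).1 (by rw [← Nat.card_coe_set_eq, hTc]; norm_num)
    have hall : T ⊆ orbit (S : Subgroup Y) u := fun w hw =>
      orbit_meet hV (by rw [hTc]; norm_num) (hinT u hu).1 (hinT w hw).1 (hinT u hu).2.ge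
        (hinT w hw).2.ge
    have := Set.ncard_le_ncard hall (Set.toFinite _)
    rw [← Nat.card_coe_set_eq, ← Nat.card_coe_set_eq, hTc, (hinT u hu).2] at this
    omega
  set B : Subgroup Y := (stabilizer (S : Subgroup Y) vB).map (S : Subgroup Y).subtype with hBdef
  have hBS : B ≤ S := map_subtype_le _
  have hvB' : vB ∈ fixSub B := by
    rintro _ ⟨x, hx, rfl⟩
    exact mem_stabilizer_iff.1 hx
  obtain ⟨hFB, hB7⟩ := hseven hBS hvB hvB' fun h1 =>
    hB1 ((map_eq_bot_iff_of_injective _ (S : Subgroup Y).subtype_injective).1 h1)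
  have hAB : A ≠ B := fun h1 => hvBA (h1 ▸ hvB')
  -- no third
  have hthird : ∀ C : Subgroup Y, C ≤ S → Nat.card C = 7 → ∀ v : V, v ≠ 1 → v ∈ fixSub C →
      C = A ∨ C = B := by
    intro C hC cC v hv hvC
    by_contra hne
    push Not at hne
    -- every point has a non-trivial stabilizer
    have hfree : ∀ w : V, w ≠ 1 → stabilizer (S : Subgroup Y) w ≠ ⊥ := by
      intro w hw hbot
      let FA : Set V := ((fixSub A : Subgroup V) : Set V) \ {1}
      let FB : Set V := ((fixSub B : Subgroup V) : Set V) \ {1}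
      let FC : Set V := ((fixSub C : Subgroup V) : Set V) \ {1}
      have hc : ∀ {H : Subgroup Y}, Nat.card (fixSub (V := V) H) = 8 →
          (((fixSub H : Subgroup V) : Set V) \ {1}).ncard = 7 := by
        intro H hH
        rw [Set.ncard_sdiff_singleton_of_mem (one_mem _), ← Nat.card_coe_set_eq]
        show Nat.card (fixSub (V := V) H) - 1 = 7
        omega
      have hd : ∀ {H K : Subgroup Y}, H ≤ S → K ≤ S → Nat.card H = 7 → Nat.card K = 7 → H ≠ K →
          Disjoint (((fixSub H : Subgroup V) : Set V) \ {1}) (((fixSub K : Subgroup V) : Set V) \ {1}) :=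
        fun hH hK cH cK hne => Set.disjoint_left.2 fun z hz hz' =>
          hne (hdisj hH hK cH cK hz.2 hz.1 hz'.1)
      have hnotin : ∀ {H : Subgroup Y}, H ≤ S → Nat.card H = 7 → ∀ z ∈ orbit (S : Subgroup Y) w,
          z ∉ fixSub H := by
        rintro H hH cH _ ⟨x, rfl⟩ hz
        have hne : H ≠ ⊥ := fun h1 => by rw [h1, Subgroup.card_bot] at cH; omega
        obtain ⟨a, ha, ha1⟩ := (Subgroup.bot_or_exists_ne_one H).resolve_left hne
        have hc : a * (x : Y) = (x : Y) * a :=
          congrArg Subtype.val (hScomm.is_comm.comm (⟨a, hH ha⟩ : (S : Subgroup Y)) x)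
        have h1 : a • ((x : Y) • w) = (x : Y) • w := hz a ha
        rw [← mul_smul, hc, mul_smul] at h1
        have h2 : (⟨a, hH ha⟩ : (S : Subgroup Y)) ∈ stabilizer (S : Subgroup Y) w :=
          mem_stabilizer_iff.2 (smul_left_cancel _ h1)
        rw [hbot, Subgroup.mem_bot] at h2
        exact ha1 (congrArg Subtype.val h2)
      have hO : (orbit (S : Subgroup Y) w).ncard = 49 := by
        have h1 := hsub w
        rw [hbot, Subgroup.card_bot, mul_one, hScard] at h1
        rw [← Nat.card_coe_set_eq, h1.symm]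
      have hdO : ∀ {H : Subgroup Y}, H ≤ S → Nat.card H = 7 →
          Disjoint (orbit (S : Subgroup Y) w) (((fixSub H : Subgroup V) : Set V) \ {1}) :=
        fun hH cH => Set.disjoint_left.2 fun z hz hz' => hnotin hH cH z hz hz'.1
      have hsubs : orbit (S : Subgroup Y) w ∪ FA ∪ FB ∪ FC ⊆ {z : V | z ≠ 1} := by
        rintro z (((hz | hz) | hz) | hz)
        · exact horbS w hw hz
        all_goals exact hz.2
      have hle := Set.ncard_le_ncard hsubs (Set.toFinite _)
      rw [← Nat.card_coe_set_eq {z : V | z ≠ 1}, card_ne_one_set hV,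
        Set.ncard_union_eq (Disjoint.union_left (Disjoint.union_left (hdO hC cC)
          (hd hA.1 hC hA.2.1 cC hne.1.symm)) (hd hBS hC hB7 cC hne.2.symm)),
        Set.ncard_union_eq (Disjoint.union_left (hdO hBS hB7) (hd hA.1 hBS hA.2.1 hB7 hAB)),
        Set.ncard_union_eq (hdO hA.1 hA.2.1), hO,
        hc (hseven hA.1 hv₀ hA.2.2 (fun h1 => by have h2 := hA.2.1; rw [h1, Subgroup.card_bot] at h2; omega)).1,
        hc hFB, hc (hseven hC hv hvC (fun h1 => by rw [h1, Subgroup.card_bot] at cC; omega)).1] at hle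
      omega
    -- count the pairs of an element and a fixed point
    haveI := Fintype.ofFinite V
    haveI := Fintype.ofFinite (S : Subgroup Y)
    let P : Finset (↥(S : Subgroup Y) × V) :=
      Finset.univ.filter fun x => x.1 ≠ 1 ∧ x.2 ≠ 1 ∧ x.1 • x.2 = x.2
    have hlo : 6 * 63 ≤ P.card := by
      have h1 : ∀ w ∈ (Finset.univ.filter fun w : V => w ≠ 1),
          6 ≤ (P.filter fun x => x.2 = w).card := by
        intro w hw
        have hw1 : w ≠ 1 := (Finset.mem_filter.1 hw).2
        obtain ⟨-, h7⟩ := hseven (H := (stabilizer (S : Subgroup Y) w).map (S : Subgroup Y).subtype)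
          (map_subtype_le _) hw1 (by rintro _ ⟨x, hx, rfl⟩; exact mem_stabilizer_iff.1 hx)
          (fun h1 => hfree w hw1
            ((map_eq_bot_iff_of_injective _ (S : Subgroup Y).subtype_injective).1 h1))
        rw [card_map_of_injective (S : Subgroup Y).subtype_injective, Nat.card_eq_fintype_card,
          ← Finset.card_univ] at h7
        have h8 : ((Finset.univ : Finset (stabilizer (S : Subgroup Y) w)).erase 1).card = 6 := by
          rw [Finset.card_erase_of_mem (Finset.mem_univ _), h7]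
        rw [← h8]
        refine Finset.card_le_card_of_injOn (fun x => ((x : (S : Subgroup Y)), w)) (fun x hx => ?_)
          fun x _ y _ h => Subtype.ext (congrArg Prod.fst h)
        simp only [Finset.coe_filter, Set.mem_ofPred_eq, P, Finset.mem_filter, Finset.mem_univ,
          true_and, and_true]
        exact ⟨fun h => (Finset.mem_erase.1 hx).1 (Subtype.ext h), hw1, mem_stabilizer_iff.1 x.2⟩
      have h63 : (Finset.univ.filter fun w : V => w ≠ 1).card = 63 := by
        rw [← card_ne_one_set hV, Nat.card_eq_fintype_card, Fintype.card_subtype]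
        congr 1
      rw [← h63, mul_comm, ← smul_eq_mul, ← Finset.sum_const]
      calc ∑ _x ∈ Finset.univ.filter (fun w : V => w ≠ 1), 6
          ≤ ∑ w ∈ Finset.univ.filter (fun w : V => w ≠ 1), (P.filter fun x => x.2 = w).card :=
            Finset.sum_le_sum h1
        _ ≤ P.card := by
          rw [Finset.card_eq_sum_card_fiberwise (s := P) (t := Finset.univ.filter fun w : V => w ≠ 1)
            (f := Prod.snd) (fun x hx => by
              simp only [Finset.coe_filter, Set.mem_ofPred_eq, Finset.mem_univ, true_and]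
              exact (Finset.mem_filter.1 hx).2.2.1)]
    have hhi : P.card ≤ 48 * 7 := by
      have h48 : (Finset.univ.erase (1 : (S : Subgroup Y))).card = 48 := by
        rw [Finset.card_erase_of_mem (Finset.mem_univ _), Finset.card_univ,
          ← Nat.card_eq_fintype_card, hScard]
      rw [← h48, mul_comm, Finset.card_eq_sum_card_fiberwise (s := P)
        (t := Finset.univ.erase (1 : (S : Subgroup Y))) (f := Prod.fst) (fun x hx => by
          simp only [Finset.coe_erase, Finset.coe_univ, Set.mem_sdiff, Set.mem_univ, true_and,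
            Set.mem_singleton_iff]
          exact (Finset.mem_filter.1 hx).2.1)]
      rw [mul_comm, ← smul_eq_mul, ← Finset.sum_const]
      refine Finset.sum_le_sum fun x hx => ?_
      have hxp : IsPGroup 7 (zpowers (x : Y)) := S.2.to_le (zpowers_le.2 x.2)
      have hx1 : zpowers (x : Y) ≠ ⊥ := fun h1 =>
        (Finset.mem_erase.1 hx).1 (Subtype.ext (zpowers_eq_bot.1 h1))
      have h8 : ((Finset.univ.filter fun w : V => w ∈ fixSub (zpowers (x : Y))).erase 1).card ≤ 7 := by
        rw [Finset.card_erase_of_mem (by simp [one_mem]), ← Fintype.card_subtype,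
          ← Nat.card_eq_fintype_card]
        rcases card_fixSub hV hxp with h | h | h
        · omega
        · omega
        · exfalso
          have htop : fixSub (V := V) (zpowers (x : Y)) = ⊤ :=
            Subgroup.eq_top_of_card_eq _ (h.trans (by rw [hV]; norm_num))
          exact hx1 (zpowers_eq_bot.2 (eq_of_smul_eq_smul (α := V) fun w => by
            rw [one_smul]
            exact (htop ▸ mem_top w : w ∈ fixSub (zpowers (x : Y))) x (mem_zpowers _)))
      refine le_trans (Finset.card_le_card_of_injOn Prod.snd (fun y hy => ?_) ?_) h8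
      · obtain ⟨hyP, hyx⟩ := Finset.mem_filter.1 hy
        obtain ⟨-, -, hy2, hy3⟩ := Finset.mem_filter.1 hyP
        refine Finset.mem_erase.2 ⟨hy2, Finset.mem_filter.2 ⟨Finset.mem_univ _, ?_⟩⟩
        intro z hz
        exact (zpowers_le.2 (mem_stabilizer_iff.2 (hyx ▸ hy3 : (x : Y) • y.2 = y.2)) hz :
          z ∈ stabilizer Y y.2)
      · intro y hy z hz h
        exact Prod.ext ((Finset.mem_filter.1 hy).2.trans (Finset.mem_filter.1 hz).2.symm) h
    omega
  -- the normalizer interchanges the two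
  obtain ⟨y, hy⟩ := htr v₀ vB hv₀ hvB
  set B' : Subgroup Y := A.map (MulAut.conj y).toMonoidHom with hB'
  have hB'w : B' ≤ stabilizer Y vB := fun x hx =>
    mem_stabilizer_iff.2 ((hy ▸ fixSub_map_conj (g := y) hk0) x hx)
  have hB'7 : Nat.card B' = 7 := by
    rw [hB', card_map_of_injective (MulAut.conj y).injective]; exact hkcard
  have hBw : B ≤ stabilizer Y vB := fun x hx => mem_stabilizer_iff.2 (hvB' x hx)
  have hB'p : IsPGroup 7 B' := IsPGroup.of_card (n := 1) (by rw [hB'7, pow_one])
  have hBp : IsPGroup 7 B := IsPGroup.of_card (n := 1) (by rw [hB7, pow_one])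
  obtain ⟨P', hP'⟩ := (hB'p.comap_subtype (K := stabilizer Y vB)).exists_le_sylow
  obtain ⟨P, hP⟩ := (hBp.comap_subtype (K := stabilizer Y vB)).exists_le_sylow
  obtain ⟨z, hz⟩ := exists_smul_eq (stabilizer Y vB) P' P
  -- Sylow subgroups of the stabilizer have order seven
  have hPle : ∀ Q : Sylow 7 (stabilizer Y vB), Nat.card (Q : Subgroup (stabilizer Y vB)) ≤ 7 := by
    intro Q
    rw [← card_map_of_injective (stabilizer Y vB).subtype_injective]
    refine card_le_seven hV (Q.2.map _) hvB ?_
    rintro _ ⟨x, -, rfl⟩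
    exact mem_stabilizer_iff.1 x.2
  have hPeq : ∀ (Q : Sylow 7 (stabilizer Y vB)) (H : Subgroup Y), H ≤ stabilizer Y vB →
      Nat.card H = 7 → H.subgroupOf (stabilizer Y vB) ≤ Q →
      (Q : Subgroup (stabilizer Y vB)).map (stabilizer Y vB).subtype = H := by
    intro Q H hH cH hHQ
    have h1 : H.subgroupOf (stabilizer Y vB) = Q :=
      eq_of_le_of_card_ge hHQ (by
        rw [Nat.card_congr (subgroupOfEquivOfLe hH).toEquiv, cH]; exact hPle Q)
    rw [← h1, subgroupOf_map_subtype, inf_eq_left.2 hH]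
  have e1 := hPeq P' B' hB'w hB'7 hP'
  have e2 := hPeq P B hBw hB7 hP
  set g₀ : Y := (z : Y) * y with hg₀
  have hg0k : g₀ * k * g₀⁻¹ ∈ B := by
    have h1 : y * k * y⁻¹ ∈ B' := ⟨k, mem_zpowers k, rfl⟩
    rw [← e1] at h1
    obtain ⟨x, hx, hxy⟩ := h1
    rw [← e2, ← hz]
    refine ⟨z * x * z⁻¹, ?_, ?_⟩
    · exact ⟨x, hx, rfl⟩
    · show ((z * x * z⁻¹ : stabilizer Y vB) : Y) = g₀ * k * g₀⁻¹
      have hxy' : (x : Y) = y * k * y⁻¹ := hxy
      rw [hg₀]; push_cast; rw [hxy']; group
  have hkc : k ∈ centralizer ((S : Subgroup Y) : Set Y) := fun x hx =>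
    congrArg Subtype.val (hScomm.is_comm.comm ⟨x, hx⟩ ⟨k, hS (mem_zpowers k)⟩)
  have hgkc : g₀⁻¹⁻¹ * k * g₀⁻¹ ∈ centralizer ((S : Subgroup Y) : Set Y) := fun x hx => by
    rw [inv_inv]
    exact congrArg Subtype.val (hScomm.is_comm.comm ⟨x, hx⟩ ⟨_, hBS hg0k⟩)
  obtain ⟨n, hn, hnk⟩ := Sylow.conj_eq_normalizer_conj_of_mem_centralizer S k g₀⁻¹ hkc hgkc
  rw [inv_inv] at hnk
  set g : Y := n⁻¹ with hg
  have hgN : g ∈ normalizer ((S : Subgroup Y) : Set Y) := inv_mem hn
  have hgA : A.map (MulAut.conj g).toMonoidHom = B := by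
    refine eq_of_le_of_card_ge ?_ (by
      rw [hB7, Nat.card_congr (A.equivMapOfInjective (MulAut.conj g).toMonoidHom (MulAut.conj g).injective).symm.toEquiv, hA.2.1])
    rw [MonoidHom.map_zpowers, zpowers_le]
    show g * k * g⁻¹ ∈ B
    rw [hg, inv_inv, ← hnk]
    exact hg0k
  have hmapS : ∀ {H : Subgroup Y}, H ≤ S → H.map (MulAut.conj g).toMonoidHom ≤ S := by
    rintro H hH _ ⟨x, hx, rfl⟩
    exact (Subgroup.mem_normalizer_iff.1 hgN x).1 (hH hx)
  have hgB : B.map (MulAut.conj g).toMonoidHom = A := by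
    rcases hthird (B.map (MulAut.conj g).toMonoidHom) (hmapS hBS)
      (by rw [card_map_of_injective (MulAut.conj g).injective, hB7]) (g • vB)
      (fun h1 => hvB (smul_left_cancel g (h1.trans (smul_one g).symm))) (fixSub_map_conj hvB')
      with h | h
    · exact h
    · exact absurd (Subgroup.map_injective (MulAut.conj g).injective (hgA.trans h.symm)) hAB
  have hg2 : A.map (MulAut.conj (g ^ 2)).toMonoidHom = A := by
    conv_rhs => rw [← hgB, ← hgA]
    rw [Subgroup.map_map, pow_two, map_mul]
    rfl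
  obtain ⟨l, hl⟩ := Odd.of_dvd_nat hodd (orderOf_dvd_natCard g)
  have hpow : ∀ i : ℕ, A.map (MulAut.conj ((g ^ 2) ^ i)).toMonoidHom = A := by
    intro i
    induction i with
    | zero => rw [pow_zero, map_one]; exact Subgroup.map_id A
    | succ i ih =>
      conv_rhs => rw [← hg2]
      conv_rhs => rw [← ih]
      rw [Subgroup.map_map, pow_succ', map_mul]
      rfl
  refine hAB ?_
  have h1 := hpow (l + 1)
  rw [← pow_mul, show 2 * (l + 1) = orderOf g + 1 by omega, pow_succ, pow_orderOf_eq_one, one_mul,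
    hgA] at h1
  exact h1.symm

end Cfsg.Agent.OddTranspX.Seven
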