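import Cfsg.Agent.Lib.OddTranspX.Weak
import Cfsg.Agent.Lib.OddTranspX.Seven
import Cfsg.Agent.Lib.CharP.Zsigmondy

/-!
# Fine primes act fixed point freely or trivially on a class

For a fine prime `p` an element of `p`-power order fixing two classes and commuting with one member
of the first centralizes the first.
-/

set_option autoImplicit false
set_option linter.style.haveILetI false
set_option linter.unusedSectionVars false

namespace Cfsg.Agent.OddTranspX

open Subgroup MulAction

universe u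

variable {G : Type u} [Group G] [Finite G] {D : Set G}

theorem Fine.prime {p n : ℕ} (hp : Fine p n) : p.Prime := by
  rcases hp with h | ⟨rfl, -⟩
  · exact h.1
  · decide

theorem Fine.dvd {p n : ℕ} (hp : Fine p n) : p ∣ 2 ^ n - 1 := by
  rcases hp with h | ⟨rfl, rfl⟩
  · exact h.2.1
  · norm_num

theorem Fine.odd {p n : ℕ} (hp : Fine p n) (hn : 1 ≤ n) : Odd p := by
  refine hp.prime.odd_of_ne_two fun h2 => ?_
  have h1 := hp.dvd
  rw [h2] at h1
  have h3 : 2 ∣ 2 ^ n := dvd_pow_self 2 (by omega)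
  have h4 := Nat.one_le_two_pow (n := n)
  omega

theorem exists_fine {n : ℕ} (hn : 2 ≤ n) : ∃ p, Fine p n := by
  by_cases h6 : n = 6
  · exact ⟨7, Or.inr ⟨rfl, h6⟩⟩
  by_cases h2 : n = 2
  · subst h2
    refine ⟨3, Or.inl ⟨by decide, by norm_num, fun j hj hj2 => ?_⟩⟩
    interval_cases j
    norm_num
  obtain ⟨r, hr, hrd, hpr⟩ := Cfsg.Agent.CharP.Zsigmondy.zsigmondy (a := 2) (n := n) (by norm_num) (by omega)
    (fun h => h6 h.2) (fun h => h2 h.1)
  exact ⟨r, Or.inl ⟨hr, hrd, hpr⟩⟩

omit [Finite G] in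
/-- A subgroup normalizing an odd one generates an odd group with it when it is odd. -/
theorem odd_sup [Finite G] {T R : Subgroup G} (hT : Odd (Nat.card T)) (hR : Odd (Nat.card R))
    (hn : R ≤ normalizer (T : Set G)) : Odd (Nat.card ↥(R ⊔ T)) := by
  letI := Subgroup.normal_subgroupOf_of_le_normalizer hn
  letI := Subgroup.normal_subgroupOf_sup_of_le_normalizer hn
  rw [← Subgroup.card_mul_index (T.subgroupOf (R ⊔ T)),
    Nat.card_congr (subgroupOfEquivOfLe (le_sup_right : T ≤ R ⊔ T)).toEquiv, Subgroup.index_eq_card]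
  refine hT.mul ?_
  rw [← Nat.card_congr (QuotientGroup.quotientInfEquivProdNormalizerQuotient R T hn).toEquiv]
  exact Odd.of_dvd_nat hR (card_quotient_dvd_card _)

variable (h : ClassGroups D)

/-- The action of the stabilizer of a class on its group. -/
@[reducible] def ClassGroups.grpAction (E : h.Pt) {L : Subgroup G}
    (hL : ∀ g ∈ L, g • E = E) : MulDistribMulAction L (h.grp E) where
  smul g v := ⟨(g : G) * v * (g : G)⁻¹, h.grp_conj_fix (hL g g.2) v.2⟩
  one_smul v := Subtype.ext (show (1 : G) * v * (1 : G)⁻¹ = v by group)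
  mul_smul a b v := Subtype.ext
    (show (a * b : G) * v * (a * b : G)⁻¹ = a * (b * v * (b : G)⁻¹) * (a : G)⁻¹ by group)
  smul_one g := Subtype.ext (show (g : G) * 1 * (g : G)⁻¹ = 1 by group)
  smul_mul g v w := Subtype.ext
    (show (g : G) * (v * w) * (g : G)⁻¹ = g * v * (g : G)⁻¹ * (g * w * (g : G)⁻¹) by group)

/-- Conjugation by the stabilizer of two classes preserves the odd group of their swappers. -/
theorem ClassGroups.torus_normalize {E X : h.Pt} {g : G} (hgE : g • E = E) (hgX : g • X = X) :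
    g ∈ normalizer (h.torus E X : Set G) := by
  have key : ∀ g : G, g • E = E → g • X = X → ∀ y ∈ h.torus E X, g * y * g⁻¹ ∈ h.torus E X := by
    intro g hgE hgX y hy
    have hle : h.torus E X ≤ (h.torus E X).comap (MulAut.conj g).toMonoidHom := by
      conv_lhs => rw [ClassGroups.torus]
      rw [closure_le]
      rintro _ ⟨a, ha, b, hb, rfl⟩
      refine subset_closure ⟨g * a * g⁻¹, h.swapper_conj hgE hgX ha, g * b * g⁻¹,
        h.swapper_conj hgE hgX hb, ?_⟩
      show g * (a * b) * g⁻¹ = g * a * g⁻¹ * (g * b * g⁻¹)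
      group
    exact hle hy
  refine Subgroup.mem_normalizer_iff.2 fun y => ⟨fun hy => key g hgE hgX y hy, fun hy => ?_⟩
  have := key g⁻¹ (inv_smul_eq_iff.2 hgE.symm) (inv_smul_eq_iff.2 hgX.symm) _ hy
  rwa [show g⁻¹ * (g * y * g⁻¹) * g⁻¹⁻¹ = y by group] at this

/-- For a fine prime an element of `p`-power order fixing two classes and commuting with a member
of the first centralizes the first. -/
theorem ClassGroups.centralize_grp {n p : ℕ} (hn : ∀ E : h.Pt, Nat.card (h.grp E) = 2 ^ n)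
    (hp : Fine p n) {E X : h.Pt} (hEX : E ≠ X) {k : G} (hkE : k • E = E) (hkX : k • X = X) {j : ℕ}
    (hk : orderOf k = p ^ j) {a : G} (ha : a ∈ h.grp E) (ha1 : a ≠ 1) (hka : Commute k a)
    {v : G} (hv : v ∈ h.grp E) : Commute k v := by
  haveI : Fact p.Prime := ⟨hp.prime⟩
  rcases hp with ⟨hpp, hpd, hprim⟩ | ⟨rfl, rfl⟩
  · have hz : ∀ g ∈ zpowers k, g • E = E := fun g hg =>
      (zpowers_le.2 (mem_stabilizer_iff.2 hkE) hg : g ∈ stabilizer G E)
    letI := h.grpAction E hz
    have hzp : IsPGroup p (zpowers k) := IsPGroup.of_card (n := j) (by rw [Nat.card_zpowers, hk])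
    have hfix : Nat.card (fixedPoints (zpowers k) (h.grp E)) =
        Nat.card ↥(h.grp E ⊓ centralizer {k}) := by
      refine Nat.card_congr
        { toFun := fun v => ⟨v.1, v.1.2, mem_centralizer_singleton_iff.2 ?_⟩
          invFun := fun v => ⟨⟨v.1, v.2.1⟩, fun g => Subtype.ext ?_⟩
          left_inv := fun _ => rfl
          right_inv := fun _ => rfl }
      · have h1 : k * (v.1 : G) * k⁻¹ = v.1 := congrArg Subtype.val (v.2 ⟨k, mem_zpowers k⟩)
        exact (mul_inv_eq_iff_eq_mul.1 h1).symm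
      · obtain ⟨i, hi⟩ := mem_zpowers_iff.1 g.2
        have hc : Commute k v.1 := (mem_centralizer_singleton_iff.1 v.2.2).symm
        show (g : G) * v.1 * (g : G)⁻¹ = v.1
        rw [← hi, (hc.zpow_left i).eq, mul_inv_cancel_right]
    have hmod := hzp.card_modEq_card_fixedPoints (h.grp E)
    rw [hfix, hn E] at hmod
    obtain ⟨i, hin, hi⟩ := (Nat.dvd_prime_pow Nat.prime_two).1
      (hn E ▸ card_dvd_of_le (inf_le_left : h.grp E ⊓ centralizer {k} ≤ h.grp E))
    rw [hi] at hmod
    have hi0 : i ≠ 0 := by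
      rintro rfl
      rw [pow_zero, Subgroup.card_eq_one] at hi
      have hmem : a ∈ h.grp E ⊓ centralizer {k} := ⟨ha, mem_centralizer_singleton_iff.2 hka.symm.eq⟩
      rw [hi, Subgroup.mem_bot] at hmem
      exact ha1 hmem
    have hle : 2 ^ i ≤ 2 ^ n := Nat.pow_le_pow_right (by norm_num) hin
    have hd : p ∣ 2 ^ i * (2 ^ (n - i) - 1) := by
      rw [Nat.mul_sub, mul_one, ← pow_add, Nat.add_sub_cancel' hin]
      exact (Nat.modEq_iff_dvd' hle).1 hmod.symm
    rcases hpp.dvd_mul.1 hd with h2 | h2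
    · exfalso
      rw [(Nat.prime_dvd_prime_iff_eq hpp Nat.prime_two).1 (hpp.dvd_of_dvd_pow h2)] at hpd
      have := dvd_pow_self 2 (show n ≠ 0 by omega)
      have := Nat.one_le_two_pow (n := n)
      omega
    · have hni : i = n := by
        by_contra hne
        exact hprim (n - i) (by omega) (by omega) h2
      have htop : h.grp E ⊓ centralizer {k} = h.grp E :=
        eq_of_le_of_card_ge inf_le_left (by rw [hi, hn E, hni])
      have hv' : v ∈ h.grp E ⊓ centralizer {k} := htop.symm ▸ hv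
      exact (mem_centralizer_singleton_iff.1 hv'.2).symm
  · set L : Subgroup G := zpowers k ⊔ h.torus E X with hL
    have hLE : ∀ g ∈ L, g • E = E := fun g hg =>
      (sup_le (zpowers_le.2 (mem_stabilizer_iff.2 hkE))
        (fun x hx => mem_stabilizer_iff.2 (h.torus_fix hx).1) hg : g ∈ stabilizer G E)
    letI := h.grpAction E hLE
    let φ : L →* MulAut (h.grp E) := MulDistribMulAction.toMulAut L (h.grp E)
    have hodd : Odd (Nat.card φ.range) := by
      refine Odd.of_dvd_nat ?_ (card_range_dvd φ)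
      exact odd_sup (h.torus_odd hEX) (by rw [Nat.card_zpowers, hk]; exact (by decide : Odd 7).pow)
        (zpowers_le.2 (h.torus_normalize hkE hkX))
    have htr : ∀ x y : h.grp E, x ≠ 1 → y ≠ 1 → ∃ g : φ.range, g • x = y := by
      intro x y hx hy
      obtain ⟨hxD, hxE⟩ := x.2.resolve_left fun h1 => hx (Subtype.ext h1)
      obtain ⟨hyD, hyE⟩ := y.2.resolve_left fun h1 => hy (Subtype.ext h1)
      obtain ⟨b, hb, hbX⟩ := h.exists_pt X
      obtain ⟨m, hm, hma⟩ := h.exists_swapper hxE hbX hEX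
      obtain ⟨m', hm', hma'⟩ := h.exists_swapper hyE hbX hEX
      have hg : m' * m ∈ L := mem_sup_right (subset_closure ⟨m', hm', m, hm, rfl⟩)
      refine ⟨⟨φ ⟨m' * m, hg⟩, ⟨_, rfl⟩⟩, Subtype.ext ?_⟩
      show m' * m * (x : G) * (m' * m)⁻¹ = y
      rw [mul_inv_rev, h.toOT.inv hm.1, h.toOT.inv hm'.1]
      calc m' * m * (x : G) * (m * m') = m' * (m * x * m) * m' := by group
        _ = y := by rw [hma, ← hma', GenA.OddTransp.conj_conj (h.sq hm'.1)]
    obtain ⟨hkj, hkd⟩ : ∃ i, orderOf (φ ⟨k, mem_sup_left (mem_zpowers k)⟩) = 7 ^ i := by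
      have h1 := orderOf_map_dvd φ ⟨k, mem_sup_left (mem_zpowers k)⟩
      rw [Subgroup.orderOf_mk, hk] at h1
      obtain ⟨i, -, hi⟩ := (Nat.dvd_prime_pow (by decide : Nat.Prime 7)).1 h1
      exact ⟨i, hi⟩
    have hone := Seven.eq_one_of_fix (V := h.grp E) (Y := φ.range) (hn E) hodd htr
      (k := ⟨φ ⟨k, mem_sup_left (mem_zpowers k)⟩, ⟨_, rfl⟩⟩) (j := hkj)
      ((Subgroup.orderOf_coe _).symm.trans hkd) (v₀ := ⟨a, ha⟩) (fun h1 => ha1 (congrArg Subtype.val h1))
      (Subtype.ext (by show k * a * k⁻¹ = a; rw [hka.eq, mul_inv_cancel_right]))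
    have h2 : k * v * k⁻¹ = v := by
      have h3 : φ ⟨k, mem_sup_left (mem_zpowers k)⟩ = 1 := congrArg Subtype.val hone
      exact congrArg (fun f : MulAut (h.grp E) => ((f ⟨v, hv⟩ : h.grp E) : G)) h3
    exact mul_inv_eq_iff_eq_mul.1 h2

end Cfsg.Agent.OddTranspX
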