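import Cfsg.Agent.Lib.OddTranspX.PLemmas

/-!
# Members inverting an element of fine prime order exchange any two classes it fixes

Given that elements of `p`-power order centralizing one of two classes they fix centralize the other,
an element of order `p` inverted by some member is inverted by a member exchanging any two classes
that it fixes; so, by the absence of triangles, it fixes no three classes.
-/

set_option autoImplicit false
set_option linter.unusedSectionVars false

namespace Cfsg.Agent.OddTranspX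

open Subgroup MulAction
open scoped Pointwise

universe u

variable {G : Type u} [Group G] [Finite G] {D : Set G}

/-- The members inverting an element. -/
def inverters (D : Set G) (y : G) : Set G := {g | g ∈ D ∧ g * y * g = y⁻¹}

namespace ClassGroups

variable (h : ClassGroups D)

include h in
theorem inverter_conj_inv {y g : G} (hg : g ∈ inverters D y) : g * y⁻¹ * g = y := by
  have h1 := congrArg Inv.inv hg.2
  rwa [inv_inv, mul_inv_rev, mul_inv_rev, h.toOT.inv hg.1, ← mul_assoc] at h1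

include h in
theorem inverters_closed {y : G} :
    ∀ a ∈ inverters D y, ∀ b ∈ inverters D y, a * b * a ∈ inverters D y := by
  intro a ha b hb
  refine ⟨h.toOT.conj2 hb.1 (h.sq ha.1), ?_⟩
  calc a * b * a * y * (a * b * a) = a * (b * (a * y * a) * b) * a := by group
    _ = y⁻¹ := by rw [ha.2, h.inverter_conj_inv hb, ha.2]

include h in
theorem inverters_eq {y : G} (hodd : Odd (orderOf y)) (hy : y ≠ 1) :
    ∀ a ∈ inverters D y, ∀ b ∈ inverters D y, Commute a b → a = b := by
  intro a ha b hb hab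
  by_contra hne
  have hD := h.prod a ha.1 b hb.1 hab hne
  have h1 : a * b * y * (b * a) = y := by
    calc a * b * y * (b * a) = a * (b * y * b) * a := by group
      _ = y := by rw [hb.2, h.inverter_conj_inv ha]
  have hc : Commute (a * b) y := by
    have h2 : b * a = (a * b)⁻¹ := by rw [mul_inv_rev, h.toOT.inv ha.1, h.toOT.inv hb.1]
    rw [h2] at h1
    exact mul_inv_eq_iff_eq_mul.1 h1
  have hfix := h.fix_of_commute (h.self_mem_grp hD) (h.toOT.ne_one hD) hc.symm
  have hpt : h.pt (a * b) hD = h.pt a ha.1 :=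
    h.pt_eq_iff.2 ((Commute.refl a).mul_left hab.symm)
  rw [hpt] at hfix
  exact hy (h.eq_one_of_inverted ha.1 hodd ha.2 hfix)

include h in
theorem inverters_pt_ne {y : G} (hodd : Odd (orderOf y)) (hy : y ≠ 1) {g : G}
    (hg : g ∈ inverters D y) {E : h.Pt} (hyE : y • E = E) : h.pt g hg.1 ≠ E :=
  fun he => hy (h.eq_one_of_inverted hg.1 hodd hg.2 (by rw [he]; exact hyE))

include h in
/-- Members conjugated by the centralizer of the element still invert it. -/
theorem inverters_cent {y c g : G} (hc : c ∈ centralizer {y}) (hg : g ∈ inverters D y) :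
    c * g * c⁻¹ ∈ inverters D y := by
  have hcy : c⁻¹ * y * c = y := by
    rw [mul_assoc, ← mem_centralizer_singleton_iff.1 hc, inv_mul_cancel_left]
  refine ⟨h.conj g hg.1 c, ?_⟩
  calc c * g * c⁻¹ * y * (c * g * c⁻¹) = c * (g * (c⁻¹ * y * c) * g) * c⁻¹ := by group
    _ = y⁻¹ := by
      rw [hcy, hg.2, ((show Commute c y from mem_centralizer_singleton_iff.1 hc).inv_right).eq,
        mul_inv_cancel_right]

/-- A `p`-group in the centralizer fixing exactly two classes, maximal there, is maximal in the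
centralizer; together with the odd group of the inverters it gives an inverter exchanging them. -/
theorem inverter_of_only {p : ℕ} [Fact p.Prime] (hodd : Odd p) {y m : G} (hy : orderOf y = p)
    (hm : m ∈ inverters D y) {E L : h.Pt} (hEL : E ≠ L) (hyE : y • E = E)
    {A : Subgroup G} (hA : IsPGroup p A) (hAy : A ≤ centralizer {y}) (hAK : A ≤ h.pairStab E L)
    (honly : ∀ L' : h.Pt, (∀ a ∈ A, a • L' = L') → L' = E ∨ L' = L) :
    ∃ g ∈ inverters D y, g • E = L := by
  classical
  have hyodd : Odd (orderOf y) := hy ▸ hodd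
  have hy1 : y ≠ 1 := fun e => (Fact.out : p.Prime).ne_one (by rw [← hy, e, orderOf_one])
  set Cy := centralizer ({y} : Set G) with hCy
  set K0 : Subgroup G := Cy ⊓ h.pairStab E L with hK0
  obtain ⟨S₁, hS₁⟩ := (hA.comap_subtype (K := K0)).exists_le_sylow
  set S : Subgroup G := (S₁ : Subgroup K0).map K0.subtype with hS
  have hSp : IsPGroup p S := S₁.2.map _
  have hAS : A ≤ S := fun a ha => ⟨⟨a, mem_inf.2 ⟨hAy ha, hAK ha⟩⟩, hS₁ ha, rfl⟩
  have hSK : S ≤ K0 := map_subtype_le _
  have honlyS : ∀ L' : h.Pt, (∀ s ∈ S, s • L' = L') → L' = E ∨ L' = L :=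
    fun L' hL' => honly L' fun a ha => hL' a (hAS ha)
  have hfixS : ∀ s ∈ S, s • E = E ∧ s • L = L := fun s hs =>
    ⟨mem_stabilizer_iff.1 (mem_inf.1 (mem_inf.1 (hSK hs)).2).1,
      mem_stabilizer_iff.1 (mem_inf.1 (mem_inf.1 (hSK hs)).2).2⟩
  -- what normalizes `S` permutes the two classes
  have hperm : ∀ g : G, (∀ s ∈ S, g⁻¹ * s * g ∈ S) → ∀ L' : h.Pt, (L' = E ∨ L' = L) →
      g • L' = E ∨ g • L' = L := by
    intro g hg L' hL'
    refine honlyS _ fun s hs => ?_
    have h1 : (g⁻¹ * s * g) • L' = L' := by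
      rcases hL' with rfl | rfl
      · exact (hfixS _ (hg s hs)).1
      · exact (hfixS _ (hg s hs)).2
    rwa [mul_smul, mul_smul, inv_smul_eq_iff] at h1
  have hmax : ∀ Q : Subgroup G, IsPGroup p Q → Q ≤ Cy → S ≤ Q → Q = S := by
    intro Q hQ hQy hSQ
    have hQK : Q ⊓ K0 ≤ S := by
      have h1 : (Q ⊓ K0).subgroupOf K0 = (S₁ : Subgroup K0) :=
        S₁.3 ((hQ.to_le inf_le_left).comap_of_injective K0.subtype K0.subtype_injective)
          fun r hr => mem_subgroupOf.2 ⟨hSQ ⟨r, hr, rfl⟩, r.2⟩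
      intro q hq
      exact ⟨⟨q, hq.2⟩, h1 ▸ (mem_subgroupOf.2 hq : (⟨q, hq.2⟩ : K0) ∈ _), rfl⟩
    refine le_antisymm ?_ hSQ
    have : Group.IsNilpotent Q := hQ.isNilpotent
    have h1 : S.subgroupOf Q = ⊤ := by
      by_contra hne
      have h2 := Group.normalizerCondition_of_isNilpotent (G := Q) (S.subgroupOf Q)
        (lt_top_iff_ne_top.2 hne)
      obtain ⟨g, hg, hg'⟩ := SetLike.exists_of_lt h2
      have hgn : ∀ s ∈ S, (g : G)⁻¹ * s * g ∈ S := fun s hs => by
        have h3 := mem_subgroupOf.1 ((Subgroup.mem_normalizer_iff''.1 hg ⟨s, hSQ hs⟩).1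
          (mem_subgroupOf.2 hs))
        simpa using h3
      have hgE : (g : G) • E = E ∧ (g : G) • L = L := by
        have hgodd : Odd (orderOf (g : G)) := by
          obtain ⟨j, hj⟩ := IsPGroup.iff_orderOf.1 hQ g
          rw [Subgroup.orderOf_coe, hj]; exact hodd.pow
        rcases hperm g hgn E (Or.inl rfl) with e | e
        · refine ⟨e, (hperm g hgn L (Or.inr rfl)).resolve_left fun e' => hEL ?_⟩
          exact smul_left_cancel _ (e.trans e'.symm)
        · exfalso
          have e' : (g : G) • L = E := (hperm g hgn L (Or.inr rfl)).resolve_right fun e' => hEL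
            (smul_left_cancel _ (e.trans e'.symm))
          have h4 : ((g : G) ^ 2) • E = E := by rw [pow_two, mul_smul, e, e']
          obtain ⟨l, hl⟩ := hgodd
          have h5 : ((g : G) ^ 2) ^ (l + 1) = g := by
            rw [← pow_mul, show 2 * (l + 1) = orderOf (g : G) + 1 by omega, pow_succ,
              pow_orderOf_eq_one, one_mul]
          have h6 : (((g : G) ^ 2) ^ (l + 1)) ∈ stabilizer G E :=
            pow_mem (mem_stabilizer_iff.2 h4) _
          rw [h5, mem_stabilizer_iff, e] at h6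
          exact hEL h6.symm
      exact hg' (mem_subgroupOf.2 (hQK (mem_inf.2 ⟨g.2, mem_inf.2 ⟨hQy g.2,
        mem_inf.2 ⟨mem_stabilizer_iff.2 hgE.1, mem_stabilizer_iff.2 hgE.2⟩⟩⟩)))
    exact fun q hq => mem_subgroupOf.1 (h1 ▸ mem_top (⟨q, hq⟩ : Q))
  -- the odd group of the inverters
  set O := pairs (inverters D y) with hO
  have hOy : O ≤ Cy := by
    rw [hO, pairs, closure_le]
    rintro _ ⟨a, ha, b, hb, rfl⟩
    refine mem_centralizer_singleton_iff.2 ?_
    have h1 : b * y = y⁻¹ * b := by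
      have h2 := congrArg (· * b) hb.2
      simp only [mul_assoc, h.sq hb.1, mul_one] at h2
      exact h2
    have h2 : a * y⁻¹ = y * a := by
      have h3 := congrArg (· * a) (h.inverter_conj_inv ha)
      simp only [mul_assoc, h.sq ha.1, mul_one] at h3
      exact h3
    rw [mul_assoc, h1, ← mul_assoc, h2, mul_assoc]
  have hOn : ∀ c : G, (∀ a ∈ inverters D y, c * a * c⁻¹ ∈ inverters D y) →
      ∀ o ∈ O, c * o * c⁻¹ ∈ O := by
    intro c hc o ho
    have hle : O ≤ O.comap (MulAut.conj c).toMonoidHom := by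
      conv_lhs => rw [hO, pairs]
      rw [closure_le]
      rintro _ ⟨a, ha, b, hb, rfl⟩
      refine subset_closure ⟨c * a * c⁻¹, hc a ha, c * b * c⁻¹, hc b hb, ?_⟩
      show c * (a * b) * c⁻¹ = c * a * c⁻¹ * (c * b * c⁻¹)
      group
    exact hle ho
  have hSn : S ≤ normalizer (O : Set G) := fun s hs => by
    have hsy : s ∈ Cy := (mem_inf.1 (hSK hs)).1
    refine Subgroup.mem_normalizer_iff.2 fun o => ⟨fun ho => hOn s (fun a ha => h.inverters_cent hsy ha) o ho,
      fun ho => ?_⟩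
    have h1 := hOn s⁻¹ (fun a ha => h.inverters_cent (inv_mem hsy) ha) _ ho
    rwa [show s⁻¹ * (s * o * s⁻¹) * s⁻¹⁻¹ = o by group] at h1
  set C : Subgroup G := S ⊔ O with hC
  have hCodd : Odd (Nat.card C) := by
    refine odd_sup (h.odd_pairs (fun a ha => ha.1) h.inverters_closed (h.inverters_eq hyodd hy1)) ?_ hSn
    obtain ⟨j, hj⟩ := IsPGroup.iff_card.1 hSp
    rw [hj]; exact hodd.pow
  have hCy : C ≤ Cy := sup_le (fun s hs => (mem_inf.1 (hSK hs)).1) hOy
  have hi := h.toOT.inv hm.1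
  have hmm := h.sq hm.1
  have hCm : ∀ c ∈ C, m * c * m ∈ C := by
    intro c hc
    have hle : C ≤ C.comap (MulAut.conj m).toMonoidHom := by
      refine sup_le (fun s hs => ?_) fun o ho => ?_
      · show m * s * m⁻¹ ∈ C
        have h1 : m * (s * m * s⁻¹) ∈ O :=
          subset_closure ⟨m, hm, _, h.inverters_cent (mem_inf.1 (hSK hs)).1 hm, rfl⟩
        have h2 := mul_mem (mem_sup_right h1 : _ ∈ C) (mem_sup_left hs : s ∈ C)
        rw [hi]
        rwa [show m * (s * m * s⁻¹) * s = m * s * m by group] at h2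
      · exact mem_sup_right (hOn m (fun a ha => by
          rw [hi]; exact h.inverters_closed m hm a ha) o ho)
    have h1 := hle hc
    rw [mem_comap] at h1
    simpa [hi] using h1
  let φ : MulAut C :=
    { toFun := fun g => ⟨m * g * m, hCm g g.2⟩
      invFun := fun g => ⟨m * g * m, hCm g g.2⟩
      left_inv := fun g => Subtype.ext (GenA.OddTransp.conj_conj hmm)
      right_inv := fun g => Subtype.ext (GenA.OddTransp.conj_conj hmm)
      map_mul' := fun a b => Subtype.ext (show m * ((a : G) * b) * m =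
        m * a * m * (m * b * m) by
        rw [show m * (a : G) * m * (m * b * m) = m * a * (m * m) * b * m by group, hmm]
        group) }
  let Syl₀ : Sylow p C :=
    { toSubgroup := S.subgroupOf C
      isPGroup' := hSp.comap_subtype
      is_maximal' := fun {Q} hQ hSQ => by
        have h1 := hmax (Q.map C.subtype) (hQ.map _) ((map_subtype_le _).trans hCy)
          (fun s hs => ⟨⟨s, mem_sup_left hs⟩, hSQ (mem_subgroupOf.2 hs), rfl⟩)
        ext q
        rw [mem_subgroupOf, ← h1]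
        exact ⟨fun hq => ⟨q, hq, rfl⟩, fun ⟨r, hr, e⟩ => (Subtype.ext e : r = q) ▸ hr⟩ }
  obtain ⟨k, hk⟩ := MulAction.exists_smul_eq C (φ • Syl₀) Syl₀
  set g₀ : G := (k : G) * m with hg₀
  have hconj : ∀ s ∈ S, g₀ * s * g₀⁻¹ ∈ S := by
    intro s hs
    have h1 : k * φ ⟨s, mem_sup_left hs⟩ * k⁻¹ ∈ ((k • (φ • Syl₀) : Sylow p C) : Subgroup C) :=
      ⟨φ ⟨s, mem_sup_left hs⟩, ⟨⟨s, mem_sup_left hs⟩, mem_subgroupOf.2 hs, rfl⟩, rfl⟩
    rw [hk] at h1
    have h2 : (k : G) * (m * s * m) * (k : G)⁻¹ ∈ S := mem_subgroupOf.1 h1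
    rw [hg₀, mul_inv_rev, hi]
    rwa [show (k : G) * m * s * (m * (k : G)⁻¹) = (k : G) * (m * s * m) * (k : G)⁻¹ by group]
  have hpow : ∀ i : ℕ, ∀ s ∈ S, g₀ ^ i * s * (g₀ ^ i)⁻¹ ∈ S := by
    intro i
    induction i with
    | zero => intro s hs; simpa using hs
    | succ i ih =>
      intro s hs
      have h1 := hconj _ (ih s hs)
      rwa [show g₀ * (g₀ ^ i * s * (g₀ ^ i)⁻¹) * g₀⁻¹ = g₀ ^ (i + 1) * s * (g₀ ^ (i + 1))⁻¹ by
        rw [pow_succ']; group] at h1
  have hsq : g₀ ^ 2 ∈ C := by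
    rw [pow_two, hg₀, show (k : G) * m * ((k : G) * m) = (k : G) * (m * k * m) by group]
    exact mul_mem k.2 (hCm k k.2)
  set o := orderOf (g₀ ^ 2) with ho
  obtain ⟨l, hl⟩ : Odd o := hCodd.of_dvd_nat (Subgroup.orderOf_dvd_natCard C hsq)
  set g := g₀ ^ o with hg
  have hg2 : g * g = 1 := by
    rw [hg, ← pow_add, show o + o = 2 * o by omega, pow_mul, ho, pow_orderOf_eq_one]
  set c := g * m with hc
  have hcC : c ∈ C := by
    rw [hc, hg, hl, pow_succ, pow_mul, hg₀, mul_assoc, mul_assoc, hmm, mul_one]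
    exact mul_mem (pow_mem hsq l) k.2
  have hgc : g = c * m := by rw [hc, mul_assoc, hmm, mul_one]
  have hcinv : m * c * m = c⁻¹ := by
    rw [hc, mul_inv_rev, hi, ← mul_assoc, mul_assoc (m * g), hmm, mul_one,
      inv_eq_of_mul_eq_one_right hg2]
  have hgD : g ∈ D := by
    rw [hgc]
    exact h.mul_mem_of_inverted hm.1
      (hCodd.of_dvd_nat (Subgroup.orderOf_dvd_natCard C hcC)) hcinv
  have hcy : Commute c y := mem_centralizer_singleton_iff.1 (hCy hcC)
  have hgy : g ∈ inverters D y := by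
    refine ⟨hgD, ?_⟩
    have h1 : g = g⁻¹ := (inv_eq_of_mul_eq_one_right hg2).symm
    calc g * y * g = g * y * g⁻¹ := by rw [← h1]
      _ = c * (m * y * m) * c⁻¹ := by rw [hgc, mul_inv_rev, hi]; group
      _ = y⁻¹ := by rw [hm.2, hcy.inv_right.eq, mul_inv_cancel_right]
  refine ⟨g, hgy, (hperm g (fun s hs => ?_) E (Or.inl rfl)).resolve_left fun e => ?_⟩
  · rw [inv_eq_of_mul_eq_one_right hg2]
    have h1 := hpow o s hs
    rwa [← hg, inv_eq_of_mul_eq_one_right hg2] at h1
  · exact h.inverters_pt_ne hyodd hy1 hgy hyE ((h.smul_eq_iff hgD).1 e).symm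

variable {n p : ℕ} (hW : h.Weak n) (hp : Fine p n) (hB : WeakBelow G)
  (hone : ∀ {E X : h.Pt}, E ≠ X → ∀ {k : G}, (∃ j : ℕ, orderOf k = p ^ j) →
    h.Cent k E → k • X = X → h.Cent k X)

include hW hp hB hone

/-- **A member inverting the element exchanges any two classes it fixes.** -/
theorem exists_inverter {y : G} {E L : h.Pt} {m : G} (hy : orderOf y = p) (hm : m ∈ D)
    (hmy : m * y * m = y⁻¹) (hEL : E ≠ L) (hyE : y • E = E) (hyL : y • L = L)
    (hncent : ¬ h.Cent y E) : ∃ g ∈ D, g * y * g = y⁻¹ ∧ g • E = L := by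
  classical
  have : Fact p.Prime := ⟨hp.prime⟩
  have hodd : Odd p := h.odd_p hW hp
  have hyK : y ∈ h.pairStab E L :=
    mem_inf.2 ⟨mem_stabilizer_iff.2 hyE, mem_stabilizer_iff.2 hyL⟩
  obtain ⟨R, s, hs, hyR', hRK, hRp, hRs⟩ := h.exists_sylow_swapper hW hp hEL
    (P := zpowers y) (IsPGroup.of_card (n := 1) (by rw [Nat.card_zpowers, hy, pow_one]))
    (zpowers_le.2 hyK)
  have hyR : y ∈ R := hyR' (mem_zpowers y)
  have hss := h.sq hs.1
  have hsi := h.toOT.inv hs.1
  set z := s * y * s with hz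
  have hzR : z ∈ R := hRs y hyR
  have hyp : y ^ p = 1 := hy ▸ pow_orderOf_eq_one y
  have hzp : z ^ p = 1 := by
    rw [hz, show s * y * s = s * y * s⁻¹ by rw [hsi], conj_pow, hyp, mul_one, mul_inv_cancel]
  have hRfix : ∀ g ∈ R, g • E = E ∧ g • L = L := fun g hg =>
    ⟨mem_stabilizer_iff.1 (mem_inf.1 (hRK hg)).1, mem_stabilizer_iff.1 (mem_inf.1 (hRK hg)).2⟩
  have hboth : ∀ g ∈ R, h.Cent g E → h.Cent g L := fun g hg hgc =>
    hone hEL (exists_orderOf_eq hRp hg) hgc (hRfix g hg).2
  have hone' : h.Cent 1 E := fun v _ => Commute.one_left v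
  -- the element commutes with its conjugate
  obtain ⟨i, hi⟩ := h.exists_pow_mod hW hp hEL hRp hRK hzR hyR (by rw [hzp]; exact hone')
    (by rw [hyp]; exact hone') hncent
  set k := z * (y ^ i)⁻¹ with hk
  have hkR : k ∈ R := mul_mem hzR (inv_mem (pow_mem hyR i))
  set d := y * z * y⁻¹ * z⁻¹ with hd
  have hdR : d ∈ R := mul_mem (mul_mem (mul_mem hyR hzR) (inv_mem hyR)) (inv_mem hzR)
  have hdE : h.Cent d E := by
    have h1 : d = y * k * y⁻¹ * k⁻¹ := by
      have hc : Commute y ((y ^ i)⁻¹) := ((Commute.refl y).pow_right i).inv_right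
      have hc2 : (y ^ i)⁻¹ * y⁻¹ * y ^ i = y⁻¹ := by
        rw [hc.inv_left.symm.eq, inv_mul_cancel_right]
      rw [hd, hk]
      calc y * z * y⁻¹ * z⁻¹ = y * z * ((y ^ i)⁻¹ * y⁻¹ * y ^ i) * z⁻¹ := by rw [hc2]
        _ = y * (z * (y ^ i)⁻¹) * y⁻¹ * (z * (y ^ i)⁻¹)⁻¹ := by group
    rw [h1]
    exact h.cent_mul (h.cent_conj_fix hyE hi) (h.cent_inv hi)
  have hdL := hboth d hdR hdE
  have hds : Commute d s := h.cent_commute_swapper hEL hdE hdL hs
  have hd1 : d = 1 := by
    refine eq_one_of_odd_sq (odd_orderOf hodd hRp hdR) ?_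
    have h1 : s * d * s = d⁻¹ := by
      rw [hd, hz]
      simp only [mul_inv_rev, inv_inv, hsi]
      calc s * (y * (s * y * s) * y⁻¹ * (s * (y⁻¹ * s))) * s
          = s * y * s * y * (s * y⁻¹ * s) * y⁻¹ * (s * s) := by group
        _ = s * y * s * y * (s * (y⁻¹ * s)) * y⁻¹ := by rw [hss]; group
        _ = _ := by simp only [mul_assoc]
    rw [← hds.eq, mul_assoc, hss, mul_one] at h1
    exact eq_inv_iff_mul_eq_one.1 h1
  have hyz : Commute y z := by
    rw [hd] at hd1
    exact mul_inv_eq_iff_eq_mul.1 (mul_inv_eq_one.1 hd1)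
  set u := y * z with hu
  have huR : u ∈ R := mul_mem hyR hzR
  have hszs : s * z * s = y := GenA.OddTransp.conj_conj hss
  have hus : Commute u s := by
    have h1 : s * u * s = u := by
      calc s * u * s = s * y * (s * s) * z * s := by rw [hss, hu]; group
        _ = z * (s * z * s) := by rw [hz]; group
        _ = u := by rw [hszs, hu, hyz.eq]
    exact (GenA.OddTransp.commute_of_fix hss h1).symm
  have hsE : h.pt s hs.1 ≠ E := fun e => hEL (by
    have h1 := h.smul_self hs.1
    rw [e, hs.2] at h1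
    exact h1.symm)
  have hup : ∃ j : ℕ, orderOf u = p ^ j := exists_orderOf_eq hRp huR
  have hufix : u • h.pt s hs.1 = h.pt s hs.1 :=
    h.fix_of_commute (h.self_mem_grp hs.1) (h.toOT.ne_one hs.1) hus
  have huE : h.Cent u E :=
    hone hsE hup (h.cent_of_commute hW hp hsE hufix (hRfix u huR).1 hup (h.self_mem_grp hs.1)
      (h.toOT.ne_one hs.1) hus) (hRfix u huR).1
  by_cases hu1 : u = 1
  · refine ⟨s, hs.1, ?_, hs.2⟩
    show z = y⁻¹
    exact (inv_eq_of_mul_eq_one_right hu1).symm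
  obtain ⟨j, hj⟩ := hodd
  set ξ := u ^ (j + 1) with hξ
  set t := (y * z⁻¹) ^ (j + 1) with ht
  have hξR : ξ ∈ R := pow_mem huR _
  have htR : t ∈ R := pow_mem (mul_mem hyR (inv_mem hzR)) _
  have hξt : ξ * t = y := by
    have hc : Commute u (y * z⁻¹) :=
      Commute.mul_right ((Commute.refl y).mul_left hyz.symm)
        ((hyz.inv_right).mul_left (Commute.refl z).inv_right)
    rw [hξ, ht, ← hc.mul_pow, hu, show y * z * (y * z⁻¹) = y * y by
      rw [← mul_assoc, mul_assoc y z y, ← hyz.eq, ← mul_assoc, mul_inv_cancel_right],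
      ← pow_two, ← pow_mul, show 2 * (j + 1) = p + 1 by omega, pow_succ, hyp, one_mul]
  have hξs : Commute ξ s := hus.pow_left _
  have hξy : Commute ξ y := ((Commute.refl y).mul_left hyz.symm).pow_left _
  have hty : Commute t y := (((Commute.refl y).mul_left hyz.symm.inv_left)).pow_left _
  have hts : s * t * s = t⁻¹ := by
    have hinv : s * z⁻¹ * s = y⁻¹ := by
      refine eq_inv_of_mul_eq_one_left ?_
      rw [← hszs, show s * z⁻¹ * s * (s * z * s) = s * z⁻¹ * (s * s) * z * s by group, hss, mul_one,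
        inv_mul_cancel_right, hss]
    have h1 : s * (y * z⁻¹) * s = (y * z⁻¹)⁻¹ := by
      calc s * (y * z⁻¹) * s = s * y * (s * s) * z⁻¹ * s := by rw [hss]; group
        _ = (s * y * s) * (s * z⁻¹ * s) := by group
        _ = (y * z⁻¹)⁻¹ := by rw [hinv, ← hz, mul_inv_rev, inv_inv]
    conv_lhs => rw [ht, show s * (y * z⁻¹) ^ (j + 1) * s = s * (y * z⁻¹) ^ (j + 1) * s⁻¹ by
      rw [hsi], ← conj_pow, hsi, h1, inv_pow]
  have hξE : h.Cent ξ E := h.cent_pow huE _
  have htnc : ¬ h.Cent t E := fun htc => hncent (hξt ▸ h.cent_mul hξE htc)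
  have hξ1 : ξ ≠ 1 := by
    intro e
    have h2 : ξ * ξ = u := by
      rw [hξ, ← pow_add, show j + 1 + (j + 1) = p + 1 by omega, pow_succ, hu, hyz.mul_pow, hyp, hzp,
        one_mul, one_mul]
    rw [e, mul_one] at h2
    exact hu1 h2.symm
  -- only the two classes are fixed by both
  have honly : ∀ L' : h.Pt, ξ • L' = L' → t • L' = L' → L' = E ∨ L' = L := by
    intro L' hξL' htL'
    by_contra hno
    push Not at hno
    obtain ⟨hL'E, hL'L⟩ := hno
    have hξp : ∃ i : ℕ, orderOf ξ = p ^ i := exists_orderOf_eq hRp hξR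
    have hξc : h.Cent ξ L' := hone hL'E.symm hξp hξE hξL'
    have hξL : h.Cent ξ L := hboth ξ hξR hξE
    have hmemS : ∀ {A : h.Pt}, h.Cent ξ A → ∃ (a : G) (ha : a ∈ D),
        h.pt a ha = A ∧ a ∈ centSet D {ξ} := by
      intro A hA
      obtain ⟨a, ha, rfl⟩ := h.exists_pt A
      exact ⟨a, ha, rfl, ha, fun s' hs' => by
        rw [Set.mem_singleton_iff.1 hs']; exact hA a (h.self_mem_grp ha)⟩
    obtain ⟨a, haD, haE, haS⟩ := hmemS hξE
    obtain ⟨b, hbD, hbL, hbS⟩ := hmemS hξL
    obtain ⟨c, hcD, hcL', hcS⟩ := hmemS hξc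
    have hS : CentHyp D {ξ} :=
      ⟨h.centHyp_full hW hp (fun s' hs' => by
          rw [Set.mem_singleton_iff.1 hs']
          exact ⟨hξp, E, L, hEL, hRfix ξ hξR⟩),
        a, haS, b, hbS, fun hc => hEL (by rw [← haE, ← hbL]; exact h.pt_eq_iff.2 hc)⟩
    have hsS : s ∈ centSet D {ξ} := ⟨hs.1, fun s' hs' => by
      rw [Set.mem_singleton_iff.1 hs']; exact hξs⟩
    have htodd : Odd (orderOf t) := odd_orderOf ⟨j, hj⟩ hRp htR
    have hts' : t * s ∈ centSet D {ξ} := ⟨h.mul_mem_of_inverted hs.1 htodd hts, fun s' hs' => by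
      rw [Set.mem_singleton_iff.1 hs']
      exact ((hξy.inv_right).mul_right (Commute.refl ξ) |> fun _ => by
        have h1 : Commute ξ t := by
          have h2 : t = ξ⁻¹ * y := by rw [← hξt, inv_mul_cancel_left]
          rw [h2]
          exact (Commute.refl ξ).inv_right.mul_right hξy
        exact h1.mul_right hξs)⟩
    have htU : t ∈ centGroup D {ξ} := by
      have h1 := mul_mem (centSet_subset_centGroup hts') (centSet_subset_centGroup hsS)
      rwa [mul_assoc, hss, mul_one] at h1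
    let T : centGroup D {ξ} := ⟨t, htU⟩
    let M : centGroup D {ξ} := ⟨s, centSet_subset_centGroup hsS⟩
    let a' : centGroup D {ξ} := ⟨a, centSet_subset_centGroup haS⟩
    let b' : centGroup D {ξ} := ⟨b, centSet_subset_centGroup hbS⟩
    let c' : centGroup D {ξ} := ⟨c, centSet_subset_centGroup hcS⟩
    have htp : t ^ p = 1 := by
      rw [ht, ← pow_mul, mul_comm, pow_mul, hyz.inv_right.mul_pow, hyp, inv_pow, hzp]
      simp
    have hTo : orderOf (centProj D {ξ} T) = p := by
      refine orderOf_eq_prime ?_ fun e => htnc ?_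
      · rw [← map_pow, show T ^ p = 1 from Subtype.ext (by simpa using htp), map_one]
      · have hcen := (centProj_eq_one_iff T).1 e
        have hca : Commute t a := (congrArg Subtype.val (mem_center_iff.1 hcen a')).symm
        exact h.cent_of_commute hW hp hEL (hRfix t htR).1 (hRfix t htR).2
          (exists_orderOf_eq hRp htR) (haE ▸ h.self_mem_grp haD) (h.toOT.ne_one haD) hca
    set h' := cent_classGroups h hS with hh'
    have hPF := hB _ (card_lt h hW ⟨ξ, Set.mem_singleton ξ, hξ1⟩) _ h' n p (cent_weak' h hS hW) hp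
    have hfix : ∀ (x : centGroup D {ξ}) (hx : (x : G) ∈ D), t • h.pt (x : G) hx = h.pt (x : G) hx →
        centProj D {ξ} T • h'.pt _ (mem_centD h hx) = h'.pt _ (mem_centD h hx) := fun x hx hfx =>
      (cent_smul_pt_iff h hS T hx hx).2 hfx
    have hne : ∀ {x x' : centGroup D {ξ}} (hx : (x : G) ∈ D) (hx' : (x' : G) ∈ D),
        h.pt (x : G) hx ≠ h.pt (x' : G) hx' →
        h'.pt _ (mem_centD h hx) ≠ h'.pt _ (mem_centD h hx') := fun hx hx' hne e =>
      hne ((cent_pt_eq_iff h hS hx hx').1 e)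
    rcases hPF _ _ (hne (x := a') (x' := b') haD hbD (by rw [haE, hbL]; exact hEL))
      (centProj D {ξ} M)
      ((cent_swappers_iff h hS (m := M) (a := a') (b := b') hs.1 haD hbD).2
        (by rw [haE, hbL]; exact hs))
      (centProj D {ξ} T)
      (mem_inf.2 ⟨mem_stabilizer_iff.2 (hfix a' haD (by rw [haE]; exact (hRfix t htR).1)),
        mem_stabilizer_iff.2 (hfix b' hbD (by rw [hbL]; exact (hRfix t htR).2))⟩)
      hTo
      (by rw [← map_mul, ← map_mul, ← map_inv]; exact congrArg _ (Subtype.ext hts))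
      (h'.pt _ (mem_centD h (y := c') hcD)) (hfix c' hcD (by rw [hcL']; exact htL')) with e | e
    · exact hL'E (by rw [← hcL', ← haE]; exact (cent_pt_eq_iff h hS (a := c') (b := a') hcD haD).1 e)
    · exact hL'L (by rw [← hcL', ← hbL]; exact (cent_pt_eq_iff h hS (a := c') (b := b') hcD hbD).1 e)
  obtain ⟨g, hg, hgE⟩ := h.inverter_of_only (A := closure {ξ, t}) ⟨j, hj⟩ hy ⟨hm, hmy⟩ hEL hyE
    (hRp.to_le ((closure_le _).2 (by rintro x (rfl | rfl) <;> assumption)))
    ((closure_le _).2 (by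
      rintro x (rfl | rfl)
      · exact mem_centralizer_singleton_iff.2 hξy.eq
      · exact mem_centralizer_singleton_iff.2 hty.eq))
    (((closure_le _).2 (by rintro x (rfl | rfl) <;> assumption) : closure {ξ, t} ≤ R).trans hRK)
    (fun L' hL' => honly L' (hL' ξ (subset_closure (Or.inl rfl)))
      (hL' t (subset_closure (Or.inr rfl))))
  exact ⟨g, hg.1, hg.2, hgE⟩

/-- **Elements of fine prime order inverted by a swapper fix only its two classes.** -/
theorem pairFree_of_oneSided : h.PairFree p := by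
  intro E X hEX m hm y hyK hy hmy L hyL
  by_contra hno
  push Not at hno
  obtain ⟨hLE, hLX⟩ := hno
  have hodd : Odd (orderOf y) := hy ▸ h.odd_p hW hp
  have hy1 : y ≠ 1 := fun e => hp.prime.ne_one (by rw [← hy, e, orderOf_one])
  obtain ⟨hyE, hyX⟩ := mem_inf.1 hyK
  rw [mem_stabilizer_iff] at hyE hyX
  have hnE : ¬ h.Cent y E := fun hc => by
    obtain ⟨a, ha, ha1⟩ := h.exists_ne_one E
    exact hy1 (h.eq_one_of_inverted_commute hEX hm hodd hmy ha ha1 (hc a ha))
  have hnX : ¬ h.Cent y X := fun hc => by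
    obtain ⟨a, ha, ha1⟩ := h.exists_ne_one X
    exact hy1 (h.eq_one_of_inverted_commute hEX.symm (h.swapper_symm hm) hodd hmy ha ha1 (hc a ha))
  obtain ⟨g₁, hg₁, hg₁y, hg₁E⟩ :=
    h.exists_inverter hW hp hB hone hy hm.1 hmy hLE.symm hyE hyL hnE
  obtain ⟨g₂, hg₂, hg₂y, hg₂X⟩ :=
    h.exists_inverter hW hp hB hone hy hm.1 hmy hLX.symm hyX hyL hnX
  exact h.no_triangle (M := inverters D y) (fun g hg => hg.1) h.inverters_closed
    (h.inverters_eq hodd hy1) ⟨hm.1, hmy⟩ ⟨hg₁, hg₁y⟩ ⟨hg₂, hg₂y⟩ hm.2 hg₁E hg₂X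
    fun g hg => h.inverters_pt_ne hodd hy1 hg hyE

end ClassGroups

end Cfsg.Agent.OddTranspX
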