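import Cfsg.Agent.Lib.OddTranspX.TorusPair

/-!
# The members commuting with an element of `W`

Every class fixed by `w` contains `q₁ - 1` of them, every two fixed classes have such a swapper, the
group they generate is doubly transitive on the fixed classes, and its centre fixes them all and
consists of powers of `w`.
-/

set_option autoImplicit false
set_option linter.style.haveILetI false
set_option linter.unusedSectionVars false

namespace Cfsg.Agent.OddTranspX

open Subgroup MulAction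

universe u

variable {G : Type u} [Group G] [Finite G] {D : Set G} {h : ClassGroups D} {q e : ℕ}

/-- In a finite cyclic group the solutions of `x ^ orderOf a = 1` are the powers of `a`. -/
theorem mem_zpowers_of_pow_eq_one {A : Type*} [Group A] [Finite A] [IsCyclic A] {a b : A}
    (hab : b ^ orderOf a = 1) : b ∈ zpowers a := by
  classical
  haveI := Fintype.ofFinite A
  have hsub : (Finset.range (orderOf a)).image (a ^ ·) ⊆
      Finset.univ.filter (fun x : A => x ^ orderOf a = 1) := by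
    intro x hx
    obtain ⟨i, -, rfl⟩ := Finset.mem_image.1 hx
    simp only [Finset.mem_filter, Finset.mem_univ, true_and]
    rw [← pow_mul, mul_comm, pow_mul, pow_orderOf_eq_one, one_pow]
  have he := Finset.eq_of_subset_of_card_le hsub ((IsCyclic.card_pow_eq_one_le (orderOf_pos a)).trans (by
    rw [Finset.card_image_of_injOn (fun i hi j hj e =>
      pow_injOn_Iio_orderOf (by simpa using hi) (by simpa using hj) e), Finset.card_range]))
  have hb : b ∈ Finset.univ.filter (fun x : A => x ^ orderOf a = 1) := by simp [hab]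
  rw [← he] at hb
  obtain ⟨i, -, rfl⟩ := Finset.mem_image.1 hb
  exact pow_mem (mem_zpowers a) i

/-- The data of the descent. -/
structure ClassGroups.SubData (h : ClassGroups D) (q e : ℕ) (E X : h.Pt) (m w : G) (q1 : ℕ) :
    Prop where
  base : h.TorusBase q e
  ne : E ≠ X
  swap : m ∈ h.swappers E X
  mem : w ∈ h.pairStab E X ⊓ centralizer {m}
  card_fix : Nat.card ↥(h.grp E ⊓ centralizer {w}) = q1
  four : 4 ≤ q1

namespace ClassGroups.SubData

variable {E X : h.Pt} {m w : G} {q1 : ℕ} (S : h.SubData q e E X m w q1)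

include S

theorem fix_E : w • E = E := (mem_pairStab.1 S.mem.1).1

theorem fix_X : w • X = X := (mem_pairStab.1 S.mem.1).2

theorem comm_m : Commute w m := mem_centralizer_singleton_iff.1 S.mem.2

omit S in
theorem fix_pt {y : G} (hy : y ∈ D) (hc : Commute w y) : w • h.pt y hy = h.pt y hy := by
  rw [h.smul_pt, h.pt_eq_iff, hc.eq, mul_inv_cancel_right]

omit S in
theorem mem_U {y : G} (hy : y ∈ D) (hc : Commute w y) : y ∈ centMembers D w :=
  subset_closure ⟨hy, hc⟩

omit S in
theorem commute_U {u : G} (hu : u ∈ centMembers D w) : Commute w u := by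
  have h1 : centMembers D w ≤ centralizer {w} :=
    (closure_le _).2 fun y hy => mem_centralizer_singleton_iff.2 hy.2.eq.symm
  exact (mem_centralizer_singleton_iff.1 (h1 hu)).symm

omit S in
theorem smul_fixed {u : G} (hu : u ∈ centMembers D w) {L : h.Pt} (hL : w • L = L) :
    w • (u • L) = u • L := by rw [← mul_smul, (commute_U hu).eq, mul_smul, hL]

theorem exists_F : ∃ a ∈ h.grp E, a ≠ 1 ∧ Commute w a := by
  have hne : h.grp E ⊓ centralizer {w} ≠ ⊥ := fun e0 => by
    have h1 := S.card_fix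
    rw [e0, Subgroup.card_bot] at h1
    have := S.four
    omega
  obtain ⟨a, ha, ha1⟩ := (bot_or_exists_ne_one _).resolve_left hne
  exact ⟨a, ha.1, ha1, (mem_centralizer_singleton_iff.1 ha.2).symm⟩

/-- Every fixed class has a swapper with `E` commuting with `w`. -/
theorem exists_swapper_E {L : h.Pt} (hL : w • L = L) (hLE : E ≠ L) :
    ∃ m' ∈ h.swappers E L, Commute w m' := by
  obtain ⟨a, ha, ha1, hwa⟩ := S.exists_F
  exact S.base.exists_swapper_commute hLE ha ha1 (mem_pairStab.2 ⟨S.fix_E, hL⟩) hwa.eq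

omit S in
theorem conj_commute {m' a : G} (hm : Commute w m') (ha : Commute w a) : Commute w (m' * a * m'⁻¹) :=
  (hm.mul_right ha).mul_right hm.inv_right

/-- The fixed members of a fixed class. -/
theorem card_member {L : h.Pt} (hL : w • L = L) :
    Nat.card ↥(h.grp L ⊓ centralizer {w}) = q1 := by
  by_cases hLE : E = L
  · rw [← hLE]; exact S.card_fix
  obtain ⟨m', hm', hc⟩ := S.exists_swapper_E hL hLE
  have key : ∀ A B : h.Pt, m' • A = B → Nat.card ↥(h.grp A ⊓ centralizer {w}) ≤
      Nat.card ↥(h.grp B ⊓ centralizer {w}) := by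
    intro A B hAB
    rw [← card_map_of_injective (K := h.grp A ⊓ centralizer {w}) (f := (MulAut.conj m').toMonoidHom) (MulAut.conj m').injective]
    refine card_le_of_le ?_
    rintro _ ⟨a, ha, rfl⟩
    exact ⟨hAB ▸ h.grp_conj ha.1, mem_centralizer_singleton_iff.2
      (conj_commute hc (mem_centralizer_singleton_iff.1 ha.2).symm).eq.symm⟩
  rw [← S.card_fix]
  exact le_antisymm (key L E (h.swapper_back hm')) (key E L hm'.2)

theorem exists_member {L : h.Pt} (hL : w • L = L) : ∃ (a : G) (ha : a ∈ D), h.pt a ha = L ∧ Commute w a := by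
  have hne : h.grp L ⊓ centralizer {w} ≠ ⊥ := fun e0 => by
    have h1 := S.card_member hL
    rw [e0, Subgroup.card_bot] at h1
    have := S.four
    omega
  obtain ⟨a, ha, ha1⟩ := (bot_or_exists_ne_one _).resolve_left hne
  obtain ⟨haD, haL⟩ := ha.1.resolve_left ha1
  exact ⟨a, haD, haL, (mem_centralizer_singleton_iff.1 ha.2).symm⟩

/-- The descent data at two fixed classes. -/
theorem transport {A B : h.Pt} (hA : w • A = A) (hB : w • B = B) (hAB : A ≠ B) :
    ∃ m', h.SubData q e A B m' w q1 := by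
  obtain ⟨a, ha, haA, hwa⟩ := S.exists_member hA
  obtain ⟨m', hm', hc⟩ := S.base.exists_swapper_commute hAB (haA ▸ h.self_mem_grp ha)
    (h.toOT.ne_one ha) (mem_pairStab.2 ⟨hA, hB⟩) hwa.eq
  exact ⟨m', S.base, hAB, hm', ⟨mem_pairStab.2 ⟨hA, hB⟩, mem_centralizer_singleton_iff.2 hc.eq⟩,
    S.card_member hA, S.four⟩

theorem m_mem : m ∈ centMembers D w := mem_U S.swap.1 S.comm_m

theorem exists_other {L : h.Pt} : ∃ L', w • L' = L' ∧ L' ≠ L := by
  by_cases hL : E = L
  · exact ⟨X, S.fix_X, fun e => S.ne (hL.trans e.symm)⟩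
  · exact ⟨E, S.fix_E, hL⟩

/-- A member of `U` is the only one in its coset of the kernel of the action on the fixed classes. -/
theorem eq_one_of_fix_member {L : h.Pt} {a : G} (ha : a ∈ h.grp L)
    (hfix : ∀ A : h.Pt, w • A = A → a • A = A) : a = 1 := by
  obtain ⟨L', hL', hne⟩ := S.exists_other (L := L)
  exact h.grp_semiregular ha (hfix L' hL') hne

/-- Fixing all fixed classes is centralizing `U`. -/
theorem central_of_fix {u : G} (hu : u ∈ centMembers D w) (hfix : ∀ L : h.Pt, w • L = L → u • L = L) :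
    u ∈ centralizer (centMembers D w : Set G) := by
  rw [centMembers, centralizer_closure, mem_centralizer_iff]
  rintro y ⟨hy, hc⟩
  have hc' : Commute w (u * y * u⁻¹) := conj_commute (commute_U hu) hc
  have hyD : u * y * u⁻¹ ∈ D := h.conj y hy u
  have hpt : h.pt (u * y * u⁻¹) hyD = h.pt y hy := by
    rw [← h.smul_pt u hy]; exact hfix _ (fix_pt hy hc)
  have hz : y * (u * y * u⁻¹) ∈ h.grp (h.pt y hy) :=
    mul_mem (h.self_mem_grp hy) (Or.inr ⟨hyD, hpt⟩)
  have h1 := S.eq_one_of_fix_member hz fun A hA => by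
    have hyA : w • (y • A) = y • A := by rw [← mul_smul, hc.eq, mul_smul, hA]
    rw [mul_smul, mul_smul, mul_smul, inv_smul_eq_iff.2 (hfix A hA).symm, hfix _ hyA, ← mul_smul,
      h.sq hy, one_smul]
  rw [mul_eq_one_iff_eq_inv'] at h1
  rw [h.toOT.inv hy] at h1
  calc y * u = u * y * u⁻¹ * u := by rw [h1]
    _ = u * y := inv_mul_cancel_right _ _

theorem fix_of_central {z : G} (hz : z ∈ centralizer (centMembers D w : Set G)) {L : h.Pt}
    (hL : w • L = L) : z • L = L := by
  obtain ⟨a, ha, rfl, hwa⟩ := S.exists_member hL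
  rw [h.smul_pt, h.pt_eq_iff, ← mem_centralizer_iff.1 hz a (mem_U ha hwa), mul_inv_cancel_right]

/-- An element fixing the two classes and the fixed members of the first is a power of `w`. -/
theorem mem_zpowers_of_faithful {g : G} (hg : g ∈ h.pairStab E X)
    (hfix : ∀ a ∈ h.grp E, Commute w a → Commute g a) : g ∈ zpowers w := by
  obtain ⟨C, hC⟩ := S.base.exists_tor S.ne
  obtain ⟨a, ha, ha1, hwa⟩ := S.exists_F
  obtain ⟨c, hc, hconj⟩ := hC.conj_field S.base S.ne S.swap ha ha1
  have hcs := mem_pairStab.1 (hC.le hc)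
  have key : ∀ k ∈ h.pairStab E X, k * a = a * k →
      k ∈ h.pairStab E X ⊓ centralizer {c * m * c⁻¹} := by
    intro k hk hka
    refine ⟨hk, mem_centralizer_singleton_iff.2 ?_⟩
    have h1 := mem_centralizer_singleton_iff.1 (hconj k hk hka).2
    calc k * (c * m * c⁻¹) = c * (c⁻¹ * k * c * m) * c⁻¹ := by group
      _ = c * (m * (c⁻¹ * k * c)) * c⁻¹ := by rw [h1]
      _ = c * m * c⁻¹ * k := by group
  exact S.base.mem_zpowers_of_fix S.ne (h.swapper_conj hcs.1 hcs.2 S.swap) (key w S.mem.1 hwa.eq)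
    (key g hg (hfix a ha hwa).eq) fun b hb hb' => (hfix b hb hb').eq

/-- The centre of `U` consists of powers of `w`. -/
theorem center_mem {z : G} (hz : z ∈ centralizer (centMembers D w : Set G)) :
    z ∈ zpowers w :=
  S.mem_zpowers_of_faithful
    (mem_pairStab.2 ⟨S.fix_of_central hz S.fix_E, S.fix_of_central hz S.fix_X⟩) fun a ha hwa => by
    by_cases ha1 : a = 1
    · rw [ha1]; exact Commute.one_right z
    · exact (mem_centralizer_iff.1 hz a (mem_U (ha.resolve_left ha1).1 hwa)).symm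

omit S in
theorem central_of_zpowers {z : G} (hz : z ∈ zpowers w) : z ∈ centralizer (centMembers D w : Set G) := by
  obtain ⟨i, rfl⟩ := hz
  exact mem_centralizer_iff.2 fun u hu => ((commute_U hu).zpow_left i).eq.symm

/-- The torus of `U` at the two classes. -/
theorem torus_le {C : Subgroup G} (hC : h.TorData q E X C) :
    C ⊓ centralizer {w} ≤ centMembers D w := by
  rintro c ⟨hc, hcw⟩
  obtain ⟨l, hl⟩ := (hC.odd_card S.base).of_dvd_nat (C.orderOf_dvd_natCard hc)
  have hcs := mem_pairStab.1 (hC.le (pow_mem hc (l + 1)))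
  have h4 : c ^ (l + 1) * c ^ (l + 1) = c := by
    rw [← pow_add, show l + 1 + (l + 1) = orderOf c + 1 by omega, pow_succ, pow_orderOf_eq_one, one_mul]
  have h5 : c ^ (l + 1) * m * (c ^ (l + 1))⁻¹ * m = c := by
    rw [← hC.invert m S.swap _ (pow_mem hc _)]
    calc c ^ (l + 1) * m * (m * c ^ (l + 1) * m) * m
        = c ^ (l + 1) * (m * m) * c ^ (l + 1) * (m * m) := by group
      _ = c := by rw [h.sq S.swap.1, mul_one, mul_one, h4]
  rw [← h5]
  exact mul_mem (mem_U (h.swapper_conj hcs.1 hcs.2 S.swap).1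
    (conj_commute (((show Commute w c from (mem_centralizer_singleton_iff.1 hcw).symm)).pow_right _) S.comm_m))
    S.m_mem

theorem torus_card {C : Subgroup G} (hC : h.TorData q E X C) :
    Nat.card ↥(C ⊓ centralizer {w}) = q1 - 1 := by
  obtain ⟨a, ha, ha1, hwa⟩ := S.exists_F
  rw [← S.card_fix, ← card_ne_one (h.grp E ⊓ centralizer {w})]
  refine Nat.card_eq_of_bijective (fun c : ↥(C ⊓ centralizer {w}) =>
    (⟨(c : G) * a * (c : G)⁻¹, ⟨h.grp_conj_fix (mem_pairStab.1 (hC.le c.2.1)).1 ha,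
      mem_centralizer_singleton_iff.2
        (conj_commute (mem_centralizer_singleton_iff.1 c.2.2).symm hwa).eq.symm⟩,
      fun h1 => ha1 (conj_eq_one_iff.1 h1)⟩ : {b : G // b ∈ h.grp E ⊓ centralizer {w} ∧ b ≠ 1}))
    ⟨fun c c' hcc => ?_, fun b => ?_⟩
  · have he : (c : G) * a * (c : G)⁻¹ = (c' : G) * a * (c' : G)⁻¹ := congrArg Subtype.val hcc
    refine Subtype.ext (inv_mul_eq_one.1 ?_)
    by_contra hne
    refine hC.free _ (mul_mem (inv_mem c.2.1) c'.2.1) hne a ha ha1 ?_
    calc (c : G)⁻¹ * c' * a * ((c : G)⁻¹ * c')⁻¹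
        = (c : G)⁻¹ * ((c' : G) * a * (c' : G)⁻¹) * c := by group
      _ = a := by rw [← he]; group
  · obtain ⟨c, hc, hcb⟩ := torus_regular S.base hC.le hC.card hC.free ha ha1 b.2.1.1 b.2.2
    refine ⟨⟨c, hc, mem_centralizer_singleton_iff.2 ?_⟩, Subtype.ext hcb⟩
    by_contra hne
    refine hC.free (c⁻¹ * (w * c * w⁻¹)) (mul_mem (inv_mem hc) (hC.normal w S.mem.1 c hc))
      (fun h1 => hne ?_) a ha ha1 ?_
    · rw [inv_mul_eq_one, eq_mul_inv_iff_mul_eq] at h1
      exact h1
    · calc c⁻¹ * (w * c * w⁻¹) * a * (c⁻¹ * (w * c * w⁻¹))⁻¹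
          = c⁻¹ * (w * (c * (w⁻¹ * a * w) * c⁻¹) * w⁻¹) * c := by group
        _ = c⁻¹ * (w * (c * a * c⁻¹) * w⁻¹) * c := by
            rw [mul_assoc w⁻¹, ← hwa.eq, inv_mul_cancel_left]
        _ = a := by
            rw [hcb, ← mem_centralizer_singleton_iff.1 b.2.1.2, mul_inv_cancel_right, ← hcb]
            group

/-- An element of order `p ∣ q₁ - 1` of `U` fixing only the two classes. -/
theorem exists_p_elem {p : ℕ} [Fact p.Prime] (hp : p ∣ q1 - 1) :
    ∃ z ∈ centMembers D w, z • E = E ∧ z • X = X ∧ orderOf z = p ∧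
      ∀ L : h.Pt, z • L = L → L = E ∨ L = X := by
  obtain ⟨C, hC⟩ := S.base.exists_tor S.ne
  obtain ⟨z, hz⟩ := exists_prime_orderOf_dvd_card' (G := ↥(C ⊓ centralizer {w})) p (by rwa [S.torus_card hC])
  have hzo : orderOf (z : G) = p := by rw [Subgroup.orderOf_coe, hz]
  exact ⟨z, S.torus_le hC z.2, (mem_pairStab.1 (hC.le z.2.1)).1, (mem_pairStab.1 (hC.le z.2.1)).2, hzo,
    hC.fix z z.2.1 fun e => (Fact.out : p.Prime).ne_one (by rw [← hzo, e, orderOf_one])⟩

/-- The stabilizer of a fixed class in `U` is transitive on the other fixed classes. -/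
theorem two {A B B' : h.Pt} (hA : w • A = A) (hB : w • B = B) (hB' : w • B' = B') (hBA : B ≠ A)
    (hB'A : B' ≠ A) : ∃ u ∈ centMembers D w, u • A = A ∧ u • B = B' := by
  by_contra hno
  push Not at hno
  obtain ⟨p, hp, hpd⟩ := Nat.exists_prime_and_dvd (n := q1 - 1) (by have := S.four; omega)
  haveI := Fact.mk hp
  set H : Subgroup G := centMembers D w ⊓ stabilizer G A with hH
  let O : Set h.Pt := {L | ∃ u ∈ H, u • B = L}
  have hfixO : ∀ L ∈ O, L ≠ A := by
    rintro L ⟨u, hu, rfl⟩ e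
    exact hBA (smul_left_cancel u (e.trans (mem_stabilizer_iff.1 hu.2).symm))
  have hsub : ∀ L : h.Pt, w • L = L → L ≠ A →
      Nat.card O ≡ Nat.card {M : h.Pt // M ∈ O ∧ M = L} [MOD p] := by
    intro L hL hLA
    obtain ⟨m', S'⟩ := S.transport hA hL hLA.symm
    obtain ⟨z, hzU, hzA, hzX, hzo, hzfix⟩ := S'.exists_p_elem (p := p) hpd
    have hzH : z ∈ H := ⟨hzU, mem_stabilizer_iff.2 hzA⟩
    let T : SubMulAction ↥(zpowers z) h.Pt :=
      { carrier := O
        smul_mem' := fun g x hx => by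
          obtain ⟨u, hu, rfl⟩ := hx
          exact ⟨(g : G) * u, mul_mem (zpowers_le.2 hzH g.2) hu, mul_smul _ _ _⟩ }
    have hP : IsPGroup p ↥(zpowers z) := IsPGroup.of_card (n := 1) (by rw [Nat.card_zpowers, hzo, pow_one])
    have h1 := hP.card_modEq_card_fixedPoints (α := T)
    suffices e : Nat.card (fixedPoints ↥(zpowers z) T) = Nat.card {M : h.Pt // M ∈ O ∧ M = L} by
      rw [← e]; exact h1
    refine Nat.card_eq_of_bijective (fun x : fixedPoints ↥(zpowers z) T =>
      (⟨((x : T) : h.Pt), (x : T).2, ?_⟩ : {M : h.Pt // M ∈ O ∧ M = L}))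
      ⟨fun x y hxy => Subtype.ext (Subtype.ext (congrArg (fun t : {M : h.Pt // M ∈ O ∧ M = L} => t.1) hxy)),
        fun M => ?_⟩
    · have hx := congrArg Subtype.val (x.2 ⟨z, mem_zpowers z⟩)
      exact (hzfix _ hx).resolve_left (hfixO _ (x : T).2)
    · obtain ⟨M, hMO, rfl⟩ := M
      refine ⟨⟨⟨M, hMO⟩, fun g => Subtype.ext ?_⟩, rfl⟩
      show (g : G) • M = M
      exact mem_stabilizer_iff.1 ((zpowers_le.2 (mem_stabilizer_iff.2 hzX) : zpowers z ≤ stabilizer G M) g.2)
  have h1 := hsub B hB hBA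
  have h2 := hsub B' hB' hB'A
  have e1 : Nat.card {M : h.Pt // M ∈ O ∧ M = B} = 1 :=
    Nat.card_eq_one_iff_unique.2 ⟨⟨fun x y => Subtype.ext (x.2.2.trans y.2.2.symm)⟩,
      ⟨⟨B, ⟨1, one_mem H, one_smul G B⟩, rfl⟩⟩⟩
  have e2 : Nat.card {M : h.Pt // M ∈ O ∧ M = B'} = 0 := Nat.card_eq_zero.2 (Or.inl ⟨fun x => by
    obtain ⟨u, hu, he⟩ := x.2.1
    exact hno u hu.1 (mem_stabilizer_iff.1 hu.2) (he.trans x.2.2)⟩)
  have h3 := h1.symm.trans h2
  rw [e1, e2] at h3
  exact hp.ne_one (Nat.dvd_one.1 (Nat.modEq_zero_iff_dvd.1 h3))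

end ClassGroups.SubData

end Cfsg.Agent.OddTranspX
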