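import Mathlib
import Cfsg.Agent.Lib.RankOneInter.Basic

/-!
# Lifting a centralizer to a group with one involution

If every involution of `H` lies in the normal `2`-subgroup `V` and a preimage of the element `z` of
odd prime order centralizes at most one involution of `V`, then every `2`-subgroup of the centralizer
of `z` is the image of a `2`-subgroup with one involution, so it has no elementary subgroup of order `8`.
-/

set_option autoImplicit false
set_option linter.style.haveILetI false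

namespace Cfsg.Agent.OddTranspX

open Subgroup
open Cfsg.Agent.RankOneInter (UniqueInv)

variable {H : Type*} [Group H] [Finite H] {Y : Type*} [Group Y]

/-- A `2`-subgroup of the centralizer of `z` is the image of a `2`-group with one involution. -/
theorem exists_uniqueInv_cover (f : H →* Y) (hf : Function.Surjective f) (V : Subgroup H) [V.Normal]
    (hV : IsPGroup 2 V) (hinv : ∀ t : H, orderOf t = 2 → t ∈ V) {p : ℕ} [hp : Fact p.Prime]
    (hp2 : p ≠ 2) {z : Y} (hz : orderOf z = p)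
    (hfix : ∀ h : H, f h = z → ∀ v ∈ V, ∀ w ∈ V, orderOf v = 2 → orderOf w = 2 → Commute h v →
      Commute h w → v = w)
    (A : Subgroup Y) (hA : IsPGroup 2 A) (hAz : ∀ a ∈ A, Commute a z) :
    ∃ B : Subgroup H, IsPGroup 2 B ∧ UniqueInv B ∧ B.map f = A := by
  haveI : Fact (Nat.Prime 2) := ⟨Nat.prime_two⟩
  let fz : (zpowers z).comap f →* zpowers z := f.subgroupComap (zpowers z)
  have hfz : Function.Surjective fz := fun y => by
    obtain ⟨h, hh⟩ := hf y
    exact ⟨⟨h, show f h ∈ zpowers z from hh ▸ y.2⟩, Subtype.ext hh⟩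
  obtain ⟨R⟩ : Nonempty (Sylow p ((zpowers z).comap f)) := inferInstance
  have hzp : IsPGroup p (zpowers z) := IsPGroup.of_card (n := 1) (by rw [Nat.card_zpowers, hz, pow_one])
  have htop : (R : Subgroup ((zpowers z).comap f)).map fz = ⊤ :=
    ((R.mapSurjective hfz).3 (hzp.to_subgroup ⊤) le_top).symm
  obtain ⟨h₀, h₀R, h₀z⟩ : ∃ h₀ ∈ (R : Subgroup ((zpowers z).comap f)), fz h₀ = ⟨z, mem_zpowers z⟩ :=
    htop.ge (mem_top _)
  have h₀z' : f h₀ = z := congrArg Subtype.val h₀z
  set R' : Subgroup H := (R : Subgroup ((zpowers z).comap f)).map ((zpowers z).comap f).subtype with hR'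
  have hR'p : IsPGroup p R' := R.2.map _
  let K : Subgroup H := normalizer (R' : Set H) ⊓ A.comap f
  let fA : K →* A := (f.comp K.subtype).codRestrict A fun k => k.2.2
  have hfA : Function.Surjective fA := by
    rintro ⟨a, ha⟩
    obtain ⟨h, rfl⟩ := hf a
    -- `h` permutes the Sylow subgroups of the preimage of `⟨z⟩`
    have hconj : ∀ l ∈ (zpowers z).comap f, h * l * h⁻¹ ∈ (zpowers z).comap f := by
      intro l hl
      obtain ⟨i, hi⟩ := mem_zpowers_iff.1 hl
      show f (h * l * h⁻¹) ∈ zpowers z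
      rw [map_mul, map_mul, map_inv, ← hi, ((hAz _ ha).zpow_right i).eq, mul_inv_cancel_right]
      exact zpow_mem (mem_zpowers z) i
    let c : ((zpowers z).comap f) →* ((zpowers z).comap f) :=
      ((MulAut.conj h).toMonoidHom.comp ((zpowers z).comap f).subtype).codRestrict _
        fun l => hconj l l.2
    have hc : Function.Injective c := fun a b hab =>
      Subtype.ext ((MulAut.conj h).injective (congrArg Subtype.val hab))
    let R₂ : Sylow p ((zpowers z).comap f) := Sylow.ofCard ((R : Subgroup _).map c)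
      (by rw [card_map_of_injective hc, R.card_eq_multiplicity])
    obtain ⟨l, hl⟩ := MulAction.exists_smul_eq ((zpowers z).comap f) R₂ R
    have hk : ((l : H) * h) ∈ normalizer (R' : Set H) := by
      have hle : R'.map (MulAut.conj ((l : H) * h)).toMonoidHom ≤ R' := by
        rintro _ ⟨_, ⟨r, hr, rfl⟩, rfl⟩
        refine ⟨l * c r * l⁻¹, ?_, ?_⟩
        · rw [← hl]
          exact ⟨c r, ⟨r, hr, rfl⟩, rfl⟩
        · show (l : H) * (h * (r : H) * h⁻¹) * (l : H)⁻¹ = (l : H) * h * (r : H) * ((l : H) * h)⁻¹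
          group
      have heq := eq_of_le_of_card_ge hle (card_map_of_injective (MulAut.conj ((l : H) * h)).injective).ge
      refine mem_normalizer_iff.2 fun y => ⟨fun hy => heq ▸ ⟨y, hy, rfl⟩, fun hy => ?_⟩
      rw [← heq] at hy
      obtain ⟨y', hy', he⟩ := hy
      rwa [show y = y' from ((MulAut.conj _).injective he).symm]
    obtain ⟨i, hi⟩ := mem_zpowers_iff.1 (show f (l : H) ∈ zpowers z from l.2)
    have h₀R' : (h₀ : H) ∈ R' := ⟨h₀, h₀R, rfl⟩
    refine ⟨⟨(h₀ : H) ^ (-i) * ((l : H) * h), mul_mem (le_normalizer (zpow_mem h₀R' _)) hk, ?_⟩, ?_⟩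
    · show f _ ∈ A
      rw [map_mul, map_zpow, h₀z', map_mul, ← hi, zpow_neg, inv_mul_cancel_left]
      exact ha
    · refine Subtype.ext ?_
      show f ((h₀ : H) ^ (-i) * ((l : H) * h)) = f h
      rw [map_mul, map_zpow, h₀z', map_mul, ← hi, zpow_neg, inv_mul_cancel_left]
  obtain ⟨S⟩ : Nonempty (Sylow 2 K) := inferInstance
  have hStop : (S : Subgroup K).map fA = ⊤ :=
    ((S.mapSurjective hfA).3 (hA.to_subgroup ⊤) le_top).symm
  refine ⟨(S : Subgroup K).map K.subtype, S.2.map _, ?_, ?_⟩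
  · -- the involutions centralize a preimage of `z`
    have hcomm : ∀ t ∈ (S : Subgroup K).map K.subtype, t ∈ V → Commute (h₀ : H) t := by
      rintro _ ⟨t, -, rfl⟩ htV
      have hR1 : (h₀ : H) * (t : H) * (h₀ : H)⁻¹ * (t : H)⁻¹ ∈ R' := by
        have h₀R' : (h₀ : H) ∈ R' := ⟨h₀, h₀R, rfl⟩
        rw [mul_assoc, mul_assoc]
        refine mul_mem h₀R' ?_
        rw [← mul_assoc]
        exact (mem_normalizer_iff.1 t.2.1 _).1 (inv_mem h₀R')
      have hV1 : (h₀ : H) * (t : H) * (h₀ : H)⁻¹ * (t : H)⁻¹ ∈ V :=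
        mul_mem (‹V.Normal›.conj_mem _ htV _) (inv_mem htV)
      have h1 : (h₀ : H) * (t : H) * (h₀ : H)⁻¹ * (t : H)⁻¹ = 1 := by
        obtain ⟨a, ha⟩ := hR'p ⟨_, hR1⟩
        obtain ⟨b, hb⟩ := hV ⟨_, hV1⟩
        exact orderOf_eq_one_iff.1 (Nat.eq_one_of_dvd_coprimes
          (Nat.coprime_pow_primes a b hp.out Nat.prime_two hp2)
          (orderOf_dvd_of_pow_eq_one (congrArg Subtype.val ha))
          (orderOf_dvd_of_pow_eq_one (congrArg Subtype.val hb)))
      exact mul_inv_eq_iff_eq_mul.1 (mul_inv_eq_one.1 h1)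
    intro x hx y hy hx2 hy2
    exact hfix h₀ h₀z' x (hinv x hx2) y (hinv y hy2) hx2 hy2 (hcomm x hx (hinv x hx2))
      (hcomm y hy (hinv y hy2))
  · refine le_antisymm ?_ fun a ha => ?_
    · rintro _ ⟨_, ⟨k, -, rfl⟩, rfl⟩
      exact k.2.2
    · obtain ⟨k, hk, hka⟩ := hStop.ge (mem_top (⟨a, ha⟩ : A))
      exact ⟨k, ⟨k, hk, rfl⟩, congrArg Subtype.val hka⟩

/-- An elementary abelian image of a `2`-group with one involution has order at most four. -/
theorem card_elementary_image_le (f : H →* Y) {B : Subgroup H} (hB : IsPGroup 2 B) (hu : UniqueInv B)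
    {A : Subgroup Y} (hBA : B.map f = A) (hsq : ∀ a ∈ A, a * a = 1) : Nat.card A ≤ 4 := by
  obtain ⟨a, b, ha, hb, hgen⟩ : ∃ a b : H, a ∈ B ∧ b ∈ B ∧ ∀ y ∈ B, ∃ i j : ℤ, y = a ^ i * b ^ j := by
    rcases hu.isCyclic_or_quaternion hB with hc | ⟨n, ⟨e⟩⟩
    · obtain ⟨g, hg⟩ := hc.exists_generator
      refine ⟨g, 1, g.2, one_mem _, fun y hy => ?_⟩
      obtain ⟨i, hi⟩ := mem_zpowers_iff.1 (hg ⟨y, hy⟩)
      exact ⟨i, 0, by rw [zpow_zero, mul_one]; exact (congrArg Subtype.val hi).symm.trans (by simp)⟩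
    · haveI : NeZero (2 ^ (n + 1)) := ⟨by positivity⟩
      refine ⟨(e.symm (QuaternionGroup.xa 0) : B), (e.symm (QuaternionGroup.a 1) : B), SetLike.coe_mem _,
        SetLike.coe_mem _, fun y hy => ?_⟩
      have hy' : (y : H) = ((e.symm (e ⟨y, hy⟩) : B) : H) := by rw [MulEquiv.symm_apply_apply]
      rcases he : e ⟨y, hy⟩ with i | i
      · refine ⟨0, i.val, ?_⟩
        rw [hy', he, zpow_zero, one_mul, zpow_natCast, ← SubgroupClass.coe_pow, ← map_pow,
          QuaternionGroup.a_one_pow, ZMod.natCast_zmod_val]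
      · refine ⟨1, i.val, ?_⟩
        rw [hy', he, zpow_one, zpow_natCast, ← SubgroupClass.coe_pow, ← map_pow, ← Subgroup.coe_mul,
          ← map_mul, QuaternionGroup.a_one_pow, QuaternionGroup.xa_mul_a, ZMod.natCast_zmod_val,
          zero_add]
  have hmem : ∀ {y : H}, y ∈ B → f y ∈ A := fun hy => hBA ▸ mem_map_of_mem f hy
  let g : Bool × Bool → A := fun p =>
    ⟨(if p.1 then f a else 1) * (if p.2 then f b else 1), mul_mem
      (by split_ifs; exacts [hmem ha, one_mem _]) (by split_ifs; exacts [hmem hb, one_mem _])⟩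
  have hpow : ∀ y ∈ A, ∀ i : ℤ, ∃ c : Bool, y ^ i = if c then y else 1 := by
    intro y hy i
    have h2 : y ^ (2 : ℤ) = 1 := by rw [zpow_two]; exact hsq y hy
    rcases Int.even_or_odd' i with ⟨k, rfl | rfl⟩
    · exact ⟨false, by rw [zpow_mul, h2, one_zpow]; rfl⟩
    · exact ⟨true, by rw [zpow_add, zpow_mul, h2, one_zpow, one_mul, zpow_one]; rfl⟩
  have hg : Function.Surjective g := by
    rintro ⟨y, hy⟩
    obtain ⟨k, hk, rfl⟩ := hBA.ge hy
    obtain ⟨i, j, rfl⟩ := hgen k hk
    obtain ⟨c, hc⟩ := hpow _ (hmem ha) i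
    obtain ⟨d, hd⟩ := hpow _ (hmem hb) j
    exact ⟨(c, d), Subtype.ext (by show _ = f (a ^ i * b ^ j); rw [map_mul, map_zpow, map_zpow, hc, hd])⟩
  have := Nat.card_le_card_of_surjective g hg
  simpa using this

/-- **Rank three kills.** -/
theorem no_rank_three (f : H →* Y) (hf : Function.Surjective f) (V : Subgroup H) [V.Normal]
    (hV : IsPGroup 2 V) (hinv : ∀ t : H, orderOf t = 2 → t ∈ V) {p : ℕ} [Fact p.Prime] (hp2 : p ≠ 2)
    {z : Y} (hz : orderOf z = p)
    (hfix : ∀ h : H, f h = z → ∀ v ∈ V, ∀ w ∈ V, orderOf v = 2 → orderOf w = 2 → Commute h v →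
      Commute h w → v = w)
    (A : Subgroup Y) (hsq : ∀ a ∈ A, a * a = 1)
    (hAz : ∀ a ∈ A, Commute a z) : Nat.card A ≤ 4 := by
  have hA : IsPGroup 2 A := fun a => ⟨1, Subtype.ext (by
    rw [SubgroupClass.coe_pow, pow_one, pow_two]; exact hsq _ a.2)⟩
  obtain ⟨B, hB, hu, hBA⟩ := exists_uniqueInv_cover f hf V hV hinv hp2 hz hfix A hA hAz
  exact card_elementary_image_le f hB hu hBA hsq

end Cfsg.Agent.OddTranspX
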