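import Cfsg.Agent.Lib.OddTranspX.NoCoverModel
import Cfsg.Agent.Lib.Coprime.Action
import Cfsg.Agent.Lib.PGroups.UniqueSubgroup

/-!
# No extension of a two-group by `GL(r,2)` has all its involutions in the natural module

Let `π` map `X` onto `GL(V)`, `|V| = 2^r`, `r ≥ 5` odd, with a two-group as kernel, let `V` be embedded
in the kernel equivariantly, and let every involution of `X` lie in it.  An element `z` of order three
over a scalar with one fixed vector centralises no more of the kernel, so the kernel is `V`; but then a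
lift of a transvection can be corrected to an involution outside `V`.
-/

set_option autoImplicit false
set_option linter.style.haveILetI false
set_option linter.unusedSectionVars false

namespace Cfsg.Agent.OddTranspX.NoCover

open Subgroup
open scoped commutatorElement

universe u v

/-- A natural module containing all involutions, with a map onto its linear group. -/
structure Cover (V : Type v) [AddCommGroup V] [Module (ZMod 2) V] (X : Type u) [Group X] where
  π : X →* (V ≃ₗ[ZMod 2] V)
  surj : Function.Surjective π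
  e : V → X
  e_inj : Function.Injective e
  e_add : ∀ u v, e (u + v) = e u * e v
  π_e : ∀ v, π (e v) = 1
  conj : ∀ x v, x * e v * x⁻¹ = e (π x v)
  invol : ∀ x, x * x = 1 → ∃ v, e v = x

namespace Cover

variable {V : Type v} [AddCommGroup V] [Module (ZMod 2) V] {X : Type u} [Group X] (D : Cover V X)

theorem add_self (v : V) : v + v = 0 := ZModModule.add_self v

theorem e_zero : D.e 0 = 1 := mul_eq_left.1 (show D.e 0 * D.e 0 = D.e 0 by rw [← D.e_add, add_zero])

theorem e_sq (v : V) : D.e v * D.e v = 1 := by rw [← D.e_add, add_self, D.e_zero]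

theorem e_inv (v : V) : (D.e v)⁻¹ = D.e v := inv_eq_of_mul_eq_one_right (D.e_sq v)

theorem e_comm_ker {x : X} (hx : D.π x = 1) (v : V) : x * D.e v = D.e v * x := by
  have h := D.conj x v
  rw [hx] at h
  exact mul_inv_eq_iff_eq_mul.1 h

theorem fix_of_comm {x : X} {v : V} (h : x * D.e v = D.e v * x) : D.π x v = v :=
  D.e_inj (by rw [← D.conj, h, mul_inv_cancel_right])

/-- The image of `V`. -/
def img : Subgroup X where
  carrier := Set.range D.e
  one_mem' := ⟨0, D.e_zero⟩
  mul_mem' := by rintro _ _ ⟨u, rfl⟩ ⟨v, rfl⟩; exact ⟨u + v, D.e_add u v⟩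
  inv_mem' := by rintro _ ⟨u, rfl⟩; exact ⟨u, (D.e_inv u).symm⟩

theorem mem_img {x : X} : x ∈ D.img ↔ ∃ v, D.e v = x := Iff.rfl

theorem img_le : D.img ≤ D.π.ker := by rintro _ ⟨v, rfl⟩; exact D.π_e v

theorem img_normal : D.img.Normal := ⟨fun n hn g => by
  obtain ⟨v, rfl⟩ := hn
  exact ⟨D.π g v, (D.conj g v).symm⟩⟩

/-! ### The kernel cannot be `V` alone -/

/-- If the kernel is `V`, the dimension is at most three. -/
theorem false_of_ker_le [Finite V] (h4 : 4 ≤ Module.finrank (ZMod 2) V) (hker : D.π.ker ≤ D.img) : False := by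
  obtain ⟨c, hc⟩ : ∃ c : V, c ≠ 0 := Module.finrank_pos_iff_exists_ne_zero.1 (show 0 < Module.finrank (ZMod 2) V by omega)
  have hspan : ∀ {a : V}, a ∈ Submodule.span (ZMod 2) {c} → a = 0 ∨ a = c := by
    intro a ha
    obtain ⟨k, rfl⟩ := Submodule.mem_span_singleton.1 ha
    rcases (show ∀ k : ZMod 2, k = 0 ∨ k = 1 by decide) k with rfl | rfl
    · exact Or.inl (zero_smul _ _)
    · exact Or.inr (one_smul _ _)
  have hlt : Submodule.span (ZMod 2) {c} < ⊤ := lt_top_iff_ne_top.2 fun e => by
    have := finrank_span_singleton (K := ZMod 2) hc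
    rw [e, finrank_top] at this
    omega
  obtain ⟨w, -, hw⟩ := SetLike.exists_of_lt hlt
  obtain ⟨φ, hφw, hφ⟩ := Transvections.exists_functional (Submodule.span (ZMod 2) {c}) hw
  have hφc : φ c = 0 := hφ c (Submodule.mem_span_singleton_self c)
  set t := LinearEquiv.transvection hφc with ht
  have htap : ∀ a, t a = a + φ a • c := fun a => LinearMap.transvection.apply φ c a
  obtain ⟨x, hx⟩ := D.surj t
  have hxx : D.π (x * x) = 1 := LinearEquiv.ext fun a => by
    rw [map_mul, hx, LinearEquiv.mul_apply, htap, htap, map_add, map_smul, hφc, smul_zero, add_zero,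
      add_assoc, add_self, add_zero]
    rfl
  obtain ⟨s, hs⟩ := hker (MonoidHom.mem_ker.2 hxx)
  have hts : t s = s := by
    rw [← hx]
    exact D.fix_of_comm (by rw [hs, mul_assoc])
  have hφs : φ s = 0 := by
    rw [htap] at hts
    have h := add_eq_left.1 hts
    exact (smul_eq_zero.1 h).resolve_right hc
  -- squares of the other lifts
  have hsq : ∀ v, x * D.e v * (x * D.e v) = D.e (s + φ v • c) := by
    intro v
    have h1 : x * D.e v = D.e (t v) * x := by rw [← hx, ← D.conj, inv_mul_cancel_right]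
    calc x * D.e v * (x * D.e v) = D.e (t v) * (x * x) * D.e v := by rw [← mul_assoc, h1]; group
      _ = D.e (t v + s + v) := by rw [← hs, ← D.e_add, ← D.e_add]
      _ = D.e (s + φ v • c) := by
          congr 1
          rw [htap]
          calc v + φ v • c + s + v = (v + v) + (s + φ v • c) := by abel
            _ = s + φ v • c := by rw [add_self, zero_add]
  have hsc : s = 0 ∨ s = c := by
    by_contra hcon
    push Not at hcon
    have hsn : s ∉ Submodule.span (ZMod 2) {c} := fun h => (hspan h).elim hcon.1 hcon.2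
    obtain ⟨ψ, hψs, hψ⟩ := Transvections.exists_functional _ hsn
    have hψc : ψ c = 0 := hψ c (Submodule.mem_span_singleton_self c)
    obtain ⟨c', hc'φ, hc'ψ, hc'⟩ : ∃ c', φ c' = 0 ∧ ψ c' = 0 ∧ c' ∉ Submodule.span (ZMod 2) {c} := by
      by_contra hall
      push Not at hall
      let L : V →ₗ[ZMod 2] ZMod 2 × ZMod 2 := φ.prod ψ
      have hle : LinearMap.ker L ≤ Submodule.span (ZMod 2) {c} := fun a ha => by
        have h := LinearMap.mem_ker.1 ha
        exact hall a (congrArg Prod.fst h) (congrArg Prod.snd h)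
      have h1 := Submodule.finrank_mono hle
      rw [finrank_span_singleton hc] at h1
      have h2 := LinearMap.finrank_range_add_finrank_ker L
      have h3 := Submodule.finrank_le (LinearMap.range L)
      have h4' : Module.finrank (ZMod 2) (ZMod 2 × ZMod 2) = 2 := by simp
      omega
    set g := LinearEquiv.transvection hc'ψ with hg
    have hgap : ∀ a, g a = a + ψ a • c' := fun a => LinearMap.transvection.apply ψ c' a
    have hgt : g * t = t * g := LinearEquiv.ext fun a => by
      simp only [LinearEquiv.mul_apply, htap, hgap, map_add, map_smul, hψc, hc'φ, smul_zero, add_zero]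
      abel
    obtain ⟨y, hy⟩ := D.surj g
    obtain ⟨v, hv⟩ : ∃ v, D.e v = x⁻¹ * (y * x * y⁻¹) := hker (MonoidHom.mem_ker.2 (by
      rw [map_mul, map_inv, map_mul, map_mul, map_inv, hy, hx, hgt, mul_inv_cancel_right, inv_mul_cancel]))
    have h1 : y * x * y⁻¹ = x * D.e v := by rw [hv, mul_inv_cancel_left]
    have h2 : D.e (g s) = D.e (s + φ v • c) := by
      rw [← hsq, ← h1, ← hy, ← D.conj, hs]
      group
    have h3 : c' = φ v • c := by
      have h := D.e_inj h2
      rw [hgap, hψs, one_smul] at h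
      exact add_left_cancel h
    exact hc' (h3 ▸ Submodule.smul_mem _ _ (Submodule.mem_span_singleton_self c))
  obtain ⟨v, hv⟩ : ∃ v, φ v • c = s := by
    rcases hsc with rfl | rfl
    · exact ⟨0, by rw [map_zero, zero_smul]⟩
    · exact ⟨w, by rw [hφw, one_smul]⟩
  obtain ⟨u, hu⟩ := D.invol (x * D.e v) (by rw [hsq, hv, add_self, D.e_zero])
  have h1 : t w = w := by
    rw [← hx, show x = D.e u * D.e v by rw [hu, mul_assoc, D.e_sq, mul_one], map_mul, D.π_e, D.π_e, one_mul]
    rfl
  rw [htap, hφw, one_smul] at h1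
  exact hc (add_eq_left.1 h1)

/-! ### Coprime lifts -/

variable [Finite X] (hQ : IsPGroup 2 D.π.ker)
include hQ

theorem exists_lift_three {a : V ≃ₗ[ZMod 2] V} (ha : a ^ 3 = 1) : ∃ z : X, D.π z = a ∧ z ^ 3 = 1 := by
  obtain ⟨x, hx⟩ := D.surj a
  obtain ⟨k, hk⟩ := hQ ⟨x ^ 3, MonoidHom.mem_ker.2 (by rw [map_pow, hx, ha])⟩
  have hk' : (x ^ 3) ^ 2 ^ k = 1 := congrArg Subtype.val hk
  refine ⟨x ^ 2 ^ (2 * k), ?_, ?_⟩
  · have hmod : 2 ^ (2 * k) % 3 = 1 := by rw [pow_mul, Nat.pow_mod]; norm_num
    rw [map_pow, hx, ← Nat.mod_add_div (2 ^ (2 * k)) 3, hmod, pow_add, pow_one, pow_mul, ha, one_pow, mul_one]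
  · rw [← pow_mul, mul_comm, pow_mul, show 2 * k = k + k by ring, pow_add, pow_mul, hk', one_pow]

theorem exists_comm_lift {z : X} (hz : z ^ 3 = 1) {b : V ≃ₗ[ZMod 2] V} (hb : b * D.π z = D.π z * b) :
    ∃ g : X, D.π g = b ∧ g * z = z * g := by
  obtain ⟨g, hg⟩ := D.surj b
  set Q := D.π.ker with hQdef
  have hz3 : orderOf z ∣ 3 := orderOf_dvd_of_pow_eq_one hz
  have hcop : ∀ w : X, orderOf w ∣ 3 → (Nat.card Q).Coprime (Nat.card (zpowers w)) := by
    intro w hw
    obtain ⟨k, hk⟩ := hQ.exists_card_eq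
    rw [Nat.card_zpowers, hk]
    exact Nat.Coprime.coprime_dvd_right hw (Nat.Coprime.pow_left _ (by norm_num))
  set z' := g * z * g⁻¹ with hz'
  have hz'3 : orderOf z' ∣ 3 := orderOf_dvd_of_pow_eq_one (by rw [hz', conj_pow, hz, mul_one, mul_inv_cancel])
  have hπ : D.π z' = D.π z := by rw [hz', map_mul, map_mul, map_inv, hg, hb, mul_inv_cancel_right]
  have hnorm : ∀ H : Subgroup X, H ≤ normalizer (Q : Set X) := fun H => by
    rw [normalizer_eq_top]; exact le_top
  have hmem : ∀ {w w' : X}, D.π w = D.π w' → w ∈ Q ⊔ zpowers w' := fun {w w'} h => by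
    have h1 : w * w'⁻¹ ∈ Q := MonoidHom.mem_ker.2 (by rw [map_mul, map_inv, h, mul_inv_cancel])
    rw [← inv_mul_cancel_right w w']
    exact mul_mem (mem_sup_left h1) (mem_sup_right (mem_zpowers w'))
  have hsup : Q ⊔ zpowers z = Q ⊔ zpowers z' := le_antisymm
    (sup_le le_sup_left (zpowers_le.2 (hmem hπ.symm))) (sup_le le_sup_left (zpowers_le.2 (hmem hπ)))
  obtain ⟨q, hq, he⟩ := Coprime.exists_conj_eq_of_sup_eq (hnorm _) (hnorm _) hsup (hcop z hz3) (hcop z' hz'3)
    (Or.inl (by haveI := hQ.isNilpotent; infer_instance))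
  refine ⟨q⁻¹ * g, by rw [map_mul, map_inv, MonoidHom.mem_ker.1 hq, inv_one, one_mul, hg], ?_⟩
  have hmz : q⁻¹ * z' * q ∈ zpowers z := by
    rw [← Coprime.mem_conj_smul, he]; exact mem_zpowers z'
  have hker : z⁻¹ * (q⁻¹ * z' * q) ∈ Q := MonoidHom.mem_ker.2 (by
    rw [map_mul, map_mul, map_mul, map_inv, map_inv, MonoidHom.mem_ker.1 hq, hπ, inv_one, one_mul, mul_one,
      inv_mul_cancel])
  have h1 := (Subgroup.disjoint_def.1 (Coprime.disjoint_of_coprime (hcop z hz3))) hker
    (mul_mem (inv_mem (mem_zpowers z)) hmz)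
  rw [inv_mul_eq_one] at h1
  calc q⁻¹ * g * z = q⁻¹ * z' * q * (q⁻¹ * g) := by rw [hz']; group
    _ = z * (q⁻¹ * g) := by rw [← h1]

end Cover

/-! ### The kernel is `V` -/

/-- In a group with one involution an automorphism acting without fixed points on a four-group quotient
leaves a kernel of order at most two. -/
theorem two_le_of_four_quotient {P : Type*} [Group P] [Finite P] (hP : IsPGroup 2 P)
    (huniq : ∀ a b : P, a * a = 1 → b * b = 1 → a ≠ 1 → b ≠ 1 → a = b) {U : Type*} [Group U] (φ : P →* U)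
    (hsurj : Function.Surjective φ) (hU : Nat.card U = 4) (hU2 : ∀ u : U, u * u = 1)
    (α : MulAut P) (hα : ∀ p, φ (α p) = φ p → φ p = 1) : Nat.card φ.ker ≤ 2 := by
  classical
  haveI : Fact (Nat.Prime 2) := ⟨Nat.prime_two⟩
  have hidx : Nat.card P = 4 * Nat.card φ.ker := by
    rw [Subgroup.card_eq_card_quotient_mul_card_subgroup φ.ker,
      Nat.card_congr (QuotientGroup.quotientKerEquivOfSurjective φ hsurj).toEquiv, hU]
  have huH : ∀ H K : Subgroup P, Nat.card H = 2 → Nat.card K = 2 → H = K := by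
    have key : ∀ H : Subgroup P, Nat.card H = 2 → ∃ a, a * a = 1 ∧ a ≠ 1 ∧ H = zpowers a := by
      intro H hH
      obtain ⟨⟨a, ha⟩, hao⟩ := exists_prime_orderOf_dvd_card' (G := H) 2 (hH.symm ▸ dvd_rfl)
      rw [orderOf_mk] at hao
      refine ⟨a, by rw [← pow_two, ← hao, pow_orderOf_eq_one], fun e => ?_, ?_⟩
      · rw [e, orderOf_one] at hao; omega
      · exact (eq_of_le_of_card_ge (zpowers_le.2 ha) (by rw [hH, Nat.card_zpowers, hao])).symm
    intro H K hH hK
    obtain ⟨a, ha, ha1, rfl⟩ := key H hH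
    obtain ⟨b, hb, hb1, rfl⟩ := key K hK
    rw [huniq a b ha hb ha1 hb1]
  have hcyc : ∀ (x : P), φ.ker ⊔ zpowers x = ⊤ → False := by
    intro x hx
    have h2 : ∀ u : U, u ∈ zpowers (φ x) := by
      intro u
      obtain ⟨p, rfl⟩ := hsurj u
      have hp : φ p ∈ (φ.ker ⊔ zpowers x).map φ := mem_map_of_mem _ (hx ▸ mem_top p)
      rw [Subgroup.map_sup, MonoidHom.map_zpowers, (Subgroup.map_eq_bot_iff _).2 le_rfl, bot_sup_eq] at hp
      exact hp
    have h4 : Nat.card U ≤ 2 := by
      rw [← orderOf_eq_card_of_forall_mem_zpowers h2]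
      exact Nat.le_of_dvd two_pos (orderOf_dvd_of_pow_eq_one (by rw [pow_two]; exact hU2 _))
    omega
  rcases PGroups.UniqueSubgroup.isCyclic_or_quaternion hP huH with hc | ⟨-, m, ⟨e⟩⟩
  · obtain ⟨x, hx⟩ := hc.exists_generator
    exact (hcyc x (eq_top_iff.2 fun p _ => mem_sup_right (hx p))).elim
  haveI : NeZero (2 ^ m) := ⟨by positivity⟩
  have hcard : Nat.card P = 4 * 2 ^ m := by
    rw [Nat.card_congr e.toEquiv, Nat.card_eq_fintype_card, QuaternionGroup.card]
  by_cases hm : m ≤ 1
  · have : 2 ^ m ≤ 2 ^ 1 := Nat.pow_le_pow_right two_pos hm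
    omega
  exfalso
  have h8 : 4 ≤ 2 ^ m := by
    calc 4 = 2 ^ 2 := rfl
      _ ≤ 2 ^ m := Nat.pow_le_pow_right two_pos (by omega)
  set a := e.symm (QuaternionGroup.a 1) with ha
  have hao : orderOf a = 2 * 2 ^ m := by rw [ha, MulEquiv.orderOf_eq, QuaternionGroup.orderOf_a_one]
  have hpow : ∀ i, e.symm (QuaternionGroup.a i) ∈ zpowers a := fun i => by
    rw [← ZMod.natCast_zmod_val i, ← QuaternionGroup.a_one_pow, map_pow]
    exact pow_mem (mem_zpowers a) _
  have hαa : α a ∈ zpowers a := by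
    have ho : orderOf (e (α a)) = 2 * 2 ^ m := by rw [MulEquiv.orderOf_eq, MulEquiv.orderOf_eq, hao]
    rcases h : e (α a) with i | i
    · rw [← e.symm_apply_apply (α a), h]
      exact hpow i
    · rw [h, QuaternionGroup.orderOf_xa] at ho
      omega
  have ha1 : φ a = 1 := by
    obtain ⟨k, hk⟩ := hαa
    rcases Int.even_or_odd k with ⟨j, rfl⟩ | ⟨j, rfl⟩
    · -- the image of `α a` is trivial
      have h1 : φ (α a) = 1 := by
        rw [← hk]
        show φ (a ^ (j + j)) = 1
        rw [map_zpow, ← two_mul, zpow_mul, zpow_two, hU2, one_zpow]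
      by_contra hne
      obtain ⟨p, hp⟩ := α.surjective a
      have hp2 : p ∈ zpowers a := by
        have ho : orderOf (e p) = 2 * 2 ^ m := by
          rw [MulEquiv.orderOf_eq, ← MulEquiv.orderOf_eq α, hp, hao]
        rcases h : e p with i | i
        · rw [← e.symm_apply_apply p, h]
          exact hpow i
        · rw [h, QuaternionGroup.orderOf_xa] at ho
          omega
      obtain ⟨l, rfl⟩ := hp2
      refine hne ?_
      rw [← hp, map_zpow α, map_zpow, h1, one_zpow]
    · refine hα a ?_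
      rw [← hk]
      show φ (a ^ (2 * j + 1)) = φ a
      rw [map_zpow, zpow_add, zpow_mul, zpow_two, hU2, one_zpow, one_mul, zpow_one]
  refine hcyc (e.symm (QuaternionGroup.xa 0)) (eq_top_iff.2 fun p _ => ?_)
  have hk : zpowers a ≤ φ.ker := zpowers_le.2 ha1
  rw [← e.symm_apply_apply p]
  rcases e p with i | i
  · exact mem_sup_left (hk (hpow i))
  · rw [show QuaternionGroup.xa i = QuaternionGroup.xa 0 * QuaternionGroup.a i by
      rw [QuaternionGroup.xa_mul_a, zero_add], map_mul]
    exact mul_mem (mem_sup_right (mem_zpowers _)) (mem_sup_left (hk (hpow i)))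

section Model

theorem bit_cases : ∀ k : ZMod 2, k = 0 ∨ k = 1 := by decide

theorem scal_add : ∀ i j : Fin 4, ∃ l : Fin 4, ∀ q : W2, scal l q = scal i q + scal j q := by decide

variable {n : ℕ} {X : Type u} [Group X] [Finite X] (D : Cover (Mod n) X) (hQ : IsPGroup 2 D.π.ker)
include hQ

/-- An element of order three over the scalar centralises only one involution of the kernel. -/
theorem fixed_ker {z : X} (hz : D.π z = zed) (hz3 : z ^ 3 = 1) {q : X} (hq : q ∈ D.π.ker)
    (hqz : q * z = z * q) : q ∈ D.img := by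
  classical
  haveI : Fact (Nat.Prime 2) := ⟨Nat.prime_two⟩
  let U : Subgroup (Mod n ≃ₗ[ZMod 2] Mod n) :=
    { carrier := Set.range fun i => shear (scal i)
      one_mem' := ⟨0, shear_zero⟩
      mul_mem' := by
        rintro _ _ ⟨i, rfl⟩ ⟨j, rfl⟩
        obtain ⟨l, hl⟩ := scal_add i j
        exact ⟨l, (congrArg shear (LinearMap.ext hl)).trans (shear_mul _ _).symm⟩
      inv_mem' := by
        rintro _ ⟨i, rfl⟩
        refine ⟨i, (inv_eq_of_mul_eq_one_right ?_).symm⟩
        rw [shear_mul, ZModModule.add_self, shear_zero] }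
  have hUmem : ∀ {b}, b ∈ U ↔ ∃ i, shear (scal i) = b := Iff.rfl
  have hU : Nat.card U = 4 := by
    have : Function.Injective fun i : Fin 4 => (shear (scal i) : Mod n ≃ₗ[ZMod 2] Mod n) := by
      intro i j h
      have h2 : ∀ i j : Fin 4, (∀ q : W2, scal i q = scal j q) → i = j := by decide
      exact h2 i j (LinearMap.ext_iff.1 (shear_inj h))
    show Nat.card (Set.range fun i => shear (scal i)) = 4
    rw [Nat.card_range_of_injective this, Nat.card_eq_fintype_card, Fintype.card_fin]
  let P : Subgroup X := U.comap D.π ⊓ centralizer ({z} : Set X)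
  have hPmem : ∀ {x}, x ∈ P ↔ D.π x ∈ U ∧ x * z = z * x := fun {x} =>
    and_congr Iff.rfl mem_centralizer_singleton_iff
  have hP : IsPGroup 2 P := by
    intro x
    obtain ⟨i, hi⟩ := hUmem.1 (hPmem.1 x.2).1
    obtain ⟨k, hk⟩ := hQ ⟨(x : X) * x, MonoidHom.mem_ker.2 (by
      rw [map_mul, ← hi, shear_mul, ZModModule.add_self, shear_zero])⟩
    refine ⟨k + 1, Subtype.ext ?_⟩
    push_cast
    rw [pow_succ', pow_mul, pow_two]
    exact congrArg Subtype.val hk
  have huniq : ∀ a b : P, a * a = 1 → b * b = 1 → a ≠ 1 → b ≠ 1 → a = b := by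
    have key : ∀ a : P, a * a = 1 → a ≠ 1 → (a : X) = D.e (1, 0) := by
      intro a ha ha1
      obtain ⟨v, hv⟩ := D.invol a (congrArg Subtype.val ha)
      have hfix : zed v = v := by
        rw [← hz]
        exact D.fix_of_comm (by rw [hv]; exact ((hPmem.1 a.2).2).symm)
      have h2 := zed_fix hfix
      rw [← hv]
      congr 1
      refine Prod.ext ?_ h2
      rcases bit_cases v.1 with h1 | h1
      · exact absurd (Subtype.ext (by rw [← hv, show v = 0 from Prod.ext h1 h2, D.e_zero]; rfl)) ha1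
      · exact h1
    exact fun a b ha hb ha1 hb1 => Subtype.ext ((key a ha ha1).trans (key b hb hb1).symm)
  let φ : P →* U := (D.π.comp P.subtype).codRestrict U fun x => (hPmem.1 x.2).1
  have hsurj : Function.Surjective φ := by
    rintro ⟨b, hb⟩
    obtain ⟨i, rfl⟩ := hUmem.1 hb
    obtain ⟨g, hg, hgz⟩ := D.exists_comm_lift hQ hz3 (b := shear (scal i)) (by rw [hz]; exact (zed_shear i).symm)
    exact ⟨⟨g, hPmem.2 ⟨hg ▸ hb, hgz⟩⟩, Subtype.ext hg⟩
  obtain ⟨a, ha, haz⟩ := D.exists_comm_lift hQ hz3 (b := alpha) (by rw [hz]; exact zed_alpha.symm)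
  have hnext : ∀ i : Fin 4, ∃ j : Fin 4, ∀ q : W2, scal j q = omega (scal i q) := by decide
  have haN : a ∈ normalizer (P : Set X) := by
    have hle : P.map (MulAut.conj a).toMonoidHom ≤ P := by
      rintro _ ⟨x, hx, rfl⟩
      obtain ⟨hxU, hxz⟩ := hPmem.1 hx
      obtain ⟨i, hi⟩ := hUmem.1 hxU
      obtain ⟨j, hj⟩ := hnext i
      refine hPmem.2 ⟨hUmem.2 ⟨j, ?_⟩, ?_⟩
      · show shear (scal j) = D.π (a * x * a⁻¹)
        rw [map_mul, map_mul, map_inv, ha, ← hi, alpha_shear i j hj]
      · show Commute (a * x * a⁻¹) z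
        exact ((show Commute a z from haz).mul_left hxz).mul_left (show Commute a z from haz).inv_left
    have heq := eq_of_le_of_card_ge hle (card_map_of_injective (MulAut.conj a).injective).ge
    refine mem_normalizer_iff.2 fun w => ⟨fun hw => heq.le ⟨w, hw, rfl⟩, fun hw => ?_⟩
    obtain ⟨j, hj, hjw⟩ := heq.ge hw
    exact (mul_left_cancel (mul_right_cancel (show a * j * a⁻¹ = a * w * a⁻¹ from hjw))) ▸ hj
  have hle := two_le_of_four_quotient hP huniq φ hsurj hU
    (fun u => Subtype.ext (by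
      obtain ⟨i, hi⟩ := hUmem.1 u.2
      rw [Subgroup.coe_mul, ← hi, shear_mul, ZModModule.add_self, shear_zero]; rfl))
    (P.normalizerMonoidHom ⟨a, haN⟩) fun p hp => by
      obtain ⟨i, hi⟩ := hUmem.1 (hPmem.1 p.2).1
      obtain ⟨j, hj⟩ := hnext i
      have h1 : D.π (a * p * a⁻¹) = D.π p := congrArg Subtype.val hp
      rw [map_mul, map_mul, map_inv, ha, ← hi, alpha_shear i j hj] at h1
      have hji := shear_inj h1
      have hi0 : ∀ i j : Fin 4, (∀ q : W2, scal j q = omega (scal i q)) → (∀ q : W2, scal j q = scal i q) → i = 0 := by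
        decide
      have := hi0 i j hj (LinearMap.ext_iff.1 hji)
      subst this
      exact Subtype.ext (hi.symm.trans shear_zero)
  by_cases hq1 : q = 1
  · rw [hq1]; exact one_mem _
  have hd : D.e (1, 0) * z = z * D.e (1, 0) := by
    have h := D.conj z (1, 0)
    rw [hz, zed_apply] at h
    have : ((1 : ZMod 2), fun j : Fin (n + 2) => omega ((0 : Fin (n + 2) → W2) j)) = ((1 : ZMod 2), (0 : Fin (n + 2) → W2)) :=
      Prod.ext rfl (funext fun j => map_zero omega)
    rw [this] at h
    exact (mul_inv_eq_iff_eq_mul.1 h).symm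
  let d : φ.ker := ⟨⟨D.e (1, 0), hPmem.2 ⟨(D.π_e (1, 0)).symm ▸ one_mem U, hd⟩⟩, Subtype.ext (D.π_e (1, 0))⟩
  let q' : φ.ker := ⟨⟨q, hPmem.2 ⟨(MonoidHom.mem_ker.1 hq).symm ▸ one_mem U, hqz⟩⟩,
    Subtype.ext (MonoidHom.mem_ker.1 hq)⟩
  have hd1 : d ≠ 1 := fun e => by
    have h1 : D.e (1, 0) = D.e 0 := (congrArg (fun w : φ.ker => ((w : P) : X)) e).trans D.e_zero.symm
    exact one_ne_zero (congrArg Prod.fst (D.e_inj h1))
  have hq' : q' = d := by
    by_contra hne
    haveI := Fintype.ofFinite φ.ker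
    have h3 := Finset.card_le_univ ({1, d, q'} : Finset φ.ker)
    rw [Finset.card_eq_three.2 ⟨1, d, q', hd1.symm,
      fun e => hq1 (congrArg (fun w : φ.ker => ((w : P) : X)) e).symm, fun e => hne e.symm, rfl⟩,
      ← Nat.card_eq_fintype_card] at h3
    omega
  exact ⟨(1, 0), (congrArg (fun w : φ.ker => ((w : P) : X)) hq').symm⟩

omit hQ in
/-- A group of order seven inverted-like by an element of order three fixed point freely acts trivially. -/
theorem eq_of_seven {A : Type*} [CommGroup A] [Finite A] (hA : IsPGroup 2 A) (S Z : MulAut A)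
    (hZ : Z ^ 3 = 1) (hS : S ^ 7 = 1) (hrel : Z * S * Z⁻¹ = S * S) (hfix : ∀ a, Z a = a → a = 1) (a : A) :
    S a = a := by
  have hZS : Z * S = S * S * Z := mul_inv_eq_iff_eq_mul.1 hrel
  have hfix' : ∀ i : ℕ, ∀ b, (S ^ i * Z) b = b → b = 1 := by
    intro i b hb
    have e : ∀ j : ℕ, Z * S ^ j = S ^ (2 * j) * Z := by
      intro j
      induction j with
      | zero => simp
      | succ j ih => rw [pow_succ, ← mul_assoc, ih, mul_assoc, hZS, mul_add, mul_one, pow_add, pow_two]; group
    have e2 : Z * S ^ i = S ^ i * (S ^ i * Z) := by rw [e, two_mul, pow_add, mul_assoc]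
    have h := congrFun (congrArg DFunLike.coe e2) b
    simp only [MulAut.mul_apply] at h
    rw [show (S ^ i) (Z b) = b from hb] at h
    have := hfix _ h
    exact (map_eq_one_iff (S ^ i) (S ^ i).injective).1 this
  have hsum : ∀ i : ℕ, a * (S ^ i * Z) a * (S ^ i * Z * (S ^ i * Z)) a = 1 := by
    intro i
    have hf3 : (S ^ i * Z) * (S ^ i * Z) * (S ^ i * Z) = 1 := by
      have e : ∀ j : ℕ, Z * S ^ j = S ^ (2 * j) * Z := by
        intro j
        induction j with
        | zero => simp
        | succ j ih => rw [pow_succ, ← mul_assoc, ih, mul_assoc, hZS, mul_add, mul_one, pow_add, pow_two]; group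
      calc S ^ i * Z * (S ^ i * Z) * (S ^ i * Z) = S ^ i * (Z * S ^ i) * (Z * S ^ i) * Z := by group
        _ = S ^ i * S ^ (2 * i) * (Z * S ^ (2 * i)) * (Z * Z) := by rw [e]; group
        _ = S ^ (i + 2 * i + 2 * (2 * i)) * (Z * Z * Z) := by rw [e, pow_add, pow_add]; group
        _ = 1 := by
            rw [show i + 2 * i + 2 * (2 * i) = 7 * i by ring, pow_mul, hS, one_pow, one_mul,
              show Z * Z * Z = Z ^ 3 by rw [pow_succ, pow_two], hZ]
    refine hfix' i _ ?_
    generalize S ^ i * Z = f at hf3 ⊢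
    have h3 : f (f (f a)) = a := by
      have := congrFun (congrArg DFunLike.coe hf3) a
      simpa [MulAut.mul_apply] using this
    simp only [map_mul, MulAut.mul_apply, h3]
    rw [mul_comm, mul_assoc]
  set T : A → A := fun b => ∏ i ∈ Finset.range 7, (S ^ i) b with hT
  have hT1 : T a * T (Z a) * T (Z (Z a)) = 1 := by
    have h0 : a * Z a * Z (Z a) = 1 := by simpa [MulAut.mul_apply] using hsum 0
    rw [hT, ← Finset.prod_mul_distrib, ← Finset.prod_mul_distrib]
    exact Finset.prod_eq_one fun i _ => by rw [← map_mul, ← map_mul, h0, map_one]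
  have hperm : ∀ b, ∏ i ∈ Finset.range 7, (S ^ (3 * i)) b = T b := by
    intro b
    have hmod : ∀ j : ℕ, S ^ j = S ^ (j % 7) := fun j => by
      conv_lhs => rw [← Nat.mod_add_div j 7, pow_add, pow_mul, hS, one_pow, mul_one]
    simp only [hT, Finset.prod_range_succ, Finset.prod_range_zero, one_mul]
    rw [hmod (3 * 3), hmod (3 * 4), hmod (3 * 5), hmod (3 * 6)]
    norm_num
    ac_rfl
  have h7 : T a = a ^ 7 := by
    have h := Finset.prod_eq_one (s := Finset.range 7) fun i _ => hsum i
    rw [Finset.prod_mul_distrib, Finset.prod_mul_distrib, Finset.prod_const, Finset.card_range] at h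
    have h1 : ∏ i ∈ Finset.range 7, (S ^ i * Z) a = T (Z a) := rfl
    have h2 : ∏ i ∈ Finset.range 7, (S ^ i * Z * (S ^ i * Z)) a = T (Z (Z a)) := by
      rw [← hperm]
      refine Finset.prod_congr rfl fun i _ => ?_
      have e : ∀ j : ℕ, Z * S ^ j = S ^ (2 * j) * Z := by
        intro j
        induction j with
        | zero => simp
        | succ j ih => rw [pow_succ, ← mul_assoc, ih, mul_assoc, hZS, mul_add, mul_one, pow_add, pow_two]; group
      rw [show S ^ i * Z * (S ^ i * Z) = S ^ (3 * i) * (Z * Z) by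
        calc S ^ i * Z * (S ^ i * Z) = S ^ i * (Z * S ^ i) * Z := by group
          _ = S ^ (i + 2 * i) * (Z * Z) := by rw [e, pow_add]; group
          _ = _ := by rw [show i + 2 * i = 3 * i by ring]]
      rfl
    rw [h1, h2, ← hT1] at h
    exact (mul_right_cancel (mul_right_cancel h)).symm
  have h8 : S (T a) = T a := by
    simp only [hT, map_prod, ← MulAut.mul_apply, ← pow_succ']
    simp only [Finset.prod_range_succ, Finset.prod_range_zero, one_mul, hS, pow_zero, MulAut.one_apply]
    ac_rfl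
  rw [h7, map_pow] at h8
  obtain ⟨k, hk⟩ := hA.exists_card_eq
  exact (powCoprime (show (Nat.card A).Coprime 7 by rw [hk]; exact Nat.Coprime.pow_left _ (by norm_num))).injective h8

/-- The kernel is the module. -/
theorem ker_le_img : D.π.ker ≤ D.img := by
  classical
  haveI : Fact (Nat.Prime 2) := ⟨Nat.prime_two⟩
  set Q := D.π.ker with hQdef
  by_contra hne
  haveI := Fintype.ofFinite (Subgroup X)
  obtain ⟨N, hNmem, hmax⟩ := (Finset.univ.filter fun N : Subgroup X => N.Normal ∧ D.img ≤ N ∧ N < Q).exists_maximal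
    ⟨D.img, Finset.mem_filter.2 ⟨Finset.mem_univ _, D.img_normal, le_rfl, lt_of_le_not_ge D.img_le hne⟩⟩
  obtain ⟨hNn, hVN, hNQ⟩ := (Finset.mem_filter.1 hNmem).2
  -- the quotient is abelian
  have hcomm : ⁅Q, Q⁆ ≤ N := by
    by_contra h
    have hlt : N < N ⊔ ⁅Q, Q⁆ := left_lt_sup.2 h
    have hle : N ⊔ ⁅Q, Q⁆ ≤ Q := sup_le hNQ.le (Subgroup.commutator_le_self Q)
    rcases lt_or_eq_of_le hle with hlt' | heq
    · exact hlt.not_ge (hmax (Finset.mem_filter.2 ⟨Finset.mem_univ _, inferInstance, hVN.trans le_sup_left, hlt'⟩) hlt.le)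
    · haveI := hQ.isNilpotent
      let f : Q →* Q ⧸ N.subgroupOf Q := QuotientGroup.mk' _
      haveI : Nontrivial (Q ⧸ N.subgroupOf Q) := QuotientGroup.nontrivial_iff.2 fun e => hNQ.not_ge fun x hx => by
        have h1 : (⟨x, hx⟩ : Q) ∈ N.subgroupOf Q := e ▸ mem_top _
        exact h1
      haveI : Group.IsSolvable (Q ⧸ N.subgroupOf Q) :=
        Group.isSolvable_of_surjective (f := f) (QuotientGroup.mk'_surjective _)
      refine (Group.IsSolvable.commutator_lt_top_of_nontrivial (Q ⧸ N.subgroupOf Q)).ne (eq_top_iff.2 ?_)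
      intro y _
      obtain ⟨x, rfl⟩ := QuotientGroup.mk'_surjective _ y
      have hx : (x : X) ∈ N ⊔ ⁅Q, Q⁆ := heq.ge x.2
      have hx' : x ∈ N.subgroupOf Q ⊔ _root_.commutator Q := by
        rw [← Subgroup.mem_map_iff_mem Q.subtype_injective, Subgroup.map_sup, Subgroup.map_subtype_commutator,
          Subgroup.map_subgroupOf_eq_of_le hNQ.le]
        exact hx
      have h2 := mem_map_of_mem f hx'
      rw [Subgroup.map_sup, (Subgroup.map_eq_bot_iff _).2 (QuotientGroup.ker_mk' _).ge, bot_sup_eq] at h2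
      rw [_root_.commutator_def, Subgroup.map_commutator, Subgroup.map_top_of_surjective f
        (QuotientGroup.mk'_surjective _), ← _root_.commutator_def] at h2
      exact h2
  let A := Q ⧸ N.subgroupOf Q
  haveI hAn : (N.subgroupOf Q).Normal := hNn.subgroupOf Q
  letI : CommGroup A :=
    { (inferInstance : Group A) with
      mul_comm := fun a b => by
        obtain ⟨a, rfl⟩ := QuotientGroup.mk'_surjective _ a
        obtain ⟨b, rfl⟩ := QuotientGroup.mk'_surjective _ b
        rw [← map_mul, ← map_mul]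
        refine (QuotientGroup.eq).2 ?_
        show ((a * b)⁻¹ * (b * a) : Q).1 ∈ N
        refine hcomm ?_
        rw [show (((a * b)⁻¹ * (b * a) : Q) : X) = ⁅(b : X)⁻¹, (a : X)⁻¹⁆ by
          simp [commutatorElement_def, mul_assoc]]
        exact Subgroup.commutator_mem_commutator (inv_mem b.2) (inv_mem a.2) }
  -- the action by conjugation
  let cq : X →* MulAut Q := MulAut.conjNormal
  have hpres : ∀ x : X, (N.subgroupOf Q).map (cq x).toMonoidHom = N.subgroupOf Q := by
    intro x
    ext q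
    rw [Subgroup.mem_map_equiv, mem_subgroupOf, mem_subgroupOf]
    constructor
    · intro h
      have h' := hNn.conj_mem _ h x
      rw [← MulAut.conjNormal_apply (H := Q), show MulAut.conjNormal x ((cq x).symm q) = q from (cq x).apply_symm_apply q] at h'
      exact h'
    · intro h
      have h' := hNn.conj_mem _ h x⁻¹
      rw [inv_inv] at h'
      rw [MulAut.conjNormal_symm_apply]
      exact h'
  let act : X →* MulAut A :=
    { toFun := fun x => QuotientGroup.congr _ _ (cq x) (hpres x)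
      map_one' := MulEquiv.ext fun a => by
        obtain ⟨a, rfl⟩ := QuotientGroup.mk'_surjective _ a
        exact congrArg (QuotientGroup.mk' _) (show cq 1 a = a by rw [map_one]; rfl)
      map_mul' := fun x y => MulEquiv.ext fun a => by
        obtain ⟨a, rfl⟩ := QuotientGroup.mk'_surjective _ a
        exact congrArg (QuotientGroup.mk' _) (show cq (x * y) a = cq x (cq y a) by rw [map_mul]; rfl) }
  have hact : ∀ x (q : Q), act x (QuotientGroup.mk' _ q) = QuotientGroup.mk' _ (cq x q) := fun _ _ => rfl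
  have htriv : D.π.ker ≤ act.ker := by
    intro x hx
    refine MonoidHom.mem_ker.2 (MulEquiv.ext fun a => ?_)
    obtain ⟨a, rfl⟩ := QuotientGroup.mk'_surjective _ a
    rw [hact, MulAut.one_apply]
    refine (QuotientGroup.eq).2 ?_
    show ((cq x a)⁻¹ * a : Q).1 ∈ N
    refine hcomm ?_
    rw [show ((((cq x a)⁻¹ * a : Q) : X)) = ⁅x, (a : X)⁻¹⁆ by
      simp [cq, MulAut.conjNormal_apply, commutatorElement_def, mul_assoc]]
    exact Subgroup.commutator_mem_commutator hx (inv_mem a.2)
  let aY := D.π.liftOfSurjective D.surj ⟨act, htriv⟩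
  have haY : ∀ x, aY (D.π x) = act x := fun x => MonoidHom.liftOfRightInverse_comp_apply _ _ _ _ x
  obtain ⟨z, hz, hz3⟩ := D.exists_lift_three hQ (zed_pow (n := n))
  have hAp : IsPGroup 2 A := hQ.to_quotient _
  have hfix : ∀ a : A, aY zed a = a → a = 1 := by
    intro a ha
    obtain ⟨q, rfl⟩ := QuotientGroup.mk'_surjective _ a
    rw [← hz, haY, hact] at ha
    have hN1 : z * (q : X) * z⁻¹ * (q : X)⁻¹ ∈ N := by
      have h := (QuotientGroup.eq).1 ha.symm
      have h' : (q : X)⁻¹ * (z * q * z⁻¹) ∈ N := by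
        simpa [cq, MulAut.conjNormal_apply, mem_subgroupOf] using h
      have := hNn.conj_mem _ h' (q : X)
      simpa [mul_assoc] using this
    obtain ⟨k, hk⟩ := hQ.exists_card_eq
    have hcop : (Nat.card (zpowers z)).Coprime (Nat.card Q) := by
      rw [hk, Nat.card_zpowers]
      exact Nat.Coprime.coprime_dvd_left (orderOf_dvd_of_pow_eq_one hz3) (Nat.Coprime.pow_right _ (by norm_num))
    have hAz : zpowers z ≤ normalizer (N : Set X) := by rw [normalizer_eq_top]; exact le_top
    obtain ⟨m, hm, hmz⟩ : ∃ m ∈ N, (q : X) * m ∈ centralizer ((zpowers z : Subgroup X) : Set X) :=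
      Coprime.exists_fixed_in_coset hAz
        (hcop.coprime_dvd_right (Subgroup.card_dvd_of_le hNQ.le))
        (Or.inl (Group.isSolvable_of_comm fun a b => mul_comm' a b)) (fun a ha' => by
          have hle : zpowers z ≤ normalizer (N : Set X) := hAz
          let K : Subgroup X :=
            { carrier := {a | (q : X)⁻¹ * (a * q * a⁻¹) ∈ N}
              one_mem' := by simp
              mul_mem' := fun {a b} ha hb => by
                show (q : X)⁻¹ * (a * b * q * (a * b)⁻¹) ∈ N
                rw [show (q : X)⁻¹ * (a * b * q * (a * b)⁻¹) =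
                  ((q : X)⁻¹ * (a * q * a⁻¹)) * (a * ((q : X)⁻¹ * (b * q * b⁻¹)) * a⁻¹) by group]
                exact mul_mem ha (hNn.conj_mem _ hb a)
              inv_mem' := fun {a} ha => by
                show (q : X)⁻¹ * (a⁻¹ * q * a⁻¹⁻¹) ∈ N
                rw [show (q : X)⁻¹ * (a⁻¹ * q * a⁻¹⁻¹) = a⁻¹ * ((q : X)⁻¹ * (a * q * a⁻¹))⁻¹ * a⁻¹⁻¹ by group]
                exact hNn.conj_mem _ (inv_mem ha) a⁻¹ }
          have hzK : z ∈ K := by
            show (q : X)⁻¹ * (z * q * z⁻¹) ∈ N
            have := hNn.conj_mem _ hN1 (q : X)⁻¹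
            simpa [mul_assoc] using this
          exact (zpowers_le.2 hzK : zpowers z ≤ K) ha')
    have hin := fixed_ker D hQ hz hz3 (mul_mem q.2 (hNQ.le hm))
      (mem_centralizer_iff.1 hmz z (mem_zpowers z)).symm
    refine (QuotientGroup.eq_one_iff q).2 ?_
    show (q : X) ∈ N
    rw [← mul_inv_cancel_right (q : X) m]
    exact mul_mem (hVN hin) (inv_mem hm)
  have hS : ∀ a : A, aY (tri s3) a = a := by
    refine eq_of_seven hAp (aY (tri s3)) (aY zed) ?_ ?_ ?_ hfix
    · rw [← map_pow, zed_pow, map_one]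
    · rw [← map_pow, ← map_pow, s3_pow, map_one, map_one]
    · rw [← map_inv, ← map_mul, ← map_mul, ← map_mul, zed_tri_s]
  have hzk : zed ∈ aY.ker := zed_mem aY.ker (MonoidHom.mem_ker.2 (MulEquiv.ext hS))
  refine hNQ.not_ge fun x hx => ?_
  have h := hfix (QuotientGroup.mk' _ ⟨x, hx⟩) (by rw [MonoidHom.mem_ker.1 hzk]; rfl)
  exact (QuotientGroup.eq_one_iff (⟨x, hx⟩ : Q)).1 h

/-- No such extension exists. -/
theorem false_model : False :=
  D.false_of_ker_le (by rw [finrank_mod]; omega) (ker_le_img D hQ)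

end Model

/-- Transport to a space of the same dimension. -/
noncomputable def Cover.map {V : Type v} [AddCommGroup V] [Module (ZMod 2) V] {W : Type*} [AddCommGroup W]
    [Module (ZMod 2) W] {X : Type u} [Group X] (D : Cover V X) (f : V ≃ₗ[ZMod 2] W) : Cover W X where
  π :=
    { toFun := fun x => f.symm.trans ((D.π x).trans f)
      map_one' := LinearEquiv.ext fun w => by simp
      map_mul' := fun x y => LinearEquiv.ext fun w => by simp }
  surj g := by
    obtain ⟨x, hx⟩ := D.surj (f.trans (g.trans f.symm))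
    exact ⟨x, LinearEquiv.ext fun w => by simp [hx]⟩
  e w := D.e (f.symm w)
  e_inj := D.e_inj.comp f.symm.injective
  e_add u v := by rw [map_add, D.e_add]
  π_e w := LinearEquiv.ext fun u => by simp [D.π_e]
  conj x w := by simp [D.conj]
  invol x hx := by
    obtain ⟨v, hv⟩ := D.invol x hx
    exact ⟨f v, by simp [hv]⟩

/-- No extension of a two-group by `GL(V)`, of odd dimension at least five, has its involutions in `V`. -/
theorem false_of_cover {V : Type v} [AddCommGroup V] [Module (ZMod 2) V] [Finite V]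
    {X : Type u} [Group X] [Finite X] (D : Cover V X) (hQ : IsPGroup 2 D.π.ker)
    (h5 : 5 ≤ Module.finrank (ZMod 2) V) (hodd : Odd (Module.finrank (ZMod 2) V)) : False := by
  obtain ⟨k, hk⟩ := hodd
  obtain ⟨n, rfl⟩ : ∃ n, k = n + 2 := ⟨k - 2, by omega⟩
  let f : V ≃ₗ[ZMod 2] Mod n := LinearEquiv.ofFinrankEq _ _ (by rw [hk, finrank_mod]; ring)
  refine false_model (D.map f) ?_
  intro x
  obtain ⟨j, hj⟩ := hQ ⟨x, MonoidHom.mem_ker.2 (LinearEquiv.ext fun v => by
    have h := LinearEquiv.ext_iff.1 (MonoidHom.mem_ker.1 x.2) (f v)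
    simpa [Cover.map] using h)⟩
  exact ⟨j, Subtype.ext (by simpa using congrArg Subtype.val hj)⟩

end Cfsg.Agent.OddTranspX.NoCover
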