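import Cfsg.Agent.Lib.Transvections.Generation
import Mathlib.LinearAlgebra.Pi
import Mathlib.LinearAlgebra.Dimension.Constructions

/-!
# Linear maps of a binary space of odd dimension at least five

The space is `F₂ × F₄^(n+2)`.  The scalar `ω` fixes one non-zero vector; it commutes with the four
group of shears between the first two blocks and with `ω` on the first block, and it is in every normal
subgroup containing the Singer element `s` of the first three coordinates.
-/

set_option autoImplicit false
set_option linter.style.haveILetI false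

namespace Cfsg.Agent.OddTranspX.NoCover

/-- A plane. -/
abbrev W2 : Type := ZMod 2 × ZMod 2

/-- A three dimensional space. -/
abbrev W3 : Type := ZMod 2 × W2

/-- The space of dimension `2 * n + 5`. -/
abbrev Mod (n : ℕ) : Type := ZMod 2 × (Fin (n + 2) → W2)

/-- A linear map of order three of the plane without fixed points. -/
def omega : W2 ≃ₗ[ZMod 2] W2 where
  toFun p := (p.2, p.1 + p.2)
  invFun p := (p.1 + p.2, p.1)
  map_add' := by decide
  map_smul' := by decide
  left_inv := by intro x; revert x; decide
  right_inv := by intro x; revert x; decide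

/-- `ω` extended by the identity. -/
def sigma3 : W3 ≃ₗ[ZMod 2] W3 where
  toFun p := (p.1, p.2.2, p.2.1 + p.2.2)
  invFun p := (p.1, p.2.1 + p.2.2, p.2.1)
  map_add' := by decide
  map_smul' := by decide
  left_inv := by intro x; revert x; decide
  right_inv := by intro x; revert x; decide

/-- A Singer element. -/
def s3 : W3 ≃ₗ[ZMod 2] W3 where
  toFun p := (p.2.2, p.1 + p.2.2, p.2.1)
  invFun p := (p.1 + p.2.1, p.2.2, p.1)
  map_add' := by decide
  map_smul' := by decide
  left_inv := by intro x; revert x; decide
  right_inv := by intro x; revert x; decide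

/-- An auxiliary element. -/
def g3 : W3 ≃ₗ[ZMod 2] W3 where
  toFun p := (p.2.2, p.2.1, p.1)
  invFun p := (p.2.2, p.2.1, p.1)
  map_add' := by decide
  map_smul' := by decide
  left_inv := by intro x; revert x; decide
  right_inv := by intro x; revert x; decide

/-- An auxiliary element. -/
def h3 : W3 ≃ₗ[ZMod 2] W3 where
  toFun p := (p.2.2, p.2.1 + p.2.2, p.1)
  invFun p := (p.2.2, p.1 + p.2.1, p.1)
  map_add' := by decide
  map_smul' := by decide
  left_inv := by intro x; revert x; decide
  right_inv := by intro x; revert x; decide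

theorem omega_pow : omega * omega * omega = 1 := LinearEquiv.ext (by decide)

theorem omega_fix : ∀ q : W2, omega q = q → q = 0 := by decide

theorem omega_ne : ∀ q : W2, q ≠ 0 → omega q ≠ q := by decide

theorem omega_sum : ∀ q : W2, q + omega q + omega (omega q) = 0 := by decide

theorem sigma3_s3 : sigma3 * s3 * sigma3⁻¹ = s3 * s3 := LinearEquiv.ext (by decide)

theorem s3_pow : s3 ^ 7 = 1 := LinearEquiv.ext (by decide)

theorem s3_ne : s3 ≠ 1 := fun h => absurd (LinearEquiv.ext_iff.1 h (1, 0, 0)) (by decide)

theorem sigma3_eq : sigma3 = g3 * s3 * g3⁻¹ * (h3 * (s3 * s3 * (s3 * s3)) * h3⁻¹) :=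
  LinearEquiv.ext (by decide)

theorem sigma3_apply : ∀ a : ZMod 2, ∀ q : W2, sigma3 (a, q) = (a, omega q) := by decide

variable {n : ℕ}

/-- A linear map of the first three coordinates. -/
def tri : (W3 ≃ₗ[ZMod 2] W3) →* (Mod n ≃ₗ[ZMod 2] Mod n) where
  toFun f :=
    { toFun := fun p => ((f (p.1, p.2 0)).1, Function.update p.2 0 (f (p.1, p.2 0)).2)
      invFun := fun p => ((f.symm (p.1, p.2 0)).1, Function.update p.2 0 (f.symm (p.1, p.2 0)).2)
      map_add' := fun p q => by
        have h : f (p.1 + q.1, p.2 0 + q.2 0) = f (p.1, p.2 0) + f (q.1, q.2 0) := by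
          rw [← map_add]; rfl
        refine Prod.ext ?_ (funext fun j => ?_)
        · simp [h]
        · by_cases hj : j = 0
          · subst hj; simp [h]
          · simp [hj]
      map_smul' := fun c p => by
        have h : f (c • p.1, c • p.2 0) = c • f (p.1, p.2 0) := by rw [← map_smul]; rfl
        simp only [smul_eq_mul] at h
        refine Prod.ext ?_ (funext fun j => ?_)
        · simp [h]
        · by_cases hj : j = 0
          · subst hj; simp [h]
          · simp [hj]
      left_inv := fun p => by
        refine Prod.ext ?_ (funext fun j => ?_)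
        · simp
        · by_cases hj : j = 0
          · subst hj; simp
          · simp [hj]
      right_inv := fun p => by
        refine Prod.ext ?_ (funext fun j => ?_)
        · simp
        · by_cases hj : j = 0
          · subst hj; simp
          · simp [hj] }
  map_one' := LinearEquiv.ext fun p => Prod.ext rfl (funext fun j => by
    by_cases hj : j = 0
    · subst hj; simp
    · simp [hj])
  map_mul' f g := LinearEquiv.ext fun p => Prod.ext (by simp) (funext fun j => by
    by_cases hj : j = 0
    · subst hj; simp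
    · simp [hj])

theorem tri_apply (f : W3 ≃ₗ[ZMod 2] W3) (p : Mod n) :
    tri f p = ((f (p.1, p.2 0)).1, Function.update p.2 0 (f (p.1, p.2 0)).2) := rfl

/-- A permutation of the blocks. -/
def perm (e : Equiv.Perm (Fin (n + 2))) : Mod n ≃ₗ[ZMod 2] Mod n where
  toFun p := (p.1, fun j => p.2 (e j))
  invFun p := (p.1, fun j => p.2 (e.symm j))
  map_add' _ _ := rfl
  map_smul' _ _ := rfl
  left_inv p := Prod.ext rfl (funext fun j => by simp)
  right_inv p := Prod.ext rfl (funext fun j => by simp)

theorem perm_apply (e : Equiv.Perm (Fin (n + 2))) (p : Mod n) (j : Fin (n + 2)) :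
    (perm e p).2 j = p.2 (e j) := rfl

/-- `ω` on the blocks of a set. -/
def onSet (T : Finset (Fin (n + 2))) : Mod n ≃ₗ[ZMod 2] Mod n where
  toFun p := (p.1, fun j => if j ∈ T then omega (p.2 j) else p.2 j)
  invFun p := (p.1, fun j => if j ∈ T then omega.symm (p.2 j) else p.2 j)
  map_add' p q := Prod.ext rfl (funext fun j => by by_cases hj : j ∈ T <;> simp [hj])
  map_smul' c p := Prod.ext rfl (funext fun j => by by_cases hj : j ∈ T <;> simp [hj])
  left_inv p := Prod.ext rfl (funext fun j => by by_cases hj : j ∈ T <;> simp [hj])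
  right_inv p := Prod.ext rfl (funext fun j => by by_cases hj : j ∈ T <;> simp [hj])

theorem onSet_apply (T : Finset (Fin (n + 2))) (p : Mod n) (j : Fin (n + 2)) :
    (onSet T p).2 j = if j ∈ T then omega (p.2 j) else p.2 j := rfl

/-- The scalar `ω`. -/
def zed : Mod n ≃ₗ[ZMod 2] Mod n := onSet Finset.univ

theorem zed_apply (p : Mod n) : zed p = (p.1, fun j => omega (p.2 j)) :=
  Prod.ext rfl (funext fun j => by simp [zed, onSet_apply])

theorem zed_pow : (zed : Mod n ≃ₗ[ZMod 2] Mod n) ^ 3 = 1 := LinearEquiv.ext fun p => by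
  simp only [pow_succ, pow_zero, one_mul, LinearEquiv.mul_apply, zed_apply]
  exact Prod.ext rfl (funext fun j => LinearEquiv.ext_iff.1 omega_pow (p.2 j))

theorem zed_fix {p : Mod n} (h : zed p = p) : p.2 = 0 := funext fun j =>
  omega_fix _ (congrFun (congrArg Prod.snd ((zed_apply p).symm.trans h)) j)

/-- The elements of the first three coordinates agreeing with the scalar. -/
theorem zed_tri_s : (zed : Mod n ≃ₗ[ZMod 2] Mod n) * tri s3 * zed⁻¹ = tri s3 * tri s3 := by
  rw [← map_mul, mul_inv_eq_iff_eq_mul]
  refine LinearEquiv.ext fun p => ?_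
  have h : ∀ a : ZMod 2, ∀ q : W2, ((s3 (a, q)).1, omega (s3 (a, q)).2) = (s3 * s3) (a, omega q) := by decide
  have h' := h p.1 (p.2 0)
  simp only [LinearEquiv.mul_apply, zed_apply, tri_apply] at h' ⊢
  rw [← h']
  refine Prod.ext rfl (funext fun j => ?_)
  by_cases hj : j = 0
  · subst hj; simp
  · simp [hj]

/-- The shear from the second block to the first. -/
def shear (k : W2 →ₗ[ZMod 2] W2) : Mod n ≃ₗ[ZMod 2] Mod n where
  toFun p := (p.1, Function.update p.2 0 (p.2 0 + k (p.2 1)))
  invFun p := (p.1, Function.update p.2 0 (p.2 0 + k (p.2 1)))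
  map_add' p q := Prod.ext rfl (funext fun j => by
    by_cases hj : j = 0
    · subst hj; simp [add_add_add_comm]
    · simp [hj])
  map_smul' c p := Prod.ext rfl (funext fun j => by
    by_cases hj : j = 0
    · subst hj; simp [smul_add]
    · simp [hj])
  left_inv p := Prod.ext rfl (funext fun j => by
    by_cases hj : j = 0
    · subst hj
      simp [Function.update_of_ne (show (1 : Fin (n + 2)) ≠ 0 by simp), add_assoc, ZModModule.add_self]
    · simp [hj])
  right_inv p := Prod.ext rfl (funext fun j => by
    by_cases hj : j = 0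
    · subst hj
      simp [Function.update_of_ne (show (1 : Fin (n + 2)) ≠ 0 by simp), add_assoc, ZModModule.add_self]
    · simp [hj])

theorem shear_apply (k : W2 →ₗ[ZMod 2] W2) (p : Mod n) :
    shear k p = (p.1, Function.update p.2 0 (p.2 0 + k (p.2 1))) := rfl

theorem shear_mul (k k' : W2 →ₗ[ZMod 2] W2) :
    (shear k : Mod n ≃ₗ[ZMod 2] Mod n) * shear k' = shear (k + k') := LinearEquiv.ext fun p => by
  simp only [LinearEquiv.mul_apply, shear_apply]
  refine Prod.ext rfl (funext fun j => ?_)
  by_cases hj : j = 0
  · subst hj; simp [Function.update_of_ne (show (1 : Fin (n + 2)) ≠ 0 by simp), add_assoc, add_comm (k' _)]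
  · simp [hj]

theorem shear_zero : (shear 0 : Mod n ≃ₗ[ZMod 2] Mod n) = 1 := LinearEquiv.ext fun p => by
  simp [shear_apply]

theorem shear_inj {k k' : W2 →ₗ[ZMod 2] W2} (h : (shear k : Mod n ≃ₗ[ZMod 2] Mod n) = shear k') : k = k' :=
  LinearMap.ext fun q => by
    have := congrFun (congrArg Prod.snd (LinearEquiv.ext_iff.1 h (0, Function.update 0 1 q))) 0
    simpa [shear_apply] using this

/-- The scalars of the plane as linear maps. -/
def scal : Fin 4 → (W2 →ₗ[ZMod 2] W2) :=
  ![0, LinearMap.id, omega.toLinearMap, omega.toLinearMap ∘ₗ omega.toLinearMap]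

theorem zed_shear (i : Fin 4) : (zed : Mod n ≃ₗ[ZMod 2] Mod n) * shear (scal i) = shear (scal i) * zed := by
  refine LinearEquiv.ext fun p => ?_
  simp only [LinearEquiv.mul_apply, zed_apply, shear_apply]
  refine Prod.ext rfl (funext fun j => ?_)
  by_cases hj : j = 0
  · subst hj
    have h : ∀ i : Fin 4, ∀ q q' : W2, omega (q + scal i q') = omega q + scal i (omega q') := by decide
    simp [h]
  · simp [hj]

/-- `ω` on the first block. -/
def alpha : Mod n ≃ₗ[ZMod 2] Mod n := onSet {0}

theorem zed_alpha : (zed : Mod n ≃ₗ[ZMod 2] Mod n) * alpha = alpha * zed := LinearEquiv.ext fun p => by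
  simp only [LinearEquiv.mul_apply, zed_apply, alpha]
  refine Prod.ext rfl (funext fun j => ?_)
  simp only [onSet_apply]
  split <;> rfl

theorem alpha_shear (i : Fin 4) (j : Fin 4) (h : ∀ q : W2, scal j q = omega (scal i q)) :
    (alpha : Mod n ≃ₗ[ZMod 2] Mod n) * shear (scal i) * alpha⁻¹ = shear (scal j) := by
  rw [mul_inv_eq_iff_eq_mul]
  refine LinearEquiv.ext fun p => ?_
  simp only [LinearEquiv.mul_apply, alpha, shear_apply]
  refine Prod.ext rfl (funext fun l => ?_)
  simp only [onSet_apply, Finset.mem_singleton]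
  by_cases hl : l = 0
  · subst hl
    simp [h, onSet_apply]
  · simp [hl, onSet_apply]

/-- The scalar lies in every normal subgroup containing the Singer element. -/
theorem zed_mem (K : Subgroup (Mod n ≃ₗ[ZMod 2] Mod n)) [hK : K.Normal] (hs : tri s3 ∈ K) : zed ∈ K := by
  have h0 : tri sigma3 ∈ K := by
    rw [sigma3_eq, map_mul, map_mul, map_mul, map_mul, map_mul, map_inv, map_inv]
    refine mul_mem (hK.conj_mem _ hs _) (hK.conj_mem _ ?_ _)
    simp only [map_mul]
    exact mul_mem (mul_mem hs hs) (mul_mem hs hs)
  have hone : ∀ j : Fin (n + 2), onSet {j} ∈ K := by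
    intro j
    have e : (onSet {j} : Mod n ≃ₗ[ZMod 2] Mod n) = perm (Equiv.swap 0 j) * tri sigma3 * (perm (Equiv.swap 0 j))⁻¹ := by
      rw [eq_mul_inv_iff_mul_eq]
      refine LinearEquiv.ext fun p => ?_
      simp only [LinearEquiv.mul_apply, tri_apply, sigma3_apply]
      refine Prod.ext rfl (funext fun l => ?_)
      simp only [onSet_apply, perm_apply, Finset.mem_singleton]
      by_cases hl : l = j
      · subst hl; simp
      · have : Equiv.swap 0 j l ≠ 0 := fun e => hl (by
          have := congrArg (Equiv.swap 0 j) e; simpa using this)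
        simp [hl, this]
    rw [e]
    exact hK.conj_mem _ h0 _
  suffices ∀ T : Finset (Fin (n + 2)), onSet T ∈ K from this _
  intro T
  induction T using Finset.induction_on with
  | empty =>
    rw [show (onSet ∅ : Mod n ≃ₗ[ZMod 2] Mod n) = 1 from LinearEquiv.ext fun p =>
      Prod.ext rfl (funext fun l => by simp [onSet_apply])]
    exact one_mem _
  | insert j T hj ih =>
    rw [show (onSet (insert j T) : Mod n ≃ₗ[ZMod 2] Mod n) = onSet {j} * onSet T from
      LinearEquiv.ext fun p => Prod.ext rfl (funext fun l => by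
        by_cases hl : l = j
        · subst hl; simp [onSet_apply, hj]
        · simp [onSet_apply, hl])]
    exact mul_mem (hone j) ih

theorem finrank_mod : Module.finrank (ZMod 2) (Mod n) = 2 * n + 5 := by
  simp [Module.finrank_prod, Module.finrank_pi_fintype]
  ring

end Cfsg.Agent.OddTranspX.NoCover
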