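import Cfsg.Agent.Lib.OddTranspX.NoCover

/-!
# No extension of an arbitrary kernel by `GL(r,2)` has all its involutions in the natural module

By induction on the order: a Sylow subgroup of the kernel for an odd prime is normal by the Frattini
argument, and can then be factored out.
-/

set_option autoImplicit false
set_option linter.style.haveILetI false
set_option linter.unusedSectionVars false

namespace Cfsg.Agent.OddTranspX.NoCover

open Subgroup

universe u v

theorem false_of_cover_aux {V : Type v} [AddCommGroup V] [Module (ZMod 2) V] [Finite V]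
    (h5 : 5 ≤ Module.finrank (ZMod 2) V) (hodd : Odd (Module.finrank (ZMod 2) V)) :
    ∀ (n : ℕ) {X : Type u} [Group X] [Finite X], Nat.card X ≤ n → Cover V X → False := by
  intro n
  induction n with
  | zero =>
    intro X _ _ hn _
    have : 0 < Nat.card X := Nat.card_pos
    omega
  | succ n ih =>
    intro X _ _ hn D
    haveI : Fact (Nat.Prime 2) := ⟨Nat.prime_two⟩
    by_cases h2 : IsPGroup 2 D.π.ker
    · exact false_of_cover D h2 h5 hodd
    obtain ⟨p, hp, hp2, hpd⟩ : ∃ p, p.Prime ∧ p ≠ 2 ∧ p ∣ Nat.card D.π.ker := by
      by_contra hno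
      push Not at hno
      exact h2 (IsPGroup.of_card (n := (Nat.card D.π.ker).primeFactorsList.length)
        (Nat.eq_prime_pow_of_unique_prime_dvd Nat.card_pos.ne' fun {d} hd hdd => by
          by_contra hd2
          exact hno d hd hd2 hdd))
    haveI : Fact p.Prime := ⟨hp⟩
    obtain ⟨P⟩ : Nonempty (Sylow p D.π.ker) := inferInstance
    set P' : Subgroup X := (P : Subgroup D.π.ker).map D.π.ker.subtype with hP'
    have hP'p : IsPGroup p P' := P.2.map _
    have hfrat := Sylow.normalizer_sup_eq_top P
    set N : Subgroup X := normalizer (P' : Set X) with hN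
    have hVN : ∀ v, D.e v ∈ N := fun v => centralizer_le_normalizer _ (mem_centralizer_iff.2 fun y hy => by
      obtain ⟨z, -, rfl⟩ := hy
      exact D.e_comm_ker z.2 v)
    by_cases hNtop : N = ⊤
    · haveI hPn : P'.Normal := normalizer_eq_top_iff.1 hNtop
      have hPker : P' ≤ D.π.ker := map_subtype_le _
      have hPV : ∀ v, D.e v ∈ P' → v = 0 := by
        intro v hv
        obtain ⟨k, hk⟩ := hP'p ⟨_, hv⟩
        have h1 : D.e v = 1 := orderOf_eq_one_iff.1 (Nat.eq_one_of_dvd_coprimes
          (Nat.coprime_pow_primes k 1 hp Nat.prime_two hp2)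
          (orderOf_dvd_of_pow_eq_one (congrArg Subtype.val hk))
          (orderOf_dvd_of_pow_eq_one (by rw [pow_one, pow_two, D.e_sq])))
        exact D.e_inj (h1.trans D.e_zero.symm)
      refine ih (X := X ⧸ P') ?_
        { π := QuotientGroup.lift P' D.π hPker
          surj := fun g => by
            obtain ⟨x, rfl⟩ := D.surj g
            exact ⟨QuotientGroup.mk x, rfl⟩
          e := fun v => QuotientGroup.mk (D.e v)
          e_inj := fun v w hvw => by
            have h1 : D.e (v + w) ∈ P' := by
              have := QuotientGroup.eq.1 hvw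
              rwa [D.e_inv, ← D.e_add] at this
            calc v = v + (v + w) := by rw [hPV _ h1, add_zero]
              _ = w := by rw [← add_assoc, ZModModule.add_self, zero_add]
          e_add := fun v w => by rw [D.e_add]; rfl
          π_e := fun v => D.π_e v
          conj := fun x v => by
            obtain ⟨x, rfl⟩ := QuotientGroup.mk_surjective x
            rw [← QuotientGroup.mk_inv, ← QuotientGroup.mk_mul, ← QuotientGroup.mk_mul, D.conj]
            rfl
          invol := fun x hx => by
            obtain ⟨x, rfl⟩ := QuotientGroup.mk_surjective x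
            have hx2 : x * x ∈ P' := (QuotientGroup.eq_one_iff _).1 hx
            obtain ⟨k, hk⟩ := hP'p ⟨_, hx2⟩
            have hk' : (x * x) ^ p ^ k = 1 := congrArg Subtype.val hk
            have hy : x ^ p ^ k * x ^ p ^ k = 1 := by rw [← (Commute.refl x).mul_pow, hk']
            obtain ⟨v, hv⟩ := D.invol _ hy
            refine ⟨v, ?_⟩
            show (QuotientGroup.mk (D.e v) : X ⧸ P') = QuotientGroup.mk x
            rw [hv]
            obtain ⟨l, hl⟩ : Odd (p ^ k) := (hp.odd_of_ne_two hp2).pow
            rw [hl, QuotientGroup.mk_pow, pow_succ, pow_mul, pow_two, hx, one_pow, one_mul] }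
      have h1 : 1 < Nat.card P' := by
        rw [hP', card_map_of_injective D.π.ker.subtype_injective]
        exact Nat.lt_of_lt_of_le hp.one_lt (Nat.le_of_dvd Nat.card_pos (P.dvd_card_of_dvd_card hpd))
      have h2' := Subgroup.card_eq_card_quotient_mul_card_subgroup P'
      have h3 : Nat.card (X ⧸ P') * 2 ≤ Nat.card X := by
        rw [h2']; exact Nat.mul_le_mul le_rfl h1
      have h4 : 0 < Nat.card (X ⧸ P') := Nat.card_pos
      omega
    · refine ih (X := N) ?_
        { π := D.π.comp N.subtype
          surj := fun g => by
            obtain ⟨x, rfl⟩ := D.surj g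
            have hx : x ∈ N ⊔ D.π.ker := by rw [hN, hP', hfrat]; exact mem_top x
            obtain ⟨a, ha, b, hb, rfl⟩ := mem_sup_of_normal_right.1 hx
            exact ⟨⟨a, ha⟩, by rw [map_mul, MonoidHom.mem_ker.1 hb, mul_one]; rfl⟩
          e := fun v => ⟨D.e v, hVN v⟩
          e_inj := fun v w hvw => D.e_inj (congrArg Subtype.val hvw)
          e_add := fun v w => Subtype.ext (D.e_add v w)
          π_e := fun v => D.π_e v
          conj := fun x v => Subtype.ext (D.conj (x : X) v)
          invol := fun x hx => by
            obtain ⟨v, hv⟩ := D.invol (x : X) (congrArg Subtype.val hx)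
            exact ⟨v, Subtype.ext hv⟩ }
      have h1 : Nat.card N < Nat.card X := by
        refine lt_of_le_of_ne N.card_le_card_group fun h1 => hNtop (N.eq_top_of_card_eq h1)
      omega

/-- No extension of a group by `GL(V)`, of odd dimension at least five, has its involutions in `V`. -/
theorem false_of_cover_any {V : Type v} [AddCommGroup V] [Module (ZMod 2) V] [Finite V]
    {X : Type u} [Group X] [Finite X] (D : Cover V X)
    (h5 : 5 ≤ Module.finrank (ZMod 2) V) (hodd : Odd (Module.finrank (ZMod 2) V)) : False :=
  false_of_cover_aux h5 hodd _ le_rfl D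

end Cfsg.Agent.OddTranspX.NoCover
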