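import Cfsg.Agent.Lib.OddTranspX.Defs
import Cfsg.Agent.Lib.Involutions.ThompsonTransfer
import Cfsg.Agent.Lib.Transfer.Fusion

/-!
# Involutions fixing two classes: basic facts and classes of order four

An involution fixing a class commutes with one of its members, so by generation it cannot centralize
another class.  With classes of order four Thompson transfer then excludes involutions fixing two
classes.
-/

set_option autoImplicit false
set_option linter.style.haveILetI false
set_option linter.unusedSectionVars false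

namespace Cfsg.Agent.OddTranspX

open Subgroup MulAction

universe u

variable {G : Type u} [Group G] [Finite G] {D : Set G}

/-- An involution fixing a class commutes with one of its members. -/
theorem ClassGroups.exists_commute_mem (h : ClassGroups D) {t : G} (ht : t * t = 1) {A : h.Pt}
    (hA : t • A = A) : ∃ (a : G) (ha : a ∈ D), h.pt a ha = A ∧ Commute t a := by
  classical
  haveI : Fact (Nat.Prime 2) := ⟨Nat.prime_two⟩
  set V := h.grp A with hV
  have htV : ∀ v ∈ V, t * v * t⁻¹ ∈ V := fun v hv => h.grp_conj_fix hA hv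
  let φ : MulAut V :=
    { toFun := fun v => ⟨t * v * t⁻¹, htV v v.2⟩
      invFun := fun v => ⟨t * v * t⁻¹, htV v v.2⟩
      left_inv := fun v => Subtype.ext (by
        show t * (t * (v : G) * t⁻¹) * t⁻¹ = v
        rw [inv_eq_of_mul_eq_one_right ht, GenA.OddTransp.conj_conj ht])
      right_inv := fun v => Subtype.ext (by
        show t * (t * (v : G) * t⁻¹) * t⁻¹ = v
        rw [inv_eq_of_mul_eq_one_right ht, GenA.OddTransp.conj_conj ht])
      map_mul' := fun a b => Subtype.ext (by
        show t * ((a : G) * b) * t⁻¹ = t * a * t⁻¹ * (t * b * t⁻¹)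
        group) }
  have hφ2 : (φ.toEquiv : Equiv.Perm V) ^ 2 = 1 := Equiv.ext fun v => Subtype.ext (by
    show t * (t * (v : G) * t⁻¹) * t⁻¹ = v
    rw [inv_eq_of_mul_eq_one_right ht, GenA.OddTransp.conj_conj ht])
  haveI := Fintype.ofFinite V
  have hVp : IsPGroup 2 V := fun v => ⟨1, Subtype.ext (by
    rw [SubgroupClass.coe_pow, pow_one, pow_two]; exact h.grp_sq v.2)⟩
  obtain ⟨n, hn⟩ := IsPGroup.iff_card.1 hVp
  obtain ⟨c, hc, hcA⟩ := h.exists_pt A
  have hn0 : n ≠ 0 := by
    rintro rfl
    rw [pow_zero, Subgroup.card_eq_one] at hn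
    have hcV : c ∈ V := by rw [hV, ← hcA]; exact h.self_mem_grp hc
    rw [hn] at hcV
    exact h.toOT.ne_one hc (Subgroup.mem_bot.1 hcV)
  have hdvd : 2 ∣ Fintype.card V := by rw [← Nat.card_eq_fintype_card, hn]; exact dvd_pow_self 2 hn0
  obtain ⟨v, hv, hv1⟩ := Equiv.Perm.exists_fixed_point_of_prime' (p := 2) (n := 1) hdvd
    (σ := φ.toEquiv) (by rw [pow_one]; exact hφ2) (a := 1) (map_one φ)
  obtain ⟨hvD, hvA⟩ := v.2.resolve_left fun h1 => hv1 (Subtype.ext h1)
  refine ⟨v, hvD, hvA, ?_⟩
  exact mul_inv_eq_iff_eq_mul.1 (congrArg Subtype.val hv)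

/-- No subgroup has index two. -/
theorem Classes.index_ne_two (hC : Classes D) (K : Subgroup G) : K.index ≠ 2 := by
  intro hK
  haveI : K.Normal := normal_of_index_eq_two hK
  have hmem : ∀ a ∈ D, a ∈ K := by
    intro a ha
    by_contra haK
    obtain ⟨b, hb, hab, hne⟩ := hC.big a ha
    obtain ⟨g, hg⟩ := hC.conjugate a ha b hb
    obtain ⟨g', hg'⟩ := hC.conjugate a ha _ (hC.prod a ha b hb hab hne.symm)
    have hbK : b ∉ K := fun hbK => haK (by
      simpa [← hg, mul_assoc] using ‹K.Normal›.conj_mem b hbK g⁻¹)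
    have habK : a * b ∉ K := fun h1 => haK (by
      simpa [← hg', mul_assoc] using ‹K.Normal›.conj_mem _ h1 g'⁻¹)
    exact habK ((mul_mem_iff_of_index_two hK).2 (iff_of_false haK hbK))
  have htop : K = ⊤ := eq_top_iff.2 (hC.gen ▸ (closure_le K).2 hmem)
  rw [htop, index_top] at hK
  omega

/-- An involution fixing two classes does not centralize the first. -/
theorem Classes.not_centralize (hC : Classes D) (hA : hC.toClassGroups.AllGen) {t : G}
    (ht : orderOf t = 2) {E X : hC.toClassGroups.Pt} (hEX : X ≠ E) (hX : t • X = X) :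
    ¬ ∀ v ∈ hC.toClassGroups.grp E, Commute t v := by
  intro hcen
  have htt : t * t = 1 := by rw [← pow_two]; exact orderOf_dvd_iff_pow_eq_one.1 ht.dvd
  obtain ⟨f, hf, hfX, htf⟩ := hC.toClassGroups.exists_commute_mem htt hX
  have hle : closure ((hC.toClassGroups.grp E : Set G) ∪ {f}) ≤ centralizer {t} := by
    refine (closure_le _).2 fun y hy => mem_centralizer_singleton_iff.2 ?_
    rcases hy with hy | rfl
    · exact (hcen y hy).eq.symm
    · exact htf.eq.symm
  rw [hA E f hf (by rw [hfX]; exact hEX)] at hle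
  have hz : ∀ g : G, g * t = t * g := fun g => mem_centralizer_singleton_iff.1 (hle (mem_top g))
  haveI : (zpowers t).Normal := ⟨fun x hx g => by
    obtain ⟨i, rfl⟩ := mem_zpowers_iff.1 hx
    rw [((show Commute g t from hz g).zpow_right i).eq, mul_inv_cancel_right]
    exact zpow_mem (mem_zpowers t) i⟩
  haveI : Fact (Nat.Prime 2) := ⟨Nat.prime_two⟩
  have := hC.core (zpowers t) inferInstance (IsPGroup.of_card (n := 1) (by
    rw [Nat.card_zpowers, ht, pow_one]))
  rw [zpowers_eq_bot] at this
  rw [this, orderOf_one] at ht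
  omega

/-- The number of classes is odd. -/
theorem Classes.odd_card_pt (hC : Classes D) (E : hC.toClassGroups.Pt) :
    Odd (Nat.card hC.toClassGroups.Pt) := by
  classical
  haveI : Fact (Nat.Prime 2) := ⟨Nat.prime_two⟩
  obtain ⟨a, ha, -⟩ := hC.toClassGroups.exists_pt E
  let h := hC.toClassGroups
  haveI := Fintype.ofFinite h.Pt
  let σ : Equiv.Perm h.Pt := MulAction.toPerm a
  have hσ : σ ^ 2 ^ 1 = 1 := by
    rw [pow_one, pow_two]
    refine Equiv.ext fun A => ?_
    show a • a • A = A
    rw [← mul_smul, h.sq ha, one_smul]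
  have h1 : σ.supportᶜ = {h.pt a ha} := by
    ext A
    rw [Finset.mem_compl, Equiv.Perm.mem_support, not_not, Finset.mem_singleton]
    exact h.smul_eq_iff ha
  have hmod := Equiv.Perm.card_compl_support_modEq (p := 2) (n := 1) hσ
  rw [h1, Finset.card_singleton] at hmod
  rw [Nat.card_eq_fintype_card, Nat.odd_iff]
  exact hmod.symm

/-- A Sylow subgroup of the group through an element fixing a class, fixing that class. -/
theorem Classes.exists_sylow_fix (hC : Classes D) {t : G} (ht : orderOf t = 2)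
    {E : hC.toClassGroups.Pt} (htE : t • E = E) :
    ∃ S : Sylow 2 G, t ∈ (S : Subgroup G) ∧ ∀ s ∈ (S : Subgroup G), s • E = E := by
  haveI : Fact (Nat.Prime 2) := ⟨Nat.prime_two⟩
  let h := hC.toClassGroups
  haveI : IsPretransitive G h.Pt := ⟨fun A B => by
    obtain ⟨p, hp, rfl⟩ := h.exists_pt A
    obtain ⟨q, hq, rfl⟩ := h.exists_pt B
    obtain ⟨g, hg⟩ := hC.conjugate p hp q hq
    exact ⟨g, by rw [h.smul_pt, h.pt_eq_iff, hg]⟩⟩
  obtain ⟨P, hP⟩ := (IsPGroup.of_card (n := 1) (G := zpowers (⟨t, mem_stabilizer_iff.2 htE⟩ : stabilizer G E)) (by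
    rw [Nat.card_zpowers, Subgroup.orderOf_mk, ht, pow_one]) : IsPGroup 2 _).exists_le_sylow
  obtain ⟨S, hS⟩ := (P.2.map (stabilizer G E).subtype).exists_le_sylow
  have hidx : ¬ 2 ∣ ((P : Subgroup (stabilizer G E)).map (stabilizer G E).subtype).index := by
    rw [index_map, MonoidHom.ker_eq_bot_iff _ |>.2 (stabilizer G E).subtype_injective, sup_bot_eq,
      range_subtype, index_stabilizer_of_transitive]
    rw [Nat.prime_two.dvd_mul, not_or]
    exact ⟨P.not_dvd_index, fun h2 => Nat.not_even_iff_odd.2 (hC.odd_card_pt E) (even_iff_two_dvd.2 h2)⟩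
  obtain ⟨k, hk⟩ := (P.2.map (stabilizer G E).subtype).exists_card_eq
  have heq : (S : Subgroup G) = (P : Subgroup (stabilizer G E)).map (stabilizer G E).subtype := by
    refine (eq_of_le_of_card_ge hS ?_).symm
    obtain ⟨j, hj⟩ := IsPGroup.iff_card.1 S.2
    have h1 := card_dvd_of_le (le_refl (S : Subgroup G))
    have h2 : Nat.card (S : Subgroup G) ∣
        Nat.card ((P : Subgroup (stabilizer G E)).map (stabilizer G E).subtype) := by
      have h3 := (S : Subgroup G).card_subgroup_dvd_card
      rw [← ((P : Subgroup (stabilizer G E)).map (stabilizer G E).subtype).card_mul_index, hj] at h3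
      rw [hj]
      exact ((Nat.prime_two.coprime_iff_not_dvd.2 hidx).pow_left j).dvd_of_dvd_mul_right h3
    exact Nat.le_of_dvd Nat.card_pos h2
  refine ⟨S, ?_, ?_⟩
  · rw [heq]; exact ⟨⟨t, mem_stabilizer_iff.2 htE⟩, hP (mem_zpowers _), rfl⟩
  · rw [heq]
    rintro _ ⟨s, -, rfl⟩
    exact s.2

/-- Classes of order four: no involution fixes two classes. -/
theorem Classes.oddPair_of_four (hC : Classes D) (hA : hC.toClassGroups.AllGen)
    (h4 : ∀ E : hC.toClassGroups.Pt, Nat.card (hC.toClassGroups.grp E) = 4) :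
    hC.toClassGroups.OddPair := by
  classical
  haveI : Fact (Nat.Prime 2) := ⟨Nat.prime_two⟩
  let h := hC.toClassGroups
  intro E X hEX
  rw [← Nat.not_even_iff_odd]
  intro heven
  obtain ⟨t, htp, ht⟩ := Involutions.StronglyEmbedded.exists_involution_mem heven
  obtain ⟨htE, htX⟩ := Subgroup.mem_inf.1 htp
  obtain ⟨S, htS, hSE⟩ := hC.exists_sylow_fix ht (mem_stabilizer_iff.1 htE)
  haveI := Fintype.ofFinite h.Pt
  let Ω' := {v : G // v ∈ h.grp E ∧ v ≠ 1}
  let ψ : (S : Subgroup G) →* Equiv.Perm Ω' :=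
    { toFun := fun s =>
        { toFun := fun v => ⟨s * v * (s : G)⁻¹, h.grp_conj_fix (hSE s s.2) v.2.1, fun h1 => v.2.2 (by
            simpa using h1)⟩
          invFun := fun v => ⟨(s : G)⁻¹ * v * s, by
              have := h.grp_conj_fix (hSE _ (inv_mem s.2)) v.2.1
              rwa [inv_inv] at this,
            fun h1 => v.2.2 (by
              calc (v : G) = (s : G) * ((s : G)⁻¹ * v * s) * (s : G)⁻¹ := by group
                _ = 1 := by rw [h1]; group)⟩
          left_inv := fun v => Subtype.ext (by group)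
          right_inv := fun v => Subtype.ext (by group) }
      map_one' := Equiv.ext fun v => Subtype.ext (by simp)
      map_mul' := fun a b => Equiv.ext fun v => Subtype.ext (by simp [mul_assoc]) }
  have hker : ∀ s : (S : Subgroup G), ψ s = 1 ↔ ∀ v ∈ h.grp E, Commute (s : G) v := fun s => by
    constructor
    · intro hs v hv
      by_cases hv1 : v = 1
      · rw [hv1]; exact Commute.one_right _
      exact mul_inv_eq_iff_eq_mul.1 (congrArg Subtype.val (Equiv.congr_fun hs ⟨v, hv, hv1⟩))
    · intro hs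
      exact Equiv.ext fun v => Subtype.ext (mul_inv_eq_iff_eq_mul.2 (hs v v.2.1).eq)
  set M : Subgroup G := ψ.ker.map (S : Subgroup G).subtype with hM
  have hMS : M ≤ S := map_subtype_le _
  have hrel : M.relIndex S = 2 := by
    have e : M.subgroupOf (S : Subgroup G) = ψ.ker :=
      comap_map_eq_self_of_injective (S : Subgroup G).subtype_injective _
    rw [relIndex, e, index_ker]
    have hP : IsPGroup 2 ψ.range := S.2.of_surjective ψ.rangeRestrict (MonoidHom.rangeRestrict_surjective ψ)
    obtain ⟨j, hj⟩ := IsPGroup.iff_card.1 hP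
    haveI := Fintype.ofFinite Ω'
    have hΩ : Fintype.card Ω' = 3 := by
      rw [← Nat.card_eq_fintype_card]
      have e2 : Ω' ≃ {v : h.grp E // v ≠ 1} :=
        { toFun := fun v => ⟨⟨v, v.2.1⟩, fun h1 => v.2.2 (congrArg Subtype.val h1)⟩
          invFun := fun v => ⟨v.1, v.1.2, fun h1 => v.2 (Subtype.ext h1)⟩
          left_inv := fun _ => rfl
          right_inv := fun _ => rfl }
      haveI := Fintype.ofFinite (h.grp E)
      rw [Nat.card_congr e2, Nat.card_eq_fintype_card (α := {v : h.grp E // v ≠ 1}),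
        Fintype.card_subtype_compl, Fintype.card_subtype_eq, ← Nat.card_eq_fintype_card, h4]
    have h6 : Nat.card ψ.range ∣ 6 := by
      refine (card_subgroup_dvd_card _).trans (dvd_of_eq ?_)
      rw [Nat.card_eq_fintype_card, Fintype.card_perm, hΩ]; rfl
    have hne : Nat.card ψ.range ≠ 1 := fun h1 => by
      refine hC.not_centralize hA ht hEX.symm (mem_stabilizer_iff.1 htX) ((hker ⟨t, htS⟩).1 ?_)
      rw [Subgroup.card_eq_one] at h1
      exact Subgroup.mem_bot.1 (h1 ▸ ⟨_, rfl⟩)
    rw [hj] at h6 hne ⊢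
    have : j ≤ 1 := by
      by_contra hj2
      have h4' : 2 ^ 2 ∣ 6 := (pow_dvd_pow 2 (by omega : 2 ≤ j)).trans h6
      norm_num at h4'
    rcases (show j = 0 ∨ j = 1 by omega) with rfl | rfl
    · exact absurd rfl hne
    · rfl
  obtain ⟨g, hg⟩ := Involutions.ThompsonTransfer.exists_conj_mem hC.index_ne_two S M hMS hrel t ht
  obtain ⟨⟨s, hs⟩, hsk, he⟩ := hg
  obtain ⟨Y, hY, hgY⟩ : ∃ Y, Y ≠ E ∧ (g * t * g⁻¹) • Y = Y := by
    have hfix : ∀ A : h.Pt, t • A = A → (g * t * g⁻¹) • (g • A) = g • A := fun A hA' => by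
      rw [mul_smul, mul_smul, inv_smul_smul, hA']
    by_cases hgE : g • E = E
    · exact ⟨g • X, fun h1 => hEX (smul_left_cancel g (hgE.trans h1.symm)),
        hfix X (mem_stabilizer_iff.1 htX)⟩
    · exact ⟨g • E, hgE, hfix E (mem_stabilizer_iff.1 htE)⟩
  refine hC.not_centralize hA (by rw [Involutions.Basic.orderOf_conj, ht]) hY hgY ?_
  rw [← show s = g * t * g⁻¹ from he]
  exact (hker ⟨s, hs⟩).1 hsk

end Cfsg.Agent.OddTranspX
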