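import Cfsg.Agent.Lib.OddTranspX.Weak

/-!
# The descent of the setting without a generating pair

The members commuting with a non-empty set `S ≠ {1}` which centralizes classes wholly form, in the
central quotient of the group they generate, again a weak setting of smaller order, and classes,
their groups and their swappers correspond.
-/

set_option autoImplicit false
set_option linter.unusedSectionVars false

namespace Cfsg.Agent.OddTranspX

open Subgroup MulAction

universe u

variable {G : Type u} [Group G] {D S : Set G}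

/-- The central quotient map of the group of the commuting members. -/
def centProj (D S : Set G) : ↥(centGroup D S) →* CentQ D S :=
  QuotientGroup.mk' (Subgroup.center ↥(centGroup D S))

theorem centProj_surjective : Function.Surjective (centProj D S) :=
  QuotientGroup.mk'_surjective _

theorem centProj_eq_one_iff (y : centGroup D S) :
    centProj D S y = 1 ↔ y ∈ Subgroup.center ↥(centGroup D S) :=
  QuotientGroup.eq_one_iff y

theorem centProj_mem (y : ↥(centGroup D S)) (hy : (y : G) ∈ centSet D S) :
    centProj D S y ∈ centD D S := ⟨y, hy, rfl⟩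

theorem centSet_subset_centGroup {y : G} (hy : y ∈ centSet D S) : y ∈ centGroup D S :=
  subset_closure hy

theorem centGroup_le : centGroup D S ≤ centralizer S :=
  (closure_le _).2 fun y hy => mem_centralizer_iff.2 fun s hs => (hy.2 s hs).eq

/-- **A member of the group is one of its generators.** -/
theorem mem_centSet_of_mem {y : G} (hy : y ∈ D) (hyU : y ∈ centGroup D S) : y ∈ centSet D S :=
  ⟨hy, fun s hs => mem_centralizer_iff.1 (centGroup_le hyU) s hs⟩

/-- The standing hypotheses on `S`: it centralizes classes wholly and two members commuting with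
it do not commute. -/
structure CentHyp (D S : Set G) : Prop where
  full : ∀ a ∈ centSet D S, ∀ b ∈ D, Commute a b → b ∈ centSet D S
  ne : ∃ a ∈ centSet D S, ∃ b ∈ centSet D S, ¬ Commute a b

variable [Finite G] (h : ClassGroups D) (hS : CentHyp D S)

include h in
/-- The members stay apart in the central quotient: commuting lifts. -/
theorem lift_commute {y z : centGroup D S} (hy : (y : G) ∈ D) (hz : (z : G) ∈ D)
    (hc : Commute (centProj D S y) (centProj D S z)) : Commute (y : G) z := by
  have hyy : y * y = 1 := Subtype.ext (by simpa using h.sq hy)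
  have hzz : z * z = 1 := Subtype.ext (by simpa using h.sq hz)
  have h2 : (y * z) ^ 2 ∈ Subgroup.center ↥(centGroup D S) := by
    rw [← centProj_eq_one_iff, map_pow, map_mul, hc.mul_pow, ← map_pow, ← map_pow, pow_two,
      pow_two, hyy, hzz, map_one, one_mul]
  have hyi : y⁻¹ = y := inv_eq_of_mul_eq_one_right hyy
  have hzi : z⁻¹ = z := inv_eq_of_mul_eq_one_right hzz
  have h3 : y * (y * z) ^ 2 * y = ((y * z) ^ 2)⁻¹ := by
    rw [pow_two, mul_inv_rev, mul_inv_rev, hyi, hzi,
      show y * (y * z * (y * z)) * y = y * y * z * (y * z * y) by simp only [mul_assoc], hyy,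
      one_mul]
    simp only [mul_assoc]
  rw [mem_center_iff.1 h2 y, mul_assoc, hyy, mul_one] at h3
  have h4 : (y * z) ^ 4 = 1 := by
    rw [show 4 = 2 * 2 from rfl, pow_mul, pow_two ((y * z) ^ 2)]
    nth_rewrite 1 [h3]
    exact inv_mul_cancel _
  exact GenA.OddTransp.comm_of_four h.toOT hy hz (by simpa using congrArg Subtype.val h4)

include h in
theorem lift_commute_iff {y z : centGroup D S} (hy : (y : G) ∈ D) (hz : (z : G) ∈ D) :
    Commute (centProj D S y) (centProj D S z) ↔ Commute (y : G) z :=
  ⟨lift_commute h hy hz, fun hc => (show Commute y z from Subtype.ext hc.eq).map (centProj D S)⟩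

include h hS

/-- No member of the group is central in it. -/
theorem not_mem_center {y : centGroup D S} (hy : (y : G) ∈ D) :
    y ∉ Subgroup.center ↥(centGroup D S) := by
  intro hc
  obtain ⟨a, ha, b, hb, hab⟩ := hS.ne
  have h1 : ∀ c (hc' : c ∈ centSet D S), Commute (y : G) c := fun c hc' =>
    (congrArg Subtype.val (mem_center_iff.1 hc ⟨c, centSet_subset_centGroup hc'⟩)).symm
  exact hab (h.trans a ha.1 _ hy b hb.1 (h1 a ha).symm (h1 b hb))

/-- **The members map injectively.** -/
theorem inj {y z : centGroup D S} (hy : (y : G) ∈ D) (hz : (z : G) ∈ D)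
    (he : centProj D S y = centProj D S z) : y = z := by
  by_contra hne
  have hc : Commute (y : G) z := lift_commute h hy hz (by rw [he])
  have hne' : (y : G) ≠ z := fun e => hne (Subtype.ext e)
  have hzz : z * z = 1 := Subtype.ext (by simpa using h.sq hz)
  refine not_mem_center h hS (y := y * z) (by simpa using h.prod _ hy _ hz hc hne') ?_
  rw [← centProj_eq_one_iff, map_mul, he, ← map_mul, hzz, map_one]

/-- The members of the quotient form classes with groups. -/
theorem cent_classGroups : ClassGroups (centD D S) := by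
  refine { toOT := ⟨?_, ?_, ?_⟩, trans := ?_, prod := ?_ }
  · rintro _ ⟨y, hy, rfl⟩
    refine orderOf_eq_prime ?_ fun h1 => ?_
    · rw [← map_pow, show y ^ 2 = 1 from Subtype.ext (by simpa [pow_two] using h.sq hy.1), map_one]
    · exact not_mem_center h hS hy.1 ((centProj_eq_one_iff y).1 h1)
  · rintro _ ⟨y, hy, rfl⟩ q
    obtain ⟨g, rfl⟩ := centProj_surjective q
    refine ⟨g * y * g⁻¹, mem_centSet_of_mem (by simpa using h.conj _ hy.1 (g : G)) (g * y * g⁻¹).2,
      ?_⟩
    simp [centProj]
  · rintro _ ⟨y, hy, rfl⟩ _ ⟨z, hz, rfl⟩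
    rcases h.pair _ hy.1 _ hz.1 with h1 | h1
    · exact Or.inl ((lift_commute_iff h hy.1 hz.1).2 h1)
    · refine Or.inr (h1.of_dvd_nat ?_)
      rw [show (y : G) * z = ((y * z : centGroup D S) : G) from rfl, Subgroup.orderOf_coe, ← map_mul]
      exact orderOf_map_dvd _ _
  · rintro _ ⟨y, hy, rfl⟩ _ ⟨z, hz, rfl⟩ _ ⟨w, hw, rfl⟩ hyz hzw
    exact (lift_commute_iff h hy.1 hw.1).2
      (h.trans _ hy.1 _ hz.1 _ hw.1 (lift_commute h hy.1 hz.1 hyz) (lift_commute h hz.1 hw.1 hzw))
  · rintro _ ⟨y, hy, rfl⟩ _ ⟨z, hz, rfl⟩ hc hne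
    exact ⟨y * z, mem_centSet_of_mem (h.prod _ hy.1 _ hz.1 (lift_commute h hy.1 hz.1 hc)
      fun e => hne (congrArg _ (Subtype.ext e : y = z))) (y * z).2, map_mul _ y z⟩

omit hS in
/-- A member of the group is a member of the quotient. -/
theorem mem_centD {y : centGroup D S} (hy : (y : G) ∈ D) : centProj D S y ∈ centD D S :=
  centProj_mem y (mem_centSet_of_mem hy y.2)

/-- **The classes correspond.** -/
theorem cent_smul_pt_iff (g : centGroup D S) {a b : centGroup D S} (ha : (a : G) ∈ D)
    (hb : (b : G) ∈ D) :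
    centProj D S g • (cent_classGroups h hS).pt _ (mem_centD h ha) =
        (cent_classGroups h hS).pt _ (mem_centD h hb) ↔
      (g : G) • h.pt (a : G) ha = h.pt (b : G) hb := by
  rw [ClassGroups.smul_pt, ClassGroups.smul_pt, ClassGroups.pt_eq_iff, ClassGroups.pt_eq_iff,
    ← map_mul, ← map_inv, ← map_mul,
    lift_commute_iff h (y := g * a * g⁻¹) (z := b) (by simpa using h.conj _ ha (g : G)) hb]
  simp

theorem cent_pt_eq_iff {a b : centGroup D S} (ha : (a : G) ∈ D) (hb : (b : G) ∈ D) :
    (cent_classGroups h hS).pt _ (mem_centD h ha) = (cent_classGroups h hS).pt _ (mem_centD h hb) ↔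
      h.pt (a : G) ha = h.pt (b : G) hb := by
  rw [ClassGroups.pt_eq_iff, ClassGroups.pt_eq_iff, lift_commute_iff h ha hb]

/-- **Every class of the quotient is the image of one.** -/
theorem cent_exists_pt (A : (cent_classGroups h hS).Pt) :
    ∃ (a : centGroup D S) (ha : (a : G) ∈ D),
      (cent_classGroups h hS).pt _ (mem_centD h ha) = A := by
  obtain ⟨q, hq, rfl⟩ := (cent_classGroups h hS).exists_pt A
  obtain ⟨a, ha, rfl⟩ := id hq
  exact ⟨a, ha.1, rfl⟩

/-- **Swappers correspond.** -/
theorem cent_swappers_iff {m a b : centGroup D S} (hm : (m : G) ∈ D) (ha : (a : G) ∈ D)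
    (hb : (b : G) ∈ D) :
    centProj D S m ∈ (cent_classGroups h hS).swappers
        ((cent_classGroups h hS).pt _ (mem_centD h ha))
        ((cent_classGroups h hS).pt _ (mem_centD h hb)) ↔
      (m : G) ∈ h.swappers (h.pt (a : G) ha) (h.pt (b : G) hb) :=
  ⟨fun hs => ⟨hm, (cent_smul_pt_iff h hS m ha hb).1 hs.2⟩,
    fun hs => ⟨mem_centD h hm, (cent_smul_pt_iff h hS m ha hb).2 hs.2⟩⟩

/-- The group of a class lies in the group of the commuting members. -/
theorem grp_le_centGroup {a : centGroup D S} (ha : (a : G) ∈ D) :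
    h.grp (h.pt (a : G) ha) ≤ centGroup D S := by
  rintro g (rfl | ⟨hg, hpt⟩)
  · exact one_mem _
  · exact centSet_subset_centGroup
      (hS.full _ (mem_centSet_of_mem ha a.2) g hg (h.pt_eq_iff.1 hpt).symm)

/-- **The groups of the classes correspond.** -/
theorem cent_grp_eq {a : centGroup D S} (ha : (a : G) ∈ D) :
    ((h.grp (h.pt (a : G) ha)).subgroupOf (centGroup D S)).map (centProj D S) =
      (cent_classGroups h hS).grp ((cent_classGroups h hS).pt _ (mem_centD h ha)) := by
  ext q
  constructor
  · rintro ⟨g, hg | ⟨hgD, hg⟩, rfl⟩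
    · exact Or.inl (by rw [show g = 1 from Subtype.ext hg, map_one])
    · exact Or.inr ⟨mem_centD h hgD, (cent_pt_eq_iff h hS hgD ha).2 hg⟩
  · rintro (rfl | ⟨hqD, hq⟩)
    · exact one_mem _
    · obtain ⟨g, hg, rfl⟩ := id hqD
      exact ⟨g, Or.inr ⟨hg.1, (cent_pt_eq_iff h hS hg.1 ha).1 hq⟩, rfl⟩

/-- The map is injective on the group of a class. -/
theorem cent_grp_injOn {a : centGroup D S} (ha : (a : G) ∈ D) :
    Set.InjOn (centProj D S) ((h.grp (h.pt (a : G) ha)).subgroupOf (centGroup D S)) := by
  intro g hg k hk he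
  by_contra hne
  have hgk : g⁻¹ * k ∈ (h.grp (h.pt (a : G) ha)).subgroupOf (centGroup D S) :=
    mul_mem (inv_mem hg) hk
  rcases hgk with h1 | ⟨h1, -⟩
  · exact hne (inv_mul_eq_one.1 (Subtype.ext h1))
  · refine not_mem_center h hS (y := g⁻¹ * k) h1 ?_
    rw [← centProj_eq_one_iff, map_mul, map_inv, he, inv_mul_cancel]

/-- The classes of the quotient have the same order. -/
theorem cent_card_grp {a : centGroup D S} (ha : (a : G) ∈ D) :
    Nat.card ((cent_classGroups h hS).grp ((cent_classGroups h hS).pt _ (mem_centD h ha))) =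
      Nat.card (h.grp (h.pt (a : G) ha)) := by
  rw [← cent_grp_eq h hS ha,
    ← Nat.card_congr (Subgroup.subgroupOfEquivOfLe (grp_le_centGroup h hS ha)).toEquiv,
    ← SetLike.coe_sort_coe, Subgroup.coe_map, Nat.card_image_of_injOn (cent_grp_injOn h hS ha)]
  rfl

/-- A midpoint lifts. -/
theorem hasMid_lift (hm : (cent_classGroups h hS).HasMid) : h.HasMid := by
  obtain ⟨E, X, hEX, v, hv, m', hm', hsw, hmid⟩ := hm
  obtain ⟨a, ha, rfl⟩ := cent_exists_pt h hS E
  obtain ⟨b, hb, rfl⟩ := cent_exists_pt h hS X
  obtain ⟨m, hm0, rfl⟩ := id hm'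
  rw [← cent_grp_eq h hS ha] at hv
  obtain ⟨g, hg, rfl⟩ := hv
  refine ⟨h.pt (a : G) ha, h.pt (b : G) hb, fun e => hEX ((cent_pt_eq_iff h hS ha hb).2 e),
    (g : G), hg, (m : G), hm0.1, (cent_smul_pt_iff h hS m ha hb).1 hsw, ?_⟩
  exact ((cent_smul_pt_iff h hS g hb hm0.1).1 hmid.symm).symm

/-- **The weak setting descends.** -/
theorem cent_weak' {n : ℕ} (hW : h.Weak n) : (cent_classGroups h hS).Weak n where
  gen := by
    rw [centD, ← MonoidHom.map_closure,
      show closure {y : centGroup D S | (y : G) ∈ centSet D S} = ⊤ from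
        closure_closure_coe_preimage]
    exact map_top_of_surjective _ (QuotientGroup.mk'_surjective _)
  center_bot := by
    rw [eq_bot_iff_forall]
    intro q hq
    obtain ⟨c, rfl⟩ := centProj_surjective q
    rw [centProj_eq_one_iff]
    refine mem_center_iff.2 fun g => ?_
    have hle : (⊤ : Subgroup ↥(centGroup D S)) ≤ centralizer {c} := by
      have htop : closure {y : centGroup D S | (y : G) ∈ centSet D S} = ⊤ :=
        closure_closure_coe_preimage
      refine htop.symm.le.trans ((closure_le _).2 fun y hy => ?_)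
      have h1 : c * y * c⁻¹ = y := inj h hS (by simpa using h.conj _ hy.1 (c : G)) hy.1 (by
        rw [map_mul, map_mul, map_inv, ← mem_center_iff.1 hq, mul_inv_cancel_right])
      exact mem_centralizer_singleton_iff.2 (mul_inv_eq_iff_eq_mul.1 h1).symm
    exact mem_centralizer_singleton_iff.1 (hle (mem_top g))
  two_le := hW.two_le
  card_grp A := by
    obtain ⟨a, ha, rfl⟩ := cent_exists_pt h hS A
    rw [cent_card_grp h hS ha, hW.card_grp]

/-- **The weak setting descends**, with the groups of the classes. -/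
theorem cent_weak {n : ℕ} (hW : h.Weak n) :
    ∃ h' : ClassGroups (centD D S), h'.Weak n ∧
      ∀ (a : centGroup D S) (ha : (a : G) ∈ D),
        ((h.grp (h.pt (a : G) ha)).subgroupOf (centGroup D S)).map (centProj D S) =
          h'.grp (h'.pt _ (mem_centD h ha)) :=
  ⟨cent_classGroups h hS, cent_weak' h hS hW, fun _ ha => cent_grp_eq h hS ha⟩

/-- **The classes of the quotient are those meeting the set of the commuting members.** -/
noncomputable def centPtEquiv :
    {L : h.Pt // ∃ (a : G) (ha : a ∈ centSet D S), h.pt a ha.1 = L} ≃ (cent_classGroups h hS).Pt :=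
  Equiv.ofBijective
    (fun L => (cent_classGroups h hS).pt _
      (centProj_mem ⟨L.2.choose, centSet_subset_centGroup L.2.choose_spec.choose⟩
        L.2.choose_spec.choose))
    ⟨fun L K e => Subtype.ext (L.2.choose_spec.choose_spec.symm.trans
        (((cent_pt_eq_iff h hS L.2.choose_spec.choose.1 K.2.choose_spec.choose.1).1 e).trans
          K.2.choose_spec.choose_spec)),
      fun A => by
        obtain ⟨a, ha, rfl⟩ := cent_exists_pt h hS A
        have hL : ∃ (c : G) (hc : c ∈ centSet D S), h.pt c hc.1 = h.pt (a : G) ha :=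
          ⟨a, mem_centSet_of_mem ha a.2, rfl⟩
        exact ⟨⟨_, hL⟩, (cent_pt_eq_iff h hS hL.choose_spec.choose.1 ha).2
          hL.choose_spec.choose_spec⟩⟩

theorem card_centPt : Nat.card (cent_classGroups h hS).Pt =
    Nat.card {L : h.Pt // ∃ (a : G) (ha : a ∈ centSet D S), h.pt a ha.1 = L} :=
  Nat.card_congr (centPtEquiv h hS).symm

omit hS in
/-- **The quotient is smaller.** -/
theorem card_lt {n : ℕ} (hW : h.Weak n) (hs : ∃ s ∈ S, s ≠ 1) :
    Nat.card (CentQ D S) < Nat.card G := by
  obtain ⟨s, hsS, hs1⟩ := hs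
  have hne : centGroup D S ≠ ⊤ := by
    intro he
    have hc : s ∈ Subgroup.center G := mem_center_iff.2 fun g =>
      (mem_centralizer_iff.1 (centGroup_le (D := D) (he ▸ mem_top g)) s hsS).symm
    rw [hW.center_bot, mem_bot] at hc
    exact hs1 hc
  refine lt_of_le_of_lt (Nat.card_le_card_of_surjective _ centProj_surjective)
    (lt_of_le_of_ne (card_le_card_group _) fun he => hne (eq_top_of_card_eq _ he))

end Cfsg.Agent.OddTranspX
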