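import Cfsg.Agent.Lib.OddTranspX.Good
import Cfsg.Agent.Lib.OddTranspX.WeakSub
import Cfsg.Agent.Lib.Coprime.Generation

/-!
# Elements of fine prime power order fixing classes

The elementary facts about elements of `p`-power order fixing two classes, `p` a fine prime: they
act semiregularly or trivially on a class, a `p`-group of them lies in one invariant under a
swapper, and members pairwise not commuting closed under conjugation generate a group `odd.2`.
-/

set_option autoImplicit false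
set_option linter.style.haveILetI false
set_option linter.unusedSectionVars false

namespace Cfsg.Agent.OddTranspX

open Subgroup MulAction

universe u

variable {G : Type u} [Group G] [Finite G] {D : Set G}

/-- An element of odd order whose square is one. -/
theorem eq_one_of_odd_sq {y : G} (hodd : Odd (orderOf y)) (h2 : y * y = 1) : y = 1 := by
  obtain ⟨l, hl⟩ := hodd
  calc y = (y * y) ^ (l + 1) := by
        rw [← pow_two, ← pow_mul, show 2 * (l + 1) = orderOf y + 1 by omega, pow_succ,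
          pow_orderOf_eq_one, one_mul]
    _ = 1 := by rw [h2, one_pow]

/-- An involutive permutation of a set of odd order fixes a point. -/
theorem exists_fixed_of_odd {α : Type*} {s : Set α} [Finite s] (hodd : Odd (Nat.card s))
    (f : α → α) (hf : ∀ x ∈ s, f x ∈ s) (hff : ∀ x ∈ s, f (f x) = x) : ∃ x ∈ s, f x = x := by
  classical
  haveI : Fact (Nat.Prime 2) := ⟨Nat.prime_two⟩
  haveI := Fintype.ofFinite s
  let g : s → s := fun x => ⟨f x, hf x x.2⟩
  have hg : Function.Involutive g := fun x => Subtype.ext (hff x x.2)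
  have h2 : ¬ 2 ∣ Fintype.card s := by
    rw [← Nat.card_eq_fintype_card]
    exact fun h => Nat.not_even_iff_odd.2 hodd (even_iff_two_dvd.2 h)
  obtain ⟨x, hx⟩ := Equiv.Perm.exists_fixed_point_of_prime h2 (σ := hg.toPerm) (n := 1)
    (Equiv.ext fun x => by simp [pow_two, hg x])
  exact ⟨x, x.2, congrArg Subtype.val hx⟩

/-- The elements of a `p`-group have `p`-power order. -/
theorem exists_orderOf_eq {p : ℕ} [Fact p.Prime] {R : Subgroup G} (hR : IsPGroup p R) {x : G}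
    (hx : x ∈ R) : ∃ j : ℕ, orderOf x = p ^ j := by
  obtain ⟨j, hj⟩ := IsPGroup.iff_orderOf.1 hR ⟨x, hx⟩
  exact ⟨j, by rw [← hj, Subgroup.orderOf_mk]⟩

/-- The elements of a `p`-group have odd order. -/
theorem odd_orderOf {p : ℕ} [Fact p.Prime] (hp : Odd p) {R : Subgroup G} (hR : IsPGroup p R)
    {x : G} (hx : x ∈ R) : Odd (orderOf x) := by
  obtain ⟨j, hj⟩ := exists_orderOf_eq hR hx
  rw [hj]
  exact hp.pow

namespace ClassGroups

variable (h : ClassGroups D)

/-- Centralizing the group of a class. -/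
def Cent (g : G) (E : h.Pt) : Prop := ∀ v ∈ h.grp E, Commute g v

theorem cent_iff {g : G} {E : h.Pt} : h.Cent g E ↔ g ∈ centralizer (h.grp E : Set G) :=
  ⟨fun hg v hv => (hg v hv).symm.eq, fun hg v hv => (hg v hv).symm⟩

theorem cent_mul {g k : G} {E : h.Pt} (hg : h.Cent g E) (hk : h.Cent k E) : h.Cent (g * k) E :=
  fun v hv => (hg v hv).mul_left (hk v hv)

theorem cent_inv {g : G} {E : h.Pt} (hg : h.Cent g E) : h.Cent g⁻¹ E :=
  fun v hv => (hg v hv).inv_left

theorem cent_pow {g : G} {E : h.Pt} (hg : h.Cent g E) (i : ℕ) : h.Cent (g ^ i) E :=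
  fun v hv => (hg v hv).pow_left i

theorem cent_of_mem {R : Subgroup G} {E : h.Pt} {S : Set G} (hR : R = closure S)
    (hS : ∀ g ∈ S, h.Cent g E) {g : G} (hg : g ∈ R) : h.Cent g E :=
  h.cent_iff.2 ((hR ▸ (closure_le _).2 fun x hx => h.cent_iff.1 (hS x hx) :
    R ≤ centralizer (h.grp E : Set G)) hg)

theorem cent_conj {g k : G} {E : h.Pt} (hk : h.Cent k E) :
    h.Cent (g * k * g⁻¹) (g • E) := fun v hv => by
  have h1 : g⁻¹ * v * g⁻¹⁻¹ ∈ h.grp E := by
    have := h.grp_conj (g := g⁻¹) hv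
    rwa [inv_smul_smul] at this
  have h2 := (Commute.conj_iff g).2 (hk _ h1)
  rwa [show g * (g⁻¹ * v * g⁻¹⁻¹) * g⁻¹ = v by group] at h2

theorem cent_conj_fix {g k : G} {E : h.Pt} (hg : g • E = E) (hk : h.Cent k E) :
    h.Cent (g * k * g⁻¹) E := by
  have h1 := h.cent_conj (g := g) hk
  rwa [hg] at h1

theorem cent_swap {E X : h.Pt} {m k : G} (hm : m ∈ h.swappers E X) (hk : h.Cent k E) :
    h.Cent (m * k * m) X := by
  have h1 := h.cent_conj (g := m) hk
  rwa [hm.2, h.toOT.inv hm.1] at h1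

theorem exists_ne_one (E : h.Pt) : ∃ a ∈ h.grp E, a ≠ 1 := by
  obtain ⟨a, ha, rfl⟩ := h.exists_pt E
  exact ⟨a, h.self_mem_grp ha, h.toOT.ne_one ha⟩

theorem fix_of_commute {E : h.Pt} {a g : G} (ha : a ∈ h.grp E) (ha1 : a ≠ 1) (hc : Commute g a) :
    g • E = E := by
  obtain ⟨haD, rfl⟩ := ha.resolve_left ha1
  rw [h.smul_pt g haD, h.pt_eq_iff]
  rw [hc.eq, mul_inv_cancel_right]

theorem Cent.fix {g : G} {E : h.Pt} (hg : h.Cent g E) : g • E = E := by
  obtain ⟨a, ha, ha1⟩ := h.exists_ne_one E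
  exact h.fix_of_commute ha ha1 (hg a ha)

theorem exists_swapper_pair {E X : h.Pt} (hEX : E ≠ X) : ∃ m, m ∈ h.swappers E X := by
  obtain ⟨a, ha, haE⟩ := h.exists_pt E
  obtain ⟨y, hy, hyX⟩ := h.exists_pt X
  obtain ⟨m, hm, -⟩ := h.exists_swapper haE hyX hEX
  exact ⟨m, hm⟩

/-- Commuting with a member and its image gives commuting with the swapper. -/
theorem commute_swapper {E X : h.Pt} (hEX : E ≠ X) {m a g : G} (hm : m ∈ h.swappers E X)
    (ha : a ∈ h.grp E) (ha1 : a ≠ 1) (hga : Commute g a) (hgx : Commute g (m * a * m)) :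
    Commute g m := by
  obtain ⟨haD, haE⟩ := ha.resolve_left ha1
  have hxD := h.toOT.conj2 haD (h.sq hm.1)
  have hnc : ¬ Commute a (m * a * m) := fun hc => hEX (by
    calc E = h.pt a haD := haE.symm
      _ = h.pt (m * a * m) hxD := h.pt_eq_iff.2 hc
      _ = m • h.pt a haD := by
        rw [h.smul_pt m haD]; exact h.pt_eq_iff.2 (by rw [h.toOT.inv hm.1])
      _ = X := by rw [haE, hm.2])
  obtain ⟨s, -, -, huniq, hfix⟩ := GenA.OddTransp.swap h.toOT haD hxD hnc
  rw [huniq m hm.1 rfl]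
  exact hfix g (Or.inl ⟨by rw [hga.eq, mul_inv_cancel_right],
    by rw [hgx.eq, mul_inv_cancel_right]⟩)

/-- Centralizing two classes gives commuting with their swappers. -/
theorem cent_commute_swapper {E X : h.Pt} (hEX : E ≠ X) {g m : G} (hgE : h.Cent g E)
    (hgX : h.Cent g X) (hm : m ∈ h.swappers E X) : Commute g m := by
  obtain ⟨a, ha, ha1⟩ := h.exists_ne_one E
  refine h.commute_swapper hEX hm ha ha1 (hgE a ha) (hgX _ ?_)
  have h1 := h.grp_conj (g := m) ha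
  rwa [hm.2, h.toOT.inv hm.1] at h1

/-- An element of odd order inverted by a member does not fix its class. -/
theorem eq_one_of_inverted {y g : G} (hg : g ∈ D) (hodd : Odd (orderOf y))
    (hinv : g * y * g = y⁻¹) (hfix : y • h.pt g hg = h.pt g hg) : y = 1 := by
  have hgy : g * y⁻¹ = y * g := by
    rw [← hinv, ← mul_assoc, ← mul_assoc, h.sq hg, one_mul]
  have hc : Commute (y * g * y⁻¹) g := by
    rw [h.smul_pt y hg] at hfix
    exact h.pt_eq_iff.1 hfix
  have e : y * g * y⁻¹ = y * y * g := by rw [mul_assoc y g, hgy, ← mul_assoc]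
  have hconj := h.conj g hg y
  by_cases he : y * g * y⁻¹ = g
  · refine eq_one_of_odd_sq hodd ?_
    rw [e] at he
    exact mul_eq_right.1 he
  · have h1 := h.sq (h.prod _ hconj _ hg hc he)
    rw [e, mul_assoc (y * y), h.sq hg, mul_one] at h1
    exact eq_one_of_odd_sq hodd (eq_one_of_odd_sq (Odd.of_dvd_nat hodd
      (by rw [← pow_two]; exact orderOf_pow_dvd 2)) h1)

/-- An element of odd order inverted by a swapper commutes with no member of the classes. -/
theorem eq_one_of_inverted_commute {E X : h.Pt} (hEX : E ≠ X) {y m a : G}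
    (hm : m ∈ h.swappers E X) (hodd : Odd (orderOf y)) (hinv : m * y * m = y⁻¹) (ha : a ∈ h.grp E)
    (ha1 : a ≠ 1) (hya : Commute y a) : y = 1 := by
  have h1 : Commute y (m * a * m) := by
    have h2 := (Commute.conj_iff m).2 hya
    rw [h.toOT.inv hm.1, hinv] at h2
    exact Commute.inv_left_iff.1 h2
  have h3 := h.commute_swapper hEX hm ha ha1 hya h1
  refine eq_one_of_odd_sq hodd ?_
  rw [← h3.eq, mul_assoc, h.sq hm.1, mul_one] at hinv
  exact eq_inv_iff_mul_eq_one.1 hinv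

include h in
/-- An inverted element times the member inverting it is a member. -/
theorem mul_mem_of_inverted {y g : G} (hg : g ∈ D) (hodd : Odd (orderOf y))
    (hinv : g * y * g = y⁻¹) : y * g ∈ D := by
  obtain ⟨l, hl⟩ := hodd
  have h1 : g * y ^ (l + 1) * g = (y ^ (l + 1))⁻¹ := by
    rw [← inv_pow, ← hinv]
    conv_rhs => rw [show g * y * g = g * y * g⁻¹ by rw [h.toOT.inv hg], conj_pow]
    rw [h.toOT.inv hg]
  have h2 : g * (y ^ (l + 1))⁻¹ = y ^ (l + 1) * g := by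
    rw [← h1, ← mul_assoc, ← mul_assoc, h.sq hg, one_mul]
  have h3 := h.conj g hg (y ^ (l + 1))
  rwa [mul_assoc (y ^ (l + 1)) g, h2, ← mul_assoc, ← pow_add,
    show l + 1 + (l + 1) = orderOf y + 1 by omega, pow_succ, pow_orderOf_eq_one, one_mul] at h3

/-! ### Sets of members pairwise not commuting -/

variable {M : Set G}

/-- The group generated by the products of two of them. -/
def pairs (M : Set G) : Subgroup G := closure {g | ∃ a ∈ M, ∃ b ∈ M, g = a * b}

include h in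
theorem conj_mem_of_closure (hM : M ⊆ D) (hinv : ∀ a ∈ M, ∀ b ∈ M, a * b * a ∈ M) {g : G}
    (hg : g ∈ closure M) : ∀ b ∈ M, g * b * g⁻¹ ∈ M := by
  refine closure_induction_left (p := fun g _ => ∀ b ∈ M, g * b * g⁻¹ ∈ M) ?_ ?_ ?_ hg
  · intro b hb
    simpa using hb
  · intro a ha g _ ih b hb
    have h1 := hinv a ha _ (ih b hb)
    rwa [show a * g * b * (a * g)⁻¹ = a * (g * b * g⁻¹) * a by
      rw [mul_inv_rev, h.toOT.inv (hM ha)]; group]
  · intro a ha g _ ih b hb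
    rw [h.toOT.inv (hM ha)]
    have h1 := hinv a ha _ (ih b hb)
    rwa [show a * g * b * (a * g)⁻¹ = a * (g * b * g⁻¹) * a by
      rw [mul_inv_rev, h.toOT.inv (hM ha)]; group]

theorem pairs_le_closure (M : Set G) : pairs M ≤ closure M := by
  rw [pairs, closure_le]
  rintro _ ⟨a, ha, b, hb, rfl⟩
  exact mul_mem (subset_closure ha) (subset_closure hb)

include h in
/-- They generate a group of twice odd order. -/
theorem odd_pairs (hM : M ⊆ D) (hinv : ∀ a ∈ M, ∀ b ∈ M, a * b * a ∈ M)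
    (hnc : ∀ a ∈ M, ∀ b ∈ M, Commute a b → a = b) : Odd (Nat.card (pairs M)) := by
  set Y : Subgroup G := closure M with hY
  have key : ∀ m, ∀ hm : m ∈ M, ∀ m', ∀ hm' : m' ∈ M,
      (⟨m, subset_closure hm⟩ * ⟨m', subset_closure hm'⟩ : Y) ∈ Cfsg.oddCore Y := by
    intro m hm m' hm'
    have hiso : Cfsg.IsIsolatedInvolution (⟨m, subset_closure hm⟩ : Y) := by
      refine ⟨by rw [Subgroup.orderOf_mk]; exact h.ord m (hM hm), fun g hg => ?_⟩
      exact Subtype.ext (hnc _ hm _ (h.conj_mem_of_closure hM hinv g.2 m hm)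
        (congrArg Subtype.val hg.eq)).symm
    have h1 := ZStar.Main.commutator_mem_oddCore hiso ⟨m', subset_closure hm'⟩
    rcases h.pair m (hM hm) m' (hM hm') with hc | hodd
    · have he : (⟨m, subset_closure hm⟩ * ⟨m', subset_closure hm'⟩ : Y) = 1 := Subtype.ext (by
        show m * m' = 1
        rw [← hnc m hm m' hm' hc, h.sq (hM hm)])
      rw [he]; exact one_mem _
    obtain ⟨l, hl⟩ := hodd
    have h2 : (⟨m, subset_closure hm⟩ * ⟨m', subset_closure hm'⟩ : Y) =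
        ((⟨m, subset_closure hm⟩ : Y) * ⟨m', subset_closure hm'⟩ * (⟨m, subset_closure hm⟩ : Y)⁻¹ *
          (⟨m', subset_closure hm'⟩ : Y)⁻¹) ^ (l + 1) := by
      apply Subtype.ext
      push_cast
      rw [h.toOT.inv (hM hm), h.toOT.inv (hM hm'), mul_assoc (m * m'), ← pow_two, ← pow_mul,
        show 2 * (l + 1) = orderOf (m * m') + 1 by omega, pow_succ, pow_orderOf_eq_one, one_mul]
    rw [h2]
    exact pow_mem h1 _
  have hle : pairs M ≤ (Cfsg.oddCore Y).map Y.subtype := by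
    rw [pairs, closure_le]
    rintro g ⟨m, hm, m', hm', rfl⟩
    exact ⟨_, key m hm m' hm', rfl⟩
  refine Odd.of_dvd_nat ?_ (card_dvd_of_le hle)
  rw [card_map_of_injective Y.subtype_injective]
  exact Cores.oddCore_odd

/-- Three of them do not permute three classes as transpositions, unless one fixes the first. -/
theorem no_triangle (hM : M ⊆ D) (hinv : ∀ a ∈ M, ∀ b ∈ M, a * b * a ∈ M)
    (hnc : ∀ a ∈ M, ∀ b ∈ M, Commute a b → a = b) {E X Y : h.Pt} {m₁ m₂ m₃ : G}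
    (h₁ : m₁ ∈ M) (h₂ : m₂ ∈ M) (h₃ : m₃ ∈ M) (e₁ : m₁ • E = X) (e₂ : m₂ • E = Y)
    (e₃ : m₃ • X = Y) (hfix : ∀ (g : G) (hg : g ∈ M), h.pt g (hM hg) ≠ E) : False := by
  classical
  have hb₁ : m₁ • X = E := by rw [← e₁, ← mul_smul, h.sq (hM h₁), one_smul]
  have h21 : m₂ * m₁ ∈ pairs M := subset_closure ⟨m₂, h₂, m₁, h₁, rfl⟩
  have h31 : m₃ * m₁ ∈ pairs M := subset_closure ⟨m₃, h₃, m₁, h₁, rfl⟩
  have hodd : Odd (Nat.card (orbit (pairs M) E)) := by
    refine Odd.of_dvd_nat (h.odd_pairs hM hinv hnc) ⟨Nat.card (stabilizer (pairs M) E), ?_⟩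
    rw [← Nat.card_prod]
    exact Nat.card_congr (orbitProdStabilizerEquivGroup (pairs M) E).symm
  have hX : X ∈ orbit (pairs M) E := by
    refine ⟨⟨(m₂ * m₁)⁻¹ * (m₃ * m₁), mul_mem (inv_mem h21) h31⟩, ?_⟩
    show ((m₂ * m₁)⁻¹ * (m₃ * m₁)) • E = X
    rw [mul_smul, mul_smul, e₁, e₃, inv_smul_eq_iff, mul_smul, hb₁, e₂]
  have hnorm : ∀ o ∈ pairs M, m₁ * o * m₁ ∈ pairs M := by
    intro o ho
    have hle : pairs M ≤ (pairs M).comap (MulAut.conj m₁).toMonoidHom := by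
      conv_lhs => rw [pairs]
      rw [closure_le]
      rintro _ ⟨a, ha, b, hb, rfl⟩
      refine subset_closure ⟨m₁ * a * m₁, hinv _ h₁ _ ha, m₁ * b * m₁, hinv _ h₁ _ hb, ?_⟩
      show m₁ * (a * b) * m₁⁻¹ = _
      rw [h.toOT.inv (hM h₁), show m₁ * a * m₁ * (m₁ * b * m₁) = m₁ * a * (m₁ * m₁) * b * m₁ by
        group, h.sq (hM h₁)]
      group
    have := hle ho
    rw [mem_comap] at this
    simpa [h.toOT.inv (hM h₁)] using this
  obtain ⟨Z, ⟨⟨o, ho⟩, rfl⟩, hZ⟩ := exists_fixed_of_odd hodd (fun A => m₁ • A)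
    (by
      rintro _ ⟨⟨o, ho⟩, rfl⟩
      obtain ⟨⟨o', ho'⟩, ho'X⟩ := hX
      refine ⟨⟨m₁ * o * m₁ * o', mul_mem (hnorm o ho) ho'⟩, ?_⟩
      show (m₁ * o * m₁ * o') • E = m₁ • o • E
      rw [mul_smul, show o' • E = X from ho'X, mul_smul, hb₁, mul_smul])
    (fun A _ => by rw [← mul_smul, h.sq (hM h₁), one_smul])
  have hZ' : o • E = h.pt m₁ (hM h₁) := (h.smul_eq_iff (hM h₁)).1 hZ
  have hg := h.conj_mem_of_closure hM hinv (inv_mem (pairs_le_closure M ho)) m₁ h₁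
  refine hfix _ hg ?_
  rw [← h.smul_pt o⁻¹ (hM h₁), ← hZ', inv_smul_smul]

/-! ### Fine primes -/

variable {n p : ℕ} (hW : h.Weak n) (hp : Fine p n)
include hW hp

theorem odd_p : Odd p := hp.odd (by have := hW.two_le; omega)

theorem cent_of_commute {E X : h.Pt} (hEX : E ≠ X) {k : G} (hkE : k • E = E) (hkX : k • X = X)
    (hk : ∃ j : ℕ, orderOf k = p ^ j) {a : G} (ha : a ∈ h.grp E) (ha1 : a ≠ 1)
    (hka : Commute k a) : h.Cent k E := fun v hv => by
  obtain ⟨j, hj⟩ := hk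
  exact h.centralize_grp hW.card_grp hp hEX hkE hkX hj ha ha1 hka hv

/-- A set of such elements centralizes classes wholly. -/
theorem centHyp_full {S : Set G}
    (hS : ∀ s ∈ S, (∃ j : ℕ, orderOf s = p ^ j) ∧
      ∃ E X : h.Pt, E ≠ X ∧ s • E = E ∧ s • X = X) :
    ∀ a ∈ centSet D S, ∀ b ∈ D, Commute a b → b ∈ centSet D S := by
  intro a ha b hb hab
  refine ⟨hb, fun s hs => ?_⟩
  obtain ⟨hsp, E, X, hEX, hsE, hsX⟩ := hS s hs
  have hfix : s • h.pt a ha.1 = h.pt a ha.1 :=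
    h.fix_of_commute (h.self_mem_grp ha.1) (h.toOT.ne_one ha.1) (ha.2 s hs)
  have hmem : b ∈ h.grp (h.pt a ha.1) := Or.inr ⟨hb, h.pt_eq_iff.2 hab.symm⟩
  by_cases he : h.pt a ha.1 = E
  · exact h.cent_of_commute hW hp (he ▸ hEX) hfix hsX hsp (h.self_mem_grp ha.1)
      (h.toOT.ne_one ha.1) (ha.2 s hs) b hmem
  · exact h.cent_of_commute hW hp he hfix hsE hsp (h.self_mem_grp ha.1)
      (h.toOT.ne_one ha.1) (ha.2 s hs) b hmem

/-- A `p`-group fixing two classes lies in one normalized by a swapper. -/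
theorem exists_sylow_swapper {E X : h.Pt} (hEX : E ≠ X) {P : Subgroup G} (hP : IsPGroup p P)
    (hPK : P ≤ h.pairStab E X) : ∃ (R : Subgroup G) (m : G), m ∈ h.swappers E X ∧ P ≤ R ∧
      R ≤ h.pairStab E X ∧ IsPGroup p R ∧ ∀ r ∈ R, m * r * m ∈ R := by
  classical
  haveI : Fact p.Prime := ⟨hp.prime⟩
  obtain ⟨m₀, hm₀⟩ := h.exists_swapper_pair hEX
  have hi := h.toOT.inv hm₀.1
  set O := h.torus E X with hO
  set J : Subgroup G := P ⊔ O with hJ
  have hPn : P ≤ normalizer (O : Set G) := fun g hg =>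
    h.torus_normalize (mem_stabilizer_iff.1 (mem_inf.1 (hPK hg)).1)
      (mem_stabilizer_iff.1 (mem_inf.1 (hPK hg)).2)
  have hPodd : Odd (Nat.card P) := by
    obtain ⟨j, hj⟩ := IsPGroup.iff_card.1 hP
    rw [hj]; exact (h.odd_p hW hp).pow
  have hJodd : Odd (Nat.card J) := odd_sup (h.torus_odd hEX) hPodd hPn
  have hJK : J ≤ h.pairStab E X := sup_le hPK fun g hg => mem_inf.2
    ⟨mem_stabilizer_iff.2 (h.torus_fix hg).1, mem_stabilizer_iff.2 (h.torus_fix hg).2⟩
  have hJm : ∀ g ∈ J, m₀ * g * m₀ ∈ J := by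
    intro g hg
    have hle : J ≤ J.comap (MulAut.conj m₀).toMonoidHom := by
      refine sup_le (fun r hr => ?_) fun o ho => ?_
      · show m₀ * r * m₀⁻¹ ∈ J
        obtain ⟨h1, h2⟩ := mem_inf.1 (hPK hr)
        have h3 : r * m₀ * r⁻¹ * m₀ ∈ O := subset_closure
          ⟨_, h.swapper_conj (mem_stabilizer_iff.1 h1) (mem_stabilizer_iff.1 h2) hm₀, m₀, hm₀, rfl⟩
        have h4 := mul_mem (mem_sup_left (inv_mem hr) : r⁻¹ ∈ J) (mem_sup_right h3 : _ ∈ J)
        rw [show r⁻¹ * (r * m₀ * r⁻¹ * m₀) = m₀ * r⁻¹ * m₀ by group] at h4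
        have h5 := inv_mem h4
        rw [mul_inv_rev, mul_inv_rev, inv_inv, hi] at h5
        rw [hi, mul_assoc]
        exact h5
      · show m₀ * o * m₀⁻¹ ∈ J
        rw [hi]
        exact mem_sup_right (h.torus_conj hm₀ ho)
    have h1 := hle hg
    rw [mem_comap] at h1
    simpa [hi] using h1
  have hmm : m₀ * m₀ = 1 := h.sq hm₀.1
  let φ : MulAut J :=
    { toFun := fun g => ⟨m₀ * g * m₀, hJm g g.2⟩
      invFun := fun g => ⟨m₀ * g * m₀, hJm g g.2⟩
      left_inv := fun g => Subtype.ext (GenA.OddTransp.conj_conj hmm)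
      right_inv := fun g => Subtype.ext (GenA.OddTransp.conj_conj hmm)
      map_mul' := fun a b => Subtype.ext (show m₀ * ((a : G) * b) * m₀ =
        m₀ * a * m₀ * (m₀ * b * m₀) by
        rw [show m₀ * (a : G) * m₀ * (m₀ * b * m₀) = m₀ * a * (m₀ * m₀) * b * m₀ by group, hmm]
        group) }
  have hφ : φ * φ = 1 := MulEquiv.ext fun g => Subtype.ext (GenA.OddTransp.conj_conj hmm)
  have hSyl : Odd (Nat.card (Sylow p J)) := by
    obtain ⟨Q⟩ : Nonempty (Sylow p J) := inferInstance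
    exact Odd.of_dvd_nat hJodd ((Sylow.card_dvd_index Q).trans (index_dvd_card _))
  obtain ⟨Q, -, hQ⟩ := exists_fixed_of_odd (s := (Set.univ : Set (Sylow p J)))
    (by rwa [Nat.card_univ]) (fun Q => φ • Q) (fun _ _ => Set.mem_univ _)
    (fun Q _ => by rw [← mul_smul, hφ, one_smul])
  obtain ⟨Q₀, hQ₀⟩ := (hP.comap_subtype (K := J)).exists_le_sylow
  obtain ⟨k, hk⟩ := exists_smul_eq J Q Q₀
  have hQm : ∀ x ∈ (Q : Subgroup J), φ x ∈ (Q : Subgroup J) := fun x hx => by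
    have h1 : φ x ∈ ((φ • Q : Sylow p J) : Subgroup J) := ⟨x, hx, rfl⟩
    rwa [hQ] at h1
  refine ⟨(Q₀ : Subgroup J).map J.subtype, (k : G) * m₀ * (k : G)⁻¹, ?_, ?_,
    (map_subtype_le _).trans hJK, Q₀.2.map _, ?_⟩
  · obtain ⟨h1, h2⟩ := mem_inf.1 (hJK k.2)
    exact h.swapper_conj (mem_stabilizer_iff.1 h1) (mem_stabilizer_iff.1 h2) hm₀
  · intro g hg
    exact ⟨⟨g, mem_sup_left hg⟩, hQ₀ hg, rfl⟩
  · rintro _ ⟨x, hx, rfl⟩
    rw [← hk] at hx ⊢
    obtain ⟨z, hz, rfl⟩ := hx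
    refine ⟨k * φ z * k⁻¹, ⟨φ z, hQm z hz, rfl⟩, ?_⟩
    show (k : G) * (m₀ * (z : G) * m₀) * (k : G)⁻¹ =
      (k : G) * m₀ * (k : G)⁻¹ * ((k : G) * (z : G) * (k : G)⁻¹) * ((k : G) * m₀ * (k : G)⁻¹)
    group

/-- Two elements of a `p`-group fixing two classes, with `p`-th powers centralizing the first: one
is a power of the other, unless that centralizes the class, modulo the centralizer. -/
theorem exists_pow_mod {E X : h.Pt} (hEX : E ≠ X) {R : Subgroup G} (hR : IsPGroup p R)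
    (hRK : R ≤ h.pairStab E X) {b c : G} (hb : b ∈ R) (hc : c ∈ R) (hbp : h.Cent (b ^ p) E)
    (hcp : h.Cent (c ^ p) E) (hcE : ¬ h.Cent c E) :
    ∃ i : ℕ, h.Cent (b * (c ^ i)⁻¹) E := by
  classical
  haveI : Fact p.Prime := ⟨hp.prime⟩
  have hRE : ∀ g ∈ R, g • E = E := fun g hg => mem_stabilizer_iff.1 (mem_inf.1 (hRK hg)).1
  letI := h.grpAction E hRE
  let φ : R →* MulAut (h.grp E) := MulDistribMulAction.toMulAut R (h.grp E)
  have hker : ∀ g : R, φ g = 1 ↔ h.Cent g E := by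
    intro g
    refine ⟨fun hg v hv => ?_, fun hg => MulEquiv.ext fun v => Subtype.ext ?_⟩
    · have h1 : (g : G) * v * (g : G)⁻¹ = v :=
        congrArg (fun f : MulAut (h.grp E) => ((f ⟨v, hv⟩ : h.grp E) : G)) hg
      exact mul_inv_eq_iff_eq_mul.1 h1
    · show (g : G) * v * (g : G)⁻¹ = v
      rw [(hg v v.2).eq, mul_inv_cancel_right]
  have hfpf : ∀ g : R, φ g ≠ 1 → ∀ v : h.grp E, φ g v = v → v = 1 := by
    intro g hg v hv
    by_contra hv1
    have h1 : (g : G) * v * (g : G)⁻¹ = v := congrArg Subtype.val hv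
    exact hg ((hker g).2 (h.cent_of_commute hW hp hEX (hRE g g.2)
      (mem_stabilizer_iff.1 (mem_inf.1 (hRK g.2)).2) (exists_orderOf_eq hR g.2) v.2
      (fun h2 => hv1 (Subtype.ext h2)) (mul_inv_eq_iff_eq_mul.1 h1)))
  have hI : IsPGroup p φ.range :=
    hR.of_surjective φ.rangeRestrict (MonoidHom.rangeRestrict_surjective φ)
  haveI : Nontrivial φ.range := by
    refine ⟨⟨⟨φ ⟨c, hc⟩, ⟨_, rfl⟩⟩, 1, fun h1 => hcE ((hker ⟨c, hc⟩).1 ?_)⟩⟩
    exact congrArg Subtype.val h1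
  haveI := hI.center_nontrivial
  obtain ⟨z, hz⟩ := exists_ne (1 : Subgroup.center φ.range)
  obtain ⟨z₁, hz1, hzp⟩ : ∃ z₁ : Subgroup.center φ.range, z₁ ≠ 1 ∧ z₁ ^ p = 1 := by
    obtain ⟨j, hj⟩ := IsPGroup.iff_orderOf.1 (hI.to_subgroup (Subgroup.center φ.range)) z
    have hj0 : j ≠ 0 := by
      rintro rfl
      exact hz (orderOf_eq_one_iff.1 (by simpa using hj))
    have h2 : orderOf (z ^ p ^ (j - 1)) = p := by
      rw [orderOf_pow, hj, Nat.gcd_eq_right (pow_dvd_pow p (Nat.sub_le j 1)),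
        Nat.pow_div (Nat.sub_le j 1) hp.prime.pos, show j - (j - 1) = 1 by omega, pow_one]
    exact ⟨z ^ p ^ (j - 1), fun h1 => hp.prime.ne_one (by rw [← h2, h1, orderOf_one]),
      orderOf_dvd_iff_pow_eq_one.1 h2.dvd⟩
  set y : φ.range := (z₁ : φ.range) with hy
  have hy1 : y ≠ 1 := fun h1 => hz1 (Subtype.ext h1)
  have hyp : y ^ p = 1 := congrArg Subtype.val hzp
  letI : CommGroup (h.grp E) :=
    { (inferInstance : Group (h.grp E)) with
      mul_comm := fun a b => Subtype.ext (h.grp_comm a.2 b.2).eq }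
  let ρ : φ.range →* (h.grp E ≃* h.grp E) := φ.range.subtype
  have hmem : ∀ w : φ.range, w ^ p = 1 → ∃ i : ℕ, w = y ^ i := by
    intro w hw
    by_contra hno
    push Not at hno
    have hind : ∀ i : ℕ, w * y ^ i ≠ 1 := by
      intro i h1
      have h2 : w = (y ^ i)⁻¹ := eq_inv_of_mul_eq_one_left h1
      refine hno ((p - 1) * i) ?_
      rw [h2, inv_eq_iff_mul_eq_one, ← pow_add,
        show i + (p - 1) * i = p * i by
          have := hp.prime.one_le
          rw [Nat.sub_mul, one_mul, Nat.add_sub_cancel' (Nat.le_mul_of_pos_left i (by omega))],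
        pow_mul, hyp, one_pow]
    obtain ⟨a, ha, ha1⟩ := h.exists_ne_one E
    have h3 := Coprime.pow_mem_of_fixed_mem ρ ⊥ hp.prime
      (mem_center_iff.1 z₁.2 w : Commute w y) hyp hw hy1 hind (fun e v he hv => by
        obtain ⟨g, hg⟩ := e.2
        rw [Subgroup.mem_bot]
        refine hfpf g (fun h4 => he (Subtype.ext (hg.symm.trans h4))) v ?_
        rw [hg]; exact hv) ⟨a, ha⟩
    rw [Subgroup.mem_bot] at h3
    have h4 : a ^ p = 1 := congrArg Subtype.val h3
    obtain ⟨l, hl⟩ := h.odd_p hW hp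
    rw [hl, pow_succ, pow_mul, pow_two, h.grp_sq ha, one_pow, one_mul] at h4
    exact ha1 h4
  have hpow : ∀ {g : G} (hg : g ∈ R), h.Cent (g ^ p) E →
      (⟨φ ⟨g, hg⟩, ⟨_, rfl⟩⟩ : φ.range) ^ p = 1 := by
    intro g hg hgp
    apply Subtype.ext
    push_cast
    rw [← map_pow]
    exact (hker _).2 hgp
  obtain ⟨i, hi⟩ := hmem _ (hpow hb hbp)
  obtain ⟨j, hj⟩ := hmem _ (hpow hc hcp)
  have hjp : ¬ p ∣ j := by
    rintro ⟨l, rfl⟩
    refine hcE ((hker ⟨c, hc⟩).1 ?_)
    rw [pow_mul, hyp, one_pow] at hj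
    exact congrArg Subtype.val hj
  obtain ⟨l, hl⟩ := exists_pow_eq_self_of_coprime (x := y) (n := j) (by
    rw [orderOf_eq_prime hyp hy1]; exact (hp.prime.coprime_iff_not_dvd.2 hjp).symm)
  refine ⟨l * i, ?_⟩
  have h5 : φ (⟨b, hb⟩ * (⟨c, hc⟩ ^ (l * i))⁻¹) = 1 := by
    rw [map_mul, map_inv, map_pow, mul_inv_eq_one]
    have h6 : (⟨φ ⟨b, hb⟩, ⟨_, rfl⟩⟩ : φ.range) =
        (⟨φ ⟨c, hc⟩, ⟨_, rfl⟩⟩ : φ.range) ^ (l * i) := by
      rw [hi, hj, pow_mul, hl]
    exact congrArg Subtype.val h6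
  exact (hker _).1 h5

end ClassGroups

end Cfsg.Agent.OddTranspX
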