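import Cfsg.Agent.Lib.OddTranspX.Defs
import Cfsg.Agent.Lib.Cores.Basic
import Cfsg.Agent.Lib.Involutions.Basic

/-!
# Reduction to the setting of full classes

Odd transpositions generated by members `A` with one set of commuting members and one member `x`
not commuting with them, without normal 2-subgroups: the class of `d ∈ A` with `1` is a group and
commuting is transitive (`classes_of_gen`).  Factoring the largest normal 2-subgroup this leaves
`L2`, a Suzuki group or a dihedral group (`concl_or_dihedral`).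
-/

set_option autoImplicit false
set_option linter.style.haveILetI false
set_option linter.unusedSectionVars false

namespace Cfsg.Agent.OddTranspX

open Subgroup
open Cfsg.Agent.GenA.OddTransp (OT Tri split swap tri_comm tri_symm two fix_of_commute sq_mul conj_conj cconj)

universe u

variable {G : Type u} [Group G] {D : Set G}

/-- The members with the same commuting members as `d`. -/
def sameCls (D : Set G) (d : G) : Set G :=
  {a | a ∈ D ∧ ∀ y ∈ D, Commute a y ↔ Commute d y}

theorem commute_sameCls {d a b : G} (ha : a ∈ sameCls D d) (hb : b ∈ sameCls D d) :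
    Commute a b :=
  ((hb.2 a ha.1).2 ((ha.2 a ha.1).1 (Commute.refl a))).symm

variable [Finite G] (hot : OT D) {A : Set G} {d x : G} (hd : d ∈ D) (hdA : d ∈ A)
  (hA : A ⊆ sameCls D d) (hx : x ∈ D) (hdx : ¬ Commute d x)
  (hgen : closure (A ∪ {x}) = ⊤)
  (hcore : ∀ N : Subgroup G, N.Normal → IsPGroup 2 N → N = ⊥)

include hot hd hdA hA hx hdx hgen hcore

theorem eq_one_of_commute_all {z : G} (hz : z * z = 1) (hzA : ∀ a ∈ A, Commute z a)
    (hzx : Commute z x) : z = 1 := by
  have hle : closure (A ∪ {x}) ≤ centralizer {z} := by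
    refine (closure_le _).2 fun y hy => ?_
    rcases hy with hy | rfl
    · exact mem_centralizer_singleton_iff.2 (hzA y hy).symm.eq
    · exact mem_centralizer_singleton_iff.2 hzx.symm.eq
  rw [hgen] at hle
  have hc : z ∈ center G := mem_center_iff.2 fun g => mem_centralizer_singleton_iff.1 (hle (mem_top g))
  have h1 : (zpowers z).Normal :=
    ⟨fun n hn g => by
      have hn' : n ∈ center G := zpowers_le.2 hc hn
      rw [mem_center_iff.1 hn' g, mul_inv_cancel_right]; exact hn⟩
  have h2 : IsPGroup 2 (zpowers z) := fun n => ⟨1, Subtype.ext (by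
    obtain ⟨k, hk⟩ := mem_zpowers_iff.1 n.2
    have h0 : (z ^ k) ^ (2 ^ 1 : ℕ) = 1 := by
      rw [← zpow_natCast (z ^ k), ← zpow_mul, mul_comm, zpow_mul, zpow_natCast, pow_one, pow_two, hz,
        one_zpow]
    rw [SubgroupClass.coe_pow, ← hk, h0]; rfl)⟩
  have := hcore _ h1 h2
  rwa [zpowers_eq_bot] at this

/-- The members are conjugate. -/
theorem conj_d {y : G} (hy : y ∈ D) : ∃ g : G, g * d * g⁻¹ = y := by
  have hc : ∀ a b : G, a ∈ D → b ∈ D → ¬ Commute a b → ∃ g : G, g * a * g⁻¹ = b := fun a b ha hb h => by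
    obtain ⟨m, hm, hmab, -, -⟩ := swap hot ha hb h
    exact ⟨m, by rw [hot.inv hm]; exact hmab⟩
  by_cases h1 : Commute d y
  · have h2 : ¬ Commute y x := fun hyx => hot.ne_one hy (eq_one_of_commute_all hot hd hdA hA hx hdx
      hgen hcore (hot.sq hy) (fun a ha => (((hA ha).2 y hy).2 h1).symm) hyx)
    obtain ⟨g, hg⟩ := hc d x hd hx hdx
    obtain ⟨g', hg'⟩ := hc x y hx hy fun hxy => h2 hxy.symm
    exact ⟨g' * g, by rw [← hg', ← hg]; group⟩
  · exact hc d y hd hy h1

/-- For `p` in the class and `r` commuting with `d`: the product is a member, or `x` commutes with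
its conjugate by the product. -/
theorem good_or_bad {p r : G} (hp : p ∈ sameCls D d) (hr : r ∈ D) (hdr : Commute d r) (hne : p ≠ r) :
    p * r ∈ D ∨ Commute x (p * r * x * (p * r)) := by
  have hpr : Commute p r := (hp.2 r hr).2 hdr
  have huu : p * r * (p * r) = 1 := sq_mul (hot.sq hp.1) (hot.sq hr) hpr
  by_cases hc : Commute x (p * r * x * (p * r))
  · exact Or.inr hc
  obtain ⟨m, hm, hmx, -, hmfix⟩ := swap hot hx (hot.conj2 hx huu) hc
  have hum : Commute (p * r) m := hmfix _ (Or.inr ⟨by rw [inv_eq_of_mul_eq_one_right huu],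
    by rw [inv_eq_of_mul_eq_one_right huu, conj_conj huu]⟩)
  obtain ⟨hmp, -⟩ := split hot hm hp.1 hr hpr hne hum.symm
  have hmd : Commute m d := ((hp.2 m hm).1 hmp.symm).symm
  have hzz : m * (p * r) * (m * (p * r)) = 1 := sq_mul (hot.sq hm) huu hum.symm
  have hz : m * (p * r) = 1 := by
    refine eq_one_of_commute_all hot hd hdA hA hx hdx hgen hcore hzz (fun a ha => ?_) ?_
    · exact (((hA ha).2 m hm).2 hmd.symm).symm.mul_left
        ((commute_sameCls (hA ha) hp).symm.mul_left (((hA ha).2 r hr).2 hdr).symm)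
    · refine GenA.OddTransp.commute_of_fix hzz ?_
      calc m * (p * r) * x * (m * (p * r)) = m * (p * r) * x * ((p * r) * m) := by rw [hum.eq]
        _ = m * (p * r * x * (p * r)) * m := by simp only [mul_assoc]
        _ = m * (m * x * m) * m := by rw [hmx]
        _ = x := conj_conj (hot.sq hm)
  left
  rw [← inv_eq_of_mul_eq_one_right hz, hot.inv hm]
  exact hm

/-- All pairs of the class of `d` are good. -/
theorem mul_mem_sameCls {a b : G} (ha : a ∈ sameCls D d) (hb : b ∈ sameCls D d) (hne : a ≠ b) :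
    a * b ∈ D := by
  classical
  set R : Set G := {u | ∃ a ∈ sameCls D d, ∃ b ∈ sameCls D d, a ≠ b ∧ a * b ∉ D ∧ u = a * b}
    with hR
  set R' : Set G := (fun u => x * (u * x * u)) '' R with hR'
  have hRfac : ∀ u ∈ R, u * u = 1 ∧ (∀ c ∈ sameCls D d, Commute u c) ∧
      Commute x (u * x * u) ∧ u * x * u ≠ x ∧
      ∀ y ∈ D, Commute y u → Commute d y := by
    rintro u ⟨a, ha, b, hb, hab, habD, rfl⟩
    have hc := commute_sameCls ha hb
    have huu : a * b * (a * b) = 1 := sq_mul (hot.sq ha.1) (hot.sq hb.1) hc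
    have hucl : ∀ c ∈ sameCls D d, Commute (a * b) c := fun c hc' =>
      (commute_sameCls ha hc').mul_left (commute_sameCls hb hc')
    refine ⟨huu, hucl, (good_or_bad hot hd hdA hA hx hdx hgen hcore ha hb.1 ((hb.2 b hb.1).1 (Commute.refl b))
      hab).resolve_left habD, fun h1 => ?_, fun y hy hyu => ?_⟩
    · have h2 : a * b = 1 := eq_one_of_commute_all hot hd hdA hA hx hdx hgen hcore huu
        (fun c hc' => hucl c (hA hc')) (GenA.OddTransp.commute_of_fix huu h1)
      exact hab (by rw [eq_inv_of_mul_eq_one_left h2, hot.inv hb.1])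
    · exact (ha.2 y hy).1 (split hot hy ha.1 hb.1 hc hab hyu).1.symm
  -- the involutions `w` permute the class
  have hwfac : ∀ u ∈ R, x * (u * x * u) * (x * (u * x * u)) = 1 ∧
      Commute u (x * (u * x * u)) ∧
      ∀ c ∈ sameCls D d, x * (u * x * u) * c * (x * (u * x * u)) ∈ sameCls D d := by
    intro u hu
    obtain ⟨huu, hucl, hxu, hne', hyu⟩ := hRfac u hu
    have hu'D : u * x * u ∈ D := hot.conj2 hx huu
    have hww := sq_mul (hot.sq hx) (hot.sq hu'D) hxu
    have huw : Commute u (x * (u * x * u)) := by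
      refine GenA.OddTransp.commute_of_fix huu ?_
      calc u * (x * (u * x * u)) * u = u * x * u * x * (u * u) := by simp only [mul_assoc]
        _ = x * (u * x * u) := by rw [huu, mul_one]; exact hxu.symm.eq
    have hkey : ∀ y ∈ D, Commute d y →
        Commute d (x * (u * x * u) * y * (x * (u * x * u))) := by
      intro y hy hdy
      refine hyu _ (hot.conj2 hy hww) ?_
      have h1 : Commute u y := by
        obtain ⟨a, ha, b, hb, -, -, rfl⟩ := hu
        exact ((ha.2 y hy).2 hdy).mul_left ((hb.2 y hy).2 hdy)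
      exact ((huw.mul_right h1).mul_right huw).symm
    refine ⟨hww, huw, fun c hc => ⟨hot.conj2 hc.1 hww, fun y hy => ?_⟩⟩
    constructor
    · intro h1
      have h2 := cconj hww h1
      rw [conj_conj hww] at h2
      have h3 := hkey _ (hot.conj2 hy hww) ((hc.2 _ (hot.conj2 hy hww)).1 h2)
      rwa [conj_conj hww] at h3
    · intro h1
      have h2 := cconj hww ((hc.2 _ (hot.conj2 hy hww)).2 (hkey y hy h1))
      rwa [conj_conj hww] at h2
  set T : Subgroup G := closure R with hT
  set N : Subgroup G := closure (R ∪ R') with hN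
  have hTN : T ≤ N := closure_mono Set.subset_union_left
  -- `N` is normal
  have hgenN : ∀ g ∈ A ∪ {x}, ∀ z ∈ R ∪ R', g * z * g⁻¹ ∈ N := by
    rintro g hg z hz
    rcases hg with hg | hg
    · have hga := hA hg
      rw [hot.inv hga.1]
      rcases hz with hz | ⟨u, hu, rfl⟩
      · rw [fix_of_commute (hot.sq hga.1) ((hRfac z hz).2.1 g hga).symm]
        exact subset_closure (Or.inl hz)
      · obtain ⟨huu, hucl, hxu, hne', hyu⟩ := hRfac u hu
        obtain ⟨hww, huw, hwcl⟩ := hwfac u hu
        show g * (x * (u * x * u)) * g ∈ N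
        set w := x * (u * x * u) with hw
        have hw' : w ∈ N := subset_closure (Or.inr ⟨u, hu, rfl⟩)
        have e : g * w * g = w * (w * g * w * g) := by
          rw [show w * (w * g * w * g) = w * w * (g * w * g) by simp only [mul_assoc], hww, one_mul]
        rw [e]
        refine mul_mem hw' ?_
        have hg' := hwcl g hga
        by_cases heq : w * g * w = g
        · rw [heq, hot.sq hga.1]; exact one_mem N
        refine subset_closure (Or.inl ⟨_, hg', g, hga, heq, fun hD => ?_, rfl⟩)
        have hcw : Commute (w * g * w * g) w := by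
          refine (GenA.OddTransp.commute_of_fix hww ?_).symm
          calc w * (w * g * w * g) * w = w * w * g * (w * g * w) := by simp only [mul_assoc]
            _ = w * g * w * g := by rw [hww, one_mul]; exact (commute_sameCls hga hg').eq
        have hec := (split hot hD hx (hot.conj2 hx huu) hxu (fun h1 => hne' h1.symm) hcw).1
        exact hot.ne_one hD (eq_one_of_commute_all hot hd hdA hA hx hdx hgen hcore (hot.sq hD)
          (fun c hc => (commute_sameCls hg' (hA hc)).mul_left (commute_sameCls hga (hA hc))) hec)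
    · rw [Set.mem_singleton_iff.1 hg, hot.inv hx]
      rcases hz with hz | ⟨u, hu, rfl⟩
      · obtain ⟨huu, -, hxu, -, -⟩ := hRfac z hz
        have e : x * z * x = z * (x * (z * x * z))⁻¹⁻¹ := by
          rw [inv_inv]
          calc x * z * x = z * (z * x * z * x) := by
                rw [show z * (z * x * z * x) = z * z * (x * z * x) by simp only [mul_assoc], huu,
                  one_mul]
            _ = z * (x * (z * x * z)) := by rw [hxu.symm.eq]
        rw [e, inv_inv]
        exact mul_mem (subset_closure (Or.inl hz)) (subset_closure (Or.inr ⟨z, hz, rfl⟩))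
      · obtain ⟨huu, -, hxu, -, -⟩ := hRfac u hu
        show x * (x * (u * x * u)) * x ∈ N
        rw [fix_of_commute (hot.sq hx) ((Commute.refl x).mul_right hxu)]
        exact subset_closure (Or.inr ⟨u, hu, rfl⟩)
  have hNn : N.Normal := by
    have hle : closure (A ∪ {x}) ≤ normalizer (N : Set G) := by
      refine (closure_le _).2 fun g hg => mem_normalizer_fintype fun z hz => ?_
      have h1 : N ≤ N.comap (MulAut.conj g).toMonoidHom := by
        conv_lhs => rw [hN]
        exact (closure_le _).2 fun z hz => hgenN g hg z hz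
      exact h1 hz
    rw [hgen, top_le_iff] at hle
    exact normalizer_eq_top_iff.1 hle
  -- `T` is a normal 2-subgroup of `N`
  have hTle : T ≤ closure (sameCls D d) := by
    refine (closure_le _).2 ?_
    rintro u ⟨a, ha, b, hb, -, -, rfl⟩
    exact mul_mem (subset_closure ha) (subset_closure hb)
  have hTc : ∀ a ∈ closure (sameCls D d), ∀ b ∈ closure (sameCls D d), Commute a b := by
    intro a ha b hb
    induction ha, hb using closure_induction₂ with
    | mem a b ha hb => exact commute_sameCls ha hb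
    | one_left y => exact Commute.one_left y
    | one_right y => exact Commute.one_right y
    | mul_left a b c _ _ _ h1 h2 => exact h1.mul_left h2
    | mul_right a b c _ _ _ h1 h2 => exact h1.mul_right h2
    | inv_left a b _ _ h1 => exact h1.inv_left
    | inv_right a b _ _ h1 => exact h1.inv_right
  have hTsq : ∀ z ∈ T, z * z = 1 := by
    intro z hz
    induction hz using closure_induction with
    | mem u hu => exact (hRfac u hu).1
    | one => exact one_mul 1
    | mul a b ha hb h1 h2 => exact sq_mul h1 h2 (hTc a (hTle ha) b (hTle hb))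
    | inv a ha h1 => rw [← mul_inv_rev, h1, inv_one]
  have hNT : N ≤ normalizer (T : Set G) := by
    refine (closure_le _).2 ?_
    rintro g (hg | ⟨u, hu, rfl⟩)
    · exact le_normalizer (subset_closure hg)
    · obtain ⟨hww, huw, hwcl⟩ := hwfac u hu
      set w := x * (u * x * u) with hw
      refine mem_normalizer_fintype fun z hz => ?_
      have h1 : T ≤ T.comap (MulAut.conj w).toMonoidHom := by
        conv_lhs => rw [hT]
        refine (closure_le _).2 ?_
        rintro v ⟨a, ha, b, hb, hab, habD, rfl⟩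
        show w * (a * b) * w⁻¹ ∈ T
        rw [inv_eq_of_mul_eq_one_right hww]
        have e : w * (a * b) * w = (w * a * w) * (w * b * w) := by
          rw [show w * a * w * (w * b * w) = w * a * (w * w) * (b * w) by simp only [mul_assoc],
            hww, mul_one]
          simp only [mul_assoc]
        refine subset_closure ⟨_, hwcl a ha, _, hwcl b hb, fun h1 => hab ?_, fun h1 => habD ?_, e⟩
        · rw [← conj_conj hww (a := a), h1, conj_conj hww]
        · rw [← conj_conj hww (a := a * b), e]
          exact hot.conj2 h1 hww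
      exact h1 hz
  have hTbot : T = ⊥ := by
    haveI : (T.subgroupOf N).Normal := normal_subgroupOf_of_le_normalizer hNT
    have hp : IsPGroup 2 (T.subgroupOf N) := fun z => ⟨1, Subtype.ext (Subtype.ext (by
      rw [SubgroupClass.coe_pow, SubgroupClass.coe_pow, pow_one, pow_two]
      exact hTsq _ z.2))⟩
    haveI := hNn
    have h1 : (Cfsg.pCore 2 N).map N.subtype = ⊥ :=
      hcore _ inferInstance ((Cores.pCore_isPGroup 2).map _)
    have h2 : (T.subgroupOf N).map N.subtype ≤ (Cfsg.pCore 2 N).map N.subtype :=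
      map_mono (Cores.le_pCore hp)
    rw [subgroupOf_map_subtype, inf_eq_left.2 hTN, h1] at h2
    exact le_bot_iff.1 h2
  by_contra habD
  have h1 : a * b ∈ T := subset_closure ⟨a, ha, b, hb, hne, habD, rfl⟩
  rw [hTbot, mem_bot] at h1
  exact hne (by rw [eq_inv_of_mul_eq_one_left h1, hot.inv hb.1])

/-- The commuting members of `d` are the members of its class, once there are two. -/
theorem mem_sameCls_of_commute (htwo : ∃ a ∈ A, a ≠ d) {r : G} (hr : r ∈ D) (hdr : Commute d r) :
    r ∈ sameCls D d := by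
  obtain ⟨q, hqA, hqd⟩ := htwo
  have hq := hA hqA
  have hd' : d ∈ sameCls D d := hA hdA
  by_cases hrd : r = d
  · rw [hrd]; exact hd'
  by_cases hrq : r = q
  · rw [hrq]; exact hq
  have htri : Tri D d q := ⟨hq.1, commute_sameCls hd' hq,
    mul_mem_sameCls hot hd hdA hA hx hdx hgen hcore hd' hq (fun h => hqd h.symm)⟩
  have hkey : ∀ p ∈ sameCls D d, p * r ∈ D → r ∈ sameCls D d := by
    intro p hp hpr
    have htp : Tri D p r := ⟨hr, (hp.2 r hr).2 hdr, hpr⟩
    exact ⟨hr, fun y hy => ⟨fun hry => (hp.2 y hy).1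
        (tri_comm hot hr (tri_symm hp.1 htp) hy hry.symm).symm,
      fun hdy => (tri_comm hot hp.1 htp hy ((hp.2 y hy).2 hdy).symm).symm⟩⟩
  rcases good_or_bad hot hd hdA hA hx hdx hgen hcore hd' hr hdr (fun h => hrd h.symm) with h1 | h1
  · exact hkey d hd' h1
  rcases good_or_bad hot hd hdA hA hx hdx hgen hcore hq hr hdr (fun h => hrq h.symm) with h2 | h2
  · exact hkey q hq h2
  exact (two hot hd htri hr hx hdr.symm (fun hc => hdx hc.symm) h1 h2).elim

/-- **The reduction.** -/
theorem classes_of_gen (htwo : ∃ a ∈ A, a ≠ d) : Classes D := by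
  have hC : ∀ a b c : G, a ∈ D → b ∈ D → c ∈ D → Commute a b → Commute b c →
      Commute a c ∧ (a ≠ b → a * b ∈ D) := by
    intro a b c ha hb hc hab hbc
    obtain ⟨g, hg⟩ := conj_d hot hd hdA hA hx hdx hgen hcore hb
    have key : ∀ y ∈ D, Commute b y →
        g⁻¹ * y * g ∈ sameCls D d := by
      intro y hy hby
      refine mem_sameCls_of_commute hot hd hdA hA hx hdx hgen hcore htwo
        (by simpa using hot.conj y hy g⁻¹) ?_
      have h1 := hby.map (MulAut.conj g⁻¹).toMonoidHom
      have e : (MulAut.conj g⁻¹).toMonoidHom b = d := by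
        rw [← hg]; simp [mul_assoc]
      rw [e] at h1
      simpa [MulAut.conj_apply] using h1
    have k1 := key a ha hab.symm
    have k2 := key c hc hbc
    refine ⟨?_, fun hne => ?_⟩
    · have h1 := (commute_sameCls k1 k2).map (MulAut.conj g).toMonoidHom
      simpa [MulAut.conj_apply, mul_assoc] using h1
    · have h1 := mul_mem_sameCls hot hd hdA hA hx hdx hgen hcore k1 (key b hb (Commute.refl b))
        (fun h => hne (mul_left_cancel (mul_right_cancel h)))
      have h2 := hot.conj _ h1 g
      have e : g * (g⁻¹ * a * g * (g⁻¹ * b * g)) * g⁻¹ = a * b := by group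
      rwa [e] at h2
  refine
    { toOT := hot
      trans := fun a ha b hb c hc hab hbc => (hC a b c ha hb hc hab hbc).1
      prod := fun a ha b hb hab hne => (hC a b b ha hb hb hab (Commute.refl b)).2 hne
      gen := ?_
      core := hcore
      big := ?_
      conjugate := ?_
      pairGen := ?_ }
  · rw [eq_top_iff, ← hgen]
    exact closure_mono (Set.union_subset (fun a ha => (hA ha).1) (Set.singleton_subset_iff.2 hx))
  · intro a ha
    obtain ⟨g, hg⟩ := conj_d hot hd hdA hA hx hdx hgen hcore ha
    obtain ⟨q, hqA, hqd⟩ := htwo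
    refine ⟨g * q * g⁻¹, hot.conj q (hA hqA).1 g, ?_, fun h1 => hqd ?_⟩
    · have h1 := (commute_sameCls (hA hdA) (hA hqA)).map (MulAut.conj g).toMonoidHom
      rwa [MulEquiv.coe_toMonoidHom, MulAut.conj_apply, MulAut.conj_apply, hg] at h1
    · rw [← hg] at h1
      exact mul_left_cancel (mul_right_cancel h1)
  · intro a ha b hb
    obtain ⟨g, hg⟩ := conj_d hot hd hdA hA hx hdx hgen hcore ha
    obtain ⟨k, hk⟩ := conj_d hot hd hdA hA hx hdx hgen hcore hb
    exact ⟨k * g⁻¹, by rw [← hg, ← hk]; group⟩
  · refine ⟨d, hd, x, hx, hdx, eq_top_iff.2 (hgen ▸ closure_mono ?_)⟩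
    exact Set.union_subset_union_left _ fun a ha =>
      ⟨(hA ha).1, ((hA ha).2 d hd).2 (Commute.refl d) |>.symm⟩

omit hcore in
/-- **Factoring the largest normal 2-subgroup.** -/
theorem concl_or_dihedral
    (hmain : ∀ (H : Type u) [Group H] [Finite H], Nat.card H ≤ Nat.card G → Main H) :
    Concl (G ⧸ Cfsg.pCore 2 G) ∨ ∃ n : ℕ, Nonempty ((G ⧸ Cfsg.pCore 2 G) ≃* DihedralGroup n) := by
  classical
  set N := Cfsg.pCore 2 G with hN
  set π : G →* G ⧸ N := QuotientGroup.mk' N with hπ
  set Db : Set (G ⧸ N) := {b | b ≠ 1 ∧ b ∈ π '' D} with hDb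
  have hcoreQ : ∀ M : Subgroup (G ⧸ N), M.Normal → IsPGroup 2 M → M = ⊥ := fun M hM hp => by
    haveI := hM
    exact le_bot_iff.1 ((Cores.le_pCore hp).trans (le_of_eq (Cores.pCore_quotient_self 2)))
  have hpow : ∀ {g : G}, g ∈ N → ∃ k : ℕ, g ^ 2 ^ k = 1 := fun {g} hg => by
    obtain ⟨k, hk⟩ := Cores.pCore_isPGroup (G := G) 2 ⟨g, hg⟩
    exact ⟨k, congrArg Subtype.val hk⟩
  have hlift : ∀ a ∈ D, ∀ b ∈ D, Commute (π a) (π b) → Commute a b := by
    intro a ha b hb hc
    rcases hot.pair a ha b hb with h1 | h1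
    · exact h1
    have h2 : (a * b) ^ 2 ∈ N := by
      rw [← QuotientGroup.eq_one_iff]
      show π ((a * b) ^ 2) = 1
      rw [map_pow, map_mul, pow_two]
      refine sq_mul ?_ ?_ hc <;> rw [← map_mul, hot.sq (by assumption), map_one]
    obtain ⟨k, hk⟩ := hpow h2
    have h3 : a * b = 1 := RootInvolutions.Basic.eq_one_of_odd h1 (n := k + 1)
      (by rw [pow_succ', pow_mul]; exact hk)
    rw [eq_inv_of_mul_eq_one_left h3, hot.inv hb]
  have hne : ∀ a ∈ D, ∀ b ∈ D, ¬ Commute a b → π a ≠ 1 := fun a ha b hb hab h1 => hab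
    (hlift a ha b hb (by rw [h1]; exact Commute.one_left _))
  have hotb : OT Db := by
    refine ⟨?_, ?_, ?_⟩
    · rintro _ ⟨h1, a, ha, rfl⟩
      exact orderOf_eq_prime (by rw [← map_pow, pow_two, hot.sq ha, map_one]) h1
    · rintro _ ⟨h1, a, ha, rfl⟩ q
      obtain ⟨g, rfl⟩ := QuotientGroup.mk'_surjective N q
      refine ⟨fun h2 => h1 ?_, g * a * g⁻¹, hot.conj a ha g, by simp [π]⟩
      exact conj_eq_one_iff.1 h2
    · rintro _ ⟨-, a, ha, rfl⟩ _ ⟨-, b, hb, rfl⟩
      rcases hot.pair a ha b hb with h1 | h1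
      · exact Or.inl (h1.map π)
      · exact Or.inr (h1.of_dvd_nat (by rw [← map_mul]; exact orderOf_map_dvd π _))
  have hdxb : ¬ Commute (π d) (π x) := fun hc => hdx (hlift d hd x hx hc)
  have hxb : π x ∈ Db := ⟨hne x hx d hd (fun hc => hdx hc.symm), x, hx, rfl⟩
  have hdb : π d ∈ Db := ⟨hne d hd x hx hdx, d, hd, rfl⟩
  have hAb : π '' A ⊆ sameCls Db (π d) := by
    rintro _ ⟨a, ha, rfl⟩
    have hax : ¬ Commute a x := fun hc => hdx (((hA ha).2 x hx).1 hc)
    refine ⟨⟨hne a (hA ha).1 x hx hax, a, (hA ha).1, rfl⟩, ?_⟩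
    rintro _ ⟨-, y, hy, rfl⟩
    exact ⟨fun hc => (((hA ha).2 y hy).1 (hlift a (hA ha).1 y hy hc)).map π,
      fun hc => (((hA ha).2 y hy).2 (hlift d hd y hy hc)).map π⟩
  have hgenb : closure (π '' A ∪ {π x}) = ⊤ := by
    rw [show π '' A ∪ {π x} = π '' (A ∪ {x}) by rw [Set.image_union, Set.image_singleton],
      ← MonoidHom.map_closure, hgen, map_top_of_surjective π (QuotientGroup.mk'_surjective N)]
  by_cases htwo : ∃ b ∈ π '' A, b ≠ π d
  · left
    exact hmain (G ⧸ N) (Nat.card_le_card_of_surjective π (QuotientGroup.mk'_surjective N)) Db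
      (classes_of_gen hotb hdb (Set.mem_image_of_mem π hdA) hAb hxb hdxb hgenb hcoreQ htwo)
  · right
    push Not at htwo
    have htop : closure ({π d, π x} : Set (G ⧸ N)) = ⊤ := by
      rw [eq_top_iff, ← hgenb]
      refine closure_mono ?_
      rintro b (hb | rfl)
      · exact Or.inl (htwo b hb)
      · exact Or.inr rfl
    have hne' : π d ≠ π x := fun h1 => hdxb (by rw [h1])
    refine ⟨orderOf (π d * π x), ⟨?_⟩⟩
    exact ((MonoidHom.ofInjective (Involutions.Basic.dihedralHom_injective _ _ (hotb.ord _ hdb)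
      (hotb.ord _ hxb) hne')).trans (MulEquiv.subgroupCongr
        ((Involutions.Basic.dihedralHom_range _ _ (hotb.ord _ hdb) (hotb.ord _ hxb)).trans htop))
      |>.trans Subgroup.topEquiv).symm

end Cfsg.Agent.OddTranspX
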