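import Cfsg.Agent.Lib.Characters.Coherence
import Cfsg.Agent.Lib.Characters.Counting
import Cfsg.Agent.Lib.Characters.Schur
import Mathlib.GroupTheory.GroupAction.Quotient

/-!
# A regular abelian subgroup which is the centraliser of each of its non-trivial elements

A transitive group `Y` with such a subgroup `C` is doubly transitive, or each point stabiliser has the
same orbits as its intersection with the normaliser of `C`.  (The differences of two non-fused characters
of `C` induce to differences of two irreducibles, so the constituents of the permutation character are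
either one, or correspond to the classes of fused characters of `C`.)
-/

set_option autoImplicit false
set_option linter.style.haveILetI false
set_option linter.unusedSectionVars false

namespace Cfsg.Agent.OddTranspX

open Subgroup Finset
open scoped ComplexConjugate

universe u v

variable {Y : Type u} [Group Y] {Ω : Type v} [MulAction Y Ω]

/-- An abelian subgroup, regular on the points, which is the centraliser of its non-trivial elements. -/
structure RegSetting (C : Subgroup Y) (d : Ω) : Prop where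
  comm : ∀ a ∈ C, ∀ b ∈ C, a * b = b * a
  reg : Function.Bijective fun c : C => (c : Y) • d
  cent : ∀ c ∈ C, c ≠ 1 → ∀ g : Y, g * c = c * g → g ∈ C

/-- The part of the normaliser fixing the base point. -/
def stabNorm (C : Subgroup Y) (d : Ω) : Subgroup Y :=
  normalizer (C : Set Y) ⊓ MulAction.stabilizer Y d

theorem mem_stabNorm {C : Subgroup Y} {d : Ω} {w : Y} :
    w ∈ stabNorm C d ↔ w ∈ normalizer (C : Set Y) ∧ w • d = d := Iff.rfl

namespace RegSetting

variable {C : Subgroup Y} {d : Ω} (S : RegSetting C d)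
include S

theorem exists_eq (u : Ω) : ∃ a ∈ C, a • d = u := by
  obtain ⟨⟨a, ha⟩, h⟩ := S.reg.2 u
  exact ⟨a, ha, h⟩

theorem eq_one_of_fix {c : Y} (hc : c ∈ C) {u : Ω} (h : c • u = u) : c = 1 := by
  obtain ⟨a, ha, rfl⟩ := S.exists_eq u
  rw [smul_smul] at h
  have h2 : (⟨c * a, mul_mem hc ha⟩ : C) = ⟨a, ha⟩ := S.reg.1 h
  exact mul_eq_right.1 (congrArg Subtype.val h2)

theorem mem_of_stabNorm {w : Y} (hw : w ∈ stabNorm C d) (hwC : w ∈ C) : w = 1 :=
  S.eq_one_of_fix hwC (mem_stabNorm.1 hw).2

theorem eq_one_of_comm {w c : Y} (hw : w ∈ stabNorm C d) (hc : c ∈ C) (hc1 : c ≠ 1) (h : w * c = c * w) :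
    w = 1 :=
  S.mem_of_stabNorm hw (S.cent c hc hc1 w h)

/-- A point other than the base point is moved by every non-trivial element of `stabNorm`. -/
theorem eq_of_fix {w : Y} (hw : w ∈ stabNorm C d) (hw1 : w ≠ 1) {u : Ω} (h : w • u = u) : u = d := by
  obtain ⟨a, ha, rfl⟩ := S.exists_eq u
  by_contra hne
  refine hw1 (S.eq_one_of_comm hw ha (fun e => hne (by rw [e, one_smul])) ?_)
  have hb : w * a * w⁻¹ ∈ C := (mem_normalizer_iff.1 (mem_stabNorm.1 hw).1 a).1 ha
  have h2 : (⟨w * a * w⁻¹, hb⟩ : C) = ⟨a, ha⟩ := S.reg.1 (by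
    show (w * a * w⁻¹) • d = a • d
    have hd' : w⁻¹ • d = d := inv_smul_eq_iff.2 (mem_stabNorm.1 hw).2.symm
    rw [mul_smul, mul_smul, hd', h])
  exact mul_inv_eq_iff_eq_mul.1 (congrArg Subtype.val h2)

theorem mem_normalizer_of_conj [Finite Y] {g c : Y} (hc : c ∈ C) (hc1 : c ≠ 1) (hgc : g * c * g⁻¹ ∈ C) :
    g ∈ normalizer (C : Set Y) := by
  have hle : C.map (MulAut.conj g).toMonoidHom ≤ C := by
    rintro _ ⟨a, ha, rfl⟩
    refine S.cent _ hgc (fun e => hc1 (conj_eq_one_iff.1 e)) _ ?_
    change g * a * g⁻¹ * (g * c * g⁻¹) = g * c * g⁻¹ * (g * a * g⁻¹)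
    rw [conj_mul, conj_mul, S.comm a ha c hc]
  have heq := eq_of_le_of_card_ge hle (card_map_of_injective (MulAut.conj g).injective).ge
  refine mem_normalizer_iff.2 fun w => ⟨fun hw => heq.le ⟨w, hw, rfl⟩, fun hw => ?_⟩
  obtain ⟨j, hj, hjw⟩ := heq.ge hw
  exact (mul_left_cancel (mul_right_cancel (show g * j * g⁻¹ = g * w * g⁻¹ from hjw))) ▸ hj

theorem exists_decomp {n : Y} (hn : n ∈ normalizer (C : Set Y)) : ∃ a ∈ C, a⁻¹ * n ∈ stabNorm C d := by
  obtain ⟨a, ha, h⟩ := S.exists_eq (n • d)
  exact ⟨a, ha, mem_stabNorm.2 ⟨mul_mem (inv_mem (le_normalizer ha)) hn, by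
    rw [mul_smul, inv_smul_eq_iff, h]⟩⟩

end RegSetting

/-! ### The conjugation action on the characters of `C` -/

/-- Conjugation by an element of the normaliser. -/
def conjAut (C : Subgroup Y) {x : Y} (hx : x ∈ normalizer (C : Set Y)) : C ≃* C where
  toFun c := ⟨x * c * x⁻¹, (mem_normalizer_iff.1 hx c).1 c.2⟩
  invFun c := ⟨x⁻¹ * c * x, by simpa using (mem_normalizer_iff.1 (inv_mem hx) c).1 c.2⟩
  left_inv c := Subtype.ext (by simp [mul_assoc])
  right_inv c := Subtype.ext (by simp [mul_assoc])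
  map_mul' a b := Subtype.ext (by simp [mul_assoc])

@[simp] theorem conjAut_coe (C : Subgroup Y) {x : Y} (hx : x ∈ normalizer (C : Set Y)) (c : C) :
    (conjAut C hx c : Y) = x * c * x⁻¹ := rfl

variable [Finite Y]

/-- The conjugate of a character of `C`. -/
noncomputable def conjChar (C : Subgroup Y) {x : Y} (hx : x ∈ normalizer (C : Set Y))
    (ψ : Cfsg.IrrCharacter C) : Cfsg.IrrCharacter C :=
  Characters.irrAutEquiv (conjAut C hx) ψ

theorem conjChar_apply (C : Subgroup Y) {x : Y} (hx : x ∈ normalizer (C : Set Y))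
    (ψ : Cfsg.IrrCharacter C) (c : C) :
    (conjChar C hx ψ : C → ℂ) c = (ψ : C → ℂ) (conjAut C hx c) := rfl

namespace RegSetting

variable {C : Subgroup Y} {d : Ω} (S : RegSetting C d)
include S

theorem char_mul (ψ : Cfsg.IrrCharacter C) (a b : C) :
    (ψ : C → ℂ) 1 = 1 ∧ (ψ : C → ℂ) (a * b) = (ψ : C → ℂ) a * (ψ : C → ℂ) b := by
  have h1 : (ψ : C → ℂ) 1 = 1 :=
    Characters.irr_degree_one_of_comm (fun a b => Subtype.ext (S.comm a a.2 b b.2)) ψ.2
  exact ⟨h1, Characters.char_mul_of_degree_one (Characters.irr_isCharacter ψ) h1 a b⟩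

theorem char_one (ψ : Cfsg.IrrCharacter C) : (ψ : C → ℂ) 1 = 1 := (S.char_mul ψ 1 1).1

/-- A non-trivial character of `C` is fixed only by `C` in the normaliser. -/
theorem mem_of_conjChar_eq {x : Y} (hx : x ∈ normalizer (C : Set Y)) {ψ : Cfsg.IrrCharacter C}
    (hψ : (ψ : C → ℂ) ≠ fun _ => 1) (h : conjChar C hx ψ = ψ) : x ∈ C := by
  by_contra hxC
  obtain ⟨a, ha, hw⟩ := S.exists_decomp hx
  set w := a⁻¹ * x
  have hw1 : w ≠ 1 := fun e => hxC (by rw [← inv_mul_eq_one.1 e]; exact ha)
  have hxa : ∀ c : C, conjAut C hx c = conjAut C (mem_stabNorm.1 hw).1 c := by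
    intro c
    apply Subtype.ext
    have hc : w * (c : Y) * w⁻¹ ∈ C := (mem_normalizer_iff.1 (mem_stabNorm.1 hw).1 c).1 c.2
    rw [conjAut_coe, conjAut_coe, show x = a * w from (mul_inv_cancel_left a x).symm]
    calc a * w * c * (a * w)⁻¹ = a * (w * c * w⁻¹) * a⁻¹ := by group
      _ = w * c * w⁻¹ := by rw [S.comm a ha _ hc, mul_inv_cancel_right]
  let δ : C → C := fun c => c⁻¹ * conjAut C (mem_stabNorm.1 hw).1 c
  have hinj : Function.Injective δ := by
    intro p q hpq
    have hpq' : (p : Y)⁻¹ * (w * p * w⁻¹) = (q : Y)⁻¹ * (w * q * w⁻¹) := congrArg Subtype.val hpq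
    by_contra hne
    refine hw1 (S.eq_one_of_comm hw (mul_mem q.2 (inv_mem p.2)) (fun e => hne (Subtype.ext ?_)) ?_)
    · exact (mul_inv_eq_one.1 e).symm
    · have hm : ∀ c : C, w * (c : Y) * w⁻¹ ∈ C := fun c =>
        (mem_normalizer_iff.1 (mem_stabNorm.1 hw).1 c).1 c.2
      have e1 : w * (q : Y) * w⁻¹ = q * (p : Y)⁻¹ * (w * p * w⁻¹) := by
        rw [mul_assoc (q : Y), hpq', mul_inv_cancel_left]
      calc w * ((q : Y) * (p : Y)⁻¹) = (w * q * w⁻¹) * (w * p * w⁻¹)⁻¹ * w := by group
        _ = _ := by rw [e1, mul_inv_cancel_right]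
  refine hψ (funext fun c => ?_)
  obtain ⟨p, rfl⟩ := (Finite.injective_iff_surjective.1 hinj) c
  have hp : (ψ : C → ℂ) (conjAut C (mem_stabNorm.1 hw).1 p) = (ψ : C → ℂ) p := by
    rw [← hxa, ← conjChar_apply, h]
  show (ψ : C → ℂ) (p⁻¹ * _) = 1
  rw [(S.char_mul ψ _ _).2, hp, ← (S.char_mul ψ _ _).2, inv_mul_cancel, S.char_one]

variable [Finite Ω]

/-- The permutation character. -/
noncomputable def perm (_ : RegSetting C d) (g : Y) : ℂ := (Nat.card (MulAction.fixedBy Ω g) : ℂ)

theorem perm_isCharacter : Cfsg.IsCharacter Y S.perm := Characters.isCharacter_permChar Ω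

theorem card_points : Nat.card C = Nat.card Ω := Nat.card_eq_of_bijective _ S.reg

theorem perm_one : S.perm 1 = (Nat.card C : ℂ) := by
  rw [perm, Nat.cast_inj, S.card_points]
  exact Nat.card_congr ((Equiv.setCongr (Set.eq_univ_of_forall fun u => one_smul Y u)).trans (Equiv.Set.univ Ω))

theorem perm_C {c : C} (hc : c ≠ 1) : S.perm c = 0 := by
  have h : MulAction.fixedBy Ω (c : Y) = ∅ :=
    Set.eq_empty_iff_forall_notMem.2 fun u hu => hc (Subtype.ext (S.eq_one_of_fix c.2 hu))
  rw [perm, h, Nat.card_eq_zero.2 (Or.inl inferInstance), Nat.cast_zero]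

variable [Fintype Y]

/-- The restriction of the permutation character is regular. -/
theorem inner_perm [Fintype C] (ψ : Cfsg.IrrCharacter C) :
    Cfsg.classInner (fun c : C => S.perm c) (ψ : C → ℂ) = 1 := by
  classical
  rw [Characters.classInner_def, Finset.sum_eq_single 1 (fun c _ hc => by rw [S.perm_C hc, zero_mul]) (by simp),
    Subgroup.coe_one, S.perm_one, S.char_one, map_one, mul_one,
    inv_mul_cancel₀ Characters.natCard_ne_zero]

/-- The difference of two characters of `C`. -/
noncomputable def diff (_ : RegSetting C d) (ξ η : Cfsg.IrrCharacter C) : Y → ℂ :=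
  Cfsg.indFun C ((ξ : C → ℂ) - (η : C → ℂ))

theorem isGen_diff (ξ η : Cfsg.IrrCharacter C) : Cfsg.IsGeneralizedCharacter Y (S.diff ξ η) :=
  Characters.isGen_indFun C ⟨_, _, Characters.irr_isCharacter ξ, Characters.irr_isCharacter η, rfl⟩

theorem diff_one (ξ η : Cfsg.IrrCharacter C) : S.diff ξ η 1 = 0 := by
  rw [diff, Characters.indFun_one, Pi.sub_apply, S.char_one, S.char_one, sub_self, mul_zero]

/-- Two non-fused characters induce to a difference of norm two. -/
theorem norm_diff [Fintype C] {ξ η : Cfsg.IrrCharacter C} (hξ : (ξ : C → ℂ) ≠ fun _ => 1)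
    (hη : (η : C → ℂ) ≠ fun _ => 1)
    (hne : ∀ x (hx : x ∈ normalizer (C : Set Y)), conjChar C hx ξ ≠ η) :
    Cfsg.classInner (S.diff ξ η) (S.diff ξ η) = 2 := by
  classical
  set f : C → ℂ := (ξ : C → ℂ) - (η : C → ℂ) with hf
  set N := normalizer (C : Set Y) with hN
  have hne' : ∀ x (hx : x ∈ N), conjChar C hx η ≠ ξ := by
    intro x hx h
    refine hne x⁻¹ (inv_mem hx) (Subtype.ext (funext fun c => ?_))
    rw [← h, conjChar_apply, conjChar_apply]
    exact congrArg (η : C → ℂ) (Subtype.ext (by simp [mul_assoc]))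
  have hξη : ξ ≠ η := fun e => hne 1 (one_mem _) (by
    rw [← e]
    exact Subtype.ext (funext fun c => by
      rw [conjChar_apply]; exact congrArg (ξ : C → ℂ) (Subtype.ext (by simp))))
  -- the value on `C`
  have hval : ∀ c : C, Cfsg.indFun C f c = (Nat.card C : ℂ)⁻¹ *
      ∑ x : Y, if hx : x ∈ N then f (conjAut C hx c) else 0 := by
    intro c
    rw [Cfsg.indFun]
    congr 1
    refine Fintype.sum_equiv (Equiv.inv Y) _ _ fun x => ?_
    simp only [Equiv.inv_apply]
    by_cases hx : x⁻¹ ∈ N
    · rw [dif_pos hx, ← CharTheory.IndBasic.extendByZero_coe C f (conjAut C hx c), conjAut_coe, inv_inv]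
    · rw [dif_neg hx]
      by_cases hm : x⁻¹ * (c : Y) * x ∈ C
      · by_cases hc : c = 1
        · subst hc
          rw [Subgroup.coe_one, mul_one, inv_mul_cancel,
            CharTheory.IndBasic.extendByZero_of_mem C f C.one_mem]
          show (ξ : C → ℂ) 1 - (η : C → ℂ) 1 = 0
          rw [S.char_one, S.char_one, sub_self]
        · exact absurd (S.mem_normalizer_of_conj (g := x⁻¹) c.2 (fun e => hc (Subtype.ext e))
            (by rwa [inv_inv])) hx
      · exact CharTheory.IndBasic.extendByZero_of_notMem C f hm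
  have h1 : Cfsg.classInner (S.diff ξ η) (S.diff ξ η) =
      Cfsg.classInner f (fun c : C => Cfsg.indFun C f c) :=
    Characters.frobenius_reciprocity C f (Characters.indFun_isClassFunction C f)
  rw [h1, Characters.classInner_def]
  simp only [hval, map_mul, map_inv₀, Complex.conj_natCast, map_sum]
  have h2 : ∀ x : Y, ∑ c : C, f c * conj (if hx : x ∈ N then f (conjAut C hx c) else 0) =
      if x ∈ C then 2 * (Nat.card C : ℂ) else 0 := by
    intro x
    by_cases hx : x ∈ N
    · simp only [dif_pos hx]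
      have e : ∑ c : C, f c * conj (f (conjAut C hx c)) = (Nat.card C : ℂ) *
          Cfsg.classInner ((ξ : C → ℂ) - (η : C → ℂ))
            ((conjChar C hx ξ : C → ℂ) - (conjChar C hx η : C → ℂ)) := by
        rw [Characters.classInner_def, mul_inv_cancel_left₀ Characters.natCard_ne_zero]
        rfl
      rw [e, Characters.classInner_sub_left, Characters.classInner_sub_right, Characters.classInner_sub_right,
        Characters.classInner_irr, Characters.classInner_irr, Characters.classInner_irr, Characters.classInner_irr,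
        if_neg ((hne' x hx).symm : ξ ≠ conjChar C hx η), if_neg ((hne x hx).symm : η ≠ conjChar C hx ξ)]
      by_cases hxC : x ∈ C
      · rw [if_pos hxC]
        have hid : ∀ ψ : Cfsg.IrrCharacter C, conjChar C hx ψ = ψ := fun ψ =>
          Subtype.ext (funext fun c => by
            rw [conjChar_apply]
            refine congrArg (ψ : C → ℂ) (Subtype.ext ?_)
            rw [conjAut_coe, S.comm x hxC c c.2, mul_inv_cancel_right])
        rw [hid, hid, if_pos rfl, if_pos rfl]
        ring
      · have n1 : ξ ≠ conjChar C hx ξ := fun e => hxC (S.mem_of_conjChar_eq hx hξ e.symm)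
        have n2 : η ≠ conjChar C hx η := fun e => hxC (S.mem_of_conjChar_eq hx hη e.symm)
        rw [if_neg hxC, if_neg n1, if_neg n2]
        ring
    · rw [if_neg fun h => hx (le_normalizer h)]
      simp only [dif_neg hx, map_zero, mul_zero, Finset.sum_const_zero]
  have h3 : ∑ c : C, f c * ((Nat.card C : ℂ)⁻¹ * ∑ x : Y, conj (if hx : x ∈ N then f (conjAut C hx c) else 0)) =
      (Nat.card C : ℂ)⁻¹ * ∑ x : Y, if x ∈ C then 2 * (Nat.card C : ℂ) else 0 := by
    simp only [← h2, Finset.mul_sum]
    rw [Finset.sum_comm]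
    exact Finset.sum_congr rfl fun x _ => Finset.sum_congr rfl fun c _ => by ring
  rw [h3, ← Finset.sum_filter, Finset.sum_const, nsmul_eq_mul, ← Fintype.card_subtype,
    ← Nat.card_eq_fintype_card]
  have hC : (Nat.card C : ℂ) ≠ 0 := Characters.natCard_ne_zero
  field_simp

/-- The base point is the only point with the trivial orbit; transitivity. -/
theorem transitive (u v : Ω) : ∃ g : Y, g • u = v := by
  obtain ⟨a, -, rfl⟩ := S.exists_eq u
  obtain ⟨b, -, rfl⟩ := S.exists_eq v
  exact ⟨b * a⁻¹, by rw [smul_smul, inv_mul_cancel_right]⟩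

/-- The norm of the permutation character is the rank. -/
theorem norm_perm : Cfsg.classInner S.perm S.perm =
    (Nat.card (MulAction.orbitRel.Quotient (MulAction.stabilizer Y d) Ω) : ℂ) := by
  classical
  haveI := Fintype.ofFinite Ω
  set H := MulAction.stabilizer Y d with hH
  haveI := Fintype.ofFinite (MulAction.orbitRel.Quotient H Ω)
  -- conjugation invariance
  have hP : ∀ g x : Y, Nat.card (MulAction.fixedBy Ω (x * g * x⁻¹)) = Nat.card (MulAction.fixedBy Ω g) := by
    intro g x
    refine Nat.card_congr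
      { toFun := fun u => ⟨x⁻¹ • u.1, ?_⟩
        invFun := fun u => ⟨x • u.1, ?_⟩
        left_inv := fun u => Subtype.ext (smul_inv_smul x u.1)
        right_inv := fun u => Subtype.ext (inv_smul_smul x u.1) }
    · have hu : (x * g * x⁻¹) • u.1 = u.1 := u.2
      show g • x⁻¹ • u.1 = x⁻¹ • u.1
      rw [eq_inv_smul_iff, smul_smul, smul_smul, hu]
    · have hu : g • u.1 = u.1 := u.2
      show (x * g * x⁻¹) • x • u.1 = x • u.1
      rw [smul_smul, inv_mul_cancel_right, mul_smul, hu]
  have hsum : ∑ g : Y, Nat.card (MulAction.fixedBy Ω g) * Nat.card (MulAction.fixedBy Ω g) =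
      Nat.card Y * Nat.card (MulAction.orbitRel.Quotient H Ω) := by
    have e1 : ∀ g : Y, Nat.card (MulAction.fixedBy Ω g) * Nat.card (MulAction.fixedBy Ω g) =
        ∑ u : Ω, if g • u = u then Nat.card (MulAction.fixedBy Ω g) else 0 := fun g => by
      rw [← Finset.sum_filter, Finset.sum_const, smul_eq_mul, ← Fintype.card_subtype,
        ← Nat.card_eq_fintype_card]
      rfl
    rw [Finset.sum_congr rfl fun g _ => e1 g, Finset.sum_comm]
    have e2 : ∀ u : Ω, (∑ g : Y, if g • u = u then Nat.card (MulAction.fixedBy Ω g) else 0) =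
        ∑ g : Y, if g • d = d then Nat.card (MulAction.fixedBy Ω g) else 0 := by
      intro u
      obtain ⟨x, rfl⟩ := S.transitive d u
      refine (Fintype.sum_equiv (MulAut.conj x).toEquiv _ _ fun g => ?_).symm
      show _ = if (x * g * x⁻¹) • x • d = x • d then Nat.card (MulAction.fixedBy Ω (x * g * x⁻¹)) else 0
      rw [hP, smul_smul, inv_mul_cancel_right, mul_smul]
      simp only [smul_left_cancel_iff]
    rw [Finset.sum_congr rfl fun u _ => e2 u, Finset.sum_const, smul_eq_mul]
    have hb := MulAction.sum_card_fixedBy_eq_card_orbits_mul_card_group H Ω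
    have e3 : (∑ g : Y, if g • d = d then Nat.card (MulAction.fixedBy Ω g) else 0) =
        ∑ h : H, Fintype.card (MulAction.fixedBy Ω h) := by
      rw [← Finset.sum_filter, Finset.sum_subtype _ (p := fun g => g ∈ H) fun g => by
        simp [hH, MulAction.mem_stabilizer_iff]]
      exact Finset.sum_congr rfl fun h _ => Nat.card_eq_fintype_card
    rw [e3, hb]
    have horb : MulAction.orbit Y d = Set.univ := Set.eq_univ_of_forall fun u => by
      obtain ⟨g, hg⟩ := S.transitive d u
      exact ⟨g, hg⟩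
    have h4 := MulAction.card_orbit_mul_card_stabilizer_eq_card_group Y d
    have h5 : Fintype.card (MulAction.orbit Y d) = Fintype.card Ω :=
      Fintype.card_congr ((Equiv.setCongr horb).trans (Equiv.Set.univ Ω))
    rw [Finset.card_univ, ← h5, Nat.card_eq_fintype_card, Nat.card_eq_fintype_card, ← h4]
    ring
  rw [Characters.classInner_def]
  simp only [perm, Complex.conj_natCast, ← Nat.cast_mul, ← Nat.cast_sum, hsum]
  rw [Nat.cast_mul, inv_mul_cancel_left₀ Characters.natCard_ne_zero]

/-- The two cases. -/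
theorem rank_cases :
    Nat.card (MulAction.orbitRel.Quotient (MulAction.stabilizer Y d) Ω) ≤ 2 ∨
      (Nat.card C : ℤ) - 1 = (Nat.card (stabNorm C d) : ℤ) *
        ((Nat.card (MulAction.orbitRel.Quotient (MulAction.stabilizer Y d) Ω) : ℤ) - 1) := by
  classical
  haveI := Fintype.ofFinite C
  haveI := Fintype.ofFinite (Cfsg.IrrCharacter Y)
  haveI := Fintype.ofFinite (Cfsg.IrrCharacter C)
  set R := Nat.card (MulAction.orbitRel.Quotient (MulAction.stabilizer Y d) Ω) with hR
  have hP := S.perm_isCharacter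
  choose m hm using fun χ : Cfsg.IrrCharacter Y =>
    Characters.classInner_char_nat hP (Characters.irr_isCharacter χ)
  choose μ hμ using fun (χ : Cfsg.IrrCharacter Y) (ψ : Cfsg.IrrCharacter C) =>
    Characters.classInner_char_nat (Characters.isCharacter_restrict C (Characters.irr_isCharacter χ))
      (Characters.irr_isCharacter ψ)
  have hPsum : S.perm = ∑ χ, (m χ : ℂ) • (χ : Y → ℂ) := by
    conv_lhs => rw [Characters.classFun_eq_sum (Characters.char_isClassFunction hP)]
    simp only [hm]
  have hψ : ∀ ψ, ∑ χ, m χ * μ χ ψ = 1 := by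
    intro ψ
    have h := S.inner_perm ψ
    have e : (fun c : C => S.perm c) = ∑ χ, (m χ : ℂ) • fun c : C => (χ : Y → ℂ) c := by
      funext c
      conv_lhs => rw [hPsum]
      simp [Finset.sum_apply]
    rw [e, Characters.classInner_sum_left] at h
    simp only [Characters.classInner_smul_left, hμ, ← Nat.cast_mul, ← Nat.cast_sum] at h
    exact_mod_cast h
  have hnorm : ∑ χ, m χ * m χ = R := by
    have h := S.norm_perm
    rw [Characters.classInner_eq_sum S.perm (Characters.char_isClassFunction hP)] at h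
    simp only [fun χ : Cfsg.IrrCharacter Y => Characters.classInner_conj_symm S.perm (χ : Y → ℂ), hm,
      Complex.conj_natCast, ← Nat.cast_mul, ← Nat.cast_sum] at h
    exact_mod_cast h
  -- trivial characters
  let o : Cfsg.IrrCharacter Y := ⟨fun _ => 1, Characters.isIrrCharacter_one⟩
  let oc : Cfsg.IrrCharacter C := ⟨fun _ => 1, Characters.isIrrCharacter_one⟩
  have hμo : ∀ ψ, μ o ψ = if ψ = oc then 1 else 0 := by
    intro ψ
    have h := hμ o ψ
    rw [show (fun c : C => (o : Y → ℂ) c) = (oc : C → ℂ) from rfl, Characters.classInner_irr] at h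
    by_cases e : ψ = oc
    · rw [if_pos e.symm] at h; rw [if_pos e]; exact_mod_cast h.symm
    · rw [if_neg fun h => e h.symm] at h; rw [if_neg e]; exact_mod_cast h.symm
  have hmo : m o ≠ 0 := by
    intro e
    have h := hm o
    rw [e, Nat.cast_zero, Characters.classInner_def] at h
    simp only [perm, o, map_one, mul_one, ← Nat.cast_sum] at h
    rcases mul_eq_zero.1 h with h | h
    · exact Characters.natCard_ne_zero (inv_eq_zero.1 h)
    · rw [Nat.cast_eq_zero, Finset.sum_eq_zero_iff] at h
      haveI : Nonempty (MulAction.fixedBy Ω (1 : Y)) := ⟨⟨d, one_smul Y d⟩⟩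
      exact Nat.card_pos.ne' (h 1 (Finset.mem_univ _))
  -- the constituent attached to a character of `C`
  have hex : ∀ ψ, ∃ χ, m χ = 1 ∧ μ χ ψ = 1 ∧ ∀ χ', m χ' ≠ 0 → μ χ' ψ ≠ 0 → χ' = χ := by
    intro ψ
    obtain ⟨χ, -, hχ⟩ := Finset.exists_ne_zero_of_sum_ne_zero
      (show ∑ χ, m χ * μ χ ψ ≠ 0 by rw [hψ]; norm_num)
    have h1 : m χ * μ χ ψ ≤ 1 := by
      rw [← hψ ψ]; exact Finset.single_le_sum (f := fun i => m i * μ i ψ) (fun i _ => Nat.zero_le _) (Finset.mem_univ χ)
    have h2 : m χ * μ χ ψ = 1 := by omega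
    refine ⟨χ, (mul_eq_one.1 h2).1, (mul_eq_one.1 h2).2, fun χ' hm' hμ' => ?_⟩
    by_contra hne
    have h3 := Finset.add_le_sum (f := fun i => m i * μ i ψ) (fun i _ => Nat.zero_le _)
      (Finset.mem_univ χ') (Finset.mem_univ χ) hne
    rw [hψ] at h3
    have : 0 < m χ' * μ χ' ψ := Nat.pos_of_ne_zero (Nat.mul_ne_zero hm' hμ')
    omega
  choose at' hat1 hat2 hat3 using hex
  have hato : at' oc = o := (hat3 oc o hmo (by rw [hμo, if_pos rfl]; norm_num)).symm
  have hatne : ∀ ψ, ψ ≠ oc → at' ψ ≠ o := fun ψ hne e => by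
    have h := hat2 ψ
    rw [e, hμo, if_neg hne] at h
    omega
  -- every constituent is attached to some character
  have hdeg : ∀ χ, m χ ≠ 0 → ∃ ψ, at' ψ = χ := by
    intro χ hχ
    by_contra hcon
    push Not at hcon
    have h0 : ∀ ψ, μ χ ψ = 0 := fun ψ => by
      by_contra h
      exact hcon ψ (hat3 ψ χ hχ h).symm
    have h := congrFun (Characters.classFun_eq_sum (Characters.char_isClassFunction
      (Characters.isCharacter_restrict C (Characters.irr_isCharacter χ)))) 1
    simp only [hμ, h0, Nat.cast_zero, zero_smul, Finset.sum_const_zero, Pi.zero_apply] at h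
    obtain ⟨n, hn, he⟩ := Characters.irr_one_pos χ.2
    rw [Subgroup.coe_one, he, Nat.cast_eq_zero] at h
    omega
  have hR' : R = (Finset.univ.image at').card := by
    rw [← hnorm, Finset.card_eq_sum_ones, ← Finset.sum_subset (Finset.subset_univ (Finset.univ.image at'))]
    · refine Finset.sum_congr rfl fun χ hχ => ?_
      obtain ⟨ψ, -, rfl⟩ := Finset.mem_image.1 hχ
      rw [hat1]
    · intro χ _ hχ
      by_contra h
      obtain ⟨ψ, hψ'⟩ := hdeg χ fun e => h (by rw [e, mul_zero])
      exact hχ (Finset.mem_image.2 ⟨ψ, Finset.mem_univ _, hψ'⟩)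
  set U := Finset.univ.erase oc with hU
  have himg : Finset.univ.image at' = insert o (U.image at') := by
    rw [← hato, ← Finset.image_insert, hU, Finset.insert_erase (Finset.mem_univ oc)]
  have hoU : o ∉ U.image at' := fun h => by
    obtain ⟨ψ, hψU, e⟩ := Finset.mem_image.1 h
    exact hatne ψ (Finset.mem_erase.1 hψU).1 e
  have hRU : R = (U.image at').card + 1 := by rw [hR', himg, Finset.card_insert_of_notMem hoU]
  by_cases hone : ∀ a ∈ U, ∀ b ∈ U, at' a = at' b
  · refine Or.inl ?_
    have h : (U.image at').card ≤ 1 := Finset.card_le_one.2 fun p hp q hq => by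
      obtain ⟨a, ha, rfl⟩ := Finset.mem_image.1 hp
      obtain ⟨b, hb, rfl⟩ := Finset.mem_image.1 hq
      exact hone a ha b hb
    omega
  push Not at hone
  refine Or.inr ?_
  -- fused characters
  have hU1 : ∀ ψ ∈ U, (ψ : C → ℂ) ≠ fun _ => 1 := fun ψ hψU e =>
    (Finset.mem_erase.1 hψU).1 (Subtype.ext e)
  have hfus : ∀ x (hx : x ∈ normalizer (C : Set Y)) ψ, at' (conjChar C hx ψ) = at' ψ := by
    intro x hx ψ
    symm
    refine hat3 _ _ (by rw [hat1]; norm_num) ?_
    have h : μ (at' ψ) (conjChar C hx ψ) = μ (at' ψ) ψ := by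
      have h1 := hμ (at' ψ) (conjChar C hx ψ)
      have h2 := hμ (at' ψ) ψ
      rw [Characters.classInner_def] at h1 h2
      have e : ∑ c : C, (at' ψ : Y → ℂ) c * conj ((conjChar C hx ψ : C → ℂ) c) =
          ∑ c : C, (at' ψ : Y → ℂ) c * conj ((ψ : C → ℂ) c) := by
        refine Fintype.sum_equiv (conjAut C hx).toEquiv _ _ fun c => ?_
        rw [conjChar_apply]
        congr 1
        show _ = (at' ψ : Y → ℂ) (x * (c : Y) * x⁻¹)
        exact (Characters.irr_isClassFunction (at' ψ) (c : Y) x).symm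
      rw [e, h2] at h1
      exact_mod_cast h1.symm
    rw [h, hat2]
    norm_num
  have hdiff : ∀ a ∈ U, ∀ b ∈ U, at' a ≠ at' b →
      S.diff a b = (at' a : Y → ℂ) - (at' b : Y → ℂ) := by
    intro a ha b hb hab
    have hn := S.norm_diff (hU1 a ha) (hU1 b hb) fun x hx e => hab (by rw [← e, hfus])
    obtain ⟨α, β, hαβ, he⟩ := Characters.isGen_norm_two (S.isGen_diff a b) hn (S.diff_one a b)
    have hin : ∀ χ : Cfsg.IrrCharacter Y, (if α = χ then (1 : ℂ) else 0) - (if β = χ then 1 else 0) =
        (μ χ a : ℂ) - (μ χ b : ℂ) := by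
      intro χ
      have h1 : Cfsg.classInner (S.diff a b) (χ : Y → ℂ) = (μ χ a : ℂ) - (μ χ b : ℂ) := by
        rw [diff, Characters.frobenius_reciprocity C _ (Characters.irr_isClassFunction χ),
          Characters.classInner_conj_symm (fun c : C => (χ : Y → ℂ) c)]
        rw [Characters.classInner_sub_right, hμ, hμ, map_sub, Complex.conj_natCast, Complex.conj_natCast]
      rw [← h1, he, Characters.classInner_sub_left, Characters.classInner_irr, Characters.classInner_irr]
    have hμ0 : ∀ ψ χ, at' ψ ≠ χ → m χ = 1 → μ χ ψ = 0 := fun ψ χ hne hm1 => by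
      by_contra h
      exact hne (hat3 ψ χ (by rw [hm1]; norm_num) h).symm
    have h1 := hin (at' a)
    rw [hat2, hμ0 b _ (Ne.symm hab) (hat1 a), Nat.cast_one, Nat.cast_zero, sub_zero] at h1
    have h2 := hin (at' b)
    rw [hat2, hμ0 a _ hab (hat1 b), Nat.cast_one, Nat.cast_zero, zero_sub] at h2
    have hα : α = at' a := by
      by_contra hne
      rw [if_neg hne] at h1
      split_ifs at h1 <;> norm_num at h1
    have hβ : β = at' b := by
      by_contra hne
      rw [if_neg hne, sub_zero] at h2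
      split_ifs at h2 <;> norm_num at h2
    rw [he, hα, hβ]
  have hclass : ∀ a ∈ U, ∀ b ∈ U, at' a = at' b →
      ∃ x, ∃ hx : x ∈ normalizer (C : Set Y), conjChar C hx a = b := by
    intro a ha b hb hab
    by_contra hcon
    push Not at hcon
    obtain ⟨c, hc, hac⟩ : ∃ c ∈ U, at' a ≠ at' c := by
      obtain ⟨p, hp, q, hq, hpq⟩ := hone
      by_cases h : at' a = at' p
      · exact ⟨q, hq, h ▸ hpq⟩
      · exact ⟨p, hp, h⟩
    have h0 : S.diff a b = 0 := by
      have e1 := hdiff a ha c hc hac
      have e2 := hdiff b hb c hc (hab ▸ hac)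
      rw [← hab, ← e1] at e2
      have e : (a : C → ℂ) - (b : C → ℂ) =
          ((a : C → ℂ) - (c : C → ℂ)) - ((b : C → ℂ) - (c : C → ℂ)) := by abel
      rw [diff, e, Characters.indFun_sub, sub_eq_zero]
      exact e2.symm
    have hn := S.norm_diff (hU1 a ha) (hU1 b hb) hcon
    rw [h0, Characters.classInner_self_eq_zero.2 rfl] at hn
    norm_num at hn
  have hfib : ∀ χ ∈ U.image at', (U.filter fun ψ => at' ψ = χ).card = Nat.card (stabNorm C d) := by
    intro χ hχ
    obtain ⟨a, ha, rfl⟩ := Finset.mem_image.1 hχ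
    haveI := Fintype.ofFinite (stabNorm C d)
    rw [Nat.card_eq_fintype_card, ← Finset.card_univ]
    symm
    refine Finset.card_bij (fun w _ => conjChar C (mem_stabNorm.1 w.2).1 a) ?_ ?_ ?_
    · intro w _
      refine Finset.mem_filter.2 ⟨Finset.mem_erase.2 ⟨fun e => ?_, Finset.mem_univ _⟩, hfus _ _ _⟩
      refine hU1 a ha (funext fun c => ?_)
      obtain ⟨c, rfl⟩ := (conjAut C (mem_stabNorm.1 w.2).1).surjective c
      rw [← conjChar_apply, e]
    · intro w _ w' _ e
      have hw := (mem_stabNorm.1 w.2).1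
      have hw' := (mem_stabNorm.1 w'.2).1
      have hx : (w' : Y) * (w : Y)⁻¹ ∈ normalizer (C : Set Y) := mul_mem hw' (inv_mem hw)
      have hmem : (w' : Y) * (w : Y)⁻¹ ∈ C := S.mem_of_conjChar_eq hx (hU1 a ha)
        (Subtype.ext (funext fun c => by
          obtain ⟨c, rfl⟩ := (conjAut C hw).surjective c
          have := congrFun (congrArg Subtype.val e) c
          rw [conjChar_apply, conjChar_apply] at this
          rw [conjChar_apply, this]
          exact congrArg (a : C → ℂ) (Subtype.ext (by simp [mul_assoc]))))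
      have h1 := S.mem_of_stabNorm (mul_mem w'.2 (inv_mem w.2)) hmem
      exact Subtype.ext (mul_inv_eq_one.1 h1).symm
    · intro b hb
      obtain ⟨hbU, hbe⟩ := Finset.mem_filter.1 hb
      obtain ⟨x, hx, rfl⟩ := hclass a ha b hbU hbe.symm
      obtain ⟨c, hc, hw⟩ := S.exists_decomp hx
      refine ⟨⟨c⁻¹ * x, hw⟩, Finset.mem_univ _, Subtype.ext (funext fun p => ?_)⟩
      rw [conjChar_apply, conjChar_apply]
      refine congrArg (a : C → ℂ) (Subtype.ext ?_)
      have hm : x * (p : Y) * x⁻¹ ∈ C := (mem_normalizer_iff.1 hx p).1 p.2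
      rw [conjAut_coe, conjAut_coe]
      calc c⁻¹ * x * p * (c⁻¹ * x)⁻¹ = c⁻¹ * (x * p * x⁻¹) * c := by group
        _ = x * p * x⁻¹ := by rw [mul_assoc, S.comm _ hm c hc, inv_mul_cancel_left]
  have hcardU : U.card = (U.image at').card * Nat.card (stabNorm C d) := by
    rw [Finset.card_eq_sum_card_image at' U, Finset.sum_congr rfl hfib, Finset.sum_const, smul_eq_mul]
  have hirr : Fintype.card (Cfsg.IrrCharacter C) = Nat.card C := by
    have h := Characters.sum_degree_sq (G := C)
    simp only [S.char_one, one_pow, Finset.sum_const, nsmul_one, Finset.card_univ] at h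
    exact_mod_cast h
  have hUc : U.card + 1 = Nat.card C := by
    rw [hU, Finset.card_erase_add_one (Finset.mem_univ _), Finset.card_univ, hirr]
  rw [← hUc, hcardU, hRU]
  push_cast
  ring

omit [Fintype Y] in
/-- Double transitivity, or the point stabiliser has the orbits of its part in the normaliser. -/
theorem dichotomy :
    (∀ u v : Ω, u ≠ d → v ≠ d → ∃ g : Y, g • d = d ∧ g • u = v) ∨
      ∀ g : Y, g • d = d → ∀ u : Ω, ∃ w ∈ stabNorm C d, w • u = g • u := by
  classical
  haveI := Fintype.ofFinite Y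
  haveI := Fintype.ofFinite Ω
  set H := MulAction.stabilizer Y d with hH
  set W := stabNorm C d with hW
  haveI := Fintype.ofFinite (MulAction.orbitRel.Quotient H Ω)
  haveI := Fintype.ofFinite (MulAction.orbitRel.Quotient W Ω)
  let mkH : Ω → MulAction.orbitRel.Quotient H Ω := Quotient.mk _
  let mkW : Ω → MulAction.orbitRel.Quotient W Ω := Quotient.mk _
  have hrelH : ∀ {u v : Ω}, mkH u = mkH v → ∃ g : Y, g • d = d ∧ g • v = u := by
    intro u v h
    obtain ⟨⟨g, hg⟩, e⟩ := (Quotient.exact h : (MulAction.orbitRel H Ω) u v)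
    exact ⟨g, MulAction.mem_stabilizer_iff.1 hg, e⟩
  rcases S.rank_cases with h2 | heq
  · left
    intro u v hu hv
    by_contra hcon
    push Not at hcon
    have hd : ∀ z, z ≠ d → mkH z ≠ mkH d := fun z hz e => by
      obtain ⟨g, hg, e⟩ := hrelH e
      exact hz (e.symm.trans hg)
    have hvu : mkH v ≠ mkH u := fun e => by
      obtain ⟨g, hg, e⟩ := hrelH e
      exact hcon g hg e
    have h3 : ({mkH d, mkH u, mkH v} : Finset _).card = 3 :=
      Finset.card_eq_three.2 ⟨_, _, _, (hd u hu).symm, (hd v hv).symm, hvu.symm, rfl⟩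
    have h4 := Finset.card_le_univ ({mkH d, mkH u, mkH v} : Finset _)
    have h2' : Fintype.card (MulAction.orbitRel.Quotient H Ω) ≤ 2 :=
      le_of_eq_of_le Nat.card_eq_fintype_card.symm h2
    omega
  · right
    haveI := Fintype.ofFinite W
    -- the number of orbits of `W`
    have hb := MulAction.sum_card_fixedBy_eq_card_orbits_mul_card_group W Ω
    have hone : ∀ w : W, w ≠ 1 → Fintype.card (MulAction.fixedBy Ω w) = 1 := by
      intro w hw
      refine Fintype.card_eq_one_iff.2 ⟨⟨d, (mem_stabNorm.1 w.2).2⟩, fun ⟨z, hz⟩ => Subtype.ext ?_⟩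
      exact S.eq_of_fix w.2 (fun e => hw (Subtype.ext e)) hz
    have hsum : ∑ w : W, Fintype.card (MulAction.fixedBy Ω w) = Fintype.card Ω + (Fintype.card W - 1) := by
      rw [← Finset.add_sum_erase _ _ (Finset.mem_univ (1 : W)),
        Finset.sum_congr rfl fun w hw => hone w (Finset.mem_erase.1 hw).1,
        Finset.sum_const, smul_eq_mul, mul_one, Finset.card_erase_of_mem (Finset.mem_univ _), Finset.card_univ]
      congr 1
      exact Fintype.card_congr
        ((Equiv.setCongr (Set.eq_univ_of_forall fun u => one_smul W u)).trans (Equiv.Set.univ Ω))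
    rw [hsum] at hb
    have hWpos : 0 < Fintype.card W := Fintype.card_pos
    rw [S.card_points, Nat.card_eq_fintype_card, Nat.card_eq_fintype_card, Nat.card_eq_fintype_card] at heq
    have hb' : (Fintype.card Ω : ℤ) + ((Fintype.card W : ℤ) - 1) =
        (Fintype.card (MulAction.orbitRel.Quotient W Ω) : ℤ) * Fintype.card W := by
      rw [show ((Fintype.card W : ℤ) - 1) = ((Fintype.card W - 1 : ℕ) : ℤ) by omega]
      exact_mod_cast hb
    have hcard : Fintype.card (MulAction.orbitRel.Quotient W Ω) =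
        Fintype.card (MulAction.orbitRel.Quotient H Ω) := by
      have h : (Fintype.card W : ℤ) * Fintype.card (MulAction.orbitRel.Quotient W Ω) =
          (Fintype.card W : ℤ) * Fintype.card (MulAction.orbitRel.Quotient H Ω) := by linarith
      exact_mod_cast mul_left_cancel₀ (Int.natCast_ne_zero.2 hWpos.ne') h
    let p : MulAction.orbitRel.Quotient W Ω → MulAction.orbitRel.Quotient H Ω :=
      Quotient.lift mkH fun u v huv => by
        obtain ⟨⟨w, hw⟩, e⟩ := huv
        exact Quotient.sound ⟨⟨w, MulAction.mem_stabilizer_iff.2 (mem_stabNorm.1 hw).2⟩, e⟩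
    have hp : Function.Bijective p := (Fintype.bijective_iff_surjective_and_card p).2
      ⟨fun q => Quotient.inductionOn q fun u => ⟨mkW u, rfl⟩, hcard⟩
    intro g hg u
    have h1 : mkW (g • u) = mkW u := hp.1 (Quotient.sound ⟨⟨g, MulAction.mem_stabilizer_iff.2 hg⟩, rfl⟩)
    obtain ⟨⟨w, hw⟩, e⟩ := (Quotient.exact h1 : (MulAction.orbitRel W Ω) (g • u) u)
    exact ⟨w, hw, e⟩

end RegSetting

end Cfsg.Agent.OddTranspX
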