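import Cfsg.Agent.Lib.OddTranspX.Regular

/-!
# The dichotomy for a group of automorphisms

If the points are the non-trivial elements of a group on which `Y` acts by automorphisms, a non-trivial
element fixes less than half of them; in the second case of `RegSetting.dichotomy` this makes the regular
subgroup normal.
-/

set_option autoImplicit false
set_option linter.style.haveILetI false
set_option linter.unusedSectionVars false

namespace Cfsg.Agent.OddTranspX

open Subgroup Finset

universe u v w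

variable {Y : Type u} [Group Y] [Finite Y] {Ω : Type v} [Finite Ω] [MulAction Y Ω]

/-- A non-trivial automorphism fixes less than half of the non-trivial elements. -/
theorem two_fix_le {V : Type w} [Group V] [Finite V] (ι : Ω → V) (hι : Function.Injective ι)
    (hne : ∀ u, ι u ≠ 1) (hall : ∀ x : V, x ≠ 1 → ∃ u, ι u = x) (φ : Y →* MulAut V)
    (hφ : ∀ (g : Y) u, ι (g • u) = φ g (ι u)) (g : Y) (hg : ∃ u : Ω, g • u ≠ u) :
    2 * (Nat.card (MulAction.fixedBy Ω g) + 1) ≤ Nat.card Ω + 1 := by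
  classical
  let K : Subgroup V := (φ g).toMonoidHom.eqLocus (MonoidHom.id V)
  have hmem : ∀ x, x ∈ K ↔ φ g x = x := fun _ => Iff.rfl
  obtain ⟨u, hu⟩ := hg
  have hK : K ≠ ⊤ := fun h => hu (hι (by rw [hφ, (hmem (ι u)).1 (h ▸ mem_top _)]))
  let f : Option (MulAction.fixedBy Ω g) → K := fun o =>
    o.elim 1 fun p => ⟨ι p.1, (hmem _).2 (by rw [← hφ]; exact congrArg ι p.2)⟩
  have hf : Function.Bijective f := by
    constructor
    · rintro (_ | p) (_ | q) h
      · rfl
      · exact absurd (congrArg Subtype.val h).symm (hne q.1)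
      · exact absurd (congrArg Subtype.val h) (hne p.1)
      · exact congrArg some (Subtype.ext (hι (congrArg Subtype.val h)))
    · rintro ⟨x, hx⟩
      by_cases h1 : x = 1
      · exact ⟨none, Subtype.ext h1.symm⟩
      · obtain ⟨p, rfl⟩ := hall x h1
        exact ⟨some ⟨p, hι (by rw [hφ]; exact (hmem _).1 hx)⟩, rfl⟩
  let e : Option Ω → V := fun o => o.elim 1 ι
  have he : Function.Bijective e := by
    constructor
    · rintro (_ | p) (_ | q) h
      · rfl
      · exact absurd h.symm (hne q)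
      · exact absurd h (hne p)
      · exact congrArg some (hι h)
    · intro x
      by_cases h1 : x = 1
      · exact ⟨none, h1.symm⟩
      · obtain ⟨p, rfl⟩ := hall x h1
        exact ⟨some p, rfl⟩
  have h1 := Nat.card_eq_of_bijective f hf
  have h2 := Nat.card_eq_of_bijective e he
  rw [Finite.card_option] at h1 h2
  rw [h1, h2, ← K.index_mul_card]
  exact Nat.mul_le_mul_right _ (one_lt_index_of_ne_top hK)

namespace RegSetting

variable {C : Subgroup Y} {d : Ω} (S : RegSetting C d)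
include S

/-- In the second case of the dichotomy the regular subgroup is normal. -/
theorem normal_of_orbits (hfaith : ∀ g : Y, (∀ u : Ω, g • u = u) → g = 1)
    (hfix : ∀ g : Y, (∃ u : Ω, g • u ≠ u) → 2 * (Nat.card (MulAction.fixedBy Ω g) + 1) ≤ Nat.card Ω + 1)
    (hsmall : 2 * ((Nat.card (stabNorm C d) - 1) * (Nat.card (stabNorm C d) - 2)) < Nat.card Ω + 1)
    (horb : ∀ g : Y, g • d = d → ∀ u : Ω, ∃ w ∈ stabNorm C d, w • u = g • u) :
    C.Normal := by
  classical
  haveI := Fintype.ofFinite Ω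
  haveI := Fintype.ofFinite (stabNorm C d)
  set W := stabNorm C d with hW
  have hval : ∀ {w : Y}, w ∈ W → ∀ a ∈ C, w * a * w⁻¹ ∈ C ∧ w • a • d = (w * a * w⁻¹) • d := by
    intro w hw a ha
    refine ⟨(mem_normalizer_iff.1 (mem_stabNorm.1 hw).1 a).1 ha, ?_⟩
    rw [mul_smul, mul_smul, inv_smul_eq_iff.2 (mem_stabNorm.1 hw).2.symm]
  have htwo : ∀ g : Y, g • d = d → ∀ v : Ω, v ≠ d → g • v = v → g = 1 := by
    intro g hgd v hv hgv
    refine hfaith g fun u₀ => Classical.byContradiction fun hu₀ => ?_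
    obtain ⟨b, hb, rfl⟩ := S.exists_eq v
    have hb1 : b ≠ 1 := fun e => hv (by rw [e, one_smul])
    have hh : (b⁻¹ * g * b) • d = d := by rw [mul_smul, mul_smul, hgv, inv_smul_smul]
    have key : ∀ u : Ω, g • u ≠ u → ∃ p : W × W, p.1 ≠ 1 ∧ p.2 ≠ 1 ∧ p.1 ≠ p.2 ∧ ∀ a ∈ C, a • d = u →
        (p.1 : Y) * a * (p.1 : Y)⁻¹ = b * ((p.2 : Y) * (b⁻¹ * a) * (p.2 : Y)⁻¹) := by
      intro u hu
      obtain ⟨a, ha, rfl⟩ := S.exists_eq u
      obtain ⟨w, hw, hwu⟩ := horb g hgd (a • d)
      obtain ⟨w', hw', hwu'⟩ := horb (b⁻¹ * g * b) hh ((b⁻¹ * a) • d)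
      have h1 := hval hw a ha
      have h2 := hval hw' (b⁻¹ * a) (mul_mem (inv_mem hb) ha)
      have e2 : g • a • d = (b * (w' * (b⁻¹ * a) * w'⁻¹)) • d := by
        rw [mul_smul b, ← h2.2, hwu', smul_smul, smul_smul, smul_smul]
        congr 1
        group
      have heq : w * a * w⁻¹ = b * (w' * (b⁻¹ * a) * w'⁻¹) := by
        have := S.reg.1 (a₁ := ⟨_, h1.1⟩) (a₂ := ⟨_, mul_mem hb h2.1⟩) (by
          show (w * a * w⁻¹) • d = _
          rw [← h1.2, hwu, e2])
        exact congrArg Subtype.val this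
      have hw1 : w ≠ 1 := fun e => hu (by rw [← hwu, e, one_smul])
      have hw'1 : w' ≠ 1 := fun e => hu (by
        rw [e2, e]
        congr 1
        group)
      refine ⟨(⟨w, hw⟩, ⟨w', hw'⟩), fun e => hw1 (congrArg Subtype.val e),
        fun e => hw'1 (congrArg Subtype.val e), fun e => hw1 ?_, fun a' ha' e => ?_⟩
      · obtain rfl : w = w' := congrArg Subtype.val e
        refine S.eq_one_of_comm hw hb hb1 (mul_inv_eq_iff_eq_mul.1 ?_)
        have h3 : w * b⁻¹ * w⁻¹ = b⁻¹ := by
          calc w * b⁻¹ * w⁻¹ = b⁻¹ * (b * (w * (b⁻¹ * a) * w⁻¹)) * (w * a * w⁻¹)⁻¹ := by group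
            _ = b⁻¹ := by rw [← heq, mul_inv_cancel_right]
        calc w * b * w⁻¹ = (w * b⁻¹ * w⁻¹)⁻¹ := by group
          _ = b := by rw [h3, inv_inv]
      · have ea : a' = a := congrArg Subtype.val (S.reg.1 (a₁ := ⟨a', ha'⟩) (a₂ := ⟨a, ha⟩) e)
        rw [ea]
        exact heq
    choose p hp1 hp2 hp3 hp4 using key
    let M := Finset.univ.filter fun u : Ω => g • u ≠ u
    let P := ((Finset.univ : Finset W).erase 1).offDiag
    let f : Ω → W × W := fun u => if h : g • u ≠ u then p u h else (1, 1)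
    have hmaps : Set.MapsTo f M P := by
      intro u hu
      have hu' : g • u ≠ u := (Finset.mem_filter.1 hu).2
      simp only [P, f, Finset.mem_coe, dif_pos hu', Finset.mem_offDiag, Finset.mem_erase, Finset.mem_univ, and_true]
      exact ⟨hp1 u hu', hp2 u hu', hp3 u hu'⟩
    have hinj : Set.InjOn f M := by
      intro u hu v' hv' e
      have hu' : g • u ≠ u := (Finset.mem_filter.1 hu).2
      have hv'' : g • v' ≠ v' := (Finset.mem_filter.1 hv').2
      simp only [f, dif_pos hu', dif_pos hv''] at e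
      obtain ⟨a, ha, rfl⟩ := S.exists_eq u
      obtain ⟨a', ha', rfl⟩ := S.exists_eq v'
      have e1 := hp4 _ hu' a ha rfl
      have e2 := hp4 _ hv'' a' ha' rfl
      rw [← e] at e2
      have hne := hp3 _ hu'
      set w := (p (a • d) hu').1
      set w' := (p (a • d) hu').2
      by_contra hne'
      refine hne (Subtype.ext ?_)
      have hc1 : a'⁻¹ * a ≠ 1 := fun e3 => hne' (by rw [inv_mul_eq_one.1 e3])
      have hcomm : (w' : Y)⁻¹ * w * (a'⁻¹ * a) = a'⁻¹ * a * ((w' : Y)⁻¹ * w) := by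
        have e3 : (w : Y) * (a'⁻¹ * a) * (w : Y)⁻¹ = (w' : Y) * (a'⁻¹ * a) * (w' : Y)⁻¹ := by
          calc (w : Y) * (a'⁻¹ * a) * (w : Y)⁻¹
              = ((w : Y) * a' * (w : Y)⁻¹)⁻¹ * ((w : Y) * a * (w : Y)⁻¹) := by group
            _ = _ := by rw [e1, e2]; group
        calc (w' : Y)⁻¹ * w * (a'⁻¹ * a) = (w' : Y)⁻¹ * ((w : Y) * (a'⁻¹ * a) * (w : Y)⁻¹) * w := by group
          _ = _ := by rw [e3]; group
      have h4 := S.eq_one_of_comm (mul_mem (inv_mem w'.2) w.2) (mul_mem (inv_mem ha') ha) hc1 hcomm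
      exact (inv_mul_eq_one.1 h4).symm
    have hle := Finset.card_le_card_of_injOn f hmaps hinj
    have hP : P.card = (Nat.card W - 1) * (Nat.card W - 2) := by
      rw [Finset.offDiag_card, Finset.card_erase_of_mem (Finset.mem_univ _), Finset.card_univ,
        ← Nat.card_eq_fintype_card, ← Nat.mul_sub_one]
      congr 1
    have hM : M.card + Nat.card (MulAction.fixedBy Ω g) = Nat.card Ω := by
      rw [Nat.card_eq_fintype_card, Nat.card_eq_fintype_card, Fintype.card_subtype, ← Finset.card_univ,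
        add_comm]
      exact Finset.card_filter_add_card_filter_not _
    have h5 := hfix g ⟨u₀, hu₀⟩
    omega
  refine ⟨fun c hc g => ?_⟩
  suffices hg : g ∈ normalizer (C : Set Y) by exact (mem_normalizer_iff.1 hg c).1 hc
  obtain ⟨a, ha, h⟩ := S.exists_eq (g • d)
  set g' := a⁻¹ * g
  have hg' : g' • d = d := by rw [mul_smul, ← h, inv_smul_smul]
  suffices hgN : g' ∈ normalizer (C : Set Y) by
    have := mul_mem (le_normalizer ha : a ∈ normalizer (C : Set Y)) hgN
    rwa [mul_inv_cancel_left] at this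
  by_cases hv : ∃ v : Ω, v ≠ d
  · obtain ⟨v, hv⟩ := hv
    obtain ⟨w, hw, hwv⟩ := horb g' hg' v
    have h1 := htwo (w⁻¹ * g') (by rw [mul_smul, hg', inv_smul_eq_iff, (mem_stabNorm.1 hw).2]) v hv
      (by rw [mul_smul, ← hwv, inv_smul_smul])
    rw [← inv_mul_eq_one.1 h1]
    exact (mem_stabNorm.1 hw).1
  · push Not at hv
    rw [hfaith g' fun u => by rw [hv u, hg']]
    exact one_mem _

/-- The dichotomy: double transitivity or a normal regular subgroup. -/
theorem two_transitive_or_normal (hfaith : ∀ g : Y, (∀ u : Ω, g • u = u) → g = 1)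
    (hfix : ∀ g : Y, (∃ u : Ω, g • u ≠ u) → 2 * (Nat.card (MulAction.fixedBy Ω g) + 1) ≤ Nat.card Ω + 1)
    (hsmall : 2 * ((Nat.card (stabNorm C d) - 1) * (Nat.card (stabNorm C d) - 2)) < Nat.card Ω + 1) :
    (∀ u v : Ω, u ≠ d → v ≠ d → ∃ g : Y, g • d = d ∧ g • u = v) ∨ C.Normal :=
  S.dichotomy.imp_right (S.normal_of_orbits hfaith hfix hsmall)

end RegSetting

end Cfsg.Agent.OddTranspX
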