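import Cfsg.Agent.Lib.OddTranspX.Defs
import Cfsg.Agent.Lib.Perm.TransLinear.Main
import Cfsg.Agent.S0205

/-!
# The semilinear structure of a class

The stabiliser of two classes, of odd order, is solvable and transitive on the members of the first
class, so it acts on the group of that class by maps `x ↦ a * σ x` over a field of the same order.
-/

set_option autoImplicit false
set_option linter.style.haveILetI false
set_option linter.unusedSectionVars false

namespace Cfsg.Agent.OddTranspX

open Subgroup MulAction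

universe u

variable {G : Type u} [Group G] {D : Set G} (h : ClassGroups D)

theorem ClassGroups.pairStab_comm (E X : h.Pt) : h.pairStab E X = h.pairStab X E := inf_comm _ _

theorem ClassGroups.mem_pairStab {E X : h.Pt} {k : G} :
    k ∈ h.pairStab E X ↔ k • E = E ∧ k • X = X := by
  show k ∈ stabilizer G E ⊓ stabilizer G X ↔ _
  rw [mem_inf, mem_stabilizer_iff, mem_stabilizer_iff]

/-- Conjugation of the group of a class by an element of a pair stabiliser. -/
def ClassGroups.act {E X : h.Pt} (k : h.pairStab E X) (v : h.grp E) : h.grp E :=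
  ⟨(k : G) * v * (k : G)⁻¹, h.grp_conj_fix (h.mem_pairStab.1 k.2).1 v.2⟩

theorem ClassGroups.act_one {E X : h.Pt} (v : h.grp E) : h.act (1 : h.pairStab E X) v = v :=
  Subtype.ext (by show (1 : G) * (v : G) * (1 : G)⁻¹ = v; rw [inv_one, one_mul, mul_one])

theorem ClassGroups.act_mul {E X : h.Pt} (k l : h.pairStab E X) (v : h.grp E) :
    h.act (k * l) v = h.act k (h.act l v) :=
  Subtype.ext (by
    show (k : G) * l * v * ((k : G) * l)⁻¹ = k * ((l : G) * v * (l : G)⁻¹) * (k : G)⁻¹
    group)

theorem ClassGroups.act_map_mul {E X : h.Pt} (k : h.pairStab E X) (v w : h.grp E) :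
    h.act k (v * w) = h.act k v * h.act k w :=
  Subtype.ext (by
    show (k : G) * ((v : G) * w) * (k : G)⁻¹ =
      (k : G) * v * (k : G)⁻¹ * ((k : G) * w * (k : G)⁻¹)
    group)

/-- A field on a class over which the stabiliser of two classes is semilinear. -/
structure Semi (E X : h.Pt) where
  F : Type
  [fld : Field F]
  [fin : Fintype F]
  φ : h.grp E → F
  bij : Function.Bijective φ
  add : ∀ v w, φ (v * w) = φ v + φ w
  coef : h.pairStab E X → F
  aut : h.pairStab E X → (F ≃+* F)
  spec : ∀ k v, φ (h.act k v) = coef k * aut k (φ v)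

attribute [instance] Semi.fld Semi.fin

namespace Semi

variable {h} {E X : h.Pt} (S : Semi h E X)

theorem φ_one : S.φ 1 = 0 := by
  have h1 := S.add 1 1
  rw [one_mul] at h1
  exact add_left_cancel (a := S.φ 1) (by rw [add_zero]; exact h1.symm)

theorem φ_ne_zero {v : h.grp E} (hv : v ≠ 1) : S.φ v ≠ 0 := fun h0 =>
  hv (S.bij.1 (h0.trans S.φ_one.symm))

theorem card_F : Nat.card S.F = Nat.card (h.grp E) := (Nat.card_eq_of_bijective S.φ S.bij).symm

theorem coef_ne_zero (k : h.pairStab E X) : S.coef k ≠ 0 := by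
  intro h0
  obtain ⟨v, hv⟩ := S.bij.2 1
  have h1 : h.act k v = 1 := S.bij.1 (by rw [S.spec, h0, zero_mul, S.φ_one])
  have h2 : v = 1 := Subtype.ext (conj_eq_one_iff.1 (congrArg Subtype.val h1))
  rw [h2, S.φ_one] at hv
  exact zero_ne_one hv

theorem mul (k l : h.pairStab E X) : S.coef (k * l) = S.coef k * S.aut k (S.coef l) ∧
    S.aut (k * l) = S.aut k * S.aut l := by
  have key : ∀ x : S.F, S.coef (k * l) * S.aut (k * l) x =
      S.coef k * (S.aut k (S.coef l) * S.aut k (S.aut l x)) := by
    intro x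
    obtain ⟨v, rfl⟩ := S.bij.2 x
    rw [← S.spec, h.act_mul, S.spec, S.spec, map_mul]
  have hc : S.coef (k * l) = S.coef k * S.aut k (S.coef l) := by simpa using key 1
  refine ⟨hc, RingEquiv.ext fun x => ?_⟩
  have h1 := key x
  rw [hc, mul_assoc] at h1
  exact mul_left_cancel₀ (by simpa using S.coef_ne_zero l)
    (mul_left_cancel₀ (S.coef_ne_zero k) h1)

/-- The field automorphism of an element. -/
def autHom : h.pairStab E X →* RingAut S.F := MonoidHom.mk' S.aut fun k l => (S.mul k l).2

theorem aut_one : S.aut 1 = 1 := map_one S.autHom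

theorem aut_pow (k : h.pairStab E X) (i : ℕ) : S.aut (k ^ i) = S.aut k ^ i := map_pow S.autHom k i

theorem coef_one : S.coef 1 = 1 := by
  have h1 := (S.mul 1 1).1
  rw [one_mul, S.aut_one] at h1
  exact (mul_eq_left₀ (S.coef_ne_zero 1)).1 h1.symm

theorem coef_mul_of_lin {k : h.pairStab E X} (hk : S.aut k = 1) (l : h.pairStab E X) :
    S.coef (k * l) = S.coef k * S.coef l := by rw [(S.mul k l).1, hk]; rfl

theorem coef_pow_of_lin {k : h.pairStab E X} (hk : S.aut k = 1) (i : ℕ) :
    S.coef (k ^ i) = S.coef k ^ i := by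
  induction i with
  | zero => rw [pow_zero, pow_zero, S.coef_one]
  | succ i ih => rw [pow_succ', S.coef_mul_of_lin hk, ih, pow_succ']

theorem coef_aut_eq_one_iff (k : h.pairStab E X) :
    (S.coef k = 1 ∧ S.aut k = 1) ↔ ∀ v ∈ h.grp E, (k : G) * v * (k : G)⁻¹ = v := by
  constructor
  · rintro ⟨h1, h2⟩ v hv
    have := S.spec k ⟨v, hv⟩
    rw [h1, h2, one_mul] at this
    exact congrArg Subtype.val (S.bij.1 this)
  · intro hk
    have key : ∀ x : S.F, S.coef k * S.aut k x = x := by
      intro x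
      obtain ⟨v, rfl⟩ := S.bij.2 x
      rw [← S.spec]
      exact congrArg S.φ (Subtype.ext (hk v v.2))
    have h1 : S.coef k = 1 := by simpa using key 1
    exact ⟨h1, RingEquiv.ext fun x => by simpa [h1] using key x⟩

/-- A linear element fixing a non-trivial vector centralises the class. -/
theorem centralize_of_lin_fix {k : h.pairStab E X} (hk : S.aut k = 1) {v : h.grp E} (hv : v ≠ 1)
    (hfix : h.act k v = v) : ∀ v ∈ h.grp E, (k : G) * v * (k : G)⁻¹ = v := by
  refine (S.coef_aut_eq_one_iff k).1 ⟨?_, hk⟩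
  have h1 := S.spec k v
  rw [hfix, hk] at h1
  exact (mul_eq_right₀ (S.φ_ne_zero hv)).1 h1.symm

/-- An element whose power by the order of its automorphism is trivial fixes a non-trivial vector. -/
theorem exists_fix (k : h.pairStab E X) (hd : 0 < orderOf (S.aut k))
    (hpow : ∀ v ∈ h.grp E, ((k ^ orderOf (S.aut k) : h.pairStab E X) : G) * v *
      ((k ^ orderOf (S.aut k) : h.pairStab E X) : G)⁻¹ = v) :
    ∃ v : h.grp E, v ≠ 1 ∧ h.act k v = v := by
  classical
  set d := orderOf (S.aut k) with hdef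
  have hd1 : S.coef (k ^ d) = 1 ∧ S.aut (k ^ d) = 1 := (S.coef_aut_eq_one_iff _).2 hpow
  have hsum : ∃ x : S.F, (∑ i ∈ Finset.range d, S.coef (k ^ i) * S.aut (k ^ i) x) ≠ 0 := by
    by_contra hall
    push Not at hall
    let f : Fin d → S.F →* S.F := fun i => ((S.aut k ^ (i : ℕ) : RingAut S.F) : S.F ≃+* S.F).toMonoidHom
    have hf : Function.Injective f := fun i j hij => by
      refine Fin.ext (pow_injOn_Iio_orderOf (x := S.aut k) i.2 j.2 (RingEquiv.ext fun x => ?_))
      exact DFunLike.congr_fun hij x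
    have hli := (linearIndependent_monoidHom S.F S.F).comp f hf
    have h0 := Fintype.linearIndependent_iff.1 hli (fun i => S.coef (k ^ (i : ℕ))) ?_ ⟨0, hd⟩
    · rw [pow_zero, S.coef_one] at h0
      exact one_ne_zero h0
    · funext x
      rw [Finset.sum_apply, Pi.zero_apply, ← hall x, ← Fin.sum_univ_eq_sum_range]
      refine Finset.sum_congr rfl fun i _ => ?_
      show S.coef (k ^ (i : ℕ)) * (S.aut k ^ (i : ℕ)) x = _
      rw [S.aut_pow]
  obtain ⟨x, hx⟩ := hsum
  set y := ∑ i ∈ Finset.range d, S.coef (k ^ i) * S.aut (k ^ i) x with hy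
  obtain ⟨v, hv⟩ := S.bij.2 y
  refine ⟨v, fun h1 => hx (by rw [← hv, h1, S.φ_one]), S.bij.1 ?_⟩
  rw [S.spec, hv, hy, map_sum, Finset.mul_sum]
  have hstep : ∀ i, S.coef k * S.aut k (S.coef (k ^ i) * S.aut (k ^ i) x) =
      S.coef (k ^ (i + 1)) * S.aut (k ^ (i + 1)) x := by
    intro i
    rw [pow_succ', (S.mul k (k ^ i)).1, (S.mul k (k ^ i)).2, map_mul, mul_assoc]
    rfl
  rw [Finset.sum_congr rfl fun i _ => hstep i]
  have h1 := Finset.sum_range_succ' (fun i => S.coef (k ^ i) * S.aut (k ^ i) x) d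
  have h2 := Finset.sum_range_succ (fun i => S.coef (k ^ i) * S.aut (k ^ i) x) d
  rw [h1] at h2
  simp only [hd1.1, hd1.2, pow_zero, S.coef_one, S.aut_one] at h2
  exact add_right_cancel h2

/-- The fixed field of an automorphism. -/
theorem card_fixed (σ : RingAut S.F) :
    Nat.card {x : S.F // σ x = x} ^ orderOf σ = Nat.card S.F := by
  classical
  haveI : Fintype (zpowers σ) := Fintype.ofFinite _
  set K₀ := FixedPoints.subfield (zpowers σ) S.F with hK
  have hfr := FixedPoints.finrank_eq_card (zpowers σ) S.F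
  have hmem : ∀ x : S.F, x ∈ K₀ ↔ σ x = x := by
    intro x
    refine ⟨fun hx => hx ⟨σ, mem_zpowers σ⟩, fun hx g => ?_⟩
    obtain ⟨i, hi⟩ := mem_zpowers_iff.1 g.2
    show (g : RingAut S.F) • x = x
    rw [← hi]
    exact mem_stabilizer_iff.1 (zpow_mem (mem_stabilizer_iff.2 (show σ • x = x from hx)) i)
  have h1 : Nat.card S.F = Nat.card K₀ ^ Module.finrank K₀ S.F :=
    Module.natCard_eq_pow_finrank
  rw [h1, hfr, ← Nat.card_eq_fintype_card, Nat.card_zpowers,
    Nat.card_congr (Equiv.subtypeEquivRight hmem)]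

/-- The fixed vectors of an element fixing one. -/
theorem card_centralized {k : h.pairStab E X} {v : h.grp E} (hv : v ≠ 1) (hfix : h.act k v = v) :
    Nat.card ↥(h.grp E ⊓ centralizer {(k : G)}) = Nat.card {x : S.F // S.aut k x = x} := by
  classical
  have hv0 := S.φ_ne_zero hv
  have hcv : S.coef k * S.aut k (S.φ v) = S.φ v := by rw [← S.spec, hfix]
  have hiff : ∀ w : h.grp E, (w : G) ∈ centralizer {(k : G)} ↔
      S.aut k (S.φ w / S.φ v) = S.φ w / S.φ v := by
    intro w
    rw [mem_centralizer_singleton_iff]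
    have e : ((w : G) * k = k * w) ↔ h.act k w = w := by
      constructor
      · intro hh
        exact Subtype.ext (mul_inv_eq_iff_eq_mul.2 hh.symm)
      · intro hh
        exact (mul_inv_eq_iff_eq_mul.1 (congrArg Subtype.val hh)).symm
    rw [e, ← S.bij.1.eq_iff, S.spec, map_div₀]
    constructor
    · intro hh
      rw [← mul_div_mul_left _ _ (S.coef_ne_zero k), hh, hcv]
    · intro hh
      rw [div_eq_iff (by simpa using hv0)] at hh
      rw [hh, mul_left_comm, hcv, div_mul_cancel₀ _ hv0]
  refine Nat.card_eq_of_bijective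
    (fun w => ⟨S.φ ⟨w, (mem_inf.1 w.2).1⟩ / S.φ v, (hiff ⟨w, (mem_inf.1 w.2).1⟩).1 (mem_inf.1 w.2).2⟩)
    ⟨?_, ?_⟩
  · intro a b hab
    have h1 := (div_left_inj' hv0).1 (congrArg Subtype.val hab)
    exact Subtype.ext (congrArg (fun z : h.grp E => (z : G)) (S.bij.1 h1))
  · rintro ⟨x, hx⟩
    obtain ⟨w, hw⟩ := S.bij.2 (x * S.φ v)
    have hq : S.φ w / S.φ v = x := by rw [hw, mul_div_cancel_right₀ _ hv0]
    exact ⟨⟨w, mem_inf.2 ⟨w.2, (hiff w).2 (by rw [hq]; exact hx)⟩⟩, Subtype.ext hq⟩

end Semi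

/-- **The stabiliser of two classes is semilinear on each of them.** -/
theorem exists_semi [Finite G] {E X : h.Pt} (hEX : E ≠ X)
    (hodd : Odd (Nat.card (h.pairStab E X))) : Nonempty (Semi h E X) := by
  classical
  haveI : Fact (Nat.Prime 2) := ⟨Nat.prime_two⟩
  letI : CommGroup (h.grp E) :=
    { (inferInstance : Group (h.grp E)) with
      mul_comm := fun a b => Subtype.ext (h.grp_comm a.2 b.2).eq }
  letI : Module (ZMod 2) (Additive (h.grp E)) := AddCommGroup.zmodModule fun x => by
    refine Additive.toMul.injective ?_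
    show (Additive.toMul x) ^ 2 = 1
    exact Subtype.ext (by rw [SubgroupClass.coe_pow, pow_two]; exact h.grp_sq (Additive.toMul x).2)
  let L : h.pairStab E X → (Additive (h.grp E) →+ Additive (h.grp E)) := fun k =>
    AddMonoidHom.mk' (fun v => Additive.ofMul (h.act k (Additive.toMul v))) fun v w =>
      congrArg Additive.ofMul (h.act_map_mul k _ _)
  let ρ₀ : h.pairStab E X → (Additive (h.grp E) ≃ₗ[ZMod 2] Additive (h.grp E)) := fun k =>
    LinearEquiv.ofLinearMap ((L k).toZModLinearMap 2) ((L k⁻¹).toZModLinearMap 2)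
      (LinearMap.ext fun v => congrArg Additive.ofMul (a₂ := Additive.toMul v) (by
        show h.act k (h.act k⁻¹ _) = _
        rw [← h.act_mul, mul_inv_cancel, h.act_one]))
      (LinearMap.ext fun v => congrArg Additive.ofMul (a₂ := Additive.toMul v) (by
        show h.act k⁻¹ (h.act k _) = _
        rw [← h.act_mul, inv_mul_cancel, h.act_one]))
  let ρ : h.pairStab E X →* (Additive (h.grp E) ≃ₗ[ZMod 2] Additive (h.grp E)) :=
    MonoidHom.mk' ρ₀ fun k l => LinearEquiv.ext fun v => congrArg Additive.ofMul (h.act_mul k l _)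
  obtain ⟨a, ha, haE⟩ := h.exists_pt E
  haveI : Nontrivial (Additive (h.grp E)) :=
    ⟨⟨Additive.ofMul ⟨a, by rw [← haE]; exact h.self_mem_grp ha⟩, 0, fun h1 =>
      h.toOT.ne_one ha (congrArg (fun z => ((Additive.toMul z : h.grp E) : G)) h1)⟩⟩
  have hT : Perm.TransLinear.Trans ρ.range := by
    intro v w hv hw
    have hne : ∀ z : Additive (h.grp E), z ≠ 0 → ((Additive.toMul z : h.grp E) : G) ≠ 1 :=
      fun z hz h1 => hz (Additive.toMul.injective (Subtype.ext h1))
    obtain ⟨k, hkE, hkX, hk⟩ := h.exists_fix_conj hEX (Additive.toMul v).2 (hne v hv)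
      (Additive.toMul w).2 (hne w hw)
    exact ⟨⟨ρ ⟨k, h.mem_pairStab.2 ⟨hkE, hkX⟩⟩, ⟨_, rfl⟩⟩,
      Additive.toMul.injective (Subtype.ext hk)⟩
  haveI : Finite ρ.range := Finite.of_surjective _ ρ.rangeRestrict_surjective
  have hs : Group.IsSolvable ρ.range :=
    S0205.result (Odd.of_dvd_nat hodd (Subgroup.card_range_dvd ρ))
  rcases Perm.TransLinear.semilinear_or_small hT hs with ⟨F, iF, iF', e, he⟩ | hsmall
  · choose co σ hσ using he
    exact ⟨{ F := F
             φ := fun v => e (Additive.ofMul v)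
             bij := e.bijective.comp Additive.ofMul.bijective
             add := fun v w => e.map_add (Additive.ofMul v) (Additive.ofMul w)
             coef := fun k => co ⟨ρ k, k, rfl⟩
             aut := fun k => σ ⟨ρ k, k, rfl⟩
             spec := fun k v => hσ ⟨ρ k, k, rfl⟩ (Additive.ofMul v) }⟩
  · exfalso
    obtain ⟨n, hn⟩ := IsPGroup.iff_card.1 (fun v : h.grp E => ⟨1, Subtype.ext (by
      rw [SubgroupClass.coe_pow, pow_one, pow_two]; exact h.grp_sq v.2)⟩ : IsPGroup 2 (h.grp E))
    have hn0 : n ≠ 0 := by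
      rintro rfl
      rw [pow_zero, Subgroup.card_eq_one] at hn
      have hmem : a ∈ h.grp E := by rw [← haE]; exact h.self_mem_grp ha
      rw [hn] at hmem
      exact h.toOT.ne_one ha (Subgroup.mem_bot.1 hmem)
    have h2 : 2 ∣ Nat.card (Additive (h.grp E)) :=
      ⟨2 ^ (n - 1), (Nat.card_congr Additive.toMul).trans (hn.trans (by
        rw [← pow_succ']; congr 1; omega))⟩
    simp only [Set.mem_insert_iff, Set.mem_singleton_iff] at hsmall
    omega

end Cfsg.Agent.OddTranspX
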