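import Cfsg.Agent.Lib.OddTranspX.Reduce

/-!
# Proper subgroups generated by part of a class and one further member

By induction such a subgroup is, modulo a central 2-group, `L2` or a Suzuki group; in the first
case it contains two members with product of order three, which gives a midpoint.
-/

set_option autoImplicit false
set_option linter.style.haveILetI false
set_option linter.unusedSectionVars false

namespace Cfsg.Agent.OddTranspX

open Subgroup
open Cfsg.Agent.GenA.OddTransp (OT sq_mul fix_of_commute)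

universe u

variable {G : Type u} [Group G] {D : Set G}

/-- Two members with product of order three give a midpoint. -/
theorem ClassGroups.hasMid_of_three (h : ClassGroups D) {a f : G} (ha : a ∈ D) (hf : f ∈ D)
    (h3 : orderOf (a * f) = 3) : h.HasMid := by
  have h1 : (a * f) ^ 3 = 1 := h3 ▸ pow_orderOf_eq_one (a * f)
  rw [pow_succ, pow_two] at h1
  have e : a * f * a = f * a * f := by
    have e1 : a * f * a = (f * a * f)⁻¹ :=
      eq_inv_of_mul_eq_one_left (by simp only [mul_assoc] at h1 ⊢; exact h1)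
    rw [e1, mul_inv_rev, mul_inv_rev, h.toOT.inv ha, h.toOT.inv hf]
    simp only [mul_assoc]
  have hnc : ¬ Commute a f := by
    intro hc
    have h2 : orderOf (a * f) ∣ 2 := orderOf_dvd_of_pow_eq_one
      (by rw [hc.mul_pow, pow_two, pow_two, h.sq ha, h.sq hf, one_mul])
    rw [h3] at h2
    norm_num at h2
  have hm : a * f * a ∈ D := h.toOT.conj2 hf (h.sq ha)
  refine ⟨h.pt a ha, h.pt f hf, fun he => hnc (h.pt_eq_iff.1 he), a, h.self_mem_grp ha,
    a * f * a, hm, ?_, ?_⟩
  · rw [h.smul_pt, h.pt_eq_iff, h.toOT.inv hm]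
    have e2 : a * f * a * a * (a * f * a) = f := by
      calc a * f * a * a * (a * f * a) = a * f * (a * a) * (a * f * a) := by simp only [mul_assoc]
        _ = a * f * (f * a * f) := by rw [h.sq ha, mul_one, e]
        _ = f := by
          rw [show a * f * (f * a * f) = a * (f * f) * (a * f) by simp only [mul_assoc], h.sq hf,
            mul_one, ← mul_assoc, h.sq ha, one_mul]
    rw [e2]
  · rw [h.smul_pt, h.pt_eq_iff, h.toOT.inv ha]

/-- An involution of `SL(2)` in characteristic two is conjugate to the standard one. -/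
theorem sl_two_conj {F : Type*} [Field F] [Fintype F] [CharP F 2]
    (X : Matrix.SpecialLinearGroup (Fin 2) F) (hX : X * X = 1) (hX1 : X ≠ 1) :
    ∃ P : Matrix.SpecialLinearGroup (Fin 2) F,
      P⁻¹ * X * P = ⟨!![1, 1; 0, 1], by simp [Matrix.det_fin_two]⟩ := by
  set M : Matrix (Fin 2) (Fin 2) F := (X : Matrix (Fin 2) (Fin 2) F) with hM
  have hMM : M * M = 1 := by
    rw [hM, ← Matrix.SpecialLinearGroup.coe_mul, hX, Matrix.SpecialLinearGroup.coe_one]
  have hM1 : M - 1 ≠ 0 := fun h0 => hX1 (Subtype.ext (sub_eq_zero.1 h0))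
  obtain ⟨j, hj⟩ : ∃ j, (fun i => (M - 1) i j) ≠ 0 := by
    by_contra hall
    push Not at hall
    exact hM1 (Matrix.ext fun i j => congrFun (hall j) i)
  set v : Fin 2 → F := Pi.single j 1 with hv
  set w : Fin 2 → F := (M - 1).mulVec v with hw
  have hwne : w ≠ 0 := by
    have : w = fun i => (M - 1) i j := by rw [hw, hv, Matrix.mulVec_single_one]; rfl
    rw [this]; exact hj
  have htwo : ∀ z : Fin 2 → F, z + z = 0 := fun z => funext fun i => CharTwo.add_self_eq_zero _
  have hMv : M.mulVec v = w + v := by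
    rw [hw, Matrix.sub_mulVec, Matrix.one_mulVec, sub_add_cancel]
  have hMw : M.mulVec w = w := by
    rw [hw, Matrix.mulVec_mulVec, mul_sub, hMM, mul_one, Matrix.sub_mulVec, Matrix.sub_mulVec,
      Matrix.one_mulVec]
    have h2 : ∀ a b : Fin 2 → F, a - b = b - a := fun a b => funext fun i => by
      simp [CharTwo.sub_eq_add, add_comm]
    exact h2 _ _
  have hdet : w 0 * v 1 - v 0 * w 1 ≠ 0 := by
    intro h0
    -- otherwise `v` would be fixed
    have hlin : ∃ c : F, v = c • w := by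
      by_cases hw0 : w 0 = 0
      · have hw1 : w 1 ≠ 0 := fun h1 => hwne (funext fun i => by fin_cases i <;> simpa)
        have hv0 : v 0 = 0 := by
          rw [hw0, zero_mul, zero_sub, neg_eq_zero] at h0
          exact (mul_eq_zero.1 h0).resolve_right hw1
        refine ⟨v 1 / w 1, funext fun i => ?_⟩
        fin_cases i
        · simp [hw0, hv0]
        · simp [hw1]
      · refine ⟨v 0 / w 0, funext fun i => ?_⟩
        fin_cases i
        · simp [hw0]
        · show v 1 = v 0 / w 0 * w 1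
          rw [div_mul_eq_mul_div, eq_div_iff hw0]
          linear_combination h0
    obtain ⟨c, hc⟩ := hlin
    have : M.mulVec v = v := by rw [hc, Matrix.mulVec_smul, hMw]
    rw [hMv] at this
    exact hwne (by rw [← add_sub_cancel_right w v, this, sub_self])
  obtain ⟨s, hs⟩ : ∃ s : F, s * s = (w 0 * v 1 - v 0 * w 1)⁻¹ := by
    obtain ⟨s, hs⟩ := (Finite.injective_iff_bijective.1 (frobenius_inj F 2)).2 (w 0 * v 1 - v 0 * w 1)⁻¹
    exact ⟨s, by rw [← hs, frobenius_def, pow_two]⟩
  have hs0 : (s * w 0) * (s * v 1) - (s * v 0) * (s * w 1) = 1 := by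
    rw [show (s * w 0) * (s * v 1) - (s * v 0) * (s * w 1) = s * s * (w 0 * v 1 - v 0 * w 1) by ring,
      hs, inv_mul_cancel₀ hdet]
  obtain ⟨P, hP⟩ : ∃ P : Matrix.SpecialLinearGroup (Fin 2) F,
      (P : Matrix (Fin 2) (Fin 2) F) = !![s * w 0, s * v 0; s * w 1, s * v 1] :=
    ⟨⟨!![s * w 0, s * v 0; s * w 1, s * v 1], by simp [Matrix.det_fin_two, hs0]⟩, rfl⟩
  refine ⟨P, ?_⟩
  have key : ((X * P : Matrix.SpecialLinearGroup (Fin 2) F) : Matrix (Fin 2) (Fin 2) F) =
      (P : Matrix (Fin 2) (Fin 2) F) * !![1, 1; 0, 1] := by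
    rw [Matrix.SpecialLinearGroup.coe_mul, hP]
    have a0 := congrFun hMw 0
    have a1 := congrFun hMw 1
    have b0 := congrFun hMv 0
    have b1 := congrFun hMv 1
    simp only [Matrix.mulVec, dotProduct, Fin.sum_univ_two, Pi.add_apply] at a0 a1 b0 b1
    ext i k
    fin_cases i <;> fin_cases k <;> simp [Matrix.mul_apply, Fin.sum_univ_two, ← hM]
    · linear_combination s * a0
    · linear_combination s * b0
    · linear_combination s * a1
    · linear_combination s * b1
  refine mul_left_cancel (a := P) ?_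
  rw [mul_assoc P⁻¹, mul_inv_cancel_left]
  exact Subtype.ext key

/-- In `PSL(2)` over a field of characteristic two, a conjugation invariant set of involutions
contains two with product of order three. -/
theorem psl_two_three {F : Type*} [Field F] [Fintype F] [CharP F 2]
    (S : Set (Matrix.ProjectiveSpecialLinearGroup (Fin 2) F))
    (hS : ∀ a ∈ S, ∀ g, g * a * g⁻¹ ∈ S) {a : Matrix.ProjectiveSpecialLinearGroup (Fin 2) F}
    (ha : a ∈ S) (ha2 : orderOf a = 2) : ∃ b ∈ S, ∃ c ∈ S, orderOf (b * c) = 3 := by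
  haveI : Fact (Nat.Prime 3) := ⟨Nat.prime_three⟩
  obtain ⟨X, rfl⟩ := QuotientGroup.mk'_surjective _ a
  set π := QuotientGroup.mk' (center (Matrix.SpecialLinearGroup (Fin 2) F)) with hπ
  have hcen : ∀ Z : Matrix.SpecialLinearGroup (Fin 2) F, π Z = 1 → Z = 1 := by
    intro Z hZ
    obtain ⟨r, hr, hr'⟩ := Matrix.SpecialLinearGroup.mem_center_iff.1
      ((QuotientGroup.eq_one_iff Z).1 hZ)
    have hr1 : r = 1 := by
      simp only [Fintype.card_fin] at hr
      exact frobenius_inj F 2 (by rw [frobenius_def, frobenius_def, hr, one_pow])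
    exact Subtype.ext (by rw [← hr', hr1]; simp)
  have hX : X * X = 1 := hcen _ (by
    have h1 := pow_orderOf_eq_one (π X)
    rw [ha2, pow_two] at h1
    rwa [map_mul])
  have hX1 : X ≠ 1 := fun h1 => by rw [h1, map_one, orderOf_one] at ha2; omega
  set U : Matrix.SpecialLinearGroup (Fin 2) F := ⟨!![1, 1; 0, 1], by simp [Matrix.det_fin_two]⟩
    with hU
  obtain ⟨P, hP⟩ := sl_two_conj X hX hX1
  have hUS : π U ∈ S := by
    have := hS _ ha (π P⁻¹)
    rw [← map_inv π, ← map_mul, ← map_mul, inv_inv, hP] at this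
    exact this
  set J : Matrix.SpecialLinearGroup (Fin 2) F :=
    ⟨!![0, 1; 1, 0], by simp [Matrix.det_fin_two, CharTwo.neg_eq]⟩ with hJ
  refine ⟨_, hUS, _, hS _ hUS (π J), ?_⟩
  rw [← map_inv π, ← map_mul, ← map_mul, ← map_mul]
  have hV : ((U * (J * U * J⁻¹) : Matrix.SpecialLinearGroup (Fin 2) F) :
      Matrix (Fin 2) (Fin 2) F) = !![0, 1; 1, 1] := by
    simp only [Matrix.SpecialLinearGroup.coe_mul, Matrix.SpecialLinearGroup.coe_inv,
      show (U : Matrix (Fin 2) (Fin 2) F) = !![1, 1; 0, 1] from rfl,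
      show (J : Matrix (Fin 2) (Fin 2) F) = !![0, 1; 1, 0] from rfl, Matrix.adjugate_fin_two_of]
    ext i k
    fin_cases i <;> fin_cases k <;>
      simp [Matrix.mul_apply, Fin.sum_univ_two, CharTwo.neg_eq, CharTwo.add_self_eq_zero]
  refine orderOf_eq_prime ?_ ?_
  · rw [← map_pow, ← map_one π]
    congr 1
    apply Subtype.ext
    rw [Matrix.SpecialLinearGroup.coe_pow, hV, Matrix.SpecialLinearGroup.coe_one]
    ext i k
    fin_cases i <;> fin_cases k <;>
      simp [pow_succ, Matrix.mul_apply, Fin.sum_univ_two, CharTwo.add_self_eq_zero]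
  · intro h1
    have h2 := congrArg (fun M : Matrix.SpecialLinearGroup (Fin 2) F =>
      (M : Matrix (Fin 2) (Fin 2) F) 0 1) (hcen _ h1)
    simp only [hV] at h2
    simp at h2

/-- In a dihedral group an involution among the rotations is central. -/
theorem dihedral_rot_central {n : ℕ} {i : ZMod n}
    (h : DihedralGroup.r i * DihedralGroup.r i = 1) :
    DihedralGroup.r i ∈ center (DihedralGroup n) := by
  have h2 : i + i = 0 := by
    rw [DihedralGroup.r_mul_r, DihedralGroup.one_def, DihedralGroup.r.injEq] at h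
    exact h
  refine mem_center_iff.2 fun g => ?_
  rcases g with j | j
  · simp [add_comm]
  · simp only [DihedralGroup.sr_mul_r, DihedralGroup.r_mul_sr, DihedralGroup.sr.injEq]
    rw [sub_eq_add_neg, ← eq_neg_of_add_eq_zero_left h2]

section sub

variable [Finite G] (hB : Below G) (h : ClassGroups D) {A : Set G} {a b f : G} (haA : a ∈ A)
  (hA : ∀ y ∈ A, y ∈ D ∧ Commute a y) (hbA : b ∈ A) (hab : b ≠ a) (hf : f ∈ D)
  (haf : ¬ Commute a f) (hne : closure (A ∪ {f}) ≠ ⊤)

include h haA hA hf haf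

/-- The largest normal 2-subgroup of the subgroup centralises its members. -/
theorem sub_core_commute {z : closure (A ∪ {f})} (hz : z ∈ Cfsg.pCore 2 (closure (A ∪ {f})))
    {y : closure (A ∪ {f})} (hy : (y : G) ∈ D) : Commute z y := by
  have haD := (hA a haA).1
  have hodd : ∀ p q : closure (A ∪ {f}), (p : G) ∈ D → (q : G) ∈ D →
      p * q ∈ Cfsg.pCore 2 (closure (A ∪ {f})) → Commute (p : G) q := by
    intro p q hp hq hpq
    obtain ⟨k, hk⟩ := Cores.pCore_isPGroup (G := closure (A ∪ {f})) 2 ⟨_, hpq⟩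
    have hk' : ((p : G) * q) ^ 2 ^ k = 1 := by
      have := congrArg (fun w : Cfsg.pCore 2 (closure (A ∪ {f})) => ((w : closure (A ∪ {f})) : G)) hk
      simpa using this
    rcases h.pair _ hp _ hq with h1 | h1
    · exact h1
    · have h2 := RootInvolutions.Basic.eq_one_of_odd h1 hk'
      rw [eq_inv_of_mul_eq_one_left h2, h.toOT.inv hq]
  have hnone : ∀ p : closure (A ∪ {f}), (p : G) ∈ D → p ∉ Cfsg.pCore 2 (closure (A ∪ {f})) := by
    intro p hp hp1
    have haU : a ∈ closure (A ∪ {f}) := subset_closure (Or.inl haA)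
    have hfU : f ∈ closure (A ∪ {f}) := subset_closure (Or.inr rfl)
    have key : ∀ q : closure (A ∪ {f}), (q : G) ∈ D → Commute (p : G) q := by
      intro q hq
      have h1 : q * p * q⁻¹ ∈ Cfsg.pCore 2 (closure (A ∪ {f})) :=
        (inferInstance : (Cfsg.pCore 2 (closure (A ∪ {f}))).Normal).conj_mem p hp1 q
      have h2 : p * (q * p * q⁻¹) ∈ Cfsg.pCore 2 (closure (A ∪ {f})) := mul_mem hp1 h1
      have h3 := hodd p (q * p * q⁻¹) hp (by simpa using h.conj _ hp (q : G)) h2
      refine (GenA.OddTransp.comm_conj_self h.toOT hq hp ?_).symm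
      simpa [h.toOT.inv hq] using h3
    exact haf (h.trans a haD p hp f hf (key ⟨a, haU⟩ haD).symm (key ⟨f, hfU⟩ hf))
  have h1 : z * y * z⁻¹ * y ∈ Cfsg.pCore 2 (closure (A ∪ {f})) := by
    have := mul_mem hz ((inferInstance : (Cfsg.pCore 2 (closure (A ∪ {f}))).Normal).conj_mem _
      (inv_mem hz) y)
    have e : z * (y * z⁻¹ * y⁻¹) = z * y * z⁻¹ * y := by
      rw [show (y⁻¹ : closure (A ∪ {f})) = y from Subtype.ext (by simpa using h.toOT.inv hy)]
      simp only [mul_assoc]
    rwa [e] at this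
  have hzy : ((z * y * z⁻¹ : closure (A ∪ {f})) : G) ∈ D := by simpa using h.conj _ hy (z : G)
  have h2 := hodd (z * y * z⁻¹) y hzy hy h1
  by_cases he : ((z * y * z⁻¹ : closure (A ∪ {f})) : G) = y
  · exact mul_inv_eq_iff_eq_mul.1 (Subtype.ext he)
  · exact absurd h1 (hnone (z * y * z⁻¹ * y) (by simpa using h.prod _ hzy _ hy h2 he))

include hB hbA hab hne

/-- **Proper subgroups of a class and a member**: a midpoint, or a Suzuki group. -/
theorem sub_class : h.HasMid ∨
    Cfsg.Lie.IsoSuzuki (closure (A ∪ {f}) ⧸ Cfsg.pCore 2 (closure (A ∪ {f}))) := by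
  classical
  set U := closure (A ∪ {f}) with hU
  set D' : Set U := {y | (y : G) ∈ D} with hD'
  have haD := (hA a haA).1
  have haU : a ∈ U := subset_closure (Or.inl haA)
  have hbU : b ∈ U := subset_closure (Or.inl hbA)
  have hfU : f ∈ U := subset_closure (Or.inr rfl)
  have hot' : OT D' := by
    refine ⟨fun y hy => ?_, fun y hy g => ?_, fun p hp q hq => ?_⟩
    · rw [← Subgroup.orderOf_coe]; exact h.ord _ hy
    · show ((g * y * g⁻¹ : U) : G) ∈ D
      simpa using h.conj _ hy (g : G)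
    · rcases h.pair _ hp _ hq with h1 | h1
      · exact Or.inl (Subtype.ext h1)
      · exact Or.inr (by rw [← Subgroup.orderOf_coe]; simpa using h1)
  have hA' : U.subtype ⁻¹' A ⊆ sameCls D' ⟨a, haU⟩ := fun p hp =>
    ⟨(hA _ hp).1, fun y hy =>
      ⟨fun hc => Subtype.ext (h.trans a haD _ (hA _ hp).1 _ hy (hA _ hp).2 (congrArg Subtype.val hc)),
       fun hc => Subtype.ext (h.trans _ (hA _ hp).1 a haD _ hy (hA _ hp).2.symm
          (congrArg Subtype.val hc))⟩⟩
  have hgen' : closure (U.subtype ⁻¹' A ∪ {⟨f, hfU⟩}) = ⊤ := by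
    have h1 : (U.subtype ⁻¹' A ∪ {⟨f, hfU⟩}) = ((↑) : U → G) ⁻¹' (A ∪ {f}) := by
      ext p; simp [Subtype.ext_iff]
    rw [h1]
    exact closure_closure_coe_preimage
  have hcard : Nat.card U < Nat.card G := by
    refine lt_of_le_of_ne (card_le_card_group U) fun he => hne ?_
    exact eq_top_of_card_eq U he
  have hmain : ∀ (H : Type u) [Group H] [Finite H], Nat.card H ≤ Nat.card U → Main H :=
    fun H _ _ hH => hB H (lt_of_le_of_lt hH hcard)
  rcases concl_or_dihedral hot' (d := ⟨a, haU⟩) (x := ⟨f, hfU⟩) haD (show a ∈ A from haA) hA'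
    (show f ∈ D from hf) (fun hc => haf (congrArg Subtype.val hc)) hgen' hmain with
    (⟨F, hFf, hFt, hF2, hF4, ⟨e⟩⟩ | hsz) | ⟨n, ⟨e⟩⟩
  · left
    set π : U →* U ⧸ Cfsg.pCore 2 U := QuotientGroup.mk' _ with hπ
    set ψ := e.toMonoidHom.comp π with hψ
    have hψs : Function.Surjective ψ := e.surjective.comp (QuotientGroup.mk'_surjective _)
    have hψ1 : ∀ y : U, ψ y = 1 → y ∈ Cfsg.pCore 2 U := fun y hy =>
      (QuotientGroup.eq_one_iff y).1 (e.map_eq_one_iff.1 hy)
    obtain ⟨p', hp', q', hq', h3⟩ := psl_two_three (ψ '' D')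
      (fun y hy g => by
        obtain ⟨y, hy, rfl⟩ := hy
        obtain ⟨g, rfl⟩ := hψs g
        exact ⟨g * y * g⁻¹, hot'.conj y hy g, by simp⟩)
      (Set.mem_image_of_mem ψ (show (⟨a, haU⟩ : U) ∈ D' from haD))
      (orderOf_eq_prime (by rw [← map_pow, pow_two, hot'.sq haD, map_one]) fun h1 =>
        haf (congrArg Subtype.val (sub_core_commute h haA hA hf haf (hψ1 _ h1)
          (y := ⟨f, hfU⟩) hf)))
    obtain ⟨p, hp, rfl⟩ := hp'
    obtain ⟨q, hq, rfl⟩ := hq'
    have hnc : ¬ Commute p q := by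
      intro hc
      have h2 : orderOf (ψ p * ψ q) ∣ 2 := orderOf_dvd_of_pow_eq_one (by
        rw [← map_mul, ← map_pow, hc.mul_pow, pow_two, pow_two, hot'.sq hp, hot'.sq hq, one_mul,
          map_one])
      rw [h3] at h2
      norm_num at h2
    have hodd := (h.pair _ hp _ hq).resolve_left fun hc => hnc (Subtype.ext hc)
    have h4 : (p * q) ^ 3 ∈ Cfsg.pCore 2 U :=
      hψ1 _ (by rw [map_pow, map_mul, ← h3, pow_orderOf_eq_one])
    obtain ⟨k, hk⟩ := Cores.pCore_isPGroup (G := U) 2 ⟨_, h4⟩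
    have hk' : (((p : G) * q) ^ 3) ^ 2 ^ k = 1 := by
      have := congrArg (fun w : Cfsg.pCore 2 U => ((w : U) : G)) hk
      simpa using this
    have h5 : ((p : G) * q) ^ 3 = 1 :=
      RootInvolutions.Basic.eq_one_of_odd (hodd.of_dvd_nat (orderOf_pow_dvd 3)) hk'
    refine h.hasMid_of_three hp hq ?_
    haveI : Fact (Nat.Prime 3) := ⟨Nat.prime_three⟩
    refine orderOf_eq_prime h5 fun h6 => hnc ?_
    rw [eq_inv_of_mul_eq_one_left (Subtype.ext h6 : p * q = 1)]
    exact (Commute.refl q).inv_left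
  · exact Or.inr hsz
  · exfalso
    set π : U →* U ⧸ Cfsg.pCore 2 U := QuotientGroup.mk' _ with hπ
    set ψ := e.toMonoidHom.comp π with hψ
    have hψ1 : ∀ y : U, ψ y = 1 → y ∈ Cfsg.pCore 2 U := fun y hy =>
      (QuotientGroup.eq_one_iff y).1 (e.map_eq_one_iff.1 hy)
    -- no involution among the rotations
    have hrot : ∀ (i : ZMod n) (y : U), (y : G) ∈ D → Commute a (y : G) →
        ψ y ≠ DihedralGroup.r i := by
      intro i y hy hay hyi
      have hsq : DihedralGroup.r i * DihedralGroup.r i = 1 := by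
        rw [← hyi, ← map_mul, Subtype.ext (h.sq hy) (a1 := y * y) (a2 := (1 : U)), map_one]
      have hc := dihedral_rot_central hsq
      rw [← hyi] at hc
      have hcom : Commute (ψ y) (ψ ⟨f, hfU⟩) := (mem_center_iff.1 hc _).symm
      have h1 : y * ⟨f, hfU⟩ * y⁻¹ * (⟨f, hfU⟩ : U)⁻¹ ∈ Cfsg.pCore 2 U := hψ1 _ (by
        rw [map_mul, map_mul, map_mul, map_inv, map_inv, hcom.eq, mul_inv_cancel_right,
          mul_inv_cancel])
      obtain ⟨k, hk⟩ := Cores.pCore_isPGroup (G := U) 2 ⟨_, h1⟩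
      have hk' : (((y : G) * f) ^ 2) ^ 2 ^ k = 1 := by
        have := congrArg (fun w : Cfsg.pCore 2 U => ((w : U) : G)) hk
        simp only [SubgroupClass.coe_pow] at this
        rw [pow_two]
        simpa [h.toOT.inv hy, h.toOT.inv hf, mul_assoc] using this
      rcases h.pair _ hy _ hf with h2 | h2
      · exact haf (h.trans a haD _ hy f hf hay h2)
      · have h3 : (y : G) * f = 1 := by
          refine RootInvolutions.Basic.eq_one_of_odd h2 (n := k + 1) ?_
          rw [pow_succ', pow_mul]; exact hk'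
        exact haf (by rw [← h.toOT.inv hf, ← eq_inv_of_mul_eq_one_left h3]; exact hay)
    rcases hca : ψ ⟨a, haU⟩ with i | i
    · exact hrot i _ haD (Commute.refl a) hca
    rcases hcb : ψ ⟨b, hbU⟩ with j | j
    · exact hrot j _ (hA b hbA).1 (hA b hbA).2 hcb
    have hD1 : ((⟨a, haU⟩ * ⟨b, hbU⟩ : U) : G) ∈ D :=
      h.prod a haD b (hA b hbA).1 (hA b hbA).2 fun he => hab he.symm
    refine hrot (j - i) (⟨a, haU⟩ * ⟨b, hbU⟩) hD1 ((Commute.refl a).mul_right (hA b hbA).2) ?_
    rw [map_mul, hca, hcb, DihedralGroup.sr_mul_sr]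

end sub

end Cfsg.Agent.OddTranspX
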