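import Cfsg.Agent.Lib.OddTranspX.SubClass

/-!
# Classes with a semilinear torus: the recursive setting

`TorusBase h q e`: classes of order `q`, doubly transitive, no midpoint, and the stabiliser of two
classes is `C W` with `C` cyclic of order `q - 1`, semiregular outside the two classes and inverted
by the swappers, and `W` the centraliser of a swapper, cyclic of order `e`, acting on a class with
the fixed points of a field automorphism.  No generation by a pair is assumed, so the setting passes
to the group of the members centralised by an element of `W` (`SubU`).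
-/

set_option autoImplicit false

namespace Cfsg.Agent.OddTranspX

open Subgroup MulAction

universe u

variable {G : Type u} [Group G] {D : Set G}

/-- The recursive setting. -/
structure ClassGroups.TorusBase (h : ClassGroups D) (q e : ℕ) : Prop where
  gen : Subgroup.closure D = ⊤
  core : ∀ N : Subgroup G, N.Normal → IsPGroup 2 N → N = ⊥
  center_bot : Subgroup.center G = ⊥
  four_le : 4 ≤ q
  card_grp : ∀ E : h.Pt, Nat.card (h.grp E) = q
  nontrivial : ∃ E X : h.Pt, E ≠ X
  two : h.TwoTrans
  no_mid : ¬ h.HasMid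
  faithful : ∀ E X : h.Pt, E ≠ X → ∀ k ∈ h.pairStab E X,
    (∀ v ∈ h.grp E, k * v * k⁻¹ = v) → k = 1
  card_pairStab : ∀ E X : h.Pt, E ≠ X → Nat.card (h.pairStab E X) = (q - 1) * e
  torus_part : ∀ E X : h.Pt, E ≠ X → ∃ C : Subgroup G, C ≤ h.pairStab E X ∧ IsCyclic C ∧
    Nat.card C = q - 1 ∧ (∀ k ∈ h.pairStab E X, ∀ c ∈ C, k * c * k⁻¹ ∈ C) ∧
    (∀ c ∈ C, c ≠ 1 → ∀ v ∈ h.grp E, v ≠ 1 → c * v * c⁻¹ ≠ v) ∧
    (∀ c ∈ C, c ≠ 1 → ∀ A : h.Pt, c • A = A → A = E ∨ A = X) ∧
    (∀ m ∈ h.swappers E X, ∀ c ∈ C, m * c * m = c⁻¹)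
  field_cyclic : ∀ E X : h.Pt, E ≠ X → ∀ m ∈ h.swappers E X,
    IsCyclic ↥(h.pairStab E X ⊓ Subgroup.centralizer {m}) ∧
      Nat.card ↥(h.pairStab E X ⊓ Subgroup.centralizer {m}) = e
  field_fixed : ∀ E X : h.Pt, E ≠ X → ∀ m ∈ h.swappers E X,
    ∀ k ∈ h.pairStab E X ⊓ Subgroup.centralizer {m},
      Nat.card ↥(h.grp E ⊓ Subgroup.centralizer {k}) ^ orderOf k = q

/-- The recursive setting with two-class stabilisers of odd order. -/
def ClassGroups.Torus (h : ClassGroups D) (q e : ℕ) : Prop := h.TorusBase q e ∧ Odd e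

/-- What is proved about the recursive setting by induction on the order. -/
def TorusMain (G : Type u) [Group G] : Prop :=
  ∀ (D : Set G) (h : ClassGroups D) (q e : ℕ), h.Torus q e → Cfsg.Lie.IsoSuzuki G

/-- The induction hypothesis of the recursive setting. -/
def TorusBelow (G : Type u) [Group G] : Prop :=
  ∀ (H : Type u) [Group H] [Finite H], Nat.card H < Nat.card G → TorusMain H

/-- The group generated by the members commuting with `w`. -/
def centMembers (D : Set G) (w : G) : Subgroup G :=
  Subgroup.closure {y | y ∈ D ∧ Commute w y}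

/-- Its central quotient. -/
abbrev SubU (D : Set G) (w : G) : Type u :=
  ↥(centMembers D w) ⧸ Subgroup.center ↥(centMembers D w)

/-- The images of the members in `SubU`. -/
def subD (D : Set G) (w : G) : Set (SubU D w) :=
  QuotientGroup.mk' (Subgroup.center ↥(centMembers D w)) '' {y | (y : G) ∈ D}

/-- Two-class stabilisers are odd exactly when `e` is. -/
theorem ClassGroups.TorusBase.oddPair {h : ClassGroups D} {q e : ℕ} (hT : h.TorusBase q e)
    (hq : Even q) (he : Odd e) : h.OddPair := fun E X hEX => by
  rw [hT.card_pairStab E X hEX]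
  exact (Nat.Even.sub_odd (by have := hT.four_le; omega) hq odd_one).mul he

end Cfsg.Agent.OddTranspX
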