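import Cfsg.Agent.Lib.OddTranspX.SemiField
import Cfsg.Agent.Lib.OddTranspX.Center
import Cfsg.Agent.Lib.OddTranspX.OddPair
import Cfsg.Agent.Lib.CharP.Zsigmondy

/-!
# Kernels of pair stabilisers and their linear parts

Without a midpoint the classes have order `2 ^ n`, `n` odd.  For a primitive prime `p` of `2 ^ n - 1`
the elements of order `p` are linear on every class they fix.  If `b` centralises `E` then
`b * (m * b * m)` is centralised by the swapper `m`, so it centralises the class of `m`, so `b = 1`.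
-/

set_option autoImplicit false
set_option linter.style.haveILetI false
set_option linter.unusedSectionVars false

namespace Cfsg.Agent.OddTranspX

open Subgroup MulAction

universe u

variable {G : Type u} [Group G] [Finite G] {D : Set G}

/-- The facts about classes used for the torus. -/
structure TorusHyp (h : ClassGroups D) (n p : ℕ) : Prop where
  oddPair : h.OddPair
  eq_one : ∀ (E : h.Pt) (z f : G) (hf : f ∈ D), h.pt f hf ≠ E →
    (∀ v ∈ h.grp E, z * v * z⁻¹ = v) → Commute z f → z = 1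
  n_odd : Odd n
  n_three : 3 ≤ n
  card_grp : ∀ E : h.Pt, Nat.card (h.grp E) = 2 ^ n
  prime : p.Prime
  dvd : p ∣ 2 ^ n - 1
  primitive : ∀ k, 0 < k → k < n → ¬ p ∣ 2 ^ k - 1

/-- A primitive prime does not divide the exponent. -/
theorem primitive_not_dvd {p n : ℕ} (hp : p.Prime) (hn : 0 < n) (hd : p ∣ 2 ^ n - 1)
    (hprim : ∀ k, 0 < k → k < n → ¬ p ∣ 2 ^ k - 1) : ¬ p ∣ n := by
  rintro ⟨c, rfl⟩
  haveI : Fact p.Prime := ⟨hp⟩
  have hc : 0 < c := Nat.pos_of_mul_pos_left hn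
  refine hprim c hc (lt_mul_of_one_lt_left hc hp.one_lt) ?_
  rw [← ZMod.natCast_eq_zero_iff, Nat.cast_sub Nat.one_le_two_pow] at hd ⊢
  push_cast at hd ⊢
  rwa [mul_comm, pow_mul, ZMod.pow_card] at hd

/-- An element of a pair stabiliser whose square commutes commutes. -/
theorem commute_of_sq {x g : G} (hodd : Odd (orderOf x)) (h2 : Commute (x ^ 2) g) : Commute x g := by
  obtain ⟨l, hl⟩ := hodd
  have h1 : x = (x ^ 2) ^ (l + 1) := by
    rw [← pow_mul, show 2 * (l + 1) = orderOf x + 1 by omega, pow_succ, pow_orderOf_eq_one, one_mul]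
  rw [h1]
  exact h2.pow_left _

variable {h : ClassGroups D} {n p : ℕ} (T : TorusHyp h n p)
include T

theorem TorusHyp.semi {E X : h.Pt} (hEX : E ≠ X) : Nonempty (Semi h E X) :=
  exists_semi h hEX (T.oddPair E X hEX)

theorem TorusHyp.two_le_p : p ≠ 2 := by
  intro h2
  have h1 := T.dvd
  rw [h2] at h1
  have : Even (2 ^ n) := Nat.even_pow.2 ⟨even_two, by have := T.n_three; omega⟩
  have := Nat.one_le_two_pow (n := n)
  obtain ⟨a, ha⟩ := ‹Even (2 ^ n)›
  omega

/-- A fixed member gives a fixed vector. -/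
theorem TorusHyp.act_eq {E X : h.Pt} {k : h.pairStab E X} {v : h.grp E}
    (hc : Commute (k : G) v) : h.act k v = v := Subtype.ext (mul_inv_eq_iff_eq_mul.2 hc.eq)

/-- An element centralising two classes is trivial. -/
theorem TorusHyp.eq_one_of_two {E X : h.Pt} (hEX : E ≠ X) {z : G}
    (hE : ∀ v ∈ h.grp E, z * v * z⁻¹ = v) (hX : ∀ v ∈ h.grp X, z * v * z⁻¹ = v) : z = 1 := by
  obtain ⟨f, hf, hfX⟩ := h.exists_pt X
  exact T.eq_one E z f hf (by rw [hfX]; exact hEX.symm) hE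
    (mul_inv_eq_iff_eq_mul.1 (hX f (hfX ▸ h.self_mem_grp hf)))

/-- An automorphism of prime order divides the exponent. -/
theorem TorusHyp.aut_eq_one_of_pow {E X : h.Pt} (S : Semi h E X) {k : h.pairStab E X}
    (hk : k ^ p = 1) : S.aut k = 1 := by
  haveI : Fact p.Prime := ⟨T.prime⟩
  by_contra hne
  have hord : orderOf (S.aut k) = p :=
    orderOf_eq_prime (by rw [← S.aut_pow, hk, S.aut_one]) hne
  have hcard := S.card_fixed (S.aut k)
  rw [hord, S.card_F, T.card_grp] at hcard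
  obtain ⟨d, -, hd⟩ := (Nat.dvd_prime_pow Nat.prime_two).1
    (hcard ▸ dvd_pow_self _ T.prime.ne_zero)
  rw [hd, ← pow_mul] at hcard
  exact primitive_not_dvd T.prime (by have := T.n_three; omega) T.dvd T.primitive
    ⟨d, by rw [mul_comm]; exact (Nat.pow_right_injective le_rfl hcard).symm⟩

/-- An automorphism fixing an element of order `p` is trivial. -/
theorem TorusHyp.aut_eq_one_of_fix {E X : h.Pt} (S : Semi h E X) {σ : RingAut S.F} {ζ : S.F}
    (hζ : ζ ^ p = 1) (hζ1 : ζ ≠ 1) (hfix : σ ζ = ζ) : σ = 1 := by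
  classical
  haveI : Fact p.Prime := ⟨T.prime⟩
  have hcard := S.card_fixed σ
  rw [S.card_F, T.card_grp] at hcard
  haveI : Finite {x : S.F // σ x = x} := Subtype.finite
  have hpos : 0 < orderOf σ := (IsOfFinOrder.orderOf_pos (isOfFinOrder_of_finite σ))
  obtain ⟨d, -, hd⟩ := (Nat.dvd_prime_pow Nat.prime_two).1
    (hcard ▸ dvd_pow_self _ hpos.ne')
  have hζ0 : ζ ≠ 0 := fun h0 => by rw [h0, zero_pow T.prime.ne_zero] at hζ; exact zero_ne_one hζ
  let K₀ : Subfield S.F := RingHom.eqLocusField σ.toRingHom (RingHom.id S.F)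
  haveI : Fintype K₀ := Fintype.ofFinite _
  have hK₀ : Nat.card K₀ = 2 ^ d := hd ▸ Nat.card_congr (Equiv.subtypeEquivRight fun x => Iff.rfl)
  let z : K₀ := ⟨ζ, hfix⟩
  have hz : orderOf z = p := orderOf_eq_prime (Subtype.ext hζ) fun h1 => hζ1 (congrArg Subtype.val h1)
  have hdvd : p ∣ 2 ^ d - 1 := by
    rw [← hz, ← hK₀, Nat.card_eq_fintype_card]
    exact orderOf_dvd_of_pow_eq_one (FiniteField.pow_card_sub_one_eq_one z
      fun h0 => hζ0 (congrArg Subtype.val h0))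
  rw [hd, ← pow_mul] at hcard
  have hdn : d * orderOf σ = n := Nat.pow_right_injective le_rfl hcard
  have hd0 : 0 < d := Nat.pos_of_ne_zero fun h0 => by
    rw [h0, zero_mul] at hdn; have := T.n_three; omega
  refine orderOf_eq_one_iff.1 ?_
  by_contra hne
  exact T.primitive d hd0 (hdn ▸ lt_mul_of_one_lt_right hd0 (by omega)) hdvd

/-- An element centralising `E` equals one if the product with its swapped image centralises the
class of the swapper. -/
theorem TorusHyp.kernel_of_mid {E X : h.Pt} (hEX : E ≠ X) {b : G} (hb : b ∈ h.pairStab E X)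
    (hbE : ∀ v ∈ h.grp E, b * v * b⁻¹ = v) {m : G} (hm : m ∈ h.swappers E X)
    (hmid : ∀ v ∈ h.grp (h.pt m hm.1), b * (m * b * m) * v * (b * (m * b * m))⁻¹ = v) : b = 1 := by
  obtain ⟨hb1, hb2⟩ := h.mem_pairStab.1 hb
  have hmm := h.sq hm.1
  have hmi := h.toOT.inv hm.1
  set b' := m * b * m with hb'
  have hb'X : ∀ v ∈ h.grp X, b' * v * b'⁻¹ = v := by
    intro v hv
    have hv' : m * v * m⁻¹ ∈ h.grp E := h.swapper_back hm ▸ h.grp_conj hv
    calc b' * v * b'⁻¹ = m * (b * (m * v * m⁻¹) * b⁻¹) * m⁻¹ := by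
          rw [hb', mul_inv_rev, mul_inv_rev, hmi]; group
      _ = m * (m * v * m⁻¹) * m⁻¹ := by rw [hbE _ hv']
      _ = v := by rw [hmi, GenA.OddTransp.conj_conj hmm]
  have hb'K : b' • E = E ∧ b' • X = X := by
    rw [hb', mul_smul, mul_smul, hm.2, hb2, h.swapper_back hm, mul_smul, mul_smul, h.swapper_back hm,
      hb1, hm.2]
    exact ⟨rfl, rfl⟩
  have hcomm : Commute b b' := by
    have h1 : b * b' * b⁻¹ * b'⁻¹ = 1 := by
      refine T.eq_one_of_two hEX (fun v hv => ?_) (fun v hv => ?_)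
      · have hv1 : b'⁻¹ * v * b'⁻¹⁻¹ ∈ h.grp E :=
          h.grp_conj_fix (inv_smul_eq_iff.2 hb'K.1.symm) hv
        have e1 : b⁻¹ * (b'⁻¹ * v * b'⁻¹⁻¹) * b⁻¹⁻¹ = b'⁻¹ * v * b'⁻¹⁻¹ := by
          nth_rewrite 1 [← hbE _ hv1]; group
        calc b * b' * b⁻¹ * b'⁻¹ * v * (b * b' * b⁻¹ * b'⁻¹)⁻¹
            = b * b' * (b⁻¹ * (b'⁻¹ * v * b'⁻¹⁻¹) * b⁻¹⁻¹) * b'⁻¹ * b⁻¹ := by group
          _ = b * v * b⁻¹ := by rw [e1]; group
          _ = v := hbE v hv
      · have hv1 : b'⁻¹ * v * b'⁻¹⁻¹ = v := by nth_rewrite 1 [← hb'X v hv]; group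
        have hv2 : b⁻¹ * v * b⁻¹⁻¹ ∈ h.grp X :=
          h.grp_conj_fix (inv_smul_eq_iff.2 hb2.symm) hv
        calc b * b' * b⁻¹ * b'⁻¹ * v * (b * b' * b⁻¹ * b'⁻¹)⁻¹
            = b * (b' * (b⁻¹ * (b'⁻¹ * v * b'⁻¹⁻¹) * b⁻¹⁻¹) * b'⁻¹) * b⁻¹ := by group
          _ = b * (b' * (b⁻¹ * v * b⁻¹⁻¹) * b'⁻¹) * b⁻¹ := by rw [hv1]
          _ = v := by rw [hb'X _ hv2]; group
    exact mul_inv_eq_iff_eq_mul.1 (mul_inv_eq_one.1 h1)
  set w := b * b' with hw
  by_cases hw1 : w = 1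
  · refine T.eq_one_of_two hEX hbE fun v hv => ?_
    rw [eq_inv_of_mul_eq_one_left hw1, inv_inv]
    nth_rewrite 1 [← hb'X v hv]
    group
  set A := h.pt m hm.1 with hA
  have hin : ∀ (y : G) (hy : y ∈ D), Commute w y → h.pt y hy = A := fun y hy hc => by
    by_contra hne
    exact hw1 (T.eq_one A w y hy hne hmid hc)
  have hwm : Commute w m := mul_inv_eq_iff_eq_mul.1 (hmid m (h.self_mem_grp hm.1))
  have hwb : Commute w b := (Commute.refl b).mul_left hcomm.symm
  have hbm : h.pt (b * m * b⁻¹) (h.conj m hm.1 b) = A :=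
    hin _ _ ((hwb.mul_right hwm).mul_right hwb.inv_right)
  have heq := h.swapper_eq_of_commute hEX (h.swapper_conj hb1 hb2 hm) hm (h.pt_eq_iff.1 hbm)
  have hbb : b' = b := by
    rw [hb', ← mul_inv_eq_iff_eq_mul.1 heq |>.trans rfl, mul_assoc, hmm, mul_one]
  exact T.eq_one_of_two hEX hbE fun v hv => hbb ▸ hb'X v hv

/-- No element of order `p` centralises a class. -/
theorem TorusHyp.kernel_p {E X : h.Pt} (hEX : E ≠ X) {b : G} (hb : b ∈ h.pairStab E X)
    (hbE : ∀ v ∈ h.grp E, b * v * b⁻¹ = v) (hbp : b ^ p = 1) : b = 1 := by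
  obtain ⟨e, he, heE⟩ := h.exists_pt E
  obtain ⟨x, hx, hxX⟩ := h.exists_pt X
  obtain ⟨m, hm, -⟩ := h.exists_swapper heE hxX hEX
  refine T.kernel_of_mid hEX hb hbE hm ?_
  obtain ⟨hb1, hb2⟩ := h.mem_pairStab.1 hb
  have hmm := h.sq hm.1
  have hmi := h.toOT.inv hm.1
  set b' := m * b * m with hb'
  have hb'K : b' ∈ h.pairStab E X := h.mem_pairStab.2 (by
    rw [hb', mul_smul, mul_smul, hm.2, hb2, h.swapper_back hm, mul_smul, mul_smul, h.swapper_back hm,
      hb1, hm.2]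
    exact ⟨rfl, rfl⟩)
  have hcomm : Commute b b' := by
    obtain ⟨S⟩ := T.semi hEX
    obtain ⟨S'⟩ := T.semi hEX.symm
    have hb'p : b' ^ p = 1 := by
      rw [hb']; nth_rewrite 2 [← hmi]; rw [conj_pow, hbp, mul_one, mul_inv_cancel]
    have key : ∀ {A B : h.Pt} (S : Semi h A B) (k l : h.pairStab A B), k ^ p = 1 → l ^ p = 1 →
        ∀ v ∈ h.grp A, ((k * l * k⁻¹ * l⁻¹ : h.pairStab A B) : G) * v *
          ((k * l * k⁻¹ * l⁻¹ : h.pairStab A B) : G)⁻¹ = v := by
      intro A B S k l hk hl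
      refine (S.coef_aut_eq_one_iff _).1 ?_
      have hk1 := T.aut_eq_one_of_pow S hk
      have hl1 := T.aut_eq_one_of_pow S hl
      have hk2 : S.aut k⁻¹ = 1 := T.aut_eq_one_of_pow S (by rw [inv_pow, hk, inv_one])
      have hkl : S.aut (k * l) = 1 := by rw [(S.mul _ _).2, hk1, hl1, one_mul]
      have hklk : S.aut (k * l * k⁻¹) = 1 := by rw [(S.mul _ _).2, hkl, hk2, one_mul]
      have hc : S.coef k * S.coef k⁻¹ = 1 := by
        rw [← S.coef_mul_of_lin hk1, mul_inv_cancel, S.coef_one]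
      have hc' : S.coef l * S.coef l⁻¹ = 1 := by
        rw [← S.coef_mul_of_lin hl1, mul_inv_cancel, S.coef_one]
      refine ⟨?_, by rw [(S.mul _ _).2, hklk, one_mul,
        T.aut_eq_one_of_pow S (by rw [inv_pow, hl, inv_one])]⟩
      rw [S.coef_mul_of_lin hklk, S.coef_mul_of_lin hkl, S.coef_mul_of_lin hk1]
      linear_combination (S.coef l * S.coef l⁻¹) * hc + hc'
    have hXb : b ∈ h.pairStab X E := h.pairStab_comm E X ▸ hb
    have hXb' : b' ∈ h.pairStab X E := h.pairStab_comm E X ▸ hb'K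
    have h1 : b * b' * b⁻¹ * b'⁻¹ = 1 := T.eq_one_of_two hEX
      (key S ⟨b, hb⟩ ⟨b', hb'K⟩ (Subtype.ext hbp) (Subtype.ext hb'p))
      (key S' ⟨b, hXb⟩ ⟨b', hXb'⟩ (Subtype.ext hbp) (Subtype.ext hb'p))
    exact mul_inv_eq_iff_eq_mul.1 (mul_inv_eq_one.1 h1)
  set A := h.pt m hm.1 with hA
  have hAE : A ≠ E := fun h1 => hEX (by rw [← hm.2, ← h1, hA, h.smul_self hm.1])
  set w := b * b' with hw
  have hwm : Commute w m := by
    show b * (m * b * m) * m = m * (b * (m * b * m))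
    calc b * (m * b * m) * m = b * (m * b) * (m * m) := by group
      _ = m * m * b * m * b := by rw [hmm]; group
      _ = m * (b' * b) := by rw [hb']; group
      _ = m * (b * b') := by rw [hcomm.eq]
  have hwp : w ^ p = 1 := by
    rw [hw, hcomm.mul_pow, hbp, one_mul, hb']
    nth_rewrite 2 [← hmi]
    rw [conj_pow, hbp, mul_one, mul_inv_cancel]
  have hwA : w • A = A := by
    rw [hA, h.smul_pt]
    exact h.pt_eq_iff.2 (by rw [hwm.eq, mul_inv_cancel_right])
  have hwE : w • E = E := by rw [hw, mul_smul, (h.mem_pairStab.1 hb'K).1, hb1]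
  obtain ⟨SA⟩ := T.semi hAE
  set wk : h.pairStab A E := ⟨w, h.mem_pairStab.2 ⟨hwA, hwE⟩⟩
  exact SA.centralize_of_lin_fix (k := wk) (T.aut_eq_one_of_pow SA (Subtype.ext hwp))
    (v := ⟨m, h.self_mem_grp hm.1⟩) (fun h1 => h.toOT.ne_one hm.1 (congrArg Subtype.val h1))
    (T.act_eq hwm)

theorem TorusHyp.exists_elem {E X : h.Pt} (hEX : E ≠ X) :
    ∃ y : h.pairStab E X, orderOf y = p := by
  classical
  haveI : Fact p.Prime := ⟨T.prime⟩
  obtain ⟨S⟩ := T.semi hEX
  obtain ⟨v₁, hv₁⟩ := S.bij.2 1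
  have hv₁1 : v₁ ≠ 1 := fun h1 => one_ne_zero (by rw [← hv₁, h1, S.φ_one] : (1 : S.F) = 0)
  let T₁ : Subgroup (h.pairStab E X) :=
    { carrier := {k | S.coef k = 1}
      one_mem' := S.coef_one
      mul_mem' := fun {k l} hk hl => by
        show S.coef (k * l) = 1
        rw [(S.mul k l).1, show S.coef k = 1 from hk, show S.coef l = 1 from hl, map_one, one_mul]
      inv_mem' := fun {k} hk => by
        show S.coef k⁻¹ = 1
        have h1 := (S.mul k⁻¹ k).1
        rw [inv_mul_cancel, S.coef_one, show S.coef k = 1 from hk, map_one, mul_one] at h1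
        exact h1.symm }
  have hrel : ∀ k l : h.pairStab E X, k⁻¹ * l ∈ T₁ ↔ S.coef l = S.coef k := by
    intro k l
    show S.coef (k⁻¹ * l) = 1 ↔ _
    have h1 := (S.mul k (k⁻¹ * l)).1
    rw [mul_inv_cancel_left] at h1
    constructor
    · intro h2; rw [h1, h2, map_one, mul_one]
    · intro h2
      rw [h2, left_eq_mul₀ (S.coef_ne_zero k)] at h1
      exact (S.aut k).injective (h1.trans (map_one _).symm)
  let f : h.pairStab E X ⧸ T₁ → {x : S.F // x ≠ 0} := Quotient.lift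
    (fun k => ⟨S.coef k, S.coef_ne_zero k⟩) fun k l hkl =>
      Subtype.ext ((hrel k l).1 (QuotientGroup.leftRel_apply.1 hkl)).symm
  have hbij : Function.Bijective f := by
    constructor
    · intro a b
      induction a using QuotientGroup.induction_on with | _ k =>
      induction b using QuotientGroup.induction_on with | _ l =>
      intro hab
      exact QuotientGroup.eq.2 ((hrel k l).2 (congrArg Subtype.val hab).symm)
    · rintro ⟨x, hx⟩
      obtain ⟨w, hw⟩ := S.bij.2 x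
      obtain ⟨k, hkE, hkX, hk⟩ := h.exists_fix_conj hEX v₁.2
        (fun h1 => hv₁1 (Subtype.ext h1)) w.2
        (fun h1 => hx (by rw [← hw, show w = 1 from Subtype.ext h1, S.φ_one]))
      refine ⟨QuotientGroup.mk (⟨k, h.mem_pairStab.2 ⟨hkE, hkX⟩⟩ : h.pairStab E X), Subtype.ext ?_⟩
      show S.coef _ = x
      have h1 := S.spec ⟨k, h.mem_pairStab.2 ⟨hkE, hkX⟩⟩ v₁
      rw [hv₁, map_one, mul_one, show h.act ⟨k, h.mem_pairStab.2 ⟨hkE, hkX⟩⟩ v₁ = w from Subtype.ext hk,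
        hw] at h1
      exact h1.symm
  have hcard : 2 ^ n - 1 ∣ Nat.card (h.pairStab E X) := by
    refine ⟨Nat.card T₁, ?_⟩
    rw [Subgroup.card_eq_card_quotient_mul_card_subgroup T₁, Nat.card_eq_of_bijective f hbij]
    congr 1
    haveI := Fintype.ofFinite S.F
    rw [Nat.card_eq_fintype_card, Fintype.card_subtype_compl, Fintype.card_subtype_eq,
      ← Nat.card_eq_fintype_card, S.card_F, T.card_grp]
  exact exists_prime_orderOf_dvd_card' p (T.dvd.trans hcard)

/-- An element of order `p` acts as a scalar other than one. -/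
theorem TorusHyp.coef_ne_one {E X : h.Pt} (hEX : E ≠ X) (S : Semi h E X) {y : h.pairStab E X}
    (hy : orderOf y = p) : S.coef y ≠ 1 := by
  intro h1
  have hyp : y ^ p = 1 := hy ▸ pow_orderOf_eq_one y
  have := T.kernel_p hEX y.2 ((S.coef_aut_eq_one_iff y).1 ⟨h1, T.aut_eq_one_of_pow S hyp⟩)
    (congrArg Subtype.val hyp)
  rw [← Subgroup.orderOf_coe, this, orderOf_one] at hy
  exact T.prime.one_lt.ne hy

/-- **The linear elements are those commuting with an element of order `p`.** -/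
theorem TorusHyp.lin_iff {E X : h.Pt} (hEX : E ≠ X) (S : Semi h E X) {y : h.pairStab E X}
    (hy : orderOf y = p) (k : h.pairStab E X) : S.aut k = 1 ↔ k * y = y * k := by
  haveI : Fact p.Prime := ⟨T.prime⟩
  have hyp : y ^ p = 1 := hy ▸ pow_orderOf_eq_one y
  have hy1 := T.aut_eq_one_of_pow S hyp
  refine ⟨fun hk => ?_, fun hk => ?_⟩
  swap
  · refine T.aut_eq_one_of_fix S (ζ := S.coef y) (by rw [← S.coef_pow_of_lin hy1, hyp, S.coef_one])
      (T.coef_ne_one hEX S hy) ?_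
    have h1 := (S.mul k y).1
    rw [hk, S.coef_mul_of_lin hy1, mul_comm] at h1
    exact (mul_left_cancel₀ (S.coef_ne_zero k) h1).symm
  obtain ⟨S'⟩ := T.semi hEX.symm
  set c := k * y * k⁻¹ * y⁻¹ with hc
  have hk' : S.aut k⁻¹ = 1 := by
    have := (S.mul k k⁻¹).2
    rwa [mul_inv_cancel, S.aut_one, hk, one_mul, eq_comm] at this
  have hy' : S.aut y⁻¹ = 1 := T.aut_eq_one_of_pow S (by rw [inv_pow, hyp, inv_one])
  have hky : S.aut (k * y) = 1 := by rw [(S.mul _ _).2, hk, hy1, one_mul]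
  have hkyk : S.aut (k * y * k⁻¹) = 1 := by rw [(S.mul _ _).2, hky, hk', one_mul]
  have hcE : ∀ v ∈ h.grp E, (c : G) * v * (c : G)⁻¹ = v := by
    refine (S.coef_aut_eq_one_iff c).1 ⟨?_, by rw [hc, (S.mul _ _).2, hkyk, hy', one_mul]⟩
    have e1 : S.coef k * S.coef k⁻¹ = 1 := by
      rw [← S.coef_mul_of_lin hk, mul_inv_cancel, S.coef_one]
    have e2 : S.coef y * S.coef y⁻¹ = 1 := by
      rw [← S.coef_mul_of_lin hy1, mul_inv_cancel, S.coef_one]
    rw [hc, S.coef_mul_of_lin hkyk, S.coef_mul_of_lin hky, S.coef_mul_of_lin hk]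
    linear_combination (S.coef y * S.coef y⁻¹) * e1 + e2
  let e : h.pairStab E X ≃* h.pairStab X E := MulEquiv.subgroupCongr (h.pairStab_comm E X)
  set y' := e y
  have hy'p : y' ^ p = 1 := by rw [← map_pow, hyp, map_one]
  have hy'1 := T.aut_eq_one_of_pow S' hy'p
  have hy'i : S'.aut (e y⁻¹) = 1 := T.aut_eq_one_of_pow S' (by rw [← map_pow, inv_pow, hyp, inv_one, map_one])
  have hconjp : (k * y * k⁻¹) ^ p = 1 := by rw [conj_pow, hyp, mul_one, mul_inv_cancel]
  have hconj1 : S'.aut (e (k * y * k⁻¹)) = 1 :=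
    T.aut_eq_one_of_pow S' (by rw [← map_pow, hconjp, map_one])
  have hc1 : S'.aut (e c) = 1 := by rw [hc, map_mul, (S'.mul _ _).2, hconj1, hy'i, one_mul]
  have hcp : S'.coef (e c) ^ p = 1 := by
    rw [hc, map_mul, S'.coef_mul_of_lin hconj1, mul_pow, ← S'.coef_pow_of_lin hconj1,
      ← S'.coef_pow_of_lin hy'i, ← map_pow, hconjp, ← map_pow, inv_pow, hyp, inv_one, map_one,
      S'.coef_one, one_mul]
  have hcop : ¬ p ∣ orderOf c := by
    rintro ⟨l, hl⟩
    have hl0 : 0 < l := Nat.pos_of_ne_zero fun h0 => by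
      rw [h0, mul_zero] at hl; exact (orderOf_pos c).ne' hl
    have h1 : ((c ^ l : h.pairStab E X) : G) = 1 := by
      refine T.kernel_p hEX (c ^ l).2 ?_ ?_
      · obtain ⟨h2, h3⟩ := (S.coef_aut_eq_one_iff c).2 hcE
        exact (S.coef_aut_eq_one_iff _).1 ⟨by rw [S.coef_pow_of_lin h3, h2, one_pow],
          by rw [S.aut_pow, h3, one_pow]⟩
      · rw [← SubgroupClass.coe_pow, ← pow_mul, mul_comm, ← hl, pow_orderOf_eq_one]; rfl
    have h2 : orderOf c ∣ l := orderOf_dvd_of_pow_eq_one (Subtype.ext h1)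
    rw [hl] at h2
    have := Nat.le_of_dvd hl0 h2
    have := T.prime.two_le
    nlinarith
  have hc0 : S'.coef (e c) = 1 := by
    have h1 : S'.coef (e c) ^ orderOf c = 1 := by
      rw [← S'.coef_pow_of_lin hc1, ← map_pow, pow_orderOf_eq_one, map_one, S'.coef_one]
    exact orderOf_eq_one_iff.1 (Nat.eq_one_of_dvd_coprimes (T.prime.coprime_iff_not_dvd.2 hcop)
      (orderOf_dvd_of_pow_eq_one hcp) (orderOf_dvd_of_pow_eq_one h1))
  have hcX := (S'.coef_aut_eq_one_iff (e c)).1 ⟨hc0, hc1⟩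
  have h1 : c = 1 := Subtype.ext (T.eq_one_of_two hEX hcE hcX)
  exact mul_inv_eq_iff_eq_mul.1 (mul_inv_eq_one.1 h1)

/-- Linearity is the same on both classes. -/
theorem TorusHyp.lin_symm {E X : h.Pt} (hEX : E ≠ X) (S : Semi h E X) (S' : Semi h X E) {k : G}
    (hk : k ∈ h.pairStab E X) (hk' : k ∈ h.pairStab X E) :
    S.aut ⟨k, hk⟩ = 1 ↔ S'.aut ⟨k, hk'⟩ = 1 := by
  obtain ⟨y, hy⟩ := T.exists_elem hEX
  let e : h.pairStab E X ≃* h.pairStab X E := MulEquiv.subgroupCongr (h.pairStab_comm E X)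
  rw [T.lin_iff hEX S hy, T.lin_iff hEX.symm S' (y := e y) (by rw [MulEquiv.orderOf_eq, hy]),
    show (⟨k, hk'⟩ : h.pairStab X E) = e ⟨k, hk⟩ from rfl, ← map_mul, ← map_mul, e.injective.eq_iff]

/-- An element of prime order fixing no member of `E` is linear there. -/
theorem TorusHyp.lin_of_free {E X : h.Pt} (S : Semi h E X) {k : h.pairStab E X} {r : ℕ}
    (hr : r.Prime) (hk : k ^ r = 1) (hfree : ∀ v : h.grp E, v ≠ 1 → h.act k v ≠ v) : S.aut k = 1 := by
  haveI : Fact r.Prime := ⟨hr⟩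
  by_contra hne
  have hord : orderOf (S.aut k) = r := orderOf_eq_prime (by rw [← S.aut_pow, hk, S.aut_one]) hne
  obtain ⟨v, hv, hfix⟩ := S.exists_fix k (by rw [hord]; exact hr.pos) fun v _ => by
    rw [hord, hk, Subgroup.coe_one, one_mul, inv_one, mul_one]
  exact hfree v hv hfix

/-- **Pair stabilisers are faithful on each class.** -/
theorem TorusHyp.faithful {E X : h.Pt} (hEX : E ≠ X) {k : G} (hk : k ∈ h.pairStab E X)
    (hkE : ∀ v ∈ h.grp E, k * v * k⁻¹ = v) : k = 1 := by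
  by_contra hk1
  obtain ⟨r, hr, hrd⟩ := Nat.exists_prime_and_dvd (n := orderOf k)
    (fun h1 => hk1 (orderOf_eq_one_iff.1 h1))
  set b := k ^ (orderOf k / r) with hbdef
  have hbord : orderOf b = r := by
    rw [hbdef, orderOf_pow_of_dvd (Nat.div_ne_zero_iff.2 ⟨hr.ne_zero, Nat.le_of_dvd
      (IsOfFinOrder.orderOf_pos (isOfFinOrder_of_finite k)) hrd⟩) (Nat.div_dvd_of_dvd hrd),
      Nat.div_div_self hrd (IsOfFinOrder.orderOf_pos (isOfFinOrder_of_finite k)).ne']
  have hb : b ∈ h.pairStab E X := pow_mem hk _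
  obtain ⟨S⟩ := T.semi hEX
  obtain ⟨S'⟩ := T.semi hEX.symm
  obtain ⟨hc, ha⟩ := (S.coef_aut_eq_one_iff ⟨k, hk⟩).2 hkE
  have hbE : ∀ v ∈ h.grp E, b * v * b⁻¹ = v := (S.coef_aut_eq_one_iff (⟨k, hk⟩ ^ (orderOf k / r))).1
    ⟨by rw [S.coef_pow_of_lin ha, hc, one_pow], by rw [S.aut_pow, ha, one_pow]⟩
  obtain ⟨hb1, hb2⟩ := h.mem_pairStab.1 hb
  obtain ⟨e, he, heE⟩ := h.exists_pt E
  obtain ⟨x, hx, hxX⟩ := h.exists_pt X
  obtain ⟨m, hm, -⟩ := h.exists_swapper heE hxX hEX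
  have hmm := h.sq hm.1
  have hmi := h.toOT.inv hm.1
  set b' := m * b * m with hb'
  have hb'r : b' ^ r = 1 := by
    rw [hb']; nth_rewrite 2 [← hmi]
    rw [conj_pow, ← hbord, pow_orderOf_eq_one, mul_one, mul_inv_cancel]
  have hb'K : b' ∈ h.pairStab E X := h.mem_pairStab.2 (by
    rw [hb', mul_smul, mul_smul, hm.2, hb2, h.swapper_back hm, mul_smul, mul_smul, h.swapper_back hm,
      hb1, hm.2]
    exact ⟨rfl, rfl⟩)
  have hb'X : ∀ v ∈ h.grp X, b' * v * b'⁻¹ = v := by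
    intro v hv
    have hv' : m * v * m⁻¹ ∈ h.grp E := h.swapper_back hm ▸ h.grp_conj hv
    calc b' * v * b'⁻¹ = m * (b * (m * v * m⁻¹) * b⁻¹) * m⁻¹ := by
          rw [hb', mul_inv_rev, mul_inv_rev, hmi]; group
      _ = m * (m * v * m⁻¹) * m⁻¹ := by rw [hbE _ hv']
      _ = v := by rw [hmi, GenA.OddTransp.conj_conj hmm]
  have hb'lin : S.aut ⟨b', hb'K⟩ = 1 :=
    (T.lin_symm hEX S S' hb'K (h.pairStab_comm E X ▸ hb'K)).2
      ((S'.coef_aut_eq_one_iff _).2 hb'X).2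
  obtain ⟨hbc, hba⟩ := (S.coef_aut_eq_one_iff ⟨b, hb⟩).2 hbE
  set A := h.pt m hm.1 with hA
  have hAE : A ≠ E := fun h1 => hEX (by rw [← hm.2, ← h1, hA, h.smul_self hm.1])
  have hfree : ∀ v : h.grp E, v ≠ 1 → h.act (⟨b, hb⟩ * ⟨b', hb'K⟩ : h.pairStab E X) v ≠ v := by
    intro v hv hfix
    have hall := S.centralize_of_lin_fix
      (by rw [(S.mul _ _).2, hba, hb'lin, one_mul]) hv hfix
    have hb'1 : b' = 1 := T.eq_one_of_two hEX (fun u hu => by
      have h1 := hall u hu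
      change b * b' * u * (b * b')⁻¹ = u at h1
      have h2 : b' * u * b'⁻¹ ∈ h.grp E := h.grp_conj_fix (h.mem_pairStab.1 hb'K).1 hu
      rw [← hbE _ h2]
      refine Eq.trans ?_ h1
      group) hb'X
    rw [hb', mul_assoc] at hb'1
    have : b = 1 := by
      have h3 := eq_inv_of_mul_eq_one_right hb'1
      rw [hmi] at h3
      exact mul_eq_right.1 h3
    rw [this, orderOf_one] at hbord
    exact hr.one_lt.ne hbord
  refine hr.one_lt.ne ?_
  rw [← hbord, T.kernel_of_mid hEX hb hbE hm ?_, orderOf_one]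
  -- `b` and `b'` commute, being linear on both classes
  have hcomm : Commute b b' := by
    have key : ∀ {A B : h.Pt} (S : Semi h A B) (k l : h.pairStab A B), S.aut k = 1 → S.aut l = 1 →
        S.coef (k * l) = S.coef (l * k) ∧ S.aut (k * l) = S.aut (l * k) := by
      intro A B S k l hk hl
      rw [S.coef_mul_of_lin hk, S.coef_mul_of_lin hl, (S.mul k l).2, (S.mul l k).2, hk, hl]
      exact ⟨mul_comm _ _, rfl⟩
    have same : ∀ {A B : h.Pt} (S : Semi h A B) (k l : h.pairStab A B),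
        S.coef k = S.coef l ∧ S.aut k = S.aut l →
          ∀ v ∈ h.grp A, ((k * l⁻¹ : h.pairStab A B) : G) * v * ((k * l⁻¹ : h.pairStab A B) : G)⁻¹ = v := by
      intro A B S k l hkl v hv
      have h1 : ∀ w : h.grp A, h.act k w = h.act l w := fun w => S.bij.1 (by
        rw [S.spec, S.spec, hkl.1, hkl.2])
      have h2 : h.act (k * l⁻¹) ⟨v, hv⟩ = ⟨v, hv⟩ := by
        rw [h.act_mul, h1, ← h.act_mul, mul_inv_cancel, h.act_one]
      exact congrArg Subtype.val h2
    have hXb : b ∈ h.pairStab X E := h.pairStab_comm E X ▸ hb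
    have hXb' : b' ∈ h.pairStab X E := h.pairStab_comm E X ▸ hb'K
    have h1 : b * b' * (b' * b)⁻¹ = 1 := T.eq_one_of_two hEX
      (same S _ _ (key S ⟨b, hb⟩ ⟨b', hb'K⟩ hba hb'lin))
      (same S' _ _ (key S' ⟨b, hXb⟩ ⟨b', hXb'⟩ ((T.lin_symm hEX S S' hb hXb).1 hba)
        ((T.lin_symm hEX S S' hb'K hXb').1 hb'lin)))
    exact mul_inv_eq_one.1 h1
  set w := b * b' with hw
  have hwm : Commute w m := by
    show b * (m * b * m) * m = m * (b * (m * b * m))
    calc b * (m * b * m) * m = b * (m * b) * (m * m) := by group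
      _ = m * m * b * m * b := by rw [hmm]; group
      _ = m * (b' * b) := by rw [hb']; group
      _ = m * (b * b') := by rw [hcomm.eq]
  have hwr : w ^ r = 1 := by
    rw [hw, hcomm.mul_pow, hb'r, ← hbord, pow_orderOf_eq_one, one_mul]
  have hwA : w • A = A := by
    rw [hA, h.smul_pt]
    exact h.pt_eq_iff.2 (by rw [hwm.eq, mul_inv_cancel_right])
  have hwE : w • E = E := by rw [hw, mul_smul, (h.mem_pairStab.1 hb'K).1, hb1]
  obtain ⟨SA⟩ := T.semi hAE.symm
  obtain ⟨SA'⟩ := T.semi hAE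
  have h1 : SA.aut ⟨w, h.mem_pairStab.2 ⟨hwE, hwA⟩⟩ = 1 :=
    T.lin_of_free SA hr (Subtype.ext hwr) fun v hv => hfree v hv
  exact SA'.centralize_of_lin_fix ((T.lin_symm hAE.symm SA SA' _ (h.mem_pairStab.2 ⟨hwA, hwE⟩)).1 h1)
    (v := ⟨m, h.self_mem_grp hm.1⟩) (fun h1 => h.toOT.ne_one hm.1 (congrArg Subtype.val h1))
    (T.act_eq hwm)

end Cfsg.Agent.OddTranspX
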