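import Cfsg.Agent.Lib.OddTranspX.Torus
import Cfsg.Agent.Lib.OddTranspX.Endgame
import Cfsg.Agent.Lib.OddTranspX.OddPair
import Cfsg.Agent.Lib.Characters.Frobenius

/-!
# The recursive setting: `e` is odd, and `e = 1` gives a Suzuki group

Without a midpoint `q = 2^n` with `n` odd, and `e` divides `n`.  If `e = 1` the stabilizer of a class
is a Frobenius group with complement the two-class stabilizer, whose kernel centralizes the class.
-/

set_option autoImplicit false
set_option linter.style.haveILetI false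
set_option linter.unusedSectionVars false

namespace Cfsg.Agent.OddTranspX

open Subgroup MulAction

universe u

variable {G : Type u} [Group G] [Finite G] {D : Set G} {h : ClassGroups D} {q e : ℕ}

theorem ClassGroups.TorusBase.exists_exponent (hT : h.TorusBase q e) : ∃ n, Odd n ∧ q = 2 ^ n := by
  obtain ⟨E, X, hEX⟩ := hT.nontrivial
  obtain ⟨n, hn, hc⟩ := odd_exponent h hT.no_mid hEX
  exact ⟨n, hn, by rw [← hT.card_grp E, hc]⟩

theorem ClassGroups.TorusBase.even_q (hT : h.TorusBase q e) : Even q := by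
  obtain ⟨n, hn, rfl⟩ := hT.exists_exponent
  exact Nat.even_pow.2 ⟨even_two, hn.pos.ne'⟩

/-- `e` is odd. -/
theorem torus_odd (hT : h.TorusBase q e) : Odd e := by
  obtain ⟨n, hn, hq⟩ := hT.exists_exponent
  obtain ⟨E, X, hEX⟩ := hT.nontrivial
  obtain ⟨d, hd, hdE⟩ := h.exists_pt E
  obtain ⟨x, hx, hxX⟩ := h.exists_pt X
  obtain ⟨m, hm, -⟩ := h.exists_swapper hdE hxX hEX
  obtain ⟨hcyc, hcard⟩ := hT.field_cyclic E X hEX m hm
  obtain ⟨k, hk⟩ := hcyc.exists_ofOrder_eq_natCard
  have hko : orderOf (k : G) = e := by rw [Subgroup.orderOf_coe, hk, hcard]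
  have hf := hT.field_fixed E X hEX m hm (k : G) k.2
  obtain ⟨j, hj⟩ := h.grp_card E (h.grp E ⊓ centralizer {(k : G)}) inf_le_left
  rw [hj, hko, ← pow_mul, hq] at hf
  exact hn.of_dvd_nat ⟨j, by rw [mul_comm e j]; exact (Nat.pow_right_injective le_rfl hf).symm⟩

theorem ClassGroups.TorusBase.toTorus (hT : h.TorusBase q e) : h.Torus q e := ⟨hT, OddTranspX.torus_odd hT⟩

theorem ClassGroups.Torus.oddPair (hT : h.Torus q e) : h.OddPair :=
  hT.1.oddPair hT.1.even_q hT.2

theorem mem_pairStab {E X : h.Pt} {g : G} : g ∈ h.pairStab E X ↔ g • E = E ∧ g • X = X :=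
  Subgroup.mem_inf.trans (and_congr mem_stabilizer_iff mem_stabilizer_iff)

theorem ClassGroups.TorusBase.exists_big (hT : h.TorusBase q e) :
    ∃ a ∈ D, ∃ b ∈ D, Commute a b ∧ b ≠ a := by
  classical
  obtain ⟨E, X, hEX⟩ := hT.nontrivial
  obtain ⟨a, ha, haE⟩ := h.exists_pt E
  by_contra hno
  push Not at hno
  have hsub : ∀ v : h.grp E, (v : G) = 1 ∨ (v : G) = a := fun v => by
    rcases v.2 with hv | ⟨hv, hvE⟩
    · exact Or.inl hv
    · exact Or.inr (hno a ha v hv (h.pt_eq_iff.1 (haE.trans hvE.symm)))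
  have hinj : Function.Injective (fun v : h.grp E => decide ((v : G) = 1)) := fun v w hvw => by
    apply Subtype.ext
    rcases hsub v with h1 | h1 <;> rcases hsub w with h2 | h2 <;>
      simp [h1, h2, h.toOT.ne_one ha] at hvw ⊢
  have := Nat.card_le_card_of_injective _ hinj
  rw [hT.card_grp E, Nat.card_eq_fintype_card, Fintype.card_bool] at this
  have := hT.four_le
  omega

/-- Conjugation by `C` is simply transitive on the members of the class. -/
theorem torus_regular (hT : h.TorusBase q e) {E X : h.Pt} {C : Subgroup G}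
    (hC : C ≤ h.pairStab E X) (hcard : Nat.card C = q - 1)
    (hfree : ∀ c ∈ C, c ≠ 1 → ∀ v ∈ h.grp E, v ≠ 1 → c * v * c⁻¹ ≠ v) {v : G} (hv : v ∈ h.grp E)
    (hv1 : v ≠ 1) {w : G} (hw : w ∈ h.grp E) (hw1 : w ≠ 1) : ∃ c ∈ C, c * v * c⁻¹ = w := by
  let f : C → {a : G // a ∈ h.grp E ∧ a ≠ 1} := fun c =>
    ⟨(c : G) * v * (c : G)⁻¹, h.grp_conj_fix (mem_pairStab.1 (hC c.2)).1 hv, fun h1 => hv1 (by
      simpa using h1)⟩
  have hinj : Function.Injective f := by
    intro c c' hcc
    have he : (c : G) * v * (c : G)⁻¹ = (c' : G) * v * (c' : G)⁻¹ := congrArg Subtype.val hcc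
    by_contra hne
    refine hfree ((c : G)⁻¹ * c') (mul_mem (inv_mem c.2) c'.2) (fun h1 => hne (Subtype.ext ?_)) v hv hv1 ?_
    · exact inv_mul_eq_one.1 h1
    · calc (c : G)⁻¹ * c' * v * ((c : G)⁻¹ * c')⁻¹
          = (c : G)⁻¹ * ((c' : G) * v * (c' : G)⁻¹) * c := by group
        _ = v := by rw [← he]; group
  obtain ⟨c, hc⟩ := ((Nat.bijective_iff_injective_and_card f).2
    ⟨hinj, by rw [hcard, card_ne_one, hT.card_grp]⟩).2 ⟨w, hw, hw1⟩
  exact ⟨c, c.2, congrArg Subtype.val hc⟩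

/-- A Suzuki group or `PSL₂`, and the latter has a midpoint. -/
theorem isoSuzuki_of_concl (hT : h.TorusBase q e) (hc : Concl G) : Cfsg.Lie.IsoSuzuki G := by
  rcases hc with ⟨F, hF, hFt, hF2, -, ⟨eF⟩⟩ | hs
  · exfalso
    obtain ⟨E, X, hEX⟩ := hT.nontrivial
    obtain ⟨a, ha, rfl⟩ := h.exists_pt E
    obtain ⟨f, hf, rfl⟩ := h.exists_pt X
    exact hT.no_mid (hasMid_of_line h ⊤ (Subgroup.topEquiv.trans eF) ha hf (mem_top a) (mem_top f)
      fun hc => hEX (h.pt_eq_iff.2 hc))
  · exact hs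

/-- **`e = 1`.** -/
theorem torus_one (hT : h.Torus q 1) : Cfsg.Lie.IsoSuzuki G := by
  classical
  have hb := hT.1
  refine isoSuzuki_of_concl hb ?_
  obtain ⟨E, X, hEX⟩ := hb.nontrivial
  obtain ⟨C, hCK, -, hCc, -, hfree, hfix, -⟩ := hb.torus_part E X hEX
  have hKC : h.pairStab E X = C := (eq_of_le_of_card_ge hCK (by
    rw [hb.card_pairStab E X hEX, hCc, mul_one])).symm
  set H := stabilizer G E with hH
  let K' : Subgroup H := C.subgroupOf H
  have hCH : C ≤ H := hCK.trans inf_le_left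
  have hK'c : Nat.card K' = q - 1 := (Nat.card_congr (subgroupOfEquivOfLe hCH).toEquiv).trans hCc
  have h4 := hb.four_le
  have hxX : ∀ g : H, g ∈ K' ↔ (g : G) • X = X := fun g => by
    rw [mem_subgroupOf, ← hKC, mem_pairStab]
    exact and_iff_right g.2
  have hfrob : Cfsg.IsFrobeniusComplement K' := by
    refine ⟨fun h1 => ?_, fun h1 => ?_, fun g hg => (eq_bot_iff_forall _).2 fun x hx => ?_⟩
    · rw [h1, Subgroup.card_bot] at hK'c; omega
    · obtain ⟨v, hv, hv1⟩ : ∃ v ∈ h.grp E, v ≠ 1 := by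
        obtain ⟨d, hd, hdE⟩ := h.exists_pt E
        exact ⟨d, hdE ▸ h.self_mem_grp hd, h.toOT.ne_one hd⟩
      have := (hxX ⟨v, h.grp_fix hv⟩).1 (h1 ▸ mem_top _)
      exact hv1 (h.grp_semiregular hv this hEX.symm)
    · obtain ⟨hx1, hx2⟩ := Subgroup.mem_inf.1 hx
      rw [Subgroup.mem_pointwise_smul_iff_inv_smul_mem] at hx2
      have hx2' : ((g⁻¹ * x * g : H) : G) • X = X := (hxX _).1 (by simpa [MulAut.smul_def] using hx2)
      by_contra hne
      have hgX : (x : G) • ((g : G) • X) = (g : G) • X := by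
        rw [← inv_smul_eq_iff, ← mul_smul, ← mul_smul]
        simpa [mul_assoc] using hx2'
      rcases hfix (x : G) hx1 (fun h1 => hne (Subtype.ext h1)) _ hgX with h1 | h1
      · exact hEX (smul_left_cancel (g : G) ((mem_stabilizer_iff.1 g.2).trans h1.symm))
      · exact hg ((hxX g).2 h1)
  obtain ⟨N, -, hNn, hNK⟩ := Characters.frobenius_kernel_theorem hfrob
  haveI := hNn
  -- `|N|` is prime to `q - 1`
  have hcop : Nat.Coprime (Nat.card N) (q - 1) := by
    have hdvd : q - 1 ∣ Nat.card {A : h.Pt // A ≠ E ∧ A ≠ X} := by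
      letI : SMul C {A : h.Pt // A ≠ E ∧ A ≠ X} :=
        ⟨fun c A => ⟨(c : G) • A.1, fun h1 => A.2.1 (smul_left_cancel (c : G)
          (h1.trans (mem_pairStab.1 (hCK c.2)).1.symm)), fun h1 => A.2.2 (smul_left_cancel (c : G)
          (h1.trans (mem_pairStab.1 (hCK c.2)).2.symm))⟩⟩
      letI : MulAction C {A : h.Pt // A ≠ E ∧ A ≠ X} :=
        { one_smul := fun A => Subtype.ext (one_smul G A.1)
          mul_smul := fun c c' A => Subtype.ext (mul_smul (c : G) c' A.1) }
      refine hCc ▸ Forms.DicksonBasic.dvd_card_of_index (K := C) (Y := {A : h.Pt // A ≠ E ∧ A ≠ X}) fun A => ?_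
      have : stabilizer C A = ⊥ := (eq_bot_iff_forall _).2 fun c hc => by
        by_contra hne
        rcases hfix (c : G) c.2 (fun h1 => hne (Subtype.ext h1)) A.1
          (congrArg Subtype.val (mem_stabilizer_iff.1 hc)) with h1 | h1
        · exact A.2.1 h1
        · exact A.2.2 h1
      rw [this, index_bot]
    -- `N` is regular on the other classes
    have hN1 : Nat.card {A : h.Pt // A ≠ E} = Nat.card N := by
      refine (Nat.card_eq_of_bijective (fun n : N => (⟨((n : H) : G) • X, fun h1 => hEX.symm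
        (smul_left_cancel _ (h1.trans (mem_stabilizer_iff.1 (n : H).2).symm))⟩ : {A : h.Pt // A ≠ E}))
        ⟨fun n n' hnn => ?_, fun A => ?_⟩).symm
      · have hnn' : ((n : H) : G) • X = ((n' : H) : G) • X := congrArg Subtype.val hnn
        have hmem : (n : H)⁻¹ * n' ∈ K' := (hxX _).2 (by
          push_cast; rw [mul_smul, ← hnn', inv_smul_smul])
        have := Subgroup.disjoint_def.1 hNK.disjoint (mul_mem (inv_mem n.2) n'.2) hmem
        exact Subtype.ext (inv_mul_eq_one.1 this)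
      · obtain ⟨g, hgE, hgX⟩ := hb.two E X A.1 hEX.symm A.2
        obtain ⟨⟨n, k⟩, hnk⟩ := hNK.2 (⟨g, hgE⟩ : H)
        refine ⟨n, Subtype.ext ?_⟩
        have hk := (hxX _).1 k.2
        have : ((n : H) : G) * ((k : H) : G) = g := congrArg Subtype.val hnk
        show ((n : H) : G) • X = A.1
        rw [← hgX, ← this, mul_smul, hk]
    have hsplit : Nat.card {A : h.Pt // A ≠ E} = Nat.card {A : h.Pt // A ≠ E ∧ A ≠ X} + 1 := by
      rw [← Finite.card_option]
      refine (Nat.card_eq_of_bijective (fun o : Option {A : h.Pt // A ≠ E ∧ A ≠ X} =>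
        o.elim (⟨X, hEX.symm⟩ : {A : h.Pt // A ≠ E}) fun A => ⟨A.1, A.2.1⟩) ⟨?_, ?_⟩).symm
      · rintro (_ | A) (_ | B) hAB
        · rfl
        · exact absurd (congrArg Subtype.val hAB).symm B.2.2
        · exact absurd (congrArg Subtype.val hAB) A.2.2
        · exact congrArg some (Subtype.ext (congrArg (fun Z : {A : h.Pt // A ≠ E} => Z.1) hAB))
      · rintro ⟨A, hA⟩
        by_cases hAX : A = X
        · exact ⟨none, Subtype.ext hAX.symm⟩
        · exact ⟨some ⟨A, hA, hAX⟩, rfl⟩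
    obtain ⟨j, hj⟩ := hdvd
    rw [← hN1, hsplit, hj, Nat.coprime_comm]
    exact (Nat.coprime_mul_left_add_right _ _ _).2 (Nat.coprime_one_right _)
  refine regular_endgame h hb.gen hb.exists_big hT.oddPair hb.two hEX (fun k hk hkc =>
    hb.faithful E X hEX k hk fun v hv => mul_inv_eq_iff_eq_mul.2 (hkc v hv).eq) fun g hg => ?_
  obtain ⟨⟨n, k⟩, hnk⟩ := hNK.2 (⟨g, hg⟩ : H)
  refine ⟨((n : H) : G), ((k : H) : G), fun v hv => ?_, hKC ▸ k.2, (congrArg Subtype.val hnk).symm⟩
  by_cases hv1 : v = 1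
  · rw [hv1]; exact Commute.one_right _
  -- the orbit of `v` under `N` has size one
  let Hv : Subgroup H := (centralizer {v}).subgroupOf H
  have hidx : Hv.index = q - 1 := by
    rw [Subgroup.index_eq_card, ← hCc]
    refine (Nat.card_eq_of_bijective (fun c : C => (QuotientGroup.mk (⟨c, hCH c.2⟩ : H) : H ⧸ Hv))
      ⟨fun c c' hcc => ?_, fun y => ?_⟩).symm
    · have h1 : (c : G)⁻¹ * c' ∈ centralizer {v} := mem_subgroupOf.1 (QuotientGroup.eq.1 hcc)
      rw [mem_centralizer_singleton_iff] at h1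
      by_contra hne
      exact hfree _ (mul_mem (inv_mem c.2) c'.2) (fun h2 => hne (Subtype.ext (inv_mul_eq_one.1 h2)))
        v hv hv1 (mul_inv_eq_iff_eq_mul.2 h1)
    · obtain ⟨g', rfl⟩ := QuotientGroup.mk_surjective y
      obtain ⟨c, hc, hcv⟩ := torus_regular hb hCK hCc hfree hv hv1
        (h.grp_conj_fix (mem_stabilizer_iff.1 g'.2) hv) (fun h1 => hv1 (by simpa using h1))
      refine ⟨⟨c, hc⟩, QuotientGroup.eq.2 (mem_subgroupOf.2 (mem_centralizer_singleton_iff.2 ?_))⟩
      push_cast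
      calc c⁻¹ * (g' : G) * v = c⁻¹ * ((g' : G) * v * (g' : G)⁻¹) * g' := by group
        _ = c⁻¹ * (c * v * c⁻¹) * g' := by rw [hcv]
        _ = v * (c⁻¹ * g') := by group
  have hcN : Nat.card Hv = Nat.card N := by
    have h1 := Hv.card_mul_index
    rw [hidx, ← hNK.card_mul_card, hK'c] at h1
    exact Nat.eq_of_mul_eq_mul_right (by omega) h1
  have hle' : Hv ≤ N := by
    refine relIndex_eq_one.1 (Nat.eq_one_of_dvd_coprimes hcop ?_ ?_)
    · rw [relIndex, ← hcN]; exact (N.subgroupOf Hv).index_dvd_card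
    · refine (relIndex_dvd_index_of_normal N Hv).trans (dvd_of_eq ?_)
      rw [Subgroup.IsComplement'.index_eq_card hNK.symm, hK'c]
  have hle : N ≤ Hv := (eq_of_le_of_card_ge hle' hcN.ge).ge
  exact (mem_centralizer_singleton_iff.1 (mem_subgroupOf.1 (hle n.2)) :)

end Cfsg.Agent.OddTranspX
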