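import Cfsg.Agent.Lib.OddTranspX.TorusOne

/-!
# The stabilizer of two classes in the torus setting

It is `C W`, the swappers are the conjugates of one of them under `C`, and an element centralizing a
member of the first class is conjugate under `C` into `W`, so it centralizes a swapper.  In `W` an
element fixing the fixed members of `w` is a power of `w`.
-/

set_option autoImplicit false
set_option linter.style.haveILetI false
set_option linter.unusedSectionVars false

namespace Cfsg.Agent.OddTranspX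

open Subgroup MulAction

universe u

variable {G : Type u} [Group G] [Finite G] {D : Set G} {h : ClassGroups D} {q e : ℕ}

theorem ClassGroups.pairStab_symm (h : ClassGroups D) (E X : h.Pt) : h.pairStab E X = h.pairStab X E :=
  inf_comm _ _

/-- Data of a torus of a pair of classes. -/
structure ClassGroups.TorData (h : ClassGroups D) (q : ℕ) (E X : h.Pt) (C : Subgroup G) : Prop where
  le : C ≤ h.pairStab E X
  cyc : IsCyclic C
  card : Nat.card C = q - 1
  normal : ∀ k ∈ h.pairStab E X, ∀ c ∈ C, k * c * k⁻¹ ∈ C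
  free : ∀ c ∈ C, c ≠ 1 → ∀ v ∈ h.grp E, v ≠ 1 → c * v * c⁻¹ ≠ v
  fix : ∀ c ∈ C, c ≠ 1 → ∀ A : h.Pt, c • A = A → A = E ∨ A = X
  invert : ∀ m ∈ h.swappers E X, ∀ c ∈ C, m * c * m = c⁻¹

theorem ClassGroups.TorusBase.exists_tor (hT : h.TorusBase q e) {E X : h.Pt} (hEX : E ≠ X) :
    ∃ C : Subgroup G, h.TorData q E X C := by
  obtain ⟨C, h1, h2, h3, h4, h5, h6, h7⟩ := hT.torus_part E X hEX
  exact ⟨C, h1, h2, h3, h4, h5, h6, h7⟩

theorem ClassGroups.TorusBase.odd_sub_one (hT : h.TorusBase q e) : Odd (q - 1) :=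
  Nat.Even.sub_odd (by have := hT.four_le; omega) hT.even_q odd_one

theorem ClassGroups.TorusBase.exists_swap (hT : h.TorusBase q e) {E X : h.Pt} (hEX : E ≠ X) :
    ∃ m, m ∈ h.swappers E X := by
  obtain ⟨d, hd, hdE⟩ := h.exists_pt E
  obtain ⟨x, hx, hxX⟩ := h.exists_pt X
  obtain ⟨m, hm, -⟩ := h.exists_swapper hdE hxX hEX
  exact ⟨m, hm⟩

namespace ClassGroups.TorData

variable {E X : h.Pt} {C : Subgroup G} {m : G}

/-- `C` is odd. -/
theorem odd_card (hC : h.TorData q E X C) (hT : h.TorusBase q e) : Odd (Nat.card C) := by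
  rw [hC.card]; exact hT.odd_sub_one

/-- An element of `C` commuting with a swapper is trivial. -/
theorem eq_one_of_commute (hC : h.TorData q E X C) (hT : h.TorusBase q e) (hm : m ∈ h.swappers E X)
    {c : G} (hc : c ∈ C) (hcm : c * m = m * c) : c = 1 := by
  have h1 := hC.invert m hm c hc
  rw [← hcm, mul_assoc, h.sq hm.1, mul_one, eq_inv_iff_mul_eq_one] at h1
  exact RootInvolutions.Basic.eq_one_of_odd ((hC.odd_card hT).of_dvd_nat (C.orderOf_dvd_natCard hc))
    (n := 1) (by rw [pow_one, pow_two, h1])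

/-- The stabilizer of the pair is `C W`. -/
theorem exists_mul (hC : h.TorData q E X C) (hT : h.TorusBase q e) (hEX : E ≠ X)
    (hm : m ∈ h.swappers E X) {k : G} (hk : k ∈ h.pairStab E X) :
    ∃ c ∈ C, ∃ v ∈ h.pairStab E X ⊓ centralizer {m}, c * v = k := by
  set W := h.pairStab E X ⊓ centralizer {m}
  let f : C × W → h.pairStab E X := fun p => ⟨(p.1 : G) * p.2, mul_mem (hC.le p.1.2) p.2.2.1⟩
  have hf : Function.Injective f := by
    rintro ⟨⟨c, hc⟩, ⟨v, hv⟩⟩ ⟨⟨c', hc'⟩, ⟨v', hv'⟩⟩ hp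
    have he : c * v = c' * v' := congrArg Subtype.val hp
    have h1 : c'⁻¹ * c = v' * v⁻¹ := by
      rw [inv_mul_eq_iff_eq_mul, ← mul_assoc, ← he, mul_inv_cancel_right]
    have h2 : c'⁻¹ * c = 1 := hC.eq_one_of_commute hT hm (mul_mem (inv_mem hc') hc) (by
      rw [h1]; exact mem_centralizer_singleton_iff.1 (mul_mem hv'.2 (inv_mem hv.2)))
    have e1 : c = c' := (inv_mul_eq_one.1 h2).symm
    subst e1
    exact Prod.ext rfl (Subtype.ext (mul_left_cancel he))
  obtain ⟨⟨c, v⟩, hp⟩ := ((Nat.bijective_iff_injective_and_card f).2 ⟨hf, by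
    rw [Nat.card_prod, hC.card, (hT.field_cyclic E X hEX m hm).2, hT.card_pairStab E X hEX]⟩).2 ⟨k, hk⟩
  exact ⟨c, c.2, v, v.2, congrArg Subtype.val hp⟩

/-- The swappers are the conjugates of one of them under `C`. -/
theorem swapper_eq (hC : h.TorData q E X C) (hT : h.TorusBase q e) (hEX : E ≠ X)
    (hm : m ∈ h.swappers E X) {m' : G} (hm' : m' ∈ h.swappers E X) : ∃ c ∈ C, c * m * c⁻¹ = m' := by
  have hk : m' * m ∈ h.pairStab E X := mem_pairStab.2
    ⟨by rw [mul_smul, hm.2, h.swapper_back hm'], by rw [mul_smul, h.swapper_back hm, hm'.2]⟩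
  obtain ⟨c, hc, v, hv, he⟩ := hC.exists_mul hT hEX hm hk
  have hvm : v * m = m * v := mem_centralizer_singleton_iff.1 hv.2
  have h1 : m' = c * v * m := by rw [he, mul_assoc, h.sq hm.1, mul_one]
  have h3 : c * (v * c⁻¹ * v⁻¹) * (v * v) = 1 := by
    calc c * (v * c⁻¹ * v⁻¹) * (v * v) = c * v * (c⁻¹ * v) := by group
      _ = c * v * ((m * c * m) * v) := by rw [hC.invert m hm c hc]
      _ = c * v * m * (c * (m * v)) := by group
      _ = c * v * m * (c * v * m) := by rw [← hvm]; group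
      _ = 1 := by rw [← h1, h.sq hm'.1]
  have hvv : v * v = 1 := hC.eq_one_of_commute hT hm (by
    rw [eq_inv_of_mul_eq_one_right h3]
    exact inv_mem (mul_mem hc (hC.normal v hv.1 c⁻¹ (inv_mem hc))))
    (mem_centralizer_singleton_iff.1 (mul_mem hv.2 hv.2))
  have hv1 : v = 1 := RootInvolutions.Basic.eq_one_of_odd ((OddTranspX.torus_odd hT).of_dvd_nat (by
    rw [← (hT.field_cyclic E X hEX m hm).2]; exact (h.pairStab E X ⊓ centralizer {m}).orderOf_dvd_natCard hv))
    (n := 1) (by rw [pow_one, pow_two, hvv])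
  obtain ⟨l, hl⟩ := (hC.odd_card hT).of_dvd_nat (C.orderOf_dvd_natCard hc)
  refine ⟨c ^ (l + 1), pow_mem hc _, ?_⟩
  have h4 : c ^ (l + 1) * c ^ (l + 1) = c := by
    rw [← pow_add, show l + 1 + (l + 1) = orderOf c + 1 by omega, pow_succ, pow_orderOf_eq_one, one_mul]
  have h5 : m * (c ^ (l + 1))⁻¹ = c ^ (l + 1) * m := by
    rw [← hC.invert m hm _ (pow_mem hc _), ← mul_assoc, ← mul_assoc, h.sq hm.1, one_mul]
  rw [h1, hv1, mul_one, mul_assoc, h5, ← mul_assoc, h4]

end ClassGroups.TorData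

/-- A member fixed by all of `W`. -/
theorem ClassGroups.TorusBase.exists_fixed_member (hT : h.TorusBase q e) {E X : h.Pt} (hEX : E ≠ X)
    {m : G} (hm : m ∈ h.swappers E X) :
    ∃ a ∈ h.grp E, a ≠ 1 ∧ ∀ v ∈ h.pairStab E X ⊓ centralizer {m}, v * a = a * v := by
  obtain ⟨hcyc, -⟩ := hT.field_cyclic E X hEX m hm
  obtain ⟨z, hz⟩ := hcyc.exists_generator
  have hf := hT.field_fixed E X hEX m hm z z.2
  have hne : h.grp E ⊓ centralizer {(z : G)} ≠ ⊥ := fun e0 => by
    rw [e0, Subgroup.card_bot, one_pow] at hf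
    have := hT.four_le
    omega
  obtain ⟨a, ha, ha1⟩ := (bot_or_exists_ne_one _).resolve_left hne
  refine ⟨a, ha.1, ha1, fun v hv => ?_⟩
  obtain ⟨i, hi⟩ := mem_zpowers_iff.1 (hz ⟨v, hv⟩)
  have h2 : v = (z : G) ^ i := by rw [← SubgroupClass.coe_zpow, hi]
  rw [h2]
  exact ((show Commute (z : G) a from (mem_centralizer_singleton_iff.1 ha.2).symm).zpow_left i).eq

/-- An element centralizing a member of the first class is conjugate under `C` into `W`; the
conjugating element depends only on the member. -/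
theorem ClassGroups.TorData.conj_field {E X : h.Pt} {C : Subgroup G} {m : G}
    (hC : h.TorData q E X C) (hT : h.TorusBase q e) (hEX : E ≠ X) (hm : m ∈ h.swappers E X)
    {a : G} (ha : a ∈ h.grp E) (ha1 : a ≠ 1) :
    ∃ c ∈ C, ∀ k ∈ h.pairStab E X, k * a = a * k →
      c⁻¹ * k * c ∈ h.pairStab E X ⊓ centralizer {m} := by
  obtain ⟨a0, ha0, ha01, hW⟩ := hT.exists_fixed_member hEX hm
  obtain ⟨c, hc, hca⟩ := torus_regular hT hC.le hC.card hC.free ha0 ha01 ha ha1
  refine ⟨c, hc, fun k hk hka => ?_⟩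
  obtain ⟨c2, hc2, v, hv, he⟩ :=
    hC.exists_mul hT hEX hm (mul_mem (mul_mem (inv_mem (hC.le hc)) hk) (hC.le hc))
  have h1 : (c⁻¹ * k * c) * a0 = a0 * (c⁻¹ * k * c) := by
    calc (c⁻¹ * k * c) * a0 = c⁻¹ * (k * (c * a0 * c⁻¹)) * c := by group
      _ = c⁻¹ * ((c * a0 * c⁻¹) * k) * c := by rw [hca, hka]
      _ = a0 * (c⁻¹ * k * c) := by group
  rw [← he] at h1 ⊢
  have h2 : c2 * a0 * c2⁻¹ = a0 := by
    rw [mul_inv_eq_iff_eq_mul]
    calc c2 * a0 = c2 * (a0 * v) * v⁻¹ := by group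
      _ = c2 * (v * a0) * v⁻¹ := by rw [hW v hv]
      _ = c2 * v * a0 * v⁻¹ := by group
      _ = a0 * c2 := by rw [h1]; group
  have hc21 : c2 = 1 := by
    by_contra hne
    exact hC.free c2 hc2 hne a0 ha0 ha01 h2
  rwa [hc21, one_mul]

/-- An element fixing two classes and centralizing a member of the first centralizes a swapper. -/
theorem ClassGroups.TorusBase.exists_swapper_commute (hT : h.TorusBase q e) {E X : h.Pt} (hEX : E ≠ X)
    {a k : G} (ha : a ∈ h.grp E) (ha1 : a ≠ 1) (hk : k ∈ h.pairStab E X) (hka : k * a = a * k) :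
    ∃ m ∈ h.swappers E X, Commute k m := by
  obtain ⟨C, hC⟩ := hT.exists_tor hEX
  obtain ⟨m, hm⟩ := hT.exists_swap hEX
  obtain ⟨c, hc, hconj⟩ := hC.conj_field hT hEX hm ha ha1
  have hcs := mem_pairStab.1 (hC.le hc)
  refine ⟨c * m * c⁻¹, h.swapper_conj hcs.1 hcs.2 hm, ?_⟩
  have h1 := mem_centralizer_singleton_iff.1 (hconj k hk hka).2
  show k * (c * m * c⁻¹) = c * m * c⁻¹ * k
  calc k * (c * m * c⁻¹) = c * (c⁻¹ * k * c * m) * c⁻¹ := by group
    _ = c * (m * (c⁻¹ * k * c)) * c⁻¹ := by rw [h1]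
    _ = c * m * c⁻¹ * k := by group

/-- In `W` an element centralizing the fixed members of `w` is a power of `w`. -/
theorem ClassGroups.TorusBase.mem_zpowers_of_fix (hT : h.TorusBase q e) {E X : h.Pt} (hEX : E ≠ X)
    {m : G} (hm : m ∈ h.swappers E X) {w g : G} (hw : w ∈ h.pairStab E X ⊓ centralizer {m})
    (hg : g ∈ h.pairStab E X ⊓ centralizer {m})
    (hfix : ∀ a ∈ h.grp E, w * a = a * w → g * a = a * g) : g ∈ zpowers w := by
  classical
  obtain ⟨hcyc, -⟩ := hT.field_cyclic E X hEX m hm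
  set W := h.pairStab E X ⊓ centralizer {m} with hW
  set F := h.grp E ⊓ centralizer {w} with hF
  set K := W ⊓ centralizer (F : Set G) with hK
  haveI := hcyc
  haveI : IsCyclic K := isCyclic_of_injective (Subgroup.inclusion (show K ≤ W from inf_le_left))
    (Subgroup.inclusion_injective _)
  obtain ⟨z, hz⟩ := IsCyclic.exists_generator (α := K)
  have hwK : w ∈ K := ⟨hw, mem_centralizer_iff.2 fun a ha => (mem_centralizer_singleton_iff.1 ha.2)⟩
  have hgK : g ∈ K := ⟨hg, mem_centralizer_iff.2 fun a ha =>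
    (hfix a ha.1 (mem_centralizer_singleton_iff.1 ha.2).symm).symm⟩
  have hfw := hT.field_fixed E X hEX m hm w hw
  have hfz := hT.field_fixed E X hEX m hm z z.2.1
  rw [← hF] at hfw
  have hle : Nat.card F ≤ Nat.card ↥(h.grp E ⊓ centralizer {(z : G)}) :=
    card_le_of_le fun a ha => ⟨ha.1, mem_centralizer_singleton_iff.2 (mem_centralizer_iff.1 z.2.2 a ha)⟩
  have h2 : 2 ≤ Nat.card F := by
    by_contra hlt
    have h4 := hT.four_le
    have h1 : Nat.card F = 1 := by have := Nat.card_pos (α := F); omega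
    rw [h1, one_pow] at hfw
    omega
  have hord : orderOf (z : G) ≤ orderOf w := by
    by_contra hlt
    push Not at hlt
    have := (Nat.pow_lt_pow_right (show 1 < Nat.card F by omega) hlt).trans_le
      (Nat.pow_le_pow_left hle _)
    omega
  have hKz : K = zpowers (z : G) := le_antisymm (fun x hx => by
    obtain ⟨i, hi⟩ := mem_zpowers_iff.1 (hz ⟨x, hx⟩)
    exact ⟨i, congrArg Subtype.val hi⟩) (zpowers_le.2 z.2)
  have he : zpowers w = K := eq_of_le_of_card_ge (zpowers_le.2 hwK) (by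
    rw [hKz, Nat.card_zpowers, Nat.card_zpowers]; exact hord)
  exact he ▸ hgK

end Cfsg.Agent.OddTranspX
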