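import Cfsg.Agent.Lib.OddTranspX.TorusPrimeLinear
import Cfsg.Agent.Lib.OddTranspX.NoCoverReduce
import Cfsg.Agent.Lib.GLTwo.TwoTrans

/-!
# Prime field part at least five

The linear group is `GL(r,2)`, and the involutions fixing the class are its members: no such
extension exists.
-/

set_option autoImplicit false
set_option linter.style.haveILetI false
set_option linter.unusedSectionVars false

namespace Cfsg.Agent.OddTranspX

open Subgroup MulAction

universe u

variable {G : Type u} [Group G] [Finite G] {D : Set G}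

/-- An involution fixing a class, two-class stabilizers being odd, lies in it. -/
theorem mem_grp_of_involution (h : ClassGroups D) (hodd : h.OddPair) {E A : h.Pt} (hA : A ≠ E) {x : G}
    (hx : x * x = 1) (hxE : x • E = E) : x ∈ h.grp E := by
  classical
  by_cases hx1 : x = 1
  · rw [hx1]; exact one_mem _
  have honly : ∀ {g : G}, g * g = 1 → g ≠ 1 → ∀ {B : h.Pt}, g • E = E → g • B = B → B = E := by
    intro g hg hg1 B hgE hgB
    by_contra hne
    have hm : g ∈ h.pairStab E B := mem_pairStab.2 ⟨hgE, hgB⟩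
    have h2 : 2 ∣ Nat.card (h.pairStab E B) := by
      rw [← orderOf_eq_prime (p := 2) (by rw [pow_two]; exact hg) hg1]
      exact Subgroup.orderOf_dvd_natCard _ hm
    exact Nat.not_even_iff_odd.2 (hodd E B (fun e => hne e.symm)) (even_iff_two_dvd.2 h2)
  obtain ⟨f, hf, rfl⟩ := h.exists_pt A
  rcases Nat.even_or_odd (orderOf (x * f)) with ⟨l, hl⟩ | ⟨l, hl⟩
  · exfalso
    have hpos : 0 < l := by have := orderOf_pos (x * f); omega
    set z := (x * f) ^ l with hz
    have hz2 : z * z = 1 := by rw [hz, ← pow_add, ← hl, pow_orderOf_eq_one]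
    have hz1 : z ≠ 1 := pow_ne_one_of_lt_orderOf hpos.ne' (by omega)
    have hzi : z⁻¹ = z := inv_eq_of_mul_eq_one_right hz2
    have hxi : x⁻¹ = x := inv_eq_of_mul_eq_one_right hx
    have hfi : f⁻¹ = f := h.toOT.inv hf
    have hxz : x * z * x⁻¹ = z := by
      rw [hz, ← conj_pow, ← mul_assoc x x f, hx, one_mul]
      rw [show f * x⁻¹ = (x * f)⁻¹ by rw [mul_inv_rev, hfi], inv_pow]
      exact hzi
    have hfz : z * f * z⁻¹ = f := by
      have h1 : f * z * f⁻¹ = z := by
        rw [hz, ← conj_pow, show f * (x * f) * f⁻¹ = (x * f)⁻¹ by rw [mul_inv_rev, hfi, hxi, mul_assoc, mul_assoc x f f, h.sq hf, mul_one], inv_pow]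
        exact hzi
      have h2 := mul_inv_eq_iff_eq_mul.1 h1
      rw [← h2, mul_inv_cancel_right]
    have hzE : z • E = E := honly hx hx1 hxE (by
      rw [← mul_smul, mul_inv_eq_iff_eq_mul.1 hxz, mul_smul, hxE])
    refine hA (honly hz2 hz1 hzE ?_)
    rw [h.smul_pt, h.pt_eq_iff, hfz]
  · have hxi : x⁻¹ = x := inv_eq_of_mul_eq_one_right hx
    have hfi : f⁻¹ = f := h.toOT.inv hf
    have hr : f * (x * f) * f⁻¹ = (x * f)⁻¹ := by
      rw [mul_inv_rev, hfi, hxi, mul_assoc, mul_assoc x f f, h.sq hf, mul_one]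
    have h1 : f * ((x * f) ^ (l + 1))⁻¹ = (x * f) ^ (l + 1) * f := by
      rw [← mul_inv_eq_iff_eq_mul, ← inv_pow, ← conj_pow,
        show f * (x * f)⁻¹ * f⁻¹ = (f * (x * f) * f⁻¹)⁻¹ by group, hr, inv_inv]
    have h2 : (x * f) ^ (l + 1) * f * ((x * f) ^ (l + 1))⁻¹ = x := by
      rw [mul_assoc, h1, ← mul_assoc, ← pow_add, show l + 1 + (l + 1) = 2 * l + 1 + 1 by omega, pow_succ,
        ← hl, pow_orderOf_eq_one, one_mul, mul_assoc, h.sq hf, mul_one]
    have hxD : x ∈ D := h2 ▸ h.conj f hf _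
    exact Or.inr ⟨hxD, ((h.smul_eq_iff hxD).1 hxE).symm⟩

theorem PrimeData.finrank {h : ClassGroups D} {r : ℕ} {E X : h.Pt} {C W : Subgroup G} {v₀ : G}
    (P : PrimeData h r E X C W v₀) : Module.finrank (ZMod 2) (h.Vec E) = r := by
  have h1 : Nat.card (h.Vec E) = 2 ^ r := P.torus.1.card_grp E
  rw [Module.natCard_eq_pow_finrank (K := ZMod 2), Nat.card_zmod] at h1
  exact Nat.pow_right_injective le_rfl h1

theorem torus_prime_false_large {h : ClassGroups D} {r : ℕ} {E X : h.Pt} {C W : Subgroup G} {v₀ : G}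
    (P : PrimeData h r E X C W v₀) (h5 : 5 ≤ r) : False := by
  classical
  have htop := GLTwo.eq_top_of_twoTransitive P.finrank P.torus.2 h5 (h.linRep E).range
    fun a b a' b' ha hb hab ha' hb' hab' => by
      obtain ⟨g, hga, hgb⟩ := P.two_transitive ha hb hab ha' hb' hab'
      exact ⟨_, ⟨g, rfl⟩, hga, hgb⟩
  refine NoCover.false_of_cover_any (V := h.Vec E) (X := stabilizer G E)
    { π := h.linRep E
      surj := MonoidHom.range_eq_top.1 htop
      e := fun v => ⟨h.val v, h.grp_fix (h.val v).2⟩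
      e_inj := fun v w e => ClassGroups.val_inj (congrArg (fun g : stabilizer G E => (g : G)) e)
      e_add := fun v w => Subtype.ext rfl
      π_e := fun v => (h.linRep_eq_one_iff _).2 fun w hw => h.grp_comm (h.val v).2 hw
      conj := fun x v => Subtype.ext rfl
      invol := fun x hx => ⟨h.vec E ⟨x, mem_grp_of_involution h P.torus.oddPair P.ne.symm
        (congrArg Subtype.val hx) x.2⟩, Subtype.ext rfl⟩ }
    (by rw [P.finrank]; exact h5) (by rw [P.finrank]; exact P.torus.2)

end Cfsg.Agent.OddTranspX
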