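import Cfsg.Agent.Lib.OddTranspX.TorusPrimeOrder

/-!
# The torus with prime field part: the class stabilizer is doubly transitive on the members

The linear group induced on the class has the torus as a regular subgroup which is the centralizer of
each of its non-trivial elements; as it is not normal the action is doubly transitive.
-/

set_option autoImplicit false
set_option linter.style.haveILetI false
set_option linter.unusedSectionVars false

namespace Cfsg.Agent.OddTranspX

open Subgroup MulAction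

universe u

variable {G : Type u} [Group G] [Finite G] {D : Set G}

instance (h : ClassGroups D) (E : h.Pt) : Finite (h.Vec E ≃ₗ[ZMod 2] h.Vec E) :=
  Finite.of_injective _ DFunLike.coe_injective

instance (h : ClassGroups D) (E : h.Pt) :
    MulAction (h.Vec E ≃ₗ[ZMod 2] h.Vec E) {v : h.Vec E // v ≠ 0} where
  smul y v := ⟨y v.1, fun e => v.2 (y.map_eq_zero_iff.1 e)⟩
  one_smul _ := Subtype.ext rfl
  mul_smul _ _ _ := Subtype.ext rfl

namespace PrimeData

variable {h : ClassGroups D} {r : ℕ} {E X : h.Pt} {C W : Subgroup G} {v₀ : G}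
  (P : PrimeData h r E X C W v₀)
include P

theorem fix_E {k : G} (hk : k ∈ h.pairStab E X) : k • E = E := (mem_pairStab.1 hk).1

/-- The fixed vector. -/
def base : {v : h.Vec E // v ≠ 0} :=
  ⟨h.vec E ⟨v₀, P.mem⟩, fun e => P.ne_one (congrArg (fun v => (h.val v : G)) e)⟩

theorem linRep_eq {g g' : stabilizer G E} :
    h.linRep E g = h.linRep E g' ↔ ∀ v ∈ h.grp E, Commute ((g' : G)⁻¹ * g) v := by
  rw [eq_comm, ← inv_mul_eq_one, ← map_inv, ← map_mul, h.linRep_eq_one_iff]
  rfl

theorem eq_one_of_linRep {k : stabilizer G E} (hk : (k : G) ∈ h.pairStab E X)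
    (e : h.linRep E k = 1) : k = 1 :=
  Subtype.ext (P.torus.1.faithful E X P.ne k hk fun v hv => by
    rw [((h.linRep_eq_one_iff k).1 e v hv).eq, mul_inv_cancel_right])

/-- The torus inside the linear group. -/
def linC (_ : PrimeData h r E X C W v₀) : Subgroup (h.linRep E).range :=
  (C.subgroupOf (stabilizer G E)).map (h.linRep E).rangeRestrict

/-- The two-class stabilizer inside the linear group. -/
def linK (_ : PrimeData h r E X C W v₀) : Subgroup (h.linRep E).range :=
  ((h.pairStab E X).subgroupOf (stabilizer G E)).map (h.linRep E).rangeRestrict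

/-- Its preimage in the class stabilizer. -/
def preK : Subgroup (stabilizer G E) :=
  P.linK.comap (h.linRep E).rangeRestrict

theorem mem_preK {g : stabilizer G E} :
    g ∈ P.preK ↔ ∃ μ k : G, (∀ v ∈ h.grp E, Commute μ v) ∧ k ∈ h.pairStab E X ∧ (g : G) = μ * k := by
  constructor
  · rintro ⟨k, hk, e⟩
    have e' : h.linRep E (g * k⁻¹) = 1 := by
      rw [map_mul, map_inv, mul_inv_eq_one]
      exact (congrArg Subtype.val e).symm
    exact ⟨(g : G) * (k : G)⁻¹, k, (h.linRep_eq_one_iff _).1 e', mem_subgroupOf.1 hk,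
      (inv_mul_cancel_right _ _).symm⟩
  · rintro ⟨μ, k, hμ, hk, e⟩
    refine ⟨⟨k, P.fix_E hk⟩, mem_subgroupOf.2 hk, Subtype.ext ?_⟩
    show h.linRep E ⟨k, P.fix_E hk⟩ = h.linRep E g
    rw [eq_comm, ← mul_inv_eq_one, ← map_inv, ← map_mul, h.linRep_eq_one_iff]
    show ∀ v ∈ h.grp E, Commute ((g : G) * k⁻¹) v
    rwa [e, mul_inv_cancel_right]

theorem regSetting : RegSetting P.linC P.base where
  comm := by
    rintro _ ⟨a, ha, rfl⟩ _ ⟨b, hb, rfl⟩
    rw [← map_mul, ← map_mul]
    exact congrArg _ (Subtype.ext (P.C_comm (mem_subgroupOf.1 ha) (mem_subgroupOf.1 hb)))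
  reg := by
    constructor
    · rintro ⟨_, a, ha, rfl⟩ ⟨_, b, hb, rfl⟩ e
      have e' : (a : G) * v₀ * (a : G)⁻¹ = (b : G) * v₀ * (b : G)⁻¹ :=
        congrArg (fun v : {v : h.Vec E // v ≠ 0} => (h.val v.1 : G)) e
      have hab : a = b := by
        by_contra hne
        refine P.free _ (mul_mem (inv_mem (mem_subgroupOf.1 hb)) (mem_subgroupOf.1 ha))
          (fun h1 => hne (Subtype.ext (inv_mul_eq_one.1 h1).symm)) v₀ P.mem P.ne_one ?_
        calc (b : G)⁻¹ * a * v₀ * ((b : G)⁻¹ * a)⁻¹ = (b : G)⁻¹ * ((a : G) * v₀ * (a : G)⁻¹) * b := by group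
          _ = v₀ := by rw [e']; group
      subst hab
      rfl
    · rintro ⟨v, hv⟩
      obtain ⟨c, hc, hcv⟩ := torus_regular P.torus.1 P.C_le P.card_C P.free P.mem P.ne_one
        (h.val v).2 (ClassGroups.val_ne hv)
      exact ⟨⟨_, ⟨c, P.fix_E (P.C_le hc)⟩, mem_subgroupOf.2 hc, rfl⟩,
        Subtype.ext (ClassGroups.val_inj hcv)⟩
  cent := by
    rintro _ ⟨c, hc, rfl⟩ hc1 ⟨_, g, rfl⟩ e
    have hcC : (c : G) ∈ C := mem_subgroupOf.1 hc
    have e' : h.linRep E g * h.linRep E c = h.linRep E c * h.linRep E g := congrArg Subtype.val e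
    have hc1' : (c : G) ≠ 1 := fun h1 => hc1 (by rw [show c = 1 from Subtype.ext h1, map_one])
    obtain ⟨μ, k, hμ, hk, hg⟩ := P.lift g.2 hcC hc1' ⟨c, hcC, (P.linRep_eq (g := g * c * g⁻¹)).1 (by
      rw [map_mul, map_mul, map_inv, e', mul_inv_cancel_right])⟩
    have hgk : h.linRep E g = h.linRep E ⟨k, P.fix_E hk⟩ := by
      rw [← mul_inv_eq_one, ← map_inv, ← map_mul, h.linRep_eq_one_iff]
      show ∀ v ∈ h.grp E, Commute ((g : G) * k⁻¹) v
      rwa [hg, mul_inv_cancel_right]
    have hkc : k * c = (c : G) * k := by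
      have hcP : (c : G) ∈ h.pairStab E X := P.C_le hcC
      have h1 := P.eq_one_of_linRep (k := ⟨k, P.fix_E hk⟩ * c * (⟨k, P.fix_E hk⟩ : stabilizer G E)⁻¹ * c⁻¹)
        (mul_mem (mul_mem (mul_mem hk hcP) (inv_mem hk)) (inv_mem hcP)) (by
          rw [map_mul, map_mul, map_mul, map_inv, map_inv, ← hgk, e', mul_inv_cancel_right, mul_inv_cancel])
      have h2 : k * c * k⁻¹ * (c : G)⁻¹ = 1 := congrArg Subtype.val h1
      exact mul_inv_eq_iff_eq_mul.1 (mul_inv_eq_one.1 h2)
    exact ⟨⟨k, P.fix_E hk⟩, mem_subgroupOf.2 (P.mem_C_of_comm hk hcC hc1' hkc), Subtype.ext hgk.symm⟩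

theorem card_stabNorm_le : Nat.card (stabNorm P.linC P.base) ≤ r := by
  have key : ∀ y : stabNorm P.linC P.base, ∃ w : W, h.linRep E ⟨w, P.fix_E (P.W_le w.2)⟩ =
      ((y : (h.linRep E).range) : h.Vec E ≃ₗ[ZMod 2] h.Vec E) := by
    rintro ⟨⟨_, g, rfl⟩, hn, hd⟩
    haveI := P.C_cyc
    obtain ⟨c, hc1⟩ : ∃ c : C, c ≠ 1 := by
      by_contra hno
      push Not at hno
      have : Subsingleton C := ⟨fun a b => by rw [hno a, hno b]⟩
      have h1 := P.card_C
      rw [Nat.card_of_subsingleton (1 : C)] at h1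
      have := Nat.pow_le_pow_right (n := 2) (by norm_num) P.prime.two_le
      omega
    let c' : stabilizer G E := ⟨c, P.fix_E (P.C_le c.2)⟩
    obtain ⟨c'', hc'', e⟩ := (mem_normalizer_iff.1 hn ((h.linRep E).rangeRestrict c')).1
      ⟨c', mem_subgroupOf.2 c.2, rfl⟩
    obtain ⟨μ, k, hμ, hk, hg⟩ := P.lift g.2 c.2 (fun h1 => hc1 (Subtype.ext h1))
      ⟨c'', mem_subgroupOf.1 hc'', (P.linRep_eq (g := g * c' * g⁻¹)).1 (by
        rw [map_mul, map_mul, map_inv]; exact (congrArg Subtype.val e).symm)⟩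
    have hgk : h.linRep E g = h.linRep E ⟨k, P.fix_E hk⟩ := by
      rw [← mul_inv_eq_one, ← map_inv, ← map_mul, h.linRep_eq_one_iff]
      show ∀ v ∈ h.grp E, Commute ((g : G) * k⁻¹) v
      rwa [hg, mul_inv_cancel_right]
    have hd' : h.linRep E g (h.vec E ⟨v₀, P.mem⟩) = h.vec E ⟨v₀, P.mem⟩ := congrArg Subtype.val hd
    rw [hgk] at hd'
    exact ⟨⟨k, P.mem_W hk (congrArg (fun v => (h.val v : G)) hd')⟩, hgk.symm⟩
  choose f hf using key
  exact (Nat.card_le_card_of_injective f fun y y' e => Subtype.ext (Subtype.ext (by rw [← hf, ← hf, e]))).trans P.card_W.le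

/-- **Double transitivity.** -/
theorem two_transitive {a b a' b' : h.Vec E} (ha : a ≠ 0) (hb : b ≠ 0) (hab : a ≠ b) (ha' : a' ≠ 0)
    (hb' : b' ≠ 0) (hab' : a' ≠ b') :
    ∃ g : stabilizer G E, h.linRep E g a = a' ∧ h.linRep E g b = b' := by
  classical
  have S := P.regSetting
  haveI : Finite {v : h.Vec E // v ≠ 0} := inferInstance
  have hfaith : ∀ y : (h.linRep E).range, (∀ u : {v : h.Vec E // v ≠ 0}, y • u = u) → y = 1 := by
    intro y hy
    refine Subtype.ext (LinearEquiv.ext fun v => ?_)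
    by_cases hv : v = 0
    · rw [hv]; simp
    · exact congrArg Subtype.val (hy ⟨v, hv⟩)
  let φ : (h.linRep E).range →* MulAut ↥(h.grp E) :=
    { toFun := fun y =>
        { toFun := fun v => h.val (y.1 (h.vec E v))
          invFun := fun v => h.val (y.1.symm (h.vec E v))
          left_inv := fun v => congrArg h.val (y.1.symm_apply_apply (h.vec E v))
          right_inv := fun v => congrArg h.val (y.1.apply_symm_apply (h.vec E v))
          map_mul' := fun v w => congrArg h.val (y.1.map_add (h.vec E v) (h.vec E w)) }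
      map_one' := MulEquiv.ext fun v => rfl
      map_mul' := fun y y' => MulEquiv.ext fun v => rfl }
  have hfix := two_fix_le (Y := (h.linRep E).range) (fun u : {v : h.Vec E // v ≠ 0} => h.val u.1)
    (fun u v e => Subtype.ext (ClassGroups.val_inj (congrArg Subtype.val e)))
    (fun u e => ClassGroups.val_ne u.2 (congrArg Subtype.val e))
    (fun x hx => ⟨⟨h.vec E x, fun e => hx (congrArg h.val e)⟩, rfl⟩) φ (fun g u => rfl)
  have hcardΩ : Nat.card {v : h.Vec E // v ≠ 0} + 1 = 2 ^ r := by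
    rw [← P.torus.1.card_grp E, ← Finite.card_option,
      Nat.card_congr (Equiv.optionSubtypeNe (0 : h.Vec E))]
    rfl
  have hsmall : 2 * ((Nat.card (stabNorm P.linC P.base) - 1) * (Nat.card (stabNorm P.linC P.base) - 2)) <
      Nat.card {v : h.Vec E // v ≠ 0} + 1 := by
    rw [hcardΩ]
    have h1 := P.card_stabNorm_le
    have key : ∀ n : ℕ, 2 * (n * (n + 1)) < 2 ^ (n + 2) := by
      intro n
      induction n with
      | zero => norm_num
      | succ n ih =>
        have h2 : 2 ^ (n + 1 + 2) = 2 * 2 ^ (n + 2) := by ring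
        rcases n with _ | _ | n
        · norm_num
        · norm_num
        · nlinarith
    obtain ⟨n, rfl⟩ := Nat.exists_eq_add_of_le' P.prime.two_le
    refine lt_of_le_of_lt (Nat.mul_le_mul_left 2 ?_) (key n)
    rw [mul_comm n]
    exact Nat.mul_le_mul (by omega) (by omega)
  rcases S.two_transitive_or_normal hfaith hfix hsmall with h2 | hn
  · obtain ⟨c₁, -, hc₁⟩ := S.exists_eq ⟨a, ha⟩
    obtain ⟨c₂, -, hc₂⟩ := S.exists_eq ⟨a', ha'⟩
    have h1 : c₁⁻¹ • (⟨b, hb⟩ : {v : h.Vec E // v ≠ 0}) ≠ P.base := fun e =>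
      hab (congrArg Subtype.val (hc₁.symm.trans (inv_smul_eq_iff.1 e).symm))
    have h1' : c₂⁻¹ • (⟨b', hb'⟩ : {v : h.Vec E // v ≠ 0}) ≠ P.base := fun e =>
      hab' (congrArg Subtype.val (hc₂.symm.trans (inv_smul_eq_iff.1 e).symm))
    obtain ⟨y, hy, hyb⟩ := h2 _ _ h1 h1'
    obtain ⟨g, hg⟩ := (c₂ * y * c₁⁻¹).2
    refine ⟨g, ?_, ?_⟩
    · rw [hg]
      exact congrArg Subtype.val (show (c₂ * y * c₁⁻¹) • (⟨a, ha⟩ : {v : h.Vec E // v ≠ 0}) = ⟨a', ha'⟩ by
        rw [mul_smul, mul_smul, inv_smul_eq_iff.2 hc₁.symm, hy, hc₂])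
    · rw [hg]
      exact congrArg Subtype.val (show (c₂ * y * c₁⁻¹) • (⟨b, hb⟩ : {v : h.Vec E // v ≠ 0}) = ⟨b', hb'⟩ by
        rw [mul_smul, mul_smul, hyb, smul_inv_smul])
  · exfalso
    refine P.false_of_decomp fun g hg => ?_
    haveI := P.C_cyc
    obtain ⟨c, hc1⟩ : ∃ c : C, c ≠ 1 := by
      by_contra hno
      push Not at hno
      have : Subsingleton C := ⟨fun a b => by rw [hno a, hno b]⟩
      have h1 := P.card_C
      rw [Nat.card_of_subsingleton (1 : C)] at h1
      have := Nat.pow_le_pow_right (n := 2) (by norm_num) P.prime.two_le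
      omega
    let g' : stabilizer G E := ⟨g, hg⟩
    let c' : stabilizer G E := ⟨c, P.fix_E (P.C_le c.2)⟩
    obtain ⟨c'', hc'', e⟩ := hn.conj_mem _ (⟨c', mem_subgroupOf.2 c.2, rfl⟩ :
      (h.linRep E).rangeRestrict c' ∈ P.linC) ((h.linRep E).rangeRestrict g')
    exact P.lift hg c.2 (fun h1 => hc1 (Subtype.ext h1))
      ⟨c'', mem_subgroupOf.1 hc'', (P.linRep_eq (g := g' * c' * g'⁻¹)).1 (by
        rw [map_mul, map_mul, map_inv]; exact (congrArg Subtype.val e).symm)⟩

/-- An element not in the preimage of the two-class stabilizer exists. -/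
theorem preK_ne_top : P.preK ≠ ⊤ := fun e =>
  P.false_of_decomp fun g hg => P.mem_preK.1 (e ▸ mem_top (⟨g, hg⟩ : stabilizer G E))

end PrimeData

end Cfsg.Agent.OddTranspX
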