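import Cfsg.Agent.Lib.OddTranspX.TorusPrimeSetting
import Cfsg.Agent.Lib.Suzuki.LieEquiv

/-!
# The torus with prime field part is not regular

If the stabilizer of a class is the product of the centralizer of the class and a two-class stabilizer,
the group is a Suzuki group and the orders give `(2^r - 1) r = 2^k - 1`.
-/

set_option autoImplicit false
set_option linter.style.haveILetI false
set_option linter.unusedSectionVars false

namespace Cfsg.Agent.OddTranspX

open Subgroup MulAction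

universe u

variable {G : Type u} [Group G] [Finite G] {D : Set G}

/-- The arithmetic of the orders. -/
theorem false_of_orders {a k r : ℕ} (hr : 2 ≤ r) (hk : 0 < k)
    (e : (2 ^ a + 1) * (2 ^ a * ((2 ^ r - 1) * r)) = (2 ^ k) ^ 2 * ((2 ^ k) ^ 2 + 1) * (2 ^ k - 1))
    (ha : 0 < a) (hrodd : Odd r) : False := by
  have hodd1 : ∀ {n : ℕ}, 0 < n → Odd (2 ^ n + 1) := fun {n} hn => (Nat.even_pow.2 ⟨even_two, hn.ne'⟩).add_one
  have hodd2 : ∀ {n : ℕ}, 0 < n → Odd (2 ^ n - 1) := fun {n} hn =>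
    Nat.Even.sub_odd (Nat.one_le_two_pow) (Nat.even_pow.2 ⟨even_two, hn.ne'⟩) odd_one
  have hL : Odd ((2 ^ a + 1) * ((2 ^ r - 1) * r)) := (hodd1 ha).mul ((hodd2 (by omega)).mul hrodd)
  have hR : Odd ((2 ^ (2 * k) + 1) * (2 ^ k - 1)) := (hodd1 (by omega)).mul (hodd2 hk)
  have e' : 2 ^ a * ((2 ^ a + 1) * ((2 ^ r - 1) * r)) = 2 ^ (2 * k) * ((2 ^ (2 * k) + 1) * (2 ^ k - 1)) := by
    rw [show 2 ^ (2 * k) = (2 ^ k) ^ 2 by rw [← pow_mul, mul_comm k 2]]
    linarith
  have hdvd : ∀ {i j x y : ℕ}, Odd y → 2 ^ i * x = 2 ^ j * y → i ≤ j := by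
    intro i j x y hy he
    have h1 : 2 ^ i ∣ 2 ^ j * y := ⟨x, he.symm⟩
    have h2 : Nat.Coprime (2 ^ i) y := Nat.Coprime.pow_left i (Nat.coprime_two_left.2 hy)
    exact Nat.pow_dvd_pow_iff_le_right'.1 (h2.dvd_of_dvd_mul_right h1)
  have hak : a = 2 * k := le_antisymm (hdvd hR e') (hdvd hL e'.symm)
  subst hak
  have h1 : (2 ^ r - 1) * r = 2 ^ k - 1 :=
    Nat.eq_of_mul_eq_mul_left (by positivity) (Nat.eq_of_mul_eq_mul_left (by positivity) e')
  have h2 : 2 ^ r * r + 1 = 2 ^ k + r := by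
    have := Nat.one_le_two_pow (n := k)
    have h3 := Nat.sub_mul (2 ^ r) 1 r
    have h4 : 1 * r ≤ 2 ^ r * r := Nat.mul_le_mul_right r Nat.one_le_two_pow
    omega
  have hrk : r ≤ k := by
    by_contra hlt
    have h3 : 2 ^ k ≤ 2 ^ r := Nat.pow_le_pow_right (by norm_num) (by omega)
    have h4 : 2 ^ r * 2 ≤ 2 ^ r * r := Nat.mul_le_mul_left _ hr
    have h5 := Nat.lt_two_pow_self (n := r)
    omega
  obtain ⟨u, hu⟩ := pow_dvd_pow 2 hrk
  have h6 := congrArg (· % 2 ^ r) h2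
  simp only [hu, Nat.mul_add_mod] at h6
  rw [Nat.mod_eq_of_lt (Nat.one_lt_two_pow (by omega)), Nat.mod_eq_of_lt Nat.lt_two_pow_self] at h6
  omega

namespace PrimeData

variable {h : ClassGroups D} {r : ℕ} {E X : h.Pt} {C W : Subgroup G} {v₀ : G}
  (P : PrimeData h r E X C W v₀)
include P

/-- The class stabilizer is not the product of the centralizer of the class and a two-class
stabilizer. -/
theorem false_of_decomp
    (hdec : ∀ g : G, g • E = E → ∃ μ k : G, (∀ v ∈ h.grp E, Commute μ v) ∧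
      k ∈ h.pairStab E X ∧ g = μ * k) : False := by
  classical
  have hT := P.torus
  have hfaith : ∀ k ∈ h.pairStab E X, (∀ v ∈ h.grp E, Commute k v) → k = 1 := fun k hk hv =>
    hT.1.faithful E X P.ne k hk fun v hv' => by rw [(hv v hv').eq, mul_inv_cancel_right]
  obtain ⟨F, hFf, hFt, m', hm', hF, ⟨eG⟩⟩ :=
    isoSuzuki_of_concl hT.1 (regular_endgame h hT.1.gen hT.1.exists_big hT.oddPair hT.1.two P.ne hfaith hdec)
  haveI := Agent.Suzuki.charTwo hF
  obtain ⟨e'⟩ := Agent.Suzuki.lieEquiv hm' hF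
  have hGc : Nat.card G = (2 ^ (2 * m' + 1)) ^ 2 * ((2 ^ (2 * m' + 1)) ^ 2 + 1) * (2 ^ (2 * m' + 1) - 1) := by
    rw [Nat.card_congr eG.toEquiv, ← Nat.card_congr e'.toEquiv, Agent.Suzuki.card_eq hm' hF, hF]
  obtain ⟨a, ha, haE⟩ := h.exists_pt E
  obtain ⟨x, hx, hxX⟩ := h.exists_pt X
  obtain ⟨m, hm, -⟩ := h.exists_swapper haE hxX P.ne
  obtain ⟨hfaithful, hsetup, h22⟩ := regular_setup h hT.1.exists_big hT.oddPair hT.1.two P.ne hfaith hdec hm
  haveI := hfaithful
  set M : Subgroup G := centralizer (h.grp E : Set G) with hM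
  haveI : Fact (Nat.Prime 2) := ⟨Nat.prime_two⟩
  obtain ⟨b, hb⟩ := IsPGroup.iff_card.1 (Involutions.RankOne.Char.isPGroup_two hsetup h22)
  have hb0 : 0 < b := by
    by_contra h0
    obtain rfl : b = 0 := by omega
    rw [pow_zero, Subgroup.card_eq_one] at hb
    refine h.toOT.ne_one ha ((Subgroup.eq_bot_iff_forall _).1 hb a ?_)
    exact mem_centralizer_iff.2 fun v hv => (h.grp_comm hv (haE ▸ h.self_mem_grp ha)).eq
  have hcent : ∀ μ ∈ M, ∀ v ∈ h.grp E, Commute μ v := fun μ hμ v hv => (mem_centralizer_iff.1 hμ v hv).symm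
  have hME : ∀ μ ∈ M, μ • E = E := fun μ hμ => mem_stabilizer_iff.1 (hsetup.le hμ)
  -- the points other than the class
  have hne : Nat.card {A : h.Pt // A ≠ E} = Nat.card M := by
    refine (Nat.card_eq_of_bijective (fun μ : M => (⟨(μ : G) • X, fun e => P.ne.symm
      (smul_left_cancel (μ : G) (e.trans (hME _ μ.2).symm))⟩ : {A : h.Pt // A ≠ E})) ⟨?_, ?_⟩).symm
    · intro μ μ' e
      have e' : (μ : G) • X = (μ' : G) • X := congrArg Subtype.val e
      refine Subtype.ext (inv_mul_eq_one.1 ?_).symm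
      exact P.eq_one_of_fix (hcent _ (mul_mem (inv_mem μ'.2) μ.2)) P.ne.symm
        (by rw [mul_smul, inv_smul_eq_iff, e'])
    · rintro ⟨A, hA⟩
      obtain ⟨y, hy, hyX⟩ := hT.1.two E X A P.ne.symm hA
      obtain ⟨μ, k, hμ, hk, rfl⟩ := hdec y hy
      refine ⟨⟨μ, mem_centralizer_iff.2 fun v hv => (hμ v hv).symm.eq⟩, Subtype.ext ?_⟩
      show μ • X = A
      rwa [mul_smul, (mem_pairStab.1 hk).2] at hyX
  haveI : IsPretransitive G h.Pt := ⟨fun A B => by
    by_cases hAB : A = B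
    · exact ⟨1, by rw [one_smul, hAB]⟩
    obtain ⟨p, hp, hpA⟩ := h.exists_pt A
    obtain ⟨q, hq, hqB⟩ := h.exists_pt B
    obtain ⟨g, hg, -⟩ := h.exists_swapper hpA hqB hAB
    exact ⟨g, hg.2⟩⟩
  have hPt : Nat.card h.Pt = Nat.card {A : h.Pt // A ≠ E} + 1 := by
    rw [← Nat.card_congr (Equiv.optionSubtypeNe E), Finite.card_option]
  have hH : Nat.card (stabilizer G E) = Nat.card M * Nat.card (h.pairStab E X) := by
    rw [← Nat.card_prod]
    refine (Nat.card_eq_of_bijective (fun p : M × h.pairStab E X => (⟨(p.1 : G) * p.2, mul_mem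
      (mem_stabilizer_iff.2 (hME _ p.1.2)) (mem_stabilizer_iff.2 (mem_pairStab.1 p.2.2).1)⟩ :
        stabilizer G E)) ⟨?_, ?_⟩).symm
    · rintro ⟨μ, k⟩ ⟨μ', k'⟩ e
      have e' : (μ : G) * k = μ' * k' := congrArg Subtype.val e
      have h1 : (μ : G) • X = (μ' : G) • X := by
        have := congrArg (· • X) e'
        simpa only [mul_smul, (mem_pairStab.1 k.2).2, (mem_pairStab.1 k'.2).2] using this
      have hμ : μ = μ' := Subtype.ext (inv_mul_eq_one.1
        (P.eq_one_of_fix (hcent _ (mul_mem (inv_mem μ'.2) μ.2)) P.ne.symm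
          (by rw [mul_smul, inv_smul_eq_iff, h1]))).symm
      subst hμ
      exact Prod.ext rfl (Subtype.ext (mul_left_cancel e'))
    · rintro ⟨g, hg⟩
      obtain ⟨μ, k, hμ, hk, rfl⟩ := hdec g (mem_stabilizer_iff.1 hg)
      exact ⟨(⟨μ, mem_centralizer_iff.2 fun v hv => (hμ v hv).symm.eq⟩, ⟨k, hk⟩), Subtype.ext rfl⟩
  have hG := (stabilizer G E).index_mul_card
  rw [index_stabilizer_of_transitive, hPt, hne, hH, hT.1.card_pairStab E X P.ne, hb, hGc] at hG
  exact false_of_orders P.prime.two_le (by omega) hG hb0 hT.2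

end PrimeData

end Cfsg.Agent.OddTranspX
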