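import Cfsg.Agent.Lib.OddTranspX.TorusOne
import Cfsg.Agent.Lib.OddTranspX.RegularLinear
import Mathlib.Algebra.Module.ZMod

/-!
# Classes with a torus of prime field part: the stabilizer of a class as a linear group

`PrimeData h r E X C W v₀`: two classes, the torus `C` and the field part `W`, cyclic of prime order
`r`, fixing the one member `v₀`.  The class stabilizer modulo the centralizer of the class is a linear
group with a regular subgroup, the centralizer of each of its non-trivial elements; so it is doubly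
transitive or normalizes that subgroup.
-/

set_option autoImplicit false
set_option linter.style.haveILetI false
set_option linter.unusedSectionVars false

namespace Cfsg.Agent.OddTranspX

open Subgroup MulAction

universe u

variable {G : Type u} [Group G] [Finite G] {D : Set G}

/-- The group of a class written additively. -/
def ClassGroups.Vec (h : ClassGroups D) (E : h.Pt) : Type u := Additive ↥(h.grp E)

/-- An element of the class as a vector. -/
def ClassGroups.vec (h : ClassGroups D) (E : h.Pt) (v : h.grp E) : h.Vec E := Additive.ofMul v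

/-- A vector as an element of the class. -/
def ClassGroups.val {h : ClassGroups D} {E : h.Pt} (v : h.Vec E) : h.grp E := Additive.toMul v

instance (h : ClassGroups D) (E : h.Pt) : AddCommGroup (h.Vec E) :=
  letI : CommGroup ↥(h.grp E) := { mul_comm := fun a b => Subtype.ext (h.grp_comm a.2 b.2).eq }
  inferInstanceAs (AddCommGroup (Additive ↥(h.grp E)))

instance (h : ClassGroups D) (E : h.Pt) : Finite (h.Vec E) :=
  inferInstanceAs (Finite (Additive ↥(h.grp E)))

instance (h : ClassGroups D) (E : h.Pt) : Module (ZMod 2) (h.Vec E) :=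
  AddCommGroup.zmodModule fun v => by
    rw [two_nsmul]
    exact Subtype.ext (h.grp_sq (ClassGroups.val v).2)

theorem ClassGroups.val_add {h : ClassGroups D} {E : h.Pt} (v w : h.Vec E) :
    (h.val (v + w) : G) = (h.val v : G) * (h.val w : G) := rfl

theorem ClassGroups.val_inj {h : ClassGroups D} {E : h.Pt} {v w : h.Vec E}
    (e : (h.val v : G) = (h.val w : G)) : v = w := Additive.toMul.injective (Subtype.ext e)

theorem ClassGroups.val_ne {h : ClassGroups D} {E : h.Pt} {v : h.Vec E} (hv : v ≠ 0) :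
    (h.val v : G) ≠ 1 := fun e => hv (ClassGroups.val_inj e)

/-- Conjugation by the stabilizer of a class as linear maps. -/
def ClassGroups.linRep (h : ClassGroups D) (E : h.Pt) :
    stabilizer G E →* (h.Vec E ≃ₗ[ZMod 2] h.Vec E) where
  toFun g :=
    let f : h.Vec E ≃+ h.Vec E :=
      { toFun := fun v => h.vec E ⟨(g : G) * h.val v * (g : G)⁻¹, h.grp_conj_fix g.2 (h.val v).2⟩
        invFun := fun v => h.vec E ⟨(g : G)⁻¹ * h.val v * (g : G), by
          have := h.grp_conj_fix (g⁻¹).2 (h.val v).2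
          rwa [InvMemClass.coe_inv, inv_inv] at this⟩
        left_inv := fun v => ClassGroups.val_inj (by
          show (g : G)⁻¹ * ((g : G) * h.val v * (g : G)⁻¹) * (g : G) = h.val v
          group)
        right_inv := fun v => ClassGroups.val_inj (by
          show (g : G) * ((g : G)⁻¹ * h.val v * (g : G)) * (g : G)⁻¹ = h.val v
          group)
        map_add' := fun v w => ClassGroups.val_inj (by
          show (g : G) * h.val (v + w) * (g : G)⁻¹ =
            ((g : G) * h.val v * (g : G)⁻¹) * ((g : G) * h.val w * (g : G)⁻¹)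
          rw [ClassGroups.val_add]
          group) }
    { f with map_smul' := fun c v => ZMod.map_smul f c v }
  map_one' := LinearEquiv.ext fun v => ClassGroups.val_inj (by
    show ((1 : stabilizer G E) : G) * h.val v * ((1 : stabilizer G E) : G)⁻¹ = h.val v
    simp)
  map_mul' g g' := LinearEquiv.ext fun v => ClassGroups.val_inj (by
    show ((g * g' : stabilizer G E) : G) * h.val v * ((g * g' : stabilizer G E) : G)⁻¹ =
      (g : G) * ((g' : G) * h.val v * (g' : G)⁻¹) * (g : G)⁻¹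
    rw [Subgroup.coe_mul]
    group)

theorem ClassGroups.val_linRep (h : ClassGroups D) (E : h.Pt) (g : stabilizer G E) (v : h.Vec E) :
    (h.val (h.linRep E g v) : G) = (g : G) * h.val v * (g : G)⁻¹ := rfl

theorem ClassGroups.linRep_eq_one_iff (h : ClassGroups D) {E : h.Pt} (g : stabilizer G E) :
    h.linRep E g = 1 ↔ ∀ v ∈ h.grp E, Commute (g : G) v := by
  refine ⟨fun e v hv => ?_, fun e => LinearEquiv.ext fun v => ClassGroups.val_inj ?_⟩
  · have h1 := h.val_linRep E g (h.vec E ⟨v, hv⟩)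
    rw [e] at h1
    exact (mul_inv_eq_iff_eq_mul.1 h1.symm)
  · rw [h.val_linRep]
    show (g : G) * h.val v * (g : G)⁻¹ = h.val v
    rw [(e _ (h.val v).2).eq, mul_inv_cancel_right]

/-- The data of a torus with prime field part. -/
structure PrimeData (h : ClassGroups D) (r : ℕ) (E X : h.Pt) (C W : Subgroup G) (v₀ : G) : Prop where
  torus : h.Torus (2 ^ r) r
  prime : r.Prime
  ne : E ≠ X
  C_le : C ≤ h.pairStab E X
  W_le : W ≤ h.pairStab E X
  C_cyc : IsCyclic C
  card_C : Nat.card C = 2 ^ r - 1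
  card_W : Nat.card W = r
  norm : ∀ k ∈ h.pairStab E X, ∀ c ∈ C, k * c * k⁻¹ ∈ C
  free : ∀ c ∈ C, c ≠ 1 → ∀ v ∈ h.grp E, v ≠ 1 → c * v * c⁻¹ ≠ v
  semi : ∀ c ∈ C, c ≠ 1 → ∀ A : h.Pt, c • A = A → A = E ∨ A = X
  mem : v₀ ∈ h.grp E
  ne_one : v₀ ≠ 1
  W_fix : ∀ w ∈ W, w * v₀ * w⁻¹ = v₀
  W_only : ∀ w ∈ W, w ≠ 1 → ∀ v ∈ h.grp E, v ≠ 1 → w * v * w⁻¹ = v → v = v₀

theorem exists_primeData {h : ClassGroups D} {r : ℕ} (hT : h.Torus (2 ^ r) r) (hr : r.Prime) :
    ∃ (E X : h.Pt) (C W : Subgroup G) (v₀ : G), PrimeData h r E X C W v₀ := by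
  classical
  obtain ⟨E, X, hEX⟩ := hT.1.nontrivial
  obtain ⟨C, hCK, hCcyc, hCc, hnorm, hfree, hsemi, -⟩ := hT.1.torus_part E X hEX
  obtain ⟨a, ha, haE⟩ := h.exists_pt E
  obtain ⟨x, hx, hxX⟩ := h.exists_pt X
  obtain ⟨m, hm, -⟩ := h.exists_swapper haE hxX hEX
  obtain ⟨hWcyc, hWc⟩ := hT.1.field_cyclic E X hEX m hm
  set W := h.pairStab E X ⊓ centralizer {m} with hW
  have htwo : ∀ w ∈ W, w ≠ 1 → Nat.card ↥(h.grp E ⊓ centralizer {w}) = 2 := by
    intro w hw hw1
    have ho : orderOf w = r := by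
      have h1 : orderOf w ∣ r := by
        have := Subgroup.orderOf_dvd_natCard W hw
        rwa [hWc] at this
      exact ((Nat.dvd_prime hr).1 h1).resolve_left fun e => hw1 (orderOf_eq_one_iff.1 e)
    have h2 := hT.1.field_fixed E X hEX m hm w hw
    rw [ho] at h2
    exact Nat.pow_left_injective hr.ne_zero h2
  obtain ⟨w₀, hw₀⟩ := hWcyc.exists_generator
  have hw₀1 : (w₀ : G) ≠ 1 := by
    intro e
    have he : w₀ = 1 := Subtype.ext e
    have : Subsingleton W := ⟨fun a b => by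
      obtain ⟨i, hi⟩ := Subgroup.mem_zpowers_iff.1 (hw₀ a)
      obtain ⟨j, hj⟩ := Subgroup.mem_zpowers_iff.1 (hw₀ b)
      rw [← hi, ← hj, he, one_zpow, one_zpow]⟩
    rw [Nat.card_of_subsingleton (1 : W)] at hWc
    exact hr.one_lt.ne hWc
  have hbot : (h.grp E ⊓ centralizer {(w₀ : G)}) ≠ ⊥ := fun e => by
    have := htwo _ w₀.2 hw₀1
    rw [e, Subgroup.card_bot] at this
    omega
  obtain ⟨v₀, hv₀, hv₀1⟩ : ∃ v ∈ h.grp E ⊓ centralizer {(w₀ : G)}, v ≠ 1 := by
    by_contra hno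
    push Not at hno
    exact hbot ((eq_bot_iff_forall _).2 hno)
  have hWfix : ∀ w ∈ W, w * v₀ * w⁻¹ = v₀ := by
    intro w hw
    obtain ⟨i, hi⟩ := Subgroup.mem_zpowers_iff.1 (hw₀ ⟨w, hw⟩)
    have hc : Commute v₀ (w₀ : G) := mem_centralizer_singleton_iff.1 hv₀.2
    have hw' : w = (w₀ : G) ^ i := by
      rw [← SubgroupClass.coe_zpow, hi]
    rw [hw', ← (hc.zpow_right i).eq, mul_inv_cancel_right]
  refine ⟨E, X, C, W, v₀, hT, hr, hEX, hCK, inf_le_left, hCcyc, hCc, hWc, hnorm, hfree, hsemi,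
    hv₀.1, hv₀1, hWfix, fun w hw hw1 v hv hv1 hwv => ?_⟩
  have h2 := htwo w hw hw1
  by_contra hne
  have h3 : 3 ≤ Nat.card ↥(h.grp E ⊓ centralizer {w}) := by
    let f : Fin 3 → ↥(h.grp E ⊓ centralizer {w}) := ![1,
      ⟨v₀, hv₀.1, mem_centralizer_singleton_iff.2 (mul_inv_eq_iff_eq_mul.1 (hWfix w hw)).symm⟩,
      ⟨v, hv, mem_centralizer_singleton_iff.2 (mul_inv_eq_iff_eq_mul.1 hwv).symm⟩]
    have hf : Function.Injective f := by
      intro i j hij
      have hij' : (f i : G) = (f j : G) := congrArg Subtype.val hij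
      fin_cases i <;> fin_cases j <;> simp [f, eq_comm] at hij' ⊢ <;>
        first
          | exact hv1 hij'
          | exact hv₀1 hij'
          | exact hne hij'
          | exact hne hij'.symm
    have := Nat.card_le_card_of_injective f hf
    rwa [Nat.card_eq_fintype_card, Fintype.card_fin] at this
  omega

namespace PrimeData

variable {h : ClassGroups D} {r : ℕ} {E X : h.Pt} {C W : Subgroup G} {v₀ : G}
  (P : PrimeData h r E X C W v₀)
include P

theorem C_comm {a b : G} (ha : a ∈ C) (hb : b ∈ C) : a * b = b * a := by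
  haveI := P.C_cyc
  obtain ⟨g, hg⟩ := IsCyclic.exists_generator (α := C)
  obtain ⟨i, hi⟩ := Subgroup.mem_zpowers_iff.1 (hg ⟨a, ha⟩)
  obtain ⟨j, hj⟩ := Subgroup.mem_zpowers_iff.1 (hg ⟨b, hb⟩)
  have h1 : (⟨a, ha⟩ : C) * ⟨b, hb⟩ = ⟨b, hb⟩ * ⟨a, ha⟩ := by
    rw [← hi, ← hj]; exact ((Commute.refl g).zpow_zpow i j).eq
  exact congrArg Subtype.val h1

theorem exists_mul {k : G} (hk : k ∈ h.pairStab E X) : ∃ c ∈ C, ∃ w ∈ W, k = c * w := by
  let f : C × W → h.pairStab E X := fun p => ⟨p.1 * p.2, mul_mem (P.C_le p.1.2) (P.W_le p.2.2)⟩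
  have hf : Function.Injective f := by
    rintro ⟨c, w⟩ ⟨c', w'⟩ e
    have e' : (c : G) * w = c' * w' := congrArg Subtype.val e
    have h1 : (c' : G)⁻¹ * c = (w' : G) * (w : G)⁻¹ := by
      rw [inv_mul_eq_iff_eq_mul, ← mul_assoc, ← e', mul_inv_cancel_right]
    have h2 : (c' : G)⁻¹ * c = 1 := by
      by_contra hne
      refine P.free _ (mul_mem (inv_mem c'.2) c.2) hne v₀ P.mem P.ne_one ?_
      rw [h1]
      exact P.W_fix _ (mul_mem w'.2 (inv_mem w.2))
    have hc : c = c' := Subtype.ext (inv_mul_eq_one.1 h2).symm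
    subst hc
    exact Prod.ext rfl (Subtype.ext (mul_left_cancel e'))
  obtain ⟨⟨c, w⟩, hcw⟩ := ((Nat.bijective_iff_injective_and_card f).2 ⟨hf, by
    rw [Nat.card_prod, P.card_C, P.card_W, P.torus.1.card_pairStab E X P.ne]⟩).2 ⟨k, hk⟩
  exact ⟨c, c.2, w, w.2, (congrArg Subtype.val hcw).symm⟩

theorem mem_W {k : G} (hk : k ∈ h.pairStab E X) (hfix : k * v₀ * k⁻¹ = v₀) : k ∈ W := by
  obtain ⟨c, hc, w, hw, rfl⟩ := P.exists_mul hk
  suffices hc1 : c = 1 by rwa [hc1, one_mul]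
  by_contra hne
  refine P.free c hc hne v₀ P.mem P.ne_one ?_
  calc c * v₀ * c⁻¹ = c * (w * v₀ * w⁻¹) * c⁻¹ := by rw [P.W_fix w hw]
    _ = c * w * v₀ * (c * w)⁻¹ := by group
    _ = v₀ := hfix

theorem eq_one_of_comm {w c : G} (hw : w ∈ W) (hc : c ∈ C) (hc1 : c ≠ 1) (hwc : w * c = c * w) :
    w = 1 := by
  by_contra hw1
  have hE : c • E = E := (mem_pairStab.1 (P.C_le hc)).1
  refine P.free c hc hc1 v₀ P.mem P.ne_one (P.W_only w hw hw1 _ (h.grp_conj_fix hE P.mem)
    (fun e => P.ne_one (conj_eq_one_iff.1 e)) ?_)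
  calc w * (c * v₀ * c⁻¹) * w⁻¹ = (w * c) * v₀ * (w * c)⁻¹ := by group
    _ = (c * w) * v₀ * (c * w)⁻¹ := by rw [hwc]
    _ = c * (w * v₀ * w⁻¹) * c⁻¹ := by group
    _ = c * v₀ * c⁻¹ := by rw [P.W_fix w hw]

theorem mem_C_of_comm {k c : G} (hk : k ∈ h.pairStab E X) (hc : c ∈ C) (hc1 : c ≠ 1)
    (hkc : k * c = c * k) : k ∈ C := by
  obtain ⟨c', hc', w, hw, rfl⟩ := P.exists_mul hk
  suffices hw1 : w = 1 by rwa [hw1, mul_one]
  refine P.eq_one_of_comm hw hc hc1 (mul_left_cancel (a := c') ?_)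
  rw [← mul_assoc, hkc, ← mul_assoc, ← mul_assoc, P.C_comm hc hc']

/-- An element outside the torus is conjugate to a non-trivial element of `W`. -/
theorem exists_conj {k : G} (hk : k ∈ h.pairStab E X) (hkC : k ∉ C) :
    ∃ c ∈ C, ∃ w ∈ W, w ≠ 1 ∧ k = c * w * c⁻¹ := by
  obtain ⟨c', hc', w, hw, rfl⟩ := P.exists_mul hk
  have hw1 : w ≠ 1 := fun e => hkC (by rwa [e, mul_one])
  let f : C → C := fun c =>
    ⟨(c : G) * (w * (c : G)⁻¹ * w⁻¹), mul_mem c.2 (P.norm w (P.W_le hw) _ (inv_mem c.2))⟩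
  have hf : Function.Injective f := by
    intro a b e
    have e' : (a : G) * (w * (a : G)⁻¹ * w⁻¹) = (b : G) * (w * (b : G)⁻¹ * w⁻¹) := congrArg Subtype.val e
    by_contra hne
    refine hw1 (P.eq_one_of_comm hw (mul_mem (inv_mem b.2) a.2)
      (fun h1 => hne (Subtype.ext (inv_mul_eq_one.1 h1).symm)) ?_)
    calc w * ((b : G)⁻¹ * a) = (b : G)⁻¹ * ((b : G) * (w * (b : G)⁻¹ * w⁻¹)) * w * a := by group
      _ = (b : G)⁻¹ * ((a : G) * (w * (a : G)⁻¹ * w⁻¹)) * w * a := by rw [e']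
      _ = (b : G)⁻¹ * a * w := by group
  obtain ⟨c, hc⟩ := (Finite.injective_iff_surjective.1 hf) ⟨c', hc'⟩
  have hc'' : (c : G) * (w * (c : G)⁻¹ * w⁻¹) = c' := congrArg Subtype.val hc
  exact ⟨c, c.2, w, hw, hw1, by rw [← hc'']; group⟩

/-- The centralizer of the class is semiregular on the other classes. -/
theorem eq_one_of_fix {g : G} (hg : ∀ v ∈ h.grp E, Commute g v) {A : h.Pt} (hAE : A ≠ E)
    (hgA : g • A = A) : g = 1 := by
  obtain ⟨y, hy, hyX⟩ := P.torus.1.two E X A P.ne.symm hAE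
  obtain ⟨a, ha, haE⟩ := h.exists_pt E
  have hgE : g • E = E := by
    rw [← haE, h.smul_pt, h.pt_eq_iff, (hg a (haE ▸ h.self_mem_grp ha)).eq, mul_inv_cancel_right]
  refine conj_eq_one_iff.1 (P.torus.1.faithful E X P.ne (y⁻¹ * g * y⁻¹⁻¹) (mem_pairStab.2 ⟨?_, ?_⟩)
    fun v hv => ?_)
  · rw [inv_inv, mul_smul, mul_smul, hy, hgE, inv_smul_eq_iff, hy]
  · rw [inv_inv, mul_smul, mul_smul, hyX, hgA, inv_smul_eq_iff, hyX]
  · have h1 := (hg _ (h.grp_conj_fix hy hv)).eq
    calc y⁻¹ * g * y⁻¹⁻¹ * v * (y⁻¹ * g * y⁻¹⁻¹)⁻¹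
        = y⁻¹ * (g * (y * v * y⁻¹)) * g⁻¹ * y := by group
      _ = v := by rw [h1]; group

/-- The centralizer of the class has order prime to that of the torus. -/
theorem coprime_centralizer :
    Nat.Coprime (Nat.card (centralizer (h.grp E : Set G))) (Nat.card C) := by
  classical
  set M := centralizer (h.grp E : Set G) with hM
  have hcent : ∀ μ ∈ M, ∀ v ∈ h.grp E, Commute μ v := fun μ hμ v hv => (mem_centralizer_iff.1 hμ v hv).symm
  have hME : ∀ μ ∈ M, μ • E = E := fun μ hμ => by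
    obtain ⟨a, ha, haE⟩ := h.exists_pt E
    rw [← haE, h.smul_pt, h.pt_eq_iff, (hcent μ hμ a (haE ▸ h.self_mem_grp ha)).eq, mul_inv_cancel_right]
  have hM' : Nat.card M ∣ Nat.card {A : h.Pt // A ≠ E} := by
    letI : SMul M {A : h.Pt // A ≠ E} :=
      ⟨fun μ A => ⟨(μ : G) • A.1, fun h1 => A.2 (smul_left_cancel (μ : G) (h1.trans (hME _ μ.2).symm))⟩⟩
    letI : MulAction M {A : h.Pt // A ≠ E} :=
      { one_smul := fun A => Subtype.ext (one_smul G A.1)
        mul_smul := fun c c' A => Subtype.ext (mul_smul (c : G) c' A.1) }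
    refine Forms.DicksonBasic.dvd_card_of_index (K := M) (Y := {A : h.Pt // A ≠ E}) fun A => ?_
    have : stabilizer M A = ⊥ := (eq_bot_iff_forall _).2 fun μ hμ =>
      Subtype.ext (P.eq_one_of_fix (hcent _ μ.2) A.2 (congrArg Subtype.val (mem_stabilizer_iff.1 hμ)))
    rw [this, index_bot]
  have hC' : Nat.card C ∣ Nat.card {A : h.Pt // A ≠ E ∧ A ≠ X} := by
    letI : SMul C {A : h.Pt // A ≠ E ∧ A ≠ X} :=
      ⟨fun c A => ⟨(c : G) • A.1, fun h1 => A.2.1 (smul_left_cancel (c : G)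
        (h1.trans (mem_pairStab.1 (P.C_le c.2)).1.symm)), fun h1 => A.2.2 (smul_left_cancel (c : G)
        (h1.trans (mem_pairStab.1 (P.C_le c.2)).2.symm))⟩⟩
    letI : MulAction C {A : h.Pt // A ≠ E ∧ A ≠ X} :=
      { one_smul := fun A => Subtype.ext (one_smul G A.1)
        mul_smul := fun c c' A => Subtype.ext (mul_smul (c : G) c' A.1) }
    refine Forms.DicksonBasic.dvd_card_of_index (K := C) (Y := {A : h.Pt // A ≠ E ∧ A ≠ X}) fun A => ?_
    have : stabilizer C A = ⊥ := (eq_bot_iff_forall _).2 fun c hc => by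
      by_contra hne
      rcases P.semi (c : G) c.2 (fun h1 => hne (Subtype.ext h1)) A.1
        (congrArg Subtype.val (mem_stabilizer_iff.1 hc)) with h1 | h1
      · exact A.2.1 h1
      · exact A.2.2 h1
    rw [this, index_bot]
  have hsucc : Nat.card {A : h.Pt // A ≠ E} = Nat.card {A : h.Pt // A ≠ E ∧ A ≠ X} + 1 := by
    haveI := Fintype.ofFinite h.Pt
    have e : Option {A : h.Pt // A ≠ E ∧ A ≠ X} ≃ {A : h.Pt // A ≠ E} :=
      { toFun := fun o => o.elim ⟨X, P.ne.symm⟩ fun A => ⟨A.1, A.2.1⟩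
        invFun := fun A => if hA : A.1 = X then none else some ⟨A.1, A.2, hA⟩
        left_inv := by
          rintro (_ | A)
          · simp
          · simp [A.2.2]
        right_inv := fun A => by
          by_cases hA : A.1 = X
          · simp only [dif_pos hA]
            exact Subtype.ext hA.symm
          · simp [dif_neg hA] }
    rw [← Nat.card_congr e, Finite.card_option]
  rw [hsucc] at hM'
  refine Nat.Coprime.coprime_dvd_left hM' (Nat.Coprime.coprime_dvd_right hC' ?_)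
  rw [Nat.coprime_self_add_left]
  exact Nat.coprime_one_left _

/-- **Fusion of the torus modulo the centralizer of the class.** -/
theorem lift {g c : G} (hg : g • E = E) (hc : c ∈ C) (hc1 : c ≠ 1)
    (hgc : ∃ c' ∈ C, ∀ v ∈ h.grp E, Commute (c'⁻¹ * (g * c * g⁻¹)) v) :
    ∃ μ k : G, (∀ v ∈ h.grp E, Commute μ v) ∧ k ∈ h.pairStab E X ∧ g = μ * k := by
  classical
  obtain ⟨c', hc', hgc⟩ := hgc
  set M := centralizer (h.grp E : Set G) with hM
  have hcent : ∀ {μ : G}, μ ∈ M ↔ ∀ v ∈ h.grp E, Commute μ v := fun {μ} =>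
    ⟨fun hμ v hv => (mem_centralizer_iff.1 hμ v hv).symm, fun hμ => mem_centralizer_iff.2 fun v hv => (hμ v hv).eq.symm⟩
  have hMconj : ∀ {y μ : G}, y • E = E → μ ∈ M → y * μ * y⁻¹ ∈ M := by
    intro y μ hy hμ
    refine mem_centralizer_iff.2 fun v hv => ?_
    have hv' := h.grp_conj_fix (g := y⁻¹) (inv_smul_eq_iff.2 hy.symm) hv
    calc v * (y * μ * y⁻¹) = y * ((y⁻¹ * v * y⁻¹⁻¹) * μ) * y⁻¹ := by group
      _ = y * (μ * (y⁻¹ * v * y⁻¹⁻¹)) * y⁻¹ := by rw [mem_centralizer_iff.1 hμ _ hv']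
      _ = y * μ * y⁻¹ * v := by group
  -- a power of prime order
  obtain ⟨p, hp, hpd⟩ := Nat.exists_prime_and_dvd (n := orderOf c)
    (fun e => hc1 (orderOf_eq_one_iff.1 e))
  haveI : Fact p.Prime := ⟨hp⟩
  set j := orderOf c / p
  have hcj : orderOf (c ^ j) = p := orderOf_pow_orderOf_div (orderOf_pos c).ne' hpd
  have hcj1 : c ^ j ≠ 1 := fun e => by rw [e, orderOf_one] at hcj; exact hp.one_lt.ne hcj
  set x := g * c ^ j * g⁻¹ with hx
  have hgcE : ∀ {y : G}, y ∈ C → y • E = E := fun {y} hy => (mem_pairStab.1 (P.C_le hy)).1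
  obtain ⟨ν, hν, hxe⟩ : ∃ ν ∈ M, x = c' ^ j * ν := by
    refine ⟨(c' ^ j)⁻¹ * x, ?_, (mul_inv_cancel_left _ _).symm⟩
    have hμ : c'⁻¹ * (g * c * g⁻¹) ∈ M := hcent.2 hgc
    have key : ∀ i : ℕ, (c' ^ i)⁻¹ * (g * c * g⁻¹) ^ i ∈ M := by
      intro i
      induction i with
      | zero => simp
      | succ i ih =>
        have h1 := mul_mem (hMconj (y := c'⁻¹) (inv_smul_eq_iff.2 (hgcE hc').symm) ih) hμ
        convert h1 using 1
        rw [pow_succ, pow_succ]
        group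
    have := key j
    rwa [conj_pow] at this
  let S : Type u := {A : h.Pt // ∃ μ ∈ M, μ • X = A}
  have hmove : ∀ A : S, ∃ μ ∈ M, μ • X = x • A.1 := by
    rintro ⟨A, μ, hμ, rfl⟩
    have hcE := hgcE (pow_mem hc' j)
    refine ⟨c' ^ j * (ν * μ) * (c' ^ j)⁻¹, hMconj hcE (mul_mem hν hμ), ?_⟩
    rw [hxe, mul_smul, inv_smul_eq_iff.2 (mem_pairStab.1 (P.C_le (pow_mem hc' j))).2.symm, ← mul_smul, mul_assoc]
  let f : S → S := fun A => ⟨x • A.1, hmove A⟩
  have hfi : Function.Injective f := fun A B e => Subtype.ext (smul_left_cancel x (congrArg Subtype.val e))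
  let σ : Equiv.Perm S := Equiv.ofBijective f ⟨hfi, Finite.injective_iff_surjective.1 hfi⟩
  haveI := Fintype.ofFinite S
  have hcardS : Nat.card S = Nat.card M := by
    refine (Nat.card_eq_of_bijective (fun μ : M => (⟨(μ : G) • X, μ, μ.2, rfl⟩ : S)) ⟨?_, ?_⟩).symm
    · intro μ μ' e
      have e' : (μ : G) • X = (μ' : G) • X := congrArg Subtype.val e
      refine Subtype.ext (inv_mul_eq_one.1 ?_).symm
      exact P.eq_one_of_fix (hcent.1 (mul_mem (inv_mem μ'.2) μ.2)) P.ne.symm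
        (by rw [mul_smul, inv_smul_eq_iff, e'])
    · rintro ⟨A, μ, hμ, rfl⟩
      exact ⟨⟨μ, hμ⟩, rfl⟩
  have hpM : ¬ p ∣ Fintype.card S := by
    rw [← Nat.card_eq_fintype_card, hcardS]
    intro hd
    have h1 : p ∣ Nat.gcd (Nat.card M) (Nat.card C) :=
      Nat.dvd_gcd hd (hpd.trans (Subgroup.orderOf_dvd_natCard C hc))
    rw [show Nat.gcd (Nat.card M) (Nat.card C) = 1 from P.coprime_centralizer] at h1
    exact hp.one_lt.ne' (Nat.dvd_one.1 h1)
  have hσ : σ ^ p ^ 1 = 1 := by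
    refine Equiv.ext fun A => Subtype.ext ?_
    have hxi : ∀ i : ℕ, ((σ ^ i) A).1 = x ^ i • A.1 := by
      intro i
      induction i with
      | zero => simp
      | succ i ih =>
        rw [pow_succ', pow_succ', mul_smul, ← ih]
        rfl
    rw [hxi, pow_one, hx, conj_pow, show (c ^ j) ^ p = 1 by rw [← hcj]; exact pow_orderOf_eq_one _,
      mul_one, mul_inv_cancel, one_smul]
    rfl
  obtain ⟨⟨A, μ, hμ, rfl⟩, hA⟩ := Equiv.Perm.exists_fixed_point_of_prime hpM hσ
  have hA' : x • μ • X = μ • X := congrArg Subtype.val hA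
  have hμE : μ • E = E := by
    obtain ⟨a, ha, haE⟩ := h.exists_pt E
    rw [← haE, h.smul_pt, h.pt_eq_iff, (hcent.1 hμ a (haE ▸ h.self_mem_grp ha)).eq, mul_inv_cancel_right]
  rw [hx, mul_smul, mul_smul, ← eq_inv_smul_iff] at hA'
  rcases P.semi _ (pow_mem hc j) hcj1 _ hA' with h1 | h1
  · exfalso
    rw [inv_smul_eq_iff, hg] at h1
    exact P.ne (smul_left_cancel μ (hμE.trans h1.symm))
  · refine ⟨μ, μ⁻¹ * g, hcent.1 hμ, mem_pairStab.2 ⟨?_, ?_⟩, (mul_inv_cancel_left _ _).symm⟩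
    · rw [mul_smul, hg, inv_smul_eq_iff, hμE]
    · rw [mul_smul, inv_smul_eq_iff]
      exact (inv_smul_eq_iff.1 h1).symm

end PrimeData

end Cfsg.Agent.OddTranspX
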