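import Cfsg.Agent.Lib.OddTranspX.TorusLin
import Cfsg.Agent.Lib.OddTranspX.Torus

/-!
# The semilinear torus

Pair stabilisers are `C W` with `C` the group of products of two swappers, cyclic, regular on the
members of either class and semiregular outside them, and `W` the centraliser of a swapper, a group
of field automorphisms.
-/

set_option autoImplicit false
set_option linter.style.haveILetI false
set_option linter.unusedSectionVars false

namespace Cfsg.Agent.OddTranspX

open Subgroup MulAction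

universe u

variable {G : Type u} [Group G] [Finite G] {D : Set G}

/-- Every involution is a member when two-class stabilisers are odd. -/
theorem Classes.mem_of_involution (hC : Classes D) (hodd : hC.toClassGroups.OddPair)
    {t : G} (ht : orderOf t = 2) : t ∈ D := by
  classical
  haveI : Fact (Nat.Prime 2) := ⟨Nat.prime_two⟩
  set h := hC.toClassGroups with hh
  have one_fix : ∀ s : G, orderOf s = 2 → ∀ A B : h.Pt, s • A = A → s • B = B → A = B := by
    intro s hs A B hA hB
    by_contra hne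
    have hdvd : orderOf s ∣ Nat.card (h.pairStab A B) :=
      Subgroup.orderOf_dvd_natCard _ (h.mem_pairStab.2 ⟨hA, hB⟩)
    rw [hs] at hdvd
    exact (Nat.not_even_iff_odd.2 (hodd A B hne)) (even_iff_two_dvd.2 hdvd)
  have has_fix : ∀ s : G, orderOf s = 2 → ∃ A : h.Pt, s • A = A := by
    intro s hs
    obtain ⟨a, ha, x, hx, hax, -⟩ := hC.pairGen
    haveI := Fintype.ofFinite h.Pt
    have hodd' : ¬ 2 ∣ Fintype.card h.Pt := by
      rw [← Nat.card_eq_fintype_card, ← even_iff_two_dvd, Nat.not_even_iff_odd]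
      exact hC.odd_card_pt (h.pt a ha)
    have hs2 : (MulAction.toPermHom G h.Pt s) ^ 2 ^ 1 = 1 := by
      rw [pow_one, ← map_pow, ← hs, pow_orderOf_eq_one, map_one]
    obtain ⟨A, hA⟩ := Equiv.Perm.exists_fixed_point_of_prime hodd' hs2
    exact ⟨A, hA⟩
  obtain ⟨E, hE⟩ := has_fix t ht
  obtain ⟨a, ha, x, hx, hax, -⟩ := hC.pairGen
  obtain ⟨f, hf, hfE⟩ : ∃ f : G, ∃ hf : f ∈ D, h.pt f hf ≠ E := by
    by_cases h1 : h.pt a ha = E
    · exact ⟨x, hx, fun h2 => hax (h.pt_eq_iff.1 (h1.trans h2.symm))⟩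
    · exact ⟨a, ha, h1⟩
  have htt : t * t = 1 := by rw [← pow_two, ← ht, pow_orderOf_eq_one]
  have hff := h.sq hf
  have hinv : f * (t * f) * f⁻¹ = (t * f)⁻¹ := by
    rw [mul_inv_rev, h.toOT.inv hf, inv_eq_of_mul_eq_one_right htt, mul_assoc, mul_assoc, hff, mul_one]
  rcases Nat.even_or_odd (orderOf (t * f)) with ⟨l, hl⟩ | ⟨l, hl⟩
  · exfalso
    have hlpos : 0 < l := by
      have := orderOf_pos (t * f)
      omega
    set z := (t * f) ^ l with hz
    have hzo : orderOf z = 2 := orderOf_eq_prime (by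
      rw [hz, ← pow_mul, mul_two, ← hl, pow_orderOf_eq_one])
      (pow_ne_one_of_lt_orderOf hlpos.ne' (by omega))
    have hzz : z⁻¹ = z := inv_eq_of_mul_eq_one_right (by rw [← pow_two, ← hzo, pow_orderOf_eq_one])
    have hfz : Commute f z := mul_inv_eq_iff_eq_mul.1 (by
      rw [hz, ← conj_pow, hinv, inv_pow, ← hz, hzz])
    have htz : Commute t z := by
      have h1 : Commute (t * f) z := (Commute.refl (t * f)).pow_right l
      have := h1.mul_left hfz
      rwa [mul_assoc, hff, mul_one] at this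
    obtain ⟨A, hA⟩ := has_fix z hzo
    have hfA : f • A = A := one_fix z hzo _ _ (by rw [← mul_smul, ← hfz.eq, mul_smul, hA]) hA
    have htA : t • A = A := one_fix z hzo _ _ (by rw [← mul_smul, ← htz.eq, mul_smul, hA]) hA
    exact hfE (((h.smul_eq_iff hf).1 hfA).symm.trans (one_fix t ht A E htA hE))
  · set g := (t * f) ^ l with hg
    have hfg : f * g * f⁻¹ = g⁻¹ := by rw [hg, ← conj_pow, hinv, inv_pow]
    have h1 : g * g = (t * f)⁻¹ := by
      rw [hg, ← pow_add]
      refine eq_inv_of_mul_eq_one_left ?_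
      rw [← pow_succ, show l + l + 1 = orderOf (t * f) by omega, pow_orderOf_eq_one]
    have h2 : g⁻¹ * f * g⁻¹⁻¹ = t := by
      rw [inv_inv]
      calc g⁻¹ * f * g = g⁻¹ * (f * g * f⁻¹) * f := by group
        _ = g⁻¹ * g⁻¹ * f := by rw [hfg]
        _ = (g * g)⁻¹ * f := by rw [mul_inv_rev]
        _ = t := by rw [h1, inv_inv, mul_assoc, hff, mul_one]
    exact h2 ▸ h.conj f hf g⁻¹

/-- The setting gives the facts used for the torus, for some primitive prime. -/
theorem exists_torusHyp (hB : Below G) (hC : Classes D) (hA : hC.toClassGroups.AllGen)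
    (hno : ¬ hC.toClassGroups.HasMid) :
    ∃ n p, TorusHyp hC.toClassGroups n p := by
  set h := hC.toClassGroups with hh
  obtain ⟨a, ha, x, hx, hax, -⟩ := hC.pairGen
  have hEX : h.pt a ha ≠ h.pt x hx := fun e => hax (h.pt_eq_iff.1 e)
  obtain ⟨n, hn, hcard⟩ := odd_exponent h hno hEX
  have hn3 : 3 ≤ n := by
    have h4 := hC.four_le (h.pt a ha)
    rw [hcard] at h4
    obtain ⟨j, rfl⟩ := hn
    rcases j with _ | j
    · simp at h4
    · omega
  have hall : ∀ E : h.Pt, Nat.card (h.grp E) = 2 ^ n := by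
    intro E
    obtain ⟨b, hb, rfl⟩ := h.exists_pt E
    obtain ⟨g, hg⟩ := hC.conjugate a ha b hb
    have hgE : g • h.pt a ha = h.pt b hb := by
      rw [h.smul_pt]
      exact h.pt_eq_iff.2 (hg ▸ Commute.refl _)
    rw [← hcard]
    exact (Nat.card_eq_of_bijective
      (fun v : h.grp (h.pt a ha) => (⟨g * v * g⁻¹, hgE ▸ h.grp_conj v.2⟩ : h.grp (h.pt b hb)))
      ⟨fun v w hvw => Subtype.ext ((MulAut.conj g).injective (congrArg Subtype.val hvw)), fun v =>
        ⟨⟨g⁻¹ * v * g⁻¹⁻¹, (inv_smul_eq_iff.2 hgE.symm) ▸ h.grp_conj v.2⟩, Subtype.ext (by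
          show g * (g⁻¹ * (v : G) * g⁻¹⁻¹) * g⁻¹ = v
          group)⟩⟩).symm
  obtain ⟨p, hp, hpd, hprim⟩ := CharP.Zsigmondy.zsigmondy (a := 2) (n := n) one_lt_two (by omega)
    (fun h6 => by rw [h6.2] at hn; exact absurd hn (by decide)) (fun h2 => by omega)
  refine ⟨n, p, ⟨hC.odd_pair_of_no_mid hA hno, ?_, hn, hn3, hall, hp, hpd, hprim⟩⟩
  intro E z f hf hfE hzE hzf
  have hle : closure ((h.grp E : Set G) ∪ {f}) ≤ centralizer {z} := by
    refine (closure_le _).2 fun y hy => mem_centralizer_singleton_iff.2 ?_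
    rcases hy with hy | rfl
    · exact (mul_inv_eq_iff_eq_mul.1 (hzE y hy)).symm
    · exact hzf.eq.symm
  rw [hA E f hf hfE] at hle
  have hz : z ∈ center G :=
    mem_center_iff.2 fun g => mem_centralizer_singleton_iff.1 (hle (mem_top g))
  rw [hC.center_eq_bot hB] at hz
  exact mem_bot.1 hz

end Cfsg.Agent.OddTranspX
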