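import Cfsg.Agent.Lib.OddTranspX.TorusSubBasic

/-!
# The members commuting with an element of `W` form a torus setting

In the central quotient of the group they generate the classes are the classes fixed by `w`, each
with `q₁ - 1` members, and the setting is again a `TorusBase`.
-/

set_option autoImplicit false
set_option linter.style.haveILetI false
set_option linter.unusedSectionVars false

namespace Cfsg.Agent.OddTranspX

open Subgroup MulAction

universe u

variable {G : Type u} [Group G] [Finite G] {D : Set G} {h : ClassGroups D} {q e : ℕ}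

/-- The central quotient map. -/
def subProj (D : Set G) (w : G) : ↥(centMembers D w) →* SubU D w :=
  QuotientGroup.mk' (Subgroup.center ↥(centMembers D w))

theorem subProj_surjective {w : G} : Function.Surjective (subProj D w) :=
  QuotientGroup.mk'_surjective _

theorem subProj_eq_one_iff {w : G} (y : centMembers D w) :
    subProj D w y = 1 ↔ y ∈ Subgroup.center ↥(centMembers D w) :=
  QuotientGroup.eq_one_iff y

theorem mem_subD {w : G} {y : centMembers D w} (hy : (y : G) ∈ D) : subProj D w y ∈ subD D w :=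
  ⟨y, hy, rfl⟩

theorem center_coe_iff {U : Subgroup G} (u : U) :
    u ∈ Subgroup.center ↥U ↔ (u : G) ∈ centralizer (U : Set G) := by
  rw [Subgroup.mem_center_iff, mem_centralizer_iff]
  exact ⟨fun hc g hg => congrArg Subtype.val (hc ⟨g, hg⟩), fun hc g => Subtype.ext (hc g g.2)⟩

namespace ClassGroups.SubData

variable {E X : h.Pt} {m w : G} {q1 : ℕ}

theorem commute_coe (y : centMembers D w) : Commute w (y : G) := commute_U y.2

theorem lift_commute (h : ClassGroups D) {y z : centMembers D w} (hy : (y : G) ∈ D) (hz : (z : G) ∈ D)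
    (hc : Commute (subProj D w y) (subProj D w z)) : Commute (y : G) z := by
  have hyy : y * y = 1 := Subtype.ext (by simpa using h.sq hy)
  have hzz : z * z = 1 := Subtype.ext (by simpa using h.sq hz)
  have h2 : (y * z) ^ 2 ∈ Subgroup.center ↥(centMembers D w) := by
    rw [← subProj_eq_one_iff, map_pow, map_mul, hc.mul_pow, ← map_pow, ← map_pow, pow_two,
      pow_two, hyy, hzz, map_one, one_mul]
  have hyi : y⁻¹ = y := inv_eq_of_mul_eq_one_right hyy
  have hzi : z⁻¹ = z := inv_eq_of_mul_eq_one_right hzz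
  have h3 : y * (y * z) ^ 2 * y = ((y * z) ^ 2)⁻¹ := by
    rw [pow_two, mul_inv_rev, mul_inv_rev, hyi, hzi,
      show y * (y * z * (y * z)) * y = y * y * z * (y * z * y) by simp only [mul_assoc], hyy,
      one_mul]
    simp only [mul_assoc]
  rw [mem_center_iff.1 h2 y, mul_assoc, hyy, mul_one] at h3
  have h4 : (y * z) ^ 4 = 1 := by
    rw [show 4 = 2 * 2 from rfl, pow_mul, pow_two ((y * z) ^ 2)]
    nth_rewrite 1 [h3]
    exact inv_mul_cancel _
  exact GenA.OddTransp.comm_of_four h.toOT hy hz (by simpa using congrArg Subtype.val h4)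

theorem lift_commute_iff (h : ClassGroups D) {y z : centMembers D w} (hy : (y : G) ∈ D) (hz : (z : G) ∈ D) :
    Commute (subProj D w y) (subProj D w z) ↔ Commute (y : G) z :=
  ⟨lift_commute h hy hz, fun hc => (show Commute y z from Subtype.ext hc.eq).map (subProj D w)⟩

variable (S : h.SubData q e E X m w q1)

include S

theorem not_center {y : centMembers D w} (hy : (y : G) ∈ D) :
    y ∉ Subgroup.center ↥(centMembers D w) := fun hc =>
  h.toOT.ne_one hy (S.eq_one_of_fix_member (h.self_mem_grp hy) fun _ hA =>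
    S.fix_of_central ((center_coe_iff y).1 hc) hA)

theorem proj_inj {y z : centMembers D w} (hy : (y : G) ∈ D) (hz : (z : G) ∈ D)
    (he : subProj D w y = subProj D w z) : y = z := by
  by_contra hne
  have hc : Commute (y : G) z := lift_commute h hy hz (by rw [he])
  have hne' : (y : G) ≠ z := fun e => hne (Subtype.ext e)
  have hzz : z * z = 1 := Subtype.ext (by simpa using h.sq hz)
  refine S.not_center (y := y * z) (by simpa using h.prod _ hy _ hz hc hne') ?_
  rw [← subProj_eq_one_iff, map_mul, he, ← map_mul, hzz, map_one]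

/-- The classes of the quotient. -/
theorem classGroups : ClassGroups (subD D w) := by
  refine { toOT := ⟨?_, ?_, ?_⟩, trans := ?_, prod := ?_ }
  · rintro _ ⟨y, hy, rfl⟩
    refine orderOf_eq_prime ?_ fun h1 => ?_
    · rw [← map_pow, show y ^ 2 = 1 from Subtype.ext (by simpa [pow_two] using h.sq hy), map_one]
    · exact S.not_center hy ((subProj_eq_one_iff y).1 h1)
  · rintro _ ⟨y, hy, rfl⟩ x
    obtain ⟨g, rfl⟩ := subProj_surjective (D := D) x
    exact ⟨g * y * g⁻¹, by simpa using h.conj _ hy (g : G), by simp [subProj]⟩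
  · rintro _ ⟨y, hy, rfl⟩ _ ⟨z, hz, rfl⟩
    rcases h.pair _ hy _ hz with h1 | h1
    · exact Or.inl ((lift_commute_iff h hy hz).2 h1)
    · refine Or.inr (h1.of_dvd_nat ?_)
      rw [show (y : G) * z = ((y * z : centMembers D w) : G) from rfl, Subgroup.orderOf_coe]
      show orderOf (subProj D w y * subProj D w z) ∣ _
      rw [← map_mul]
      exact orderOf_map_dvd _ _
  · rintro _ ⟨y, hy, rfl⟩ _ ⟨z, hz, rfl⟩ _ ⟨v, hv, rfl⟩ hyz hzv
    exact (lift_commute_iff h hy hv).2
      (h.trans _ hy _ hz _ hv (lift_commute h hy hz hyz) (lift_commute h hz hv hzv))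
  · rintro _ ⟨y, hy, rfl⟩ _ ⟨z, hz, rfl⟩ hc hne
    exact ⟨y * z, h.prod _ hy _ hz (lift_commute h hy hz hc)
      fun e => hne (congrArg _ (Subtype.ext e : y = z)), map_mul _ y z⟩

/-- The class of the image of a member. -/
abbrev pt' {a : centMembers D w} (ha : (a : G) ∈ D) : S.classGroups.Pt :=
  S.classGroups.pt (subProj D w a) (mem_subD ha)

theorem smul_pt_iff (g : centMembers D w) {a b : centMembers D w} (ha : (a : G) ∈ D) (hb : (b : G) ∈ D) :
    subProj D w g • S.pt' ha = S.pt' hb ↔ (g : G) • h.pt (a : G) ha = h.pt (b : G) hb := by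
  rw [ClassGroups.smul_pt, ClassGroups.smul_pt, ClassGroups.pt_eq_iff, ClassGroups.pt_eq_iff,
    ← map_mul, ← map_inv, ← map_mul,
    lift_commute_iff h (y := g * a * g⁻¹) (z := b) (by simpa using h.conj _ ha (g : G)) hb]
  simp

theorem pt_eq_iff {a b : centMembers D w} (ha : (a : G) ∈ D) (hb : (b : G) ∈ D) :
    S.pt' ha = S.pt' hb ↔ h.pt (a : G) ha = h.pt (b : G) hb := by
  rw [ClassGroups.pt_eq_iff, ClassGroups.pt_eq_iff, lift_commute_iff h ha hb]

theorem exists_pt' (A : S.classGroups.Pt) : ∃ (a : centMembers D w) (ha : (a : G) ∈ D), S.pt' ha = A := by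
  obtain ⟨x, hx, rfl⟩ := S.classGroups.exists_pt A
  obtain ⟨a, ha, rfl⟩ := id hx
  exact ⟨a, ha, rfl⟩

omit S in
theorem fix_pt' {a : centMembers D w} (ha : (a : G) ∈ D) : w • h.pt (a : G) ha = h.pt (a : G) ha :=
  fix_pt ha (commute_coe a)

theorem exists_rep {L : h.Pt} (hL : w • L = L) :
    ∃ (a : centMembers D w) (ha : (a : G) ∈ D), h.pt (a : G) ha = L := by
  obtain ⟨a, ha, haL, hwa⟩ := S.exists_member hL
  exact ⟨⟨a, mem_U ha hwa⟩, ha, haL⟩

/-- An element of the quotient fixing all classes is trivial. -/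
theorem eq_one_of_fix {x : SubU D w} (hx : ∀ A : S.classGroups.Pt, x • A = A) : x = 1 := by
  obtain ⟨u, rfl⟩ := subProj_surjective (D := D) x
  rw [subProj_eq_one_iff, center_coe_iff]
  refine S.central_of_fix u.2 fun L hL => ?_
  obtain ⟨a, ha, rfl⟩ := S.exists_rep hL
  exact (S.smul_pt_iff u ha ha).1 (hx _)

theorem exists_swap' {A B : S.classGroups.Pt} (hAB : A ≠ B) :
    ∃ (a : centMembers D w) (ha : (a : G) ∈ D) (b : centMembers D w) (hb : (b : G) ∈ D)
      (k : centMembers D w), (k : G) ∈ D ∧ S.pt' ha = A ∧ S.pt' hb = B ∧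
        h.SubData q e (h.pt (a : G) ha) (h.pt (b : G) hb) (k : G) w q1 := by
  obtain ⟨a, ha, rfl⟩ := S.exists_pt' A
  obtain ⟨b, hb, rfl⟩ := S.exists_pt' B
  obtain ⟨m', S'⟩ := S.transport (fix_pt' ha) (fix_pt' hb) fun e => hAB ((S.pt_eq_iff ha hb).2 e)
  exact ⟨a, ha, b, hb, ⟨m', S'.m_mem⟩, S'.swap.1, rfl, rfl, S'⟩

theorem transitive (A B : S.classGroups.Pt) : ∃ x : SubU D w, x • A = B := by
  by_cases hAB : A = B
  · exact ⟨1, by rw [one_smul, hAB]⟩
  · obtain ⟨a, ha, b, hb, k, hk, rfl, rfl, S'⟩ := S.exists_swap' hAB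
    exact ⟨subProj D w k, (S.smul_pt_iff k ha hb).2 S'.swap.2⟩

/-- The group of a class of the quotient. -/
theorem mem_grp_iff {a : centMembers D w} (ha : (a : G) ∈ D) {x : SubU D w} :
    x ∈ S.classGroups.grp (S.pt' ha) ↔
      ∃ y : centMembers D w, (y : G) ∈ h.grp (h.pt (a : G) ha) ∧ subProj D w y = x := by
  constructor
  · rintro (rfl | ⟨hxD, hx⟩)
    · exact ⟨1, one_mem _, map_one _⟩
    · obtain ⟨y, hy, rfl⟩ := id hxD
      exact ⟨y, Or.inr ⟨hy, (S.pt_eq_iff hy ha).1 hx⟩, rfl⟩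
  · rintro ⟨y, hy | ⟨hy, hyp⟩, rfl⟩
    · exact Or.inl (by rw [show y = 1 from Subtype.ext hy, map_one])
    · exact Or.inr ⟨mem_subD hy, (S.pt_eq_iff hy ha).2 hyp⟩

theorem grp_inj {L : h.Pt} {y z : centMembers D w} (hy : (y : G) ∈ h.grp L) (hz : (z : G) ∈ h.grp L)
    (he : subProj D w y = subProj D w z) : y = z := by
  by_contra hne
  have hyz : (y : G) * z ∈ h.grp L := mul_mem hy hz
  rcases hyz with h1 | ⟨hD, -⟩
  · exact hne (Subtype.ext (by rw [eq_inv_of_mul_eq_one_left h1, h.grp_inv hz]))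
  · refine S.not_center (y := y * z) (by simpa using hD) ?_
    have hzz : z * z = 1 := Subtype.ext (by simpa using h.grp_sq hz)
    rw [← subProj_eq_one_iff, map_mul, he, ← map_mul, hzz, map_one]

theorem card_grp' (A : S.classGroups.Pt) : Nat.card (S.classGroups.grp A) = q1 := by
  obtain ⟨a, ha, rfl⟩ := S.exists_pt' A
  refine Eq.trans ?_ (S.card_member (fix_pt' ha))
  refine (Nat.card_eq_of_bijective (fun y : ↥(h.grp (h.pt (a : G) ha) ⊓ centralizer {w}) =>
    (⟨subProj D w ⟨y, by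
      rcases y.2.1 with h1 | ⟨hD, -⟩
      · rw [h1]; exact one_mem _
      · exact mem_U hD (mem_centralizer_singleton_iff.1 y.2.2).symm⟩,
      (S.mem_grp_iff ha).2 ⟨_, y.2.1, rfl⟩⟩ : S.classGroups.grp (S.pt' ha))) ⟨?_, ?_⟩).symm
  · intro y z hyz
    exact Subtype.ext (congrArg (fun t : centMembers D w => (t : G))
      (S.grp_inj (L := h.pt (a : G) ha) y.2.1 z.2.1 (congrArg Subtype.val hyz)))
  · rintro ⟨x, hx⟩
    obtain ⟨y, hy, rfl⟩ := (S.mem_grp_iff ha).1 hx
    exact ⟨⟨y, hy, mem_centralizer_singleton_iff.2 (commute_coe y).eq.symm⟩, rfl⟩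

/-- The classes of the quotient are the fixed classes. -/
theorem card_pt' : Nat.card S.classGroups.Pt = Nat.card {L : h.Pt // w • L = L} := by
  refine (Nat.card_eq_of_bijective (fun L : {L : h.Pt // w • L = L} =>
    S.pt' (S.exists_rep L.2).choose_spec.choose) ⟨fun L K hLK => ?_, fun A => ?_⟩).symm
  · exact Subtype.ext ((S.exists_rep L.2).choose_spec.choose_spec.symm.trans
      (((S.pt_eq_iff _ _).1 hLK).trans (S.exists_rep K.2).choose_spec.choose_spec))
  · obtain ⟨a, ha, rfl⟩ := S.exists_pt' A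
    exact ⟨⟨_, fix_pt' ha⟩, (S.pt_eq_iff _ ha).2 (S.exists_rep (fix_pt' ha)).choose_spec.choose_spec⟩

/-- No midpoint. -/
theorem no_mid' : ¬ S.classGroups.HasMid := by
  rintro ⟨E', X', hne, v, hv, m', hm', hsw, hmid⟩
  obtain ⟨a, ha, rfl⟩ := S.exists_pt' E'
  obtain ⟨b, hb, rfl⟩ := S.exists_pt' X'
  obtain ⟨k, hk, rfl⟩ := id hm'
  obtain ⟨y, hy, rfl⟩ := (S.mem_grp_iff ha).1 hv
  exact S.base.no_mid ⟨h.pt (a : G) ha, h.pt (b : G) hb, fun e => hne ((S.pt_eq_iff ha hb).2 e),
    (y : G), hy, (k : G), hk, (S.smul_pt_iff k ha hb).1 hsw,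
    ((S.smul_pt_iff y hb hk).1 hmid.symm).symm⟩

omit S in
theorem gen' : Subgroup.closure (subD D w) = ⊤ := by
  have htop : Subgroup.closure {y : centMembers D w | (y : G) ∈ D} = ⊤ := by
    have he : {y : centMembers D w | (y : G) ∈ D} = (fun y : centMembers D w => (y : G)) ⁻¹' {y | y ∈ D ∧ Commute w y} :=
      Set.ext fun y => ⟨fun hy => ⟨hy, commute_coe y⟩, fun hy => hy.1⟩
    rw [he]
    exact closure_closure_coe_preimage
  rw [subD, ← MonoidHom.map_closure, htop]
  exact map_top_of_surjective _ (QuotientGroup.mk'_surjective _)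

theorem two' : S.classGroups.TwoTrans := by
  intro A B B' hB hB'
  obtain ⟨a, ha, rfl⟩ := S.exists_pt' A
  obtain ⟨b, hb, rfl⟩ := S.exists_pt' B
  obtain ⟨b', hb', rfl⟩ := S.exists_pt' B'
  obtain ⟨u, hu, hua, hub⟩ := S.two (fix_pt' ha) (fix_pt' hb) (fix_pt' hb')
    (fun e => hB ((S.pt_eq_iff hb ha).2 e)) (fun e => hB' ((S.pt_eq_iff hb' ha).2 e))
  exact ⟨subProj D w ⟨u, hu⟩, (S.smul_pt_iff ⟨u, hu⟩ ha ha).2 hua, (S.smul_pt_iff ⟨u, hu⟩ hb hb').2 hub⟩

theorem center' : Subgroup.center (SubU D w) = ⊥ := by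
  refine (eq_bot_iff_forall _).2 fun x hx => S.eq_one_of_fix fun A => ?_
  obtain ⟨z, hz, rfl⟩ := S.classGroups.exists_pt A
  rw [ClassGroups.smul_pt, ClassGroups.pt_eq_iff, ← mem_center_iff.1 hx z, mul_inv_cancel_right]

theorem core' (N : Subgroup (SubU D w)) (hN : N.Normal) (hp : IsPGroup 2 N) : N = ⊥ := by
  classical
  haveI : Fact (Nat.Prime 2) := ⟨Nat.prime_two⟩
  set h' := S.classGroups
  obtain ⟨a, ha, -⟩ := S.exists_rep S.fix_E
  set E' := S.pt' ha
  have hV : IsPGroup 2 (h'.grp E') := fun v => ⟨1, Subtype.ext (by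
    rw [SubgroupClass.coe_pow, pow_one, pow_two]; exact h'.grp_sq v.2)⟩
  -- the number of classes is odd
  have hodd : ¬ 2 ∣ Nat.card h'.Pt := by
    intro h2
    have h1 := hV.card_modEq_card_fixedPoints (α := h'.Pt)
    have hone : Nat.card (fixedPoints (h'.grp E') h'.Pt) = 1 := by
      refine Nat.card_eq_one_iff_unique.2 ⟨⟨fun A B => Subtype.ext ?_⟩, ⟨⟨E', fun v => h'.grp_fix v.2⟩⟩⟩
      have hEa : subProj D w a ∈ h'.grp E' := h'.self_mem_grp (mem_subD ha)
      have key : ∀ C : fixedPoints (h'.grp E') h'.Pt, (C : h'.Pt) = E' := fun C => by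
        by_contra hne
        exact h'.toOT.ne_one (mem_subD ha) (h'.grp_semiregular hEa (C.2 ⟨_, hEa⟩) hne)
      rw [key A, key B]
    rw [hone] at h1
    have := (Nat.modEq_zero_iff_dvd.2 h2).symm.trans h1
    exact absurd this (by decide)
  -- a fixed class of `N`, hence all
  obtain ⟨A, hA⟩ : ∃ A : h'.Pt, ∀ x : N, x • A = A := by
    by_contra hno
    push Not at hno
    refine hodd (Nat.modEq_zero_iff_dvd.1 ((hp.card_modEq_card_fixedPoints (α := h'.Pt)).trans ?_))
    haveI : IsEmpty (fixedPoints N h'.Pt) := ⟨fun A => by obtain ⟨x, hx⟩ := hno A; exact hx (A.2 x)⟩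
    rw [Nat.card_of_isEmpty]
  refine (eq_bot_iff_forall N).2 fun x hx => S.eq_one_of_fix fun B => ?_
  obtain ⟨g, hg⟩ := S.transitive A B
  have h1 := hA ⟨g⁻¹ * x * g⁻¹⁻¹, hN.conj_mem x hx g⁻¹⟩
  rw [Subgroup.mk_smul, inv_inv, mul_smul, mul_smul, hg, inv_smul_eq_iff, hg] at h1
  exact h1

/-- The quotient is smaller. -/
theorem card_lt (hw1 : w ≠ 1) : Nat.card (SubU D w) < Nat.card G := by
  have hne : centMembers D w ≠ ⊤ := by
    intro he
    have hc : w ∈ Subgroup.center G := mem_center_iff.2 fun g =>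
      (commute_U (D := D) (w := w) (he ▸ mem_top g)).eq.symm
    rw [S.base.center_bot, mem_bot] at hc
    exact hw1 hc
  refine lt_of_le_of_lt (Nat.card_le_card_of_surjective _ (subProj_surjective (D := D)))
    (lt_of_le_of_ne (card_le_card_group _) fun he => hne (eq_top_of_card_eq _ he))

/-- An element of `U` whose image fixes two classes and centralizes the first is central. -/
theorem faithful_pair {g : centMembers D w} (hg : (g : G) ∈ h.pairStab E X)
    (hfix : ∀ y : centMembers D w, (y : G) ∈ h.grp E → subProj D w g * subProj D w y * (subProj D w g)⁻¹ = subProj D w y) :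
    g ∈ Subgroup.center ↥(centMembers D w) := by
  rw [center_coe_iff]
  refine central_of_zpowers (S.mem_zpowers_of_faithful hg fun a ha hwa => ?_)
  by_cases ha1 : a = 1
  · rw [ha1]; exact Commute.one_right _
  let y : centMembers D w := ⟨a, mem_U (ha.resolve_left ha1).1 hwa⟩
  have h1 : g * y * g⁻¹ = y := S.grp_inj (L := E) (by
    simpa using h.grp_conj_fix (mem_pairStab.1 hg).1 ha) ha (by rw [map_mul, map_mul, map_inv]; exact hfix y ha)
  exact mul_inv_eq_iff_eq_mul.1 (congrArg Subtype.val h1)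

end ClassGroups.SubData

end Cfsg.Agent.OddTranspX
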