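import Cfsg.Agent.Lib.OddTranspX.TorusSub

/-!
# The descent of the torus setting: `sub_torus`

The torus of a pair of fixed classes is the image of the centralizer of `w` in `C`, the field part
the image of `U ∩ W`, of order dividing `e / orderOf w`.
-/

set_option autoImplicit false
set_option linter.style.haveILetI false
set_option linter.unusedSectionVars false

namespace Cfsg.Agent.OddTranspX

open Subgroup MulAction

universe u

variable {G : Type u} [Group G] [Finite G] {D : Set G} {h : ClassGroups D} {q e : ℕ}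

namespace ClassGroups.SubData

variable {E X : h.Pt} {m w : G} {q1 : ℕ} (S : h.SubData q e E X m w q1)

include S

/-- The data at a given pair of classes and a given swapper. -/
theorem at_pair {a b k : centMembers D w} (ha : (a : G) ∈ D) (hb : (b : G) ∈ D)
    (hne : h.pt (a : G) ha ≠ h.pt (b : G) hb) (hk : (k : G) ∈ h.swappers (h.pt (a : G) ha) (h.pt (b : G) hb)) :
    h.SubData q e (h.pt (a : G) ha) (h.pt (b : G) hb) (k : G) w q1 :=
  ⟨S.base, hne, hk, ⟨mem_pairStab.2 ⟨fix_pt' ha, fix_pt' hb⟩,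
    mem_centralizer_singleton_iff.2 (commute_coe k).eq⟩, S.card_member (fix_pt' ha), S.four⟩

/-- The stabilizer of two classes of the quotient. -/
theorem mem_pairStab' {a b : centMembers D w} (ha : (a : G) ∈ D) (hb : (b : G) ∈ D) {x : SubU D w} :
    x ∈ S.classGroups.pairStab (S.pt' ha) (S.pt' hb) ↔
      ∃ u : centMembers D w, (u : G) ∈ h.pairStab (h.pt (a : G) ha) (h.pt (b : G) hb) ∧
        subProj D w u = x := by
  constructor
  · intro hx
    obtain ⟨u, rfl⟩ := subProj_surjective (D := D) x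
    exact ⟨u, mem_pairStab.2 ⟨(S.smul_pt_iff u ha ha).1 (mem_pairStab.1 hx).1,
      (S.smul_pt_iff u hb hb).1 (mem_pairStab.1 hx).2⟩, rfl⟩
  · rintro ⟨u, hu, rfl⟩
    exact mem_pairStab.2 ⟨(S.smul_pt_iff u ha ha).2 (mem_pairStab.1 hu).1,
      (S.smul_pt_iff u hb hb).2 (mem_pairStab.1 hu).2⟩

/-- An element of the quotient commuting with the image of a swapper. -/
theorem commute_lift {u k : centMembers D w} (hk : (k : G) ∈ D)
    (hc : subProj D w u * subProj D w k = subProj D w k * subProj D w u) :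
    (u : G) * k = k * u := by
  have h1 : u * k * u⁻¹ = k := S.proj_inj (by simpa using h.conj _ hk (u : G)) hk (by
    rw [map_mul, map_mul, map_inv, hc, mul_inv_cancel_right])
  exact mul_inv_eq_iff_eq_mul.1 (congrArg Subtype.val h1)

theorem mem_fieldPart {a b k : centMembers D w} (ha : (a : G) ∈ D) (hb : (b : G) ∈ D) (hk : (k : G) ∈ D)
    {x : SubU D w} (hx : x ∈ S.classGroups.pairStab (S.pt' ha) (S.pt' hb) ⊓ centralizer {subProj D w k}) :
    ∃ u : centMembers D w, (u : G) ∈ h.pairStab (h.pt (a : G) ha) (h.pt (b : G) hb) ⊓ centralizer {(k : G)} ∧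
      subProj D w u = x := by
  obtain ⟨u, hu, rfl⟩ := (S.mem_pairStab' ha hb).1 hx.1
  exact ⟨u, ⟨hu, mem_centralizer_singleton_iff.2 (S.commute_lift hk (mem_centralizer_singleton_iff.1 hx.2))⟩, rfl⟩

/-- The torus of a pair of classes of the quotient. -/
theorem exists_torus' {a b : centMembers D w} (ha : (a : G) ∈ D) (hb : (b : G) ∈ D)
    (hne : h.pt (a : G) ha ≠ h.pt (b : G) hb) :
    ∃ C' : Subgroup (SubU D w), S.classGroups.TorData q1 (S.pt' ha) (S.pt' hb) C' ∧
      ∀ k : centMembers D w, (k : G) ∈ h.swappers (h.pt (a : G) ha) (h.pt (b : G) hb) →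
        ∀ x ∈ S.classGroups.pairStab (S.pt' ha) (S.pt' hb), ∃ c ∈ C',
          ∃ v ∈ S.classGroups.pairStab (S.pt' ha) (S.pt' hb) ⊓ centralizer {subProj D w k}, c * v = x := by
  obtain ⟨m', S0⟩ := S.transport (fix_pt' ha) (fix_pt' hb) hne
  obtain ⟨C, hC⟩ := S.base.exists_tor hne
  set C0 := C ⊓ centralizer {w} with hC0
  have hC0U : C0 ≤ centMembers D w := S0.torus_le hC
  set C' := (C0.subgroupOf (centMembers D w)).map (subProj D w) with hC'
  have hker : ∀ c : centMembers D w, (c : G) ∈ C → c ∈ Subgroup.center ↥(centMembers D w) → c = 1 :=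
    fun c hcC hc => Subtype.ext (hC.eq_one_of_commute S.base S0.swap hcC
      (mem_centralizer_iff.1 ((center_coe_iff c).1 hc) m' S0.m_mem).symm)
  have hinj : Set.InjOn (subProj D w) (C0.subgroupOf (centMembers D w)) := by
    intro c hc c' hc' he
    have h1 := hker (c⁻¹ * c') (mul_mem (inv_mem hc.1) hc'.1) (by
      rw [← subProj_eq_one_iff, map_mul, map_inv, he, inv_mul_cancel])
    exact inv_mul_eq_one.1 h1
  have hcard : Nat.card C' = q1 - 1 := by
    rw [hC', ← SetLike.coe_sort_coe, Subgroup.coe_map, Nat.card_image_of_injOn hinj]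
    exact (Nat.card_congr (Subgroup.subgroupOfEquivOfLe hC0U).toEquiv).trans (S0.torus_card hC)
  have hle : C' ≤ S.classGroups.pairStab (S.pt' ha) (S.pt' hb) := by
    rintro _ ⟨c, hc, rfl⟩
    exact (S.mem_pairStab' ha hb).2 ⟨c, hC.le hc.1, rfl⟩
  refine ⟨C', ⟨hle, ?_, hcard, ?_, ?_, ?_, ?_⟩, ?_⟩
  · haveI := hC.cyc
    haveI : IsCyclic C0 := isCyclic_of_injective (Subgroup.inclusion (show C0 ≤ C from inf_le_left))
      (Subgroup.inclusion_injective _)
    haveI : IsCyclic (C0.subgroupOf (centMembers D w)) :=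
      isCyclic_of_injective (Subgroup.subgroupOfEquivOfLe hC0U).toMonoidHom (MulEquiv.injective _)
    exact isCyclic_of_surjective ((subProj D w).subgroupMap _) (MonoidHom.subgroupMap_surjective _ _)
  · intro x hx c hc
    obtain ⟨u, hu, rfl⟩ := (S.mem_pairStab' ha hb).1 hx
    obtain ⟨c, hc, rfl⟩ := hc
    refine ⟨u * c * u⁻¹, ⟨hC.normal _ hu _ hc.1, mem_centralizer_singleton_iff.2
      (commute_coe (u * c * u⁻¹)).eq.symm⟩, by simp⟩
  · rintro _ ⟨c, hc, rfl⟩ hc1 v hv hv1 heq
    obtain ⟨y, hy, rfl⟩ := (S.mem_grp_iff ha).1 hv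
    rw [← map_inv, ← map_mul, ← map_mul] at heq
    have h1 := S.grp_inj (L := h.pt (a : G) ha)
      (by simpa using h.grp_conj_fix (mem_pairStab.1 (hC.le hc.1)).1 hy) hy heq
    refine hC.free _ hc.1 (fun e => hc1 ?_) _ hy (fun e => hv1 ?_) (by simpa using congrArg Subtype.val h1)
    · rw [show c = 1 from Subtype.ext e, map_one]
    · rw [show y = 1 from Subtype.ext e, map_one]
  · rintro _ ⟨c, hc, rfl⟩ hc1 A hA
    obtain ⟨d, hd, rfl⟩ := S.exists_pt' A
    rcases hC.fix _ hc.1 (fun e => hc1 (by rw [show c = 1 from Subtype.ext e, map_one])) _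
      ((S.smul_pt_iff c hd hd).1 hA) with e | e
    · exact Or.inl ((S.pt_eq_iff hd ha).2 e)
    · exact Or.inr ((S.pt_eq_iff hd hb).2 e)
  · rintro x ⟨hxD, hx⟩ _ ⟨c, hc, rfl⟩
    obtain ⟨k, hk, rfl⟩ := id hxD
    have h1 : k * c * k = c⁻¹ := Subtype.ext (by
      simpa using hC.invert (k : G) ⟨hk, (S.smul_pt_iff k ha hb).1 hx⟩ _ hc.1)
    show subProj D w k * subProj D w c * subProj D w k = (subProj D w c)⁻¹
    rw [← map_mul, ← map_mul, h1, map_inv]
  · intro k hk x hx
    obtain ⟨u, hu, rfl⟩ := (S.mem_pairStab' ha hb).1 hx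
    obtain ⟨c, hc, v, hv, he⟩ := hC.exists_mul S.base hne hk hu
    have Sk := S.at_pair ha hb hne hk
    haveI := (S.base.field_cyclic _ _ hne _ hk).1
    have hvw : Commute w v := congrArg Subtype.val
      (IsMulCommutative.is_comm.comm (⟨w, Sk.mem⟩ : ↥(h.pairStab _ _ ⊓ centralizer {(k : G)})) ⟨v, hv⟩)
    have hcv : c = (u : G) * v⁻¹ := by rw [← he, mul_inv_cancel_right]
    have hcw : Commute w c := hcv ▸ (commute_coe u).mul_right hvw.inv_right
    have hcU : c ∈ centMembers D w := hC0U ⟨hc, mem_centralizer_singleton_iff.2 hcw.eq.symm⟩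
    have hvU : v ∈ centMembers D w := by
      rw [show v = c⁻¹ * (u : G) by rw [← he, inv_mul_cancel_left]]
      exact mul_mem (inv_mem hcU) u.2
    refine ⟨subProj D w ⟨c, hcU⟩, mem_map_of_mem _ ⟨hc, mem_centralizer_singleton_iff.2 hcw.eq.symm⟩,
      subProj D w ⟨v, hvU⟩, ⟨(S.mem_pairStab' ha hb).2 ⟨_, hv.1, rfl⟩, ?_⟩, ?_⟩
    · refine mem_centralizer_singleton_iff.2 ?_
      rw [← map_mul, ← map_mul]
      exact congrArg _ (Subtype.ext (mem_centralizer_singleton_iff.1 hv.2))
    · rw [← map_mul]; exact congrArg _ (Subtype.ext he)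

/-- The stabilizer of two classes of the quotient has order `(q₁ - 1)` times its field part. -/
theorem card_split {a b k : centMembers D w} (ha : (a : G) ∈ D) (hb : (b : G) ∈ D)
    (hne : h.pt (a : G) ha ≠ h.pt (b : G) hb) (hk : (k : G) ∈ h.swappers (h.pt (a : G) ha) (h.pt (b : G) hb)) :
    Nat.card (S.classGroups.pairStab (S.pt' ha) (S.pt' hb)) = (q1 - 1) *
      Nat.card ↥(S.classGroups.pairStab (S.pt' ha) (S.pt' hb) ⊓ centralizer {subProj D w k}) := by
  obtain ⟨C', hC', hdec⟩ := S.exists_torus' ha hb hne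
  rw [← hC'.card, ← Nat.card_prod]
  set K' := S.classGroups.pairStab (S.pt' ha) (S.pt' hb)
  refine (Nat.card_eq_of_bijective (fun p : C' × ↥(K' ⊓ centralizer {subProj D w k}) =>
    (⟨(p.1 : SubU D w) * p.2, mul_mem (hC'.le p.1.2) p.2.2.1⟩ : K')) ⟨?_, fun x => ?_⟩).symm
  · rintro ⟨⟨c, hc⟩, ⟨v, hv⟩⟩ ⟨⟨c', hc'⟩, ⟨v', hv'⟩⟩ hp
    have he : c * v = c' * v' := congrArg Subtype.val hp
    have h1 : c'⁻¹ * c = v' * v⁻¹ := by
      rw [inv_mul_eq_iff_eq_mul, ← mul_assoc, ← he, mul_inv_cancel_right]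
    have hcc : c'⁻¹ * c ∈ C' := mul_mem (inv_mem hc') hc
    have hcom : (c'⁻¹ * c) * subProj D w k = subProj D w k * (c'⁻¹ * c) := by
      rw [h1]; exact mem_centralizer_singleton_iff.1 (mul_mem hv'.2 (inv_mem hv.2))
    have hsw : subProj D w k ∈ S.classGroups.swappers (S.pt' ha) (S.pt' hb) :=
      ⟨mem_subD hk.1, (S.smul_pt_iff k ha hb).2 hk.2⟩
    have h3 := hC'.invert _ hsw _ hcc
    rw [← hcom, mul_assoc, S.classGroups.sq hsw.1, mul_one, eq_inv_iff_mul_eq_one] at h3
    have hodd : Odd (Nat.card C') := by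
      rw [hC'.card]
      obtain ⟨n, -, hn⟩ := odd_exponent S.classGroups S.no_mid' (fun e => hne ((S.pt_eq_iff ha hb).1 e))
      rw [S.card_grp'] at hn
      refine Nat.Even.sub_odd (by have := S.four; omega) ?_ odd_one
      rw [hn]
      refine Nat.even_pow.2 ⟨even_two, fun e0 => ?_⟩
      rw [e0, pow_zero] at hn
      have := S.four
      omega
    have h2 : c'⁻¹ * c = 1 := RootInvolutions.Basic.eq_one_of_odd
      (hodd.of_dvd_nat (C'.orderOf_dvd_natCard hcc)) (n := 1) (by rw [pow_one, pow_two, h3])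
    have e1 : c = c' := (inv_mul_eq_one.1 h2).symm
    subst e1
    exact Prod.ext rfl (Subtype.ext (mul_left_cancel he))
  · obtain ⟨c, hc, v, hv, he⟩ := hdec k hk x x.2
    exact ⟨(⟨c, hc⟩, ⟨v, hv⟩), Subtype.ext he⟩

theorem card_pairStab_eq {A B A' B' : S.classGroups.Pt} (hAB : A ≠ B) (hAB' : A' ≠ B') :
    Nat.card (S.classGroups.pairStab A B) = Nat.card (S.classGroups.pairStab A' B') := by
  obtain ⟨g, hg⟩ := S.transitive A A'
  obtain ⟨g', hg'A, hg'B⟩ := S.two' A' (g • B) B' (fun e => hAB (smul_left_cancel g (hg.trans e.symm)))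
    hAB'.symm
  obtain ⟨f, hA, hB⟩ : ∃ f : SubU D w, f • A = A' ∧ f • B = B' :=
    ⟨g' * g, by rw [mul_smul, hg, hg'A], by rw [mul_smul, hg'B]⟩
  have hA' : f⁻¹ • A' = A := by rw [← hA, inv_smul_smul]
  have hB' : f⁻¹ • B' = B := by rw [← hB, inv_smul_smul]
  have hmap : (S.classGroups.pairStab A B).map (MulAut.conj f).toMonoidHom = S.classGroups.pairStab A' B' := by
    refine le_antisymm ?_ ?_
    · rintro _ ⟨x, hx, rfl⟩
      obtain ⟨hxA, hxB⟩ := mem_pairStab.1 hx
      refine mem_pairStab.2 ⟨?_, ?_⟩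
      · show (f * x * f⁻¹) • A' = A'
        rw [mul_smul, mul_smul, hA', hxA, hA]
      · show (f * x * f⁻¹) • B' = B'
        rw [mul_smul, mul_smul, hB', hxB, hB]
    · intro x hx
      obtain ⟨hxA, hxB⟩ := mem_pairStab.1 hx
      refine ⟨f⁻¹ * x * f, mem_pairStab.2 ⟨?_, ?_⟩, by simp [mul_assoc]⟩
      · rw [mul_smul, mul_smul, hA, hxA, hA']
      · rw [mul_smul, mul_smul, hB, hxB, hB']
  rw [← hmap, card_map_of_injective (f := (MulAut.conj f).toMonoidHom) (MulAut.conj f).injective]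

/-- The order of the image of an element of the field part. -/
theorem orderOf_image {a b k : centMembers D w} (ha : (a : G) ∈ D) (hb : (b : G) ∈ D)
    (hne : h.pt (a : G) ha ≠ h.pt (b : G) hb) (hk : (k : G) ∈ h.swappers (h.pt (a : G) ha) (h.pt (b : G) hb))
    {u : centMembers D w} (hu : (u : G) ∈ h.pairStab (h.pt (a : G) ha) (h.pt (b : G) hb) ⊓ centralizer {(k : G)})
    (n : ℕ) : subProj D w u ^ n = 1 ↔ (u : G) ^ n ∈ zpowers w := by
  rw [← map_pow, subProj_eq_one_iff, center_coe_iff]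
  refine ⟨fun hc => ?_, fun hz => by rw [SubgroupClass.coe_pow]; exact central_of_zpowers hz⟩
  rw [SubgroupClass.coe_pow] at hc
  exact (S.at_pair ha hb hne hk).center_mem hc

/-- **The torus setting descends.** -/
theorem sub_torus : ∃ h' : ClassGroups (subD D w), ∃ e' : ℕ, e' ∣ e / orderOf w ∧ h'.TorusBase q1 e' ∧
    Nat.card h'.Pt = Nat.card {L : h.Pt // w • L = L} := by
  classical
  obtain ⟨a, ha, haE⟩ := S.exists_rep S.fix_E
  obtain ⟨b, hb, hbX⟩ := S.exists_rep S.fix_X
  subst haE hbX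
  let k : centMembers D w := ⟨m, S.m_mem⟩
  have hne := S.ne
  have hAB : S.pt' ha ≠ S.pt' hb := fun e => hne ((S.pt_eq_iff ha hb).1 e)
  set e' := Nat.card ↥(S.classGroups.pairStab (S.pt' ha) (S.pt' hb) ⊓ centralizer {subProj D w k}) with he'
  have hpair : ∀ A B : S.classGroups.Pt, A ≠ B →
      Nat.card (S.classGroups.pairStab A B) = (q1 - 1) * e' := fun A B h1 =>
    (S.card_pairStab_eq h1 hAB).trans (S.card_split (k := k) ha hb hne S.swap)
  -- the field part at every pair
  have hfield : ∀ A B : S.classGroups.Pt, A ≠ B → ∀ x ∈ S.classGroups.swappers A B,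
      ∃ (a : centMembers D w) (ha : (a : G) ∈ D) (b : centMembers D w) (hb : (b : G) ∈ D) (k : centMembers D w),
        h.pt (a : G) ha ≠ h.pt (b : G) hb ∧ (k : G) ∈ h.swappers (h.pt (a : G) ha) (h.pt (b : G) hb) ∧
        S.pt' ha = A ∧ S.pt' hb = B ∧ subProj D w k = x := by
    intro A B h1 x hx
    obtain ⟨a, ha, rfl⟩ := S.exists_pt' A
    obtain ⟨b, hb, rfl⟩ := S.exists_pt' B
    obtain ⟨k, hk, hkx⟩ := id hx.1
    have hx2 := hx.2
    rw [← hkx] at hx2
    exact ⟨a, ha, b, hb, k, fun e => h1 ((S.pt_eq_iff ha hb).2 e), ⟨hk, (S.smul_pt_iff k ha hb).1 hx2⟩,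
      rfl, rfl, hkx⟩
  have hcyc : ∀ {a b k : centMembers D w} (ha : (a : G) ∈ D) (hb : (b : G) ∈ D)
      (_ : h.pt (a : G) ha ≠ h.pt (b : G) hb)
      (_ : (k : G) ∈ h.swappers (h.pt (a : G) ha) (h.pt (b : G) hb)),
      ∃ u : centMembers D w, (u : G) ∈ h.pairStab (h.pt (a : G) ha) (h.pt (b : G) hb) ⊓ centralizer {(k : G)} ∧
        S.classGroups.pairStab (S.pt' ha) (S.pt' hb) ⊓ centralizer {subProj D w k} = zpowers (subProj D w u) := by
    intro a b k ha hb hne hk
    set W := h.pairStab (h.pt (a : G) ha) (h.pt (b : G) hb) ⊓ centralizer {(k : G)} with hW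
    haveI := (S.base.field_cyclic _ _ hne _ hk).1
    haveI : IsCyclic ↥(W.subgroupOf (centMembers D w)) := isCyclic_of_injective
      (((centMembers D w).subtype.comp (W.subgroupOf (centMembers D w)).subtype).codRestrict W fun x => x.2)
      (fun x y hxy => Subtype.ext (Subtype.ext (Subtype.ext_iff.1 hxy :)))
    obtain ⟨⟨u, hu⟩, hgen⟩ := IsCyclic.exists_generator (α := ↥(W.subgroupOf (centMembers D w)))
    refine ⟨u, hu, le_antisymm (fun x hx => ?_) (zpowers_le.2 ⟨(S.mem_pairStab' ha hb).2 ⟨u, hu.1, rfl⟩, ?_⟩)⟩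
    · obtain ⟨v, hv, rfl⟩ := S.mem_fieldPart ha hb hk.1 hx
      obtain ⟨i, hi⟩ := mem_zpowers_iff.1 (hgen ⟨v, hv⟩)
      exact ⟨i, by show subProj D w u ^ i = _; rw [← map_zpow]; exact congrArg _ (congrArg Subtype.val hi)⟩
    · refine mem_centralizer_singleton_iff.2 ?_
      rw [← map_mul, ← map_mul]
      exact congrArg _ (Subtype.ext (mem_centralizer_singleton_iff.1 hu.2))
  refine ⟨S.classGroups, e', ?_, ?_, S.card_pt'⟩
  · obtain ⟨u, hu, hWu⟩ := hcyc (k := k) ha hb hne S.swap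
    rw [he', hWu, Nat.card_zpowers]
    refine orderOf_dvd_of_pow_eq_one ((S.orderOf_image (k := k) ha hb hne S.swap hu _).2 ?_)
    set W := h.pairStab (h.pt (a : G) ha) (h.pt (b : G) hb) ⊓ centralizer {m}
    obtain ⟨hWc, hWe⟩ := S.base.field_cyclic _ _ hne m S.swap
    haveI := hWc
    have hwe : orderOf w ∣ e := hWe ▸ W.orderOf_dvd_natCard S.mem
    obtain ⟨i, hi⟩ := mem_zpowers_iff.1 (mem_zpowers_of_pow_eq_one (A := ↥W) (a := ⟨w, S.mem⟩)
      (b := ⟨(u : G) ^ (e / orderOf w), pow_mem hu _⟩) (Subtype.ext (by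
        rw [Subgroup.orderOf_mk]
        show ((u : G) ^ (e / orderOf w)) ^ orderOf w = 1
        rw [← pow_mul, Nat.div_mul_cancel hwe, ← hWe]
        exact orderOf_dvd_iff_pow_eq_one.1 (W.orderOf_dvd_natCard hu))))
    exact ⟨i, congrArg Subtype.val hi⟩
  refine
    { gen := gen'
      core := S.core'
      center_bot := S.center'
      four_le := S.four
      card_grp := S.card_grp'
      nontrivial := ⟨_, _, hAB⟩
      two := S.two'
      no_mid := S.no_mid'
      faithful := ?_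
      card_pairStab := hpair
      torus_part := ?_
      field_cyclic := ?_
      field_fixed := ?_ }
  · intro A B h1 x hx hfix
    obtain ⟨a, ha, b, hb, k, hk, rfl, rfl, S'⟩ := S.exists_swap' h1
    obtain ⟨u, hu, rfl⟩ := (S.mem_pairStab' ha hb).1 hx
    rw [subProj_eq_one_iff]
    exact S'.faithful_pair hu fun y hy => hfix _ ((S.mem_grp_iff ha).2 ⟨y, hy, rfl⟩)
  · intro A B h1
    obtain ⟨a, ha, b, hb, k, hk, rfl, rfl, S'⟩ := S.exists_swap' h1
    obtain ⟨C', hC', -⟩ := S.exists_torus' ha hb S'.ne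
    exact ⟨C', hC'.le, hC'.cyc, hC'.card, hC'.normal, hC'.free, hC'.fix, hC'.invert⟩
  · intro A B h1 x hx
    obtain ⟨a, ha, b, hb, k, hne', hk, rfl, rfl, rfl⟩ := hfield A B h1 x hx
    obtain ⟨u, -, hWu⟩ := hcyc ha hb hne' hk
    refine ⟨hWu ▸ Subgroup.isCyclic_zpowers _, ?_⟩
    have := (S.card_split ha hb hne' hk).symm.trans (hpair _ _ h1)
    exact Nat.eq_of_mul_eq_mul_left (by have := S.four; omega) this
  · intro A B h1 x hx v hv
    obtain ⟨a, ha, b, hb, k, hne', hk, rfl, rfl, rfl⟩ := hfield A B h1 x hx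
    have S' := S.at_pair ha hb hne' hk
    obtain ⟨u, hu, rfl⟩ := S.mem_fieldPart ha hb hk.1 hv
    obtain ⟨hWc, -⟩ := S.base.field_cyclic _ _ hne' _ hk
    set W := h.pairStab (h.pt (a : G) ha) (h.pt (b : G) hb) ⊓ centralizer {(k : G)} with hW
    set K := zpowers w ⊔ zpowers (u : G) with hKdef
    have hKW : K ≤ W := sup_le (zpowers_le.2 S'.mem) (zpowers_le.2 hu)
    haveI := hWc
    haveI : IsCyclic K := isCyclic_of_injective (Subgroup.inclusion hKW) (Subgroup.inclusion_injective _)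
    obtain ⟨⟨z, hzK⟩, hz⟩ := IsCyclic.exists_generator (α := K)
    have hKz : K = zpowers z := le_antisymm (fun y hy => by
      obtain ⟨i, hi⟩ := mem_zpowers_iff.1 (hz ⟨y, hy⟩)
      exact ⟨i, congrArg Subtype.val hi⟩) (zpowers_le.2 hzK)
    set n := orderOf (subProj D w u) with hn
    set o := orderOf w with ho
    -- the order of the generator
    have hord : orderOf z = n * o := by
      obtain ⟨iu, hiu⟩ := mem_zpowers_iff.1 (show (u : G) ∈ zpowers z from hKz ▸ mem_sup_right (mem_zpowers _))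
      have hwz : w ∈ zpowers z := hKz ▸ mem_sup_left (mem_zpowers _)
      refine Nat.dvd_antisymm ?_ ?_
      · have hun : (u : G) ^ n ∈ zpowers w :=
          (S.orderOf_image ha hb hne' hk hu n).1 (pow_orderOf_eq_one _)
        let T : Subgroup G :=
          { carrier := {y | y ∈ K ∧ y ^ n ∈ zpowers w}
            mul_mem' := fun {y y'} hy hy' => ⟨mul_mem hy.1 hy'.1, by
              have hc : Commute y y' := congrArg Subtype.val
                (IsMulCommutative.is_comm.comm (⟨y, hy.1⟩ : K) ⟨y', hy'.1⟩)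
              rw [hc.mul_pow]; exact mul_mem hy.2 hy'.2⟩
            one_mem' := ⟨one_mem _, by rw [one_pow]; exact one_mem _⟩
            inv_mem' := fun {y} hy => ⟨inv_mem hy.1, by rw [inv_pow]; exact inv_mem hy.2⟩ }
        have hKT : K ≤ T := sup_le (zpowers_le.2 ⟨mem_sup_left (mem_zpowers w), pow_mem (mem_zpowers w) _⟩)
          (zpowers_le.2 ⟨mem_sup_right (mem_zpowers _), hun⟩)
        obtain ⟨i, hi⟩ := mem_zpowers_iff.1 (hKT hzK).2
        refine orderOf_dvd_of_pow_eq_one ?_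
        rw [pow_mul, ← hi, ← zpow_natCast, ← zpow_mul, mul_comm, zpow_mul, zpow_natCast, ho, pow_orderOf_eq_one,
          one_zpow]
      · have hoz : o ∣ orderOf z := by
          rw [ho, ← Nat.card_zpowers w, ← Nat.card_zpowers z]
          exact card_dvd_of_le (zpowers_le.2 hwz)
        have hdiv : n ∣ orderOf z / o := by
          refine orderOf_dvd_of_pow_eq_one ((S.orderOf_image ha hb hne' hk hu _).2 ?_)
          have hzd : z ^ (orderOf z / o) ∈ zpowers w := by
            obtain ⟨i, hi⟩ := mem_zpowers_iff.1 (mem_zpowers_of_pow_eq_one (A := ↥K)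
              (a := ⟨w, mem_sup_left (mem_zpowers w)⟩) (b := ⟨z, hzK⟩ ^ (orderOf z / o)) (Subtype.ext (by
                rw [Subgroup.orderOf_mk]
                show (z ^ (orderOf z / o)) ^ orderOf w = 1
                rw [← pow_mul, Nat.div_mul_cancel hoz, pow_orderOf_eq_one])))
            exact ⟨i, congrArg Subtype.val hi⟩
          rw [← hiu, ← zpow_natCast, ← zpow_mul, mul_comm, zpow_mul, zpow_natCast]
          exact zpow_mem hzd iu
        exact (mul_dvd_mul_right hdiv o).trans (Nat.div_mul_cancel hoz).dvd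
    -- the fixed members
    have hfix : Nat.card ↥(S.classGroups.grp (S.pt' ha) ⊓ centralizer {subProj D w u}) =
        Nat.card ↥(h.grp (h.pt (a : G) ha) ⊓ centralizer {z}) := by
      have hzc : ∀ y : G, Commute z y ↔ Commute w y ∧ Commute (u : G) y := by
        intro y
        refine ⟨fun hc => ?_, fun hc => ?_⟩
        · obtain ⟨iu, hiu⟩ := mem_zpowers_iff.1 (show (u : G) ∈ zpowers z from hKz ▸ mem_sup_right (mem_zpowers _))
          obtain ⟨iw, hiw⟩ := mem_zpowers_iff.1 (show w ∈ zpowers z from hKz ▸ mem_sup_left (mem_zpowers _))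
          exact ⟨hiw ▸ hc.zpow_left iw, hiu ▸ hc.zpow_left iu⟩
        · have h2 : K ≤ centralizer {y} := sup_le (zpowers_le.2 (mem_centralizer_singleton_iff.2 hc.1.eq))
            (zpowers_le.2 (mem_centralizer_singleton_iff.2 hc.2.eq))
          exact mem_centralizer_singleton_iff.1 (h2 hzK)
      have hU : ∀ y : ↥(h.grp (h.pt (a : G) ha) ⊓ centralizer {z}), (y : G) ∈ centMembers D w := fun y => by
        rcases y.2.1 with h2 | ⟨hD, -⟩
        · rw [h2]; exact one_mem _
        · exact mem_U hD ((hzc _).1 (mem_centralizer_singleton_iff.1 y.2.2).symm).1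
      refine (Nat.card_eq_of_bijective (fun y : ↥(h.grp (h.pt (a : G) ha) ⊓ centralizer {z}) =>
        (⟨subProj D w ⟨y, hU y⟩, (S.mem_grp_iff ha).2 ⟨_, y.2.1, rfl⟩,
          mem_centralizer_singleton_iff.2 (by
            rw [← map_mul, ← map_mul]
            exact congrArg _ (Subtype.ext
              ((hzc _).1 (mem_centralizer_singleton_iff.1 y.2.2).symm).2.eq.symm))⟩ :
          ↥(S.classGroups.grp (S.pt' ha) ⊓ centralizer {subProj D w u}))) ⟨?_, ?_⟩).symm
      · intro y y' hyy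
        exact Subtype.ext (congrArg (fun t : centMembers D w => (t : G))
          (S.grp_inj (L := h.pt (a : G) ha) y.2.1 y'.2.1 (congrArg Subtype.val hyy)))
      · rintro ⟨x, hx1, hx2⟩
        obtain ⟨y, hy, rfl⟩ := (S.mem_grp_iff ha).1 hx1
        have h2 : u * y * u⁻¹ = y := S.grp_inj (L := h.pt (a : G) ha)
          (by simpa using h.grp_conj_fix (mem_pairStab.1 hu.1).1 hy) hy (by
            rw [map_mul, map_mul, map_inv, ← mem_centralizer_singleton_iff.1 hx2, mul_inv_cancel_right])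
        exact ⟨⟨y, hy, mem_centralizer_singleton_iff.2 ((hzc _).2 ⟨commute_coe y,
          mul_inv_eq_iff_eq_mul.1 (congrArg Subtype.val h2)⟩).eq.symm⟩, rfl⟩
    have hfz := S.base.field_fixed _ _ hne' _ hk z (hKW hzK)
    have hfw := S.base.field_fixed _ _ hne' _ hk w S'.mem
    rw [S'.card_fix] at hfw
    rw [hord, pow_mul, ← hfw] at hfz
    rw [hfix]
    exact Nat.pow_left_injective (orderOf_pos w).ne' hfz

end ClassGroups.SubData

end Cfsg.Agent.OddTranspX
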