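import Cfsg.Agent.Lib.OddTranspX.Assembly
import Cfsg.Agent.Lib.OddTranspX.Inverter

/-!
# Two transitivity on the classes

The induction for the setting without a generating pair is complete, so the stabilizer of a class
is transitive on the others.
-/

set_option autoImplicit false
set_option linter.style.haveILetI false
set_option linter.unusedSectionVars false

namespace Cfsg.Agent.OddTranspX

universe u

/-- An element of fine prime order inverted by a swapper fixes only the two classes. -/
theorem weakMain (G : Type u) [Group G] [Finite G] : WeakMain G :=
  weakMain_of (fun _ _ _ _ h _ _ hW hp hB =>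
    h.pairFree_of_oneSided hW hp hB fun hEX _ hk hkE hkX => h.one_sided hW hp hB hEX hk hkE hkX) G

/-- **The stabilizer of a class is transitive on the other classes.** -/
theorem twoTrans {G : Type u} [Group G] [Finite G] {D : Set G} (hB : Below G) (hC : Classes D) :
    hC.toClassGroups.TwoTrans := by
  obtain ⟨n, hW⟩ := hC.weak hB
  obtain ⟨p, hp⟩ := exists_fine hW.two_le
  exact twoTrans_of_pairFree _ hW.card_grp hp (by have := hW.two_le; omega)
    (weakMain G D hC.toClassGroups n p hW hp)

end Cfsg.Agent.OddTranspX
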