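import Cfsg.Agent.Lib.OddTranspX.Torus

/-!
# The setting without a generating pair

`Weak h n`: members generate, trivial centre, classes of order `2 ^ n`.  It passes to
the members commuting with a set `S` (modulo the centre), provided `S` centralizes a class as soon
as it centralizes one of its members.  `PairFree` is what is proved for it by induction: for a
primitive prime `p` an element of order `p` inverted by a swapper fixes only the two classes.
-/

set_option autoImplicit false

namespace Cfsg.Agent.OddTranspX

open Subgroup MulAction

universe u

variable {G : Type u} [Group G] {D : Set G}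

/-- The setting without a generating pair. -/
structure ClassGroups.Weak (h : ClassGroups D) (n : ℕ) : Prop where
  gen : Subgroup.closure D = ⊤
  center_bot : Subgroup.center G = ⊥
  two_le : 2 ≤ n
  card_grp : ∀ E : h.Pt, Nat.card (h.grp E) = 2 ^ n

/-- `p` is a primitive prime divisor of `2 ^ n - 1`. -/
def Primitive (p n : ℕ) : Prop :=
  p.Prime ∧ p ∣ 2 ^ n - 1 ∧ ∀ j, 0 < j → j < n → ¬ p ∣ 2 ^ j - 1

/-- The primes used: primitive divisors of `2 ^ n - 1`, and `7` for `n = 6`. -/
def Fine (p n : ℕ) : Prop := Primitive p n ∨ (p = 7 ∧ n = 6)

/-- An element of primitive prime order inverted by a swapper fixes only the two classes. -/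
def ClassGroups.PairFree (h : ClassGroups D) (p : ℕ) : Prop :=
  ∀ E X : h.Pt, E ≠ X → ∀ m ∈ h.swappers E X, ∀ y ∈ h.pairStab E X,
    orderOf y = p → m * y * m = y⁻¹ → ∀ L : h.Pt, y • L = L → L = E ∨ L = X

/-- What is proved by induction on the order. -/
def WeakMain (G : Type u) [Group G] : Prop :=
  ∀ (D : Set G) (h : ClassGroups D) (n p : ℕ), h.Weak n → Fine p n → h.PairFree p

/-- The induction hypothesis below the order of `G`. -/
def WeakBelow (G : Type u) [Group G] : Prop :=
  ∀ (H : Type u) [Group H] [Finite H], Nat.card H < Nat.card G → WeakMain H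

/-- The members commuting with all of `S`. -/
def centSet (D : Set G) (S : Set G) : Set G := {y | y ∈ D ∧ ∀ s ∈ S, Commute s y}

/-- The group generated by the members commuting with all of `S`. -/
def centGroup (D : Set G) (S : Set G) : Subgroup G := Subgroup.closure (centSet D S)

/-- Its central quotient. -/
abbrev CentQ (D : Set G) (S : Set G) : Type u :=
  ↥(centGroup D S) ⧸ Subgroup.center ↥(centGroup D S)

/-- The images of its members. -/
def centD (D : Set G) (S : Set G) : Set (CentQ D S) :=
  QuotientGroup.mk' (Subgroup.center ↥(centGroup D S)) '' {y | (y : G) ∈ centSet D S}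

end Cfsg.Agent.OddTranspX
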